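import Mathlib
import Cfsg.Prelude.Def_Local
import Cfsg.Prelude.Def_PLocal
import Cfsg.Agent.Lib.Helper7.Frattini
import Cfsg.Agent.Lib.Helper7.PConstrained
import Cfsg.Agent.Lib.Helper23.PConstrained

set_option autoImplicit false

/-! Passing between `G` and `G / K` for a normal `p'`-subgroup `K`: sections `N(P)/C(P)`. -/

namespace Cfsg.Agent.Helper4.PQ

open Cfsg

theorem pCore_map_eq {H H' : Type*} [Group H] [Group H'] (p : ℕ) [Fact p.Prime] (e : H ≃* H') :
    (pCore p H).map e.toMonoidHom = pCore p H' := by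
  apply le_antisymm (Cfsg.Agent.Helper23.PSolv.pCore_map_le p e)
  intro z hz
  have h1 := Cfsg.Agent.Helper23.PSolv.pCore_map_le p e.symm
  have h2 : e.symm z ∈ pCore p H := h1 ⟨z, hz, rfl⟩
  exact ⟨e.symm z, h2, by simp⟩

theorem mem_pCore_equiv_iff {H H' : Type*} [Group H] [Group H'] (p : ℕ) [Fact p.Prime]
    (e : H ≃* H') (x : H) : e x ∈ pCore p H' ↔ x ∈ pCore p H := by
  rw [← pCore_map_eq p e]
  constructor
  · rintro ⟨y, hy, hyx⟩
    have : y = x := e.injective hyx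
    rwa [← this]
  · intro hx
    exact ⟨x, hx, rfl⟩

/-- For a surjective hom `ψ : M → Q` with kernel `C`, membership of images in `O_p`. -/
theorem mk_mem_pCore_iff {M Q : Type*} [Group M] [Group Q] (p : ℕ) [Fact p.Prime]
    (ψ : M →* Q) (hψ : Function.Surjective ψ) (C : Subgroup M) [C.Normal] (hC : ψ.ker = C)
    (x : M) : (QuotientGroup.mk' C x ∈ pCore p (M ⧸ C)) ↔ ψ x ∈ pCore p Q := by
  subst hC
  have := mem_pCore_equiv_iff p (QuotientGroup.quotientKerEquivOfSurjective ψ hψ)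
    (QuotientGroup.mk' ψ.ker x)
  rw [← this]
  rfl

section sec

variable {G : Type*} [Group G]

/-- the hom `N_G(P) → N_Ḡ(P̄) / C_Ḡ(P̄)`, for `Ḡ = G / K`. -/
noncomputable def secHom (K : Subgroup G) [K.Normal] (P : Subgroup G) :
    ↥(Subgroup.normalizer (P : Set G)) →*
      ↥(Subgroup.normalizer ((P.map (QuotientGroup.mk' K) : Subgroup (G ⧸ K)) : Set (G ⧸ K))) ⧸
        (Subgroup.centralizer
          ((P.map (QuotientGroup.mk' K) : Subgroup (G ⧸ K)) : Set (G ⧸ K))).subgroupOf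
          (Subgroup.normalizer ((P.map (QuotientGroup.mk' K) : Subgroup (G ⧸ K)) : Set (G ⧸ K))) :=
  (QuotientGroup.mk' _).comp
    (((QuotientGroup.mk' K).comp (Subgroup.normalizer (P : Set G)).subtype).codRestrict _
      (fun n => Subgroup.le_normalizer_map _ ⟨n, n.2, rfl⟩))

theorem secHom_apply (K : Subgroup G) [K.Normal] (P : Subgroup G) (a : G)
    (ha : a ∈ Subgroup.normalizer (P : Set G)) :
    secHom K P ⟨a, ha⟩ = QuotientGroup.mk' _
      (⟨QuotientGroup.mk' K a, Subgroup.le_normalizer_map _ ⟨a, ha, rfl⟩⟩ :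
        ↥(Subgroup.normalizer ((P.map (QuotientGroup.mk' K) : Subgroup (G ⧸ K)) : Set (G ⧸ K)))) :=
  rfl

variable [Finite G] {p : ℕ} [Fact p.Prime]

theorem secHom_surjective {K P : Subgroup G} [K.Normal] (hP : IsPGroup p P)
    (hK : (Nat.card K).Coprime p) : Function.Surjective (secHom K P) := by
  intro y
  obtain ⟨⟨z, hz⟩, rfl⟩ := QuotientGroup.mk'_surjective _ y
  have hz' := hz
  rw [Cfsg.Agent.Helper7.normalizer_map_mk'_eq hP hK] at hz'
  obtain ⟨n, hn, rfl⟩ := hz'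
  exact ⟨⟨n, hn⟩, rfl⟩

theorem secHom_ker {K P : Subgroup G} [K.Normal] (hP : IsPGroup p P)
    (hK : (Nat.card K).Coprime p) :
    (secHom K P).ker = (Subgroup.centralizer (P : Set G)).subgroupOf
      (Subgroup.normalizer (P : Set G)) := by
  ext ⟨n, hn⟩
  rw [MonoidHom.mem_ker, secHom_apply, QuotientGroup.mk'_apply, QuotientGroup.eq_one_iff,
    Subgroup.mem_subgroupOf, Subgroup.mem_subgroupOf]
  show QuotientGroup.mk' K n ∈ Subgroup.centralizer _ ↔ n ∈ Subgroup.centralizer (P : Set G)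
  constructor
  · intro hy
    rw [Subgroup.mem_centralizer_iff]
    intro u hu
    have h1 : n * u * n⁻¹ ∈ P := (Subgroup.mem_normalizer_iff.mp hn u).mp hu
    have h2 : n * u * n⁻¹ * u⁻¹ ∈ P := P.mul_mem h1 (P.inv_mem hu)
    have h3 : n * u * n⁻¹ * u⁻¹ ∈ K := by
      rw [← QuotientGroup.eq_one_iff, ← QuotientGroup.mk'_apply]
      have hc := Subgroup.mem_centralizer_iff.mp hy (QuotientGroup.mk' K u)
        (Subgroup.mem_map_of_mem _ hu)
      simp only [map_mul, map_inv]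
      rw [← hc]; group
    have h4 : n * u * n⁻¹ * u⁻¹ ∈ P ⊓ K := ⟨h2, h3⟩
    rw [Cfsg.Agent.Helper7.inf_eq_bot_of_isPGroup_of_coprime hP hK, Subgroup.mem_bot] at h4
    calc u * n = (n * u * n⁻¹ * u⁻¹)⁻¹ * (n * u) := by group
      _ = n * u := by rw [h4, inv_one, one_mul]
  · intro hc
    rw [Subgroup.mem_centralizer_iff]
    rintro _ ⟨u, hu, rfl⟩
    rw [← map_mul, ← map_mul, Subgroup.mem_centralizer_iff.mp hc u hu]

/-- `a`'s image lies in `O_p(N_G(P)/C_G(P))` iff the image of `aK` lies in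
`O_p(N_Ḡ(P̄)/C_Ḡ(P̄))`. -/
theorem sec_iff {K P : Subgroup G} [K.Normal] (hP : IsPGroup p P)
    (hK : (Nat.card K).Coprime p) (a : G) (ha : a ∈ Subgroup.normalizer (P : Set G)) :
    (QuotientGroup.mk' ((Subgroup.centralizer (P : Set G)).subgroupOf
        (Subgroup.normalizer (P : Set G))) ⟨a, ha⟩ ∈ pCore p _) ↔
    (QuotientGroup.mk' ((Subgroup.centralizer
          ((P.map (QuotientGroup.mk' K) : Subgroup (G ⧸ K)) : Set (G ⧸ K))).subgroupOf
          (Subgroup.normalizer ((P.map (QuotientGroup.mk' K) : Subgroup (G ⧸ K)) : Set (G ⧸ K))))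
      (⟨QuotientGroup.mk' K a, Subgroup.le_normalizer_map _ ⟨a, ha, rfl⟩⟩ :
        ↥(Subgroup.normalizer ((P.map (QuotientGroup.mk' K) : Subgroup (G ⧸ K)) : Set (G ⧸ K))))
      ∈ pCore p _) := by
  rw [mk_mem_pCore_iff p (secHom K P) (secHom_surjective hP hK) _ (secHom_ker hP hK) ⟨a, ha⟩,
    secHom_apply]

/-- A Sylow `p`-subgroup of the preimage of a `p`-subgroup `Qb` of `G / K` maps onto `Qb`. -/
theorem map_sylow_comap {K : Subgroup G} [K.Normal] (hK : (Nat.card K).Coprime p)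
    (Qb : Subgroup (G ⧸ K)) (hQ : IsPGroup p Qb) (W : Subgroup G)
    (hW : W = Qb.comap (QuotientGroup.mk' K)) (P : Sylow p ↥W) :
    ((P : Subgroup ↥W).map W.subtype).map (QuotientGroup.mk' K) = Qb := by
  set φ := QuotientGroup.mk' K with hφ
  set P' := (P : Subgroup ↥W).map W.subtype with hP'
  have hsurj : Function.Surjective φ := QuotientGroup.mk'_surjective K
  have hWmap : W.map φ = Qb := by
    rw [hW]; exact Subgroup.map_comap_eq_self_of_surjective hsurj Qb
  have hP'W : P' ≤ W := Subgroup.map_subtype_le _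
  have hle : P'.map φ ≤ Qb := hWmap ▸ Subgroup.map_mono hP'W
  have hP'p : IsPGroup p ↥P' := P.isPGroup'.map _
  have hdisj : K ⊓ P' = ⊥ := by
    rw [inf_comm]; exact Cfsg.Agent.Helper7.inf_eq_bot_of_isPGroup_of_coprime hP'p hK
  have hc1 : Nat.card ↥(P'.map φ) = Nat.card ↥P' :=
    Cfsg.Agent.Helper1.card_map_mk'_of_disjoint K hdisj
  have hc2 : Nat.card ↥P' = p ^ (Nat.card ↥W).factorization p := by
    rw [hP', Subgroup.card_map_of_injective W.subtype_injective, P.card_eq_multiplicity]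
  have hc3 : Nat.card ↥W = Nat.card ↥K * Nat.card ↥Qb := by
    rw [hW]; exact Cfsg.Agent.Helper1.card_comap_mk' K Qb
  obtain ⟨k, hk⟩ := IsPGroup.iff_card.mp hQ
  have hc4 : (Nat.card ↥W).factorization p = k := by
    rw [hc3, Nat.factorization_mul Nat.card_pos.ne' Nat.card_pos.ne', hk]
    have h0 : (Nat.card ↥K).factorization p = 0 := by
      apply Nat.factorization_eq_zero_of_not_dvd
      intro hd
      have := Nat.dvd_gcd hd dvd_rfl
      rw [hK] at this
      exact (Fact.out : p.Prime).one_lt.ne' (Nat.dvd_one.mp this)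
    simp [h0, (Fact.out : p.Prime).factorization_self]
  apply Subgroup.eq_of_le_of_card_ge hle
  rw [hc1, hc2, hc4, ← hk]

theorem pCore_le_pPrimePCore (p : ℕ) [Fact p.Prime] (H : Type*) [Group H] [Finite H] :
    pCore p H ≤ pPrimePCore p H := by
  unfold pPrimePCore
  rw [← Subgroup.map_le_iff_le_comap]
  refine le_sSup ⟨?_, (Cfsg.Agent.Helper10.pCore_isPGroup p).map _⟩
  exact Subgroup.Normal.map inferInstance _ (QuotientGroup.mk'_surjective _)

omit [Finite G] in
/-- The image of `O_p(G)` in `G/K` lies in `O_p(G/K)`. -/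
theorem map_pCore_le (p : ℕ) [Fact p.Prime] (K : Subgroup G) [K.Normal] :
    (pCore p G).map (QuotientGroup.mk' K) ≤ pCore p (G ⧸ K) := by
  refine le_sSup ⟨?_, (Cfsg.Agent.Helper10.pCore_isPGroup p).map _⟩
  exact Subgroup.Normal.map inferInstance _ (QuotientGroup.mk'_surjective _)

theorem pCore_quotient_ne_bot {K : Subgroup G} [K.Normal] (hK : (Nat.card K).Coprime p)
    (hO : pCore p G ≠ ⊥) : pCore p (G ⧸ K) ≠ ⊥ := by
  intro h
  apply hO
  have h1 := map_pCore_le p K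
  rw [h, le_bot_iff, Subgroup.map_eq_bot_iff, QuotientGroup.ker_mk'] at h1
  have h2 := Cfsg.Agent.Helper7.inf_eq_bot_of_isPGroup_of_coprime
    (Cfsg.Agent.Helper10.pCore_isPGroup (G := G) p) hK
  rw [inf_eq_left.mpr h1] at h2
  exact h2

/-- Every `p`-subgroup of `G / K` is the image of a `p`-subgroup of `G`. -/
theorem exists_lift_pSubgroup {K : Subgroup G} [K.Normal] (hK : (Nat.card K).Coprime p)
    (Qb : Subgroup (G ⧸ K)) (hQ : IsPGroup p Qb) :
    ∃ P : Subgroup G, IsPGroup p P ∧ P.map (QuotientGroup.mk' K) = Qb := by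
  obtain P₀ : Sylow p ↥(Qb.comap (QuotientGroup.mk' K)) := default
  exact ⟨_, P₀.isPGroup'.map _, map_sylow_comap hK Qb hQ _ rfl P₀⟩

/-- A `p`-subgroup of `G / K` normalizing the image of a `p`-subgroup `P` lifts to a `p`-subgroup
normalizing `P`. -/
theorem exists_lift_normalizing {K : Subgroup G} [K.Normal] (hK : (Nat.card K).Coprime p)
    (P : Subgroup G) (hP : IsPGroup p P) (Ab : Subgroup (G ⧸ K)) (hA : IsPGroup p Ab)
    (hAN : Ab ≤ Subgroup.normalizer ((P.map (QuotientGroup.mk' K) : Subgroup (G ⧸ K)) : Set (G ⧸ K))) :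
    ∃ A : Subgroup G, IsPGroup p A ∧ A ≤ Subgroup.normalizer (P : Set G) ∧
      A.map (QuotientGroup.mk' K) = Ab := by
  set π := QuotientGroup.mk' K with hπ
  set M : Subgroup G := Ab.comap π ⊓ Subgroup.normalizer (P : Set G) with hM
  let f : ↥M →* ↥Ab := (π.comp M.subtype).codRestrict Ab (fun m => m.2.1)
  have hf : Function.Surjective f := by
    rintro ⟨y, hy⟩
    have h1 := hAN hy
    rw [Cfsg.Agent.Helper7.normalizer_map_mk'_eq hP hK] at h1
    obtain ⟨n, hn, rfl⟩ := h1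
    exact ⟨⟨n, hy, hn⟩, rfl⟩
  obtain A₀ : Sylow p ↥M := default
  have htop : ((A₀.mapSurjective hf : Sylow p ↥Ab) : Subgroup ↥Ab) = ⊤ :=
    ((A₀.mapSurjective hf).is_maximal' (Q := ⊤) (hA.to_subgroup _) le_top).symm
  refine ⟨(A₀ : Subgroup ↥M).map M.subtype, A₀.isPGroup'.map _, ?_, ?_⟩
  · rintro _ ⟨m, _, rfl⟩
    exact m.2.2
  · apply le_antisymm
    · rintro _ ⟨_, ⟨m, _, rfl⟩, rfl⟩
      exact m.2.1
    · intro y hy
      have h1 : (⟨y, hy⟩ : ↥Ab) ∈ ((A₀.mapSurjective hf : Sylow p ↥Ab) : Subgroup ↥Ab) := by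
        rw [htop]; exact Subgroup.mem_top _
      rw [Sylow.coe_mapSurjective] at h1
      obtain ⟨m, hm, hmy⟩ := h1
      refine ⟨(m : G), ⟨m, hm, rfl⟩, ?_⟩
      exact congrArg Subtype.val hmy

end sec

end Cfsg.Agent.Helper4.PQ
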