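import Mathlib
import Cfsg.Agent.Lib.Helper16.OddUnique

set_option autoImplicit false

/-! Glauberman's replacement construction `A* = (A ∩ A^b)[A, b]`. -/

namespace Cfsg.Agent.Helper4.GR

variable {S : Type*} [Group S]

/-- the generator `[a, b⁻¹]` -/
def g (b a : S) : S := a * b⁻¹ * a⁻¹ * b

/-- `A^b = b⁻¹ A b` -/
def Ab (A : Subgroup S) (b : S) : Subgroup S := A.map (MulAut.conj b⁻¹).toMonoidHom

def C (A : Subgroup S) (b : S) : Subgroup S := A ⊓ Ab A b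

def L (A : Subgroup S) (b : S) : Subgroup S :=
  Subgroup.closure {x : S | ∃ a ∈ A, x = a * b⁻¹ * a⁻¹ * b}

def Astar (A : Subgroup S) (b : S) : Subgroup S := C A b ⊔ L A b

structure Hyp (A B : Subgroup S) (b : S) : Prop where
  Bn : B.Normal
  Acomm : ∀ x ∈ A, ∀ y ∈ A, x * y = y * x
  BA : ∀ x ∈ B, ∀ y ∈ B, x * y * x⁻¹ * y⁻¹ ∈ A
  hb : b ∈ B
  hbN : ∀ n, n ∈ Subgroup.normalizer (A : Set S) ↔
    b * n * b⁻¹ ∈ Subgroup.normalizer (A : Set S)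

variable {A B : Subgroup S} {b : S}

theorem mem_Ab {x : S} : x ∈ Ab A b ↔ b * x * b⁻¹ ∈ A := by
  unfold Ab
  rw [Subgroup.mem_map]
  constructor
  · rintro ⟨a, ha, rfl⟩
    have : b * ((MulAut.conj b⁻¹).toMonoidHom a) * b⁻¹ = a := by
      simp; group
    rw [this]; exact ha
  · intro h
    refine ⟨b * x * b⁻¹, h, ?_⟩
    simp; group

theorem mem_C {x : S} : x ∈ C A b ↔ x ∈ A ∧ b * x * b⁻¹ ∈ A := by
  unfold C
  rw [Subgroup.mem_inf, mem_Ab]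

namespace Hyp

variable (h : Hyp A B b)
include h

theorem conj_mem_N {n : S} (hn : n ∈ Subgroup.normalizer (A : Set S)) :
    b * n * b⁻¹ ∈ Subgroup.normalizer (A : Set S) := (h.hbN n).1 hn

theorem conj_inv_mem_N {n : S} (hn : n ∈ Subgroup.normalizer (A : Set S)) :
    b⁻¹ * n * b ∈ Subgroup.normalizer (A : Set S) := by
  rw [h.hbN]
  have : b * (b⁻¹ * n * b) * b⁻¹ = n := by group
  rw [this]; exact hn

theorem A_le_N : A ≤ Subgroup.normalizer (A : Set S) := Subgroup.le_normalizer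

theorem Ab_le_N : Ab A b ≤ Subgroup.normalizer (A : Set S) := by
  intro x hx
  rw [mem_Ab] at hx
  have := h.conj_inv_mem_N (h.A_le_N hx)
  have e : b⁻¹ * (b * x * b⁻¹) * b = x := by group
  rw [e] at this; exact this

omit h in
theorem N_conj {n a : S} (hn : n ∈ Subgroup.normalizer (A : Set S)) (ha : a ∈ A) :
    n * a * n⁻¹ ∈ A := by
  rw [Subgroup.mem_normalizer_iff] at hn
  exact (hn a).1 ha

omit h in
theorem N_conj' {n a : S} (hn : n ∈ Subgroup.normalizer (A : Set S)) (ha : a ∈ A) :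
    n⁻¹ * a * n ∈ A := by
  have := N_conj (Subgroup.inv_mem _ hn) ha
  rwa [inv_inv] at this

theorem A_norm_Ab {a x : S} (ha : a ∈ A) (hx : x ∈ Ab A b) : a * x * a⁻¹ ∈ Ab A b := by
  rw [mem_Ab] at hx ⊢
  have h1 := h.conj_mem_N (h.A_le_N ha)
  have h2 := N_conj h1 hx
  have e : b * (a * x * a⁻¹) * b⁻¹ = (b * a * b⁻¹) * (b * x * b⁻¹) * (b * a * b⁻¹)⁻¹ := by group
  rw [e]; exact h2

theorem Ab_comm {x y : S} (hx : x ∈ Ab A b) (hy : y ∈ Ab A b) : x * y = y * x := by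
  rw [mem_Ab] at hx hy
  have := h.Acomm _ hx _ hy
  have e1 : x * y = b⁻¹ * ((b * x * b⁻¹) * (b * y * b⁻¹)) * b := by group
  have e2 : y * x = b⁻¹ * ((b * y * b⁻¹) * (b * x * b⁻¹)) * b := by group
  rw [e1, e2, this]

theorem C_comm_A {c a : S} (hc : c ∈ C A b) (ha : a ∈ A) : c * a = a * c :=
  h.Acomm c (mem_C.1 hc).1 a ha

theorem C_comm_Ab {c x : S} (hc : c ∈ C A b) (hx : x ∈ Ab A b) : c * x = x * c :=
  h.Ab_comm (Subgroup.mem_inf.1 hc).2 hx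

/-- conjugation by an element of `B` preserves membership in `A` for elements of `A ∩ B`-type
    differences -/
theorem B_conj_mem {m : S} (hmA : m ∈ A) (hmB : m ∈ B) : b⁻¹ * m * b ∈ A := by
  have h1 := h.BA m⁻¹ (B.inv_mem hmB) b⁻¹ (B.inv_mem h.hb)
  rw [inv_inv, inv_inv] at h1
  have e : b⁻¹ * m * b = m * (m⁻¹ * b⁻¹ * m * b) := by group
  rw [e]; exact A.mul_mem hmA h1

theorem B_conj_mem' {m : S} (hmA : m ∈ A) (hmB : m ∈ B) : b * m * b⁻¹ ∈ A := by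
  have h1 := h.BA b h.hb m hmB
  have e : b * m * b⁻¹ = (b * m * b⁻¹ * m⁻¹) * m := by group
  rw [e]; exact A.mul_mem h1 hmA

theorem key {c : S} (hc : c ∈ C A b) : b⁻¹ * c * b ∈ A := by
  obtain ⟨hcA, hcA'⟩ := mem_C.1 hc
  -- m = c⁻¹ * (b c b⁻¹)
  have hmA : c⁻¹ * (b * c * b⁻¹) ∈ A := A.mul_mem (A.inv_mem hcA) hcA'
  have hmB : c⁻¹ * (b * c * b⁻¹) ∈ B := by
    have e : c⁻¹ * (b * c * b⁻¹) = (c⁻¹ * b * c⁻¹⁻¹) * b⁻¹ := by group
    rw [e]
    exact B.mul_mem (h.Bn.conj_mem b h.hb c⁻¹) (B.inv_mem h.hb)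
  have h1 := h.B_conj_mem hmA hmB
  have e : b⁻¹ * (c⁻¹ * (b * c * b⁻¹)) * b = (b⁻¹ * c * b)⁻¹ * c := by group
  rw [e] at h1
  have h2 : (b⁻¹ * c * b)⁻¹ ∈ A := by
    have := A.mul_mem h1 (A.inv_mem hcA)
    rwa [mul_assoc, mul_inv_cancel, mul_one] at this
  have := A.inv_mem h2
  rwa [inv_inv] at this

theorem conj_C {c : S} (hc : c ∈ C A b) : b⁻¹ * c * b ∈ C A b := by
  rw [mem_C]
  refine ⟨h.key hc, ?_⟩
  have e : b * (b⁻¹ * c * b) * b⁻¹ = c := by group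
  rw [e]; exact (mem_C.1 hc).1

theorem A_inf_B_le_C : A ⊓ B ≤ C A b := by
  intro x hx
  obtain ⟨hxA, hxB⟩ := Subgroup.mem_inf.1 hx
  exact mem_C.2 ⟨hxA, h.B_conj_mem' hxA hxB⟩

omit h in
theorem g_eq (a : S) : g b a = a * (b⁻¹ * a⁻¹ * b) := by unfold g; group

omit h in
theorem y_mem_Ab {a : S} (ha : a ∈ A) : b⁻¹ * a⁻¹ * b ∈ Ab A b := by
  rw [mem_Ab]
  have e : b * (b⁻¹ * a⁻¹ * b) * b⁻¹ = a⁻¹ := by group
  rw [e]; exact A.inv_mem ha

theorem g_mem_B {a : S} : g b a ∈ B := by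
  have e : g b a = (a * b⁻¹ * a⁻¹) * b := by unfold g; group
  rw [e]
  exact B.mul_mem (h.Bn.conj_mem _ (B.inv_mem h.hb) a) h.hb

theorem g_mem_N {a : S} (ha : a ∈ A) : g b a ∈ Subgroup.normalizer (A : Set S) := by
  rw [g_eq]
  exact Subgroup.mul_mem _ (h.A_le_N ha) (h.Ab_le_N (y_mem_Ab ha))

omit h in
theorem g_mem_L {a : S} (ha : a ∈ A) : g b a ∈ L A b :=
  Subgroup.subset_closure ⟨a, ha, rfl⟩

theorem L_le_B : L A b ≤ B := by
  unfold L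
  rw [Subgroup.closure_le]
  rintro x ⟨a, _, rfl⟩
  exact h.g_mem_B (a := a)

theorem L_le_N : L A b ≤ Subgroup.normalizer (A : Set S) := by
  unfold L
  rw [Subgroup.closure_le]
  rintro x ⟨a, ha, rfl⟩
  exact h.g_mem_N ha

theorem C_le_A : C A b ≤ A := fun _ hx => (mem_C.1 hx).1

theorem Astar_le_N : Astar A b ≤ Subgroup.normalizer (A : Set S) :=
  sup_le (h.C_le_A.trans h.A_le_N) h.L_le_N

theorem comm_A_Ab_mem_C {a x : S} (ha : a ∈ A) (hx : x ∈ Ab A b) :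
    a * x * a⁻¹ * x⁻¹ ∈ C A b := by
  unfold C
  rw [Subgroup.mem_inf]
  constructor
  · have h1 := N_conj (h.Ab_le_N hx) (A.inv_mem ha)
    have e : a * x * a⁻¹ * x⁻¹ = a * (x * a⁻¹ * x⁻¹) := by group
    rw [e]; exact A.mul_mem ha h1
  · exact Subgroup.mul_mem _ (h.A_norm_Ab ha hx) (Subgroup.inv_mem _ hx)

theorem C_comm_g {c a : S} (hc : c ∈ C A b) (ha : a ∈ A) : c * g b a = g b a * c := by
  rw [g_eq]
  have h1 := h.C_comm_A hc ha
  have h2 := h.C_comm_Ab hc (y_mem_Ab (b := b) ha)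
  calc c * (a * (b⁻¹ * a⁻¹ * b)) = (c * a) * (b⁻¹ * a⁻¹ * b) := by group
    _ = a * (c * (b⁻¹ * a⁻¹ * b)) := by rw [h1]; group
    _ = a * (b⁻¹ * a⁻¹ * b) * c := by rw [h2]; group

theorem comm_A_g_mem_C {a' a : S} (ha' : a' ∈ A) (ha : a ∈ A) :
    a' * g b a * a'⁻¹ * (g b a)⁻¹ ∈ C A b := by
  have hy := y_mem_Ab (b := b) ha
  have hc := h.comm_A_Ab_mem_C ha' hy
  have haa : a' * a = a * a' := h.Acomm a' ha' a ha
  have e : a' * g b a * a'⁻¹ * (g b a)⁻¹ =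
      a * (a' * (b⁻¹ * a⁻¹ * b) * a'⁻¹ * (b⁻¹ * a⁻¹ * b)⁻¹) * a⁻¹ := by
    rw [g_eq]
    calc a' * (a * (b⁻¹ * a⁻¹ * b)) * a'⁻¹ * (a * (b⁻¹ * a⁻¹ * b))⁻¹
        = (a' * a) * (b⁻¹ * a⁻¹ * b) * a'⁻¹ * (b⁻¹ * a⁻¹ * b)⁻¹ * a⁻¹ := by group
      _ = (a * a') * (b⁻¹ * a⁻¹ * b) * a'⁻¹ * (b⁻¹ * a⁻¹ * b)⁻¹ * a⁻¹ := by rw [haa]
      _ = a * (a' * (b⁻¹ * a⁻¹ * b) * a'⁻¹ * (b⁻¹ * a⁻¹ * b)⁻¹) * a⁻¹ := by group
  rw [e]
  have h3 := h.C_comm_A hc ha
  have e2 : a * (a' * (b⁻¹ * a⁻¹ * b) * a'⁻¹ * (b⁻¹ * a⁻¹ * b)⁻¹) * a⁻¹ =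
      a' * (b⁻¹ * a⁻¹ * b) * a'⁻¹ * (b⁻¹ * a⁻¹ * b)⁻¹ := by
    rw [← h3]; group
  rw [e2]; exact hc

omit h in
theorem g_mul (a a' : S) :
    g b (a * a') = (a * g b a' * a⁻¹ * (g b a')⁻¹) * g b a' * g b a := by
  unfold g; group

end Hyp

theorem mem_normalizer_of_forall_conj_mem [Finite S] {A : Subgroup S} {x : S}
    (h : ∀ a ∈ A, x * a * x⁻¹ ∈ A) : x ∈ Subgroup.normalizer (A : Set S) := by
  rw [Subgroup.mem_normalizer_iff]
  intro a
  refine ⟨h a, fun ha => ?_⟩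
  let f : A → A := fun a => ⟨x * a * x⁻¹, h a a.2⟩
  have hinj : Function.Injective f := by
    intro a1 a2 h12
    have := congrArg Subtype.val h12
    simp only [f] at this
    exact Subtype.ext (by simpa using this)
  have hsurj := Finite.surjective_of_injective hinj
  obtain ⟨a0, ha0⟩ := hsurj ⟨x * a * x⁻¹, ha⟩
  have h2 := congrArg Subtype.val ha0
  simp only [f] at h2
  have h3 : (a0 : S) = a := by simpa using h2
  rw [← h3]; exact a0.2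

namespace Hyp

variable (h : Hyp A B b)
include h

omit h in
theorem g_one : g b (1 : S) = 1 := by unfold g; group

/-- The set of products `c * g a` is a subgroup. -/
def T : Subgroup S where
  carrier := {x | ∃ c ∈ C A b, ∃ a ∈ A, x = c * g b a}
  one_mem' := ⟨1, Subgroup.one_mem _, 1, A.one_mem, by rw [g_one, one_mul]⟩
  mul_mem' := by
    rintro x x' ⟨c, hc, a, ha, rfl⟩ ⟨c', hc', a', ha', rfl⟩
    have hk := h.comm_A_g_mem_C ha' ha
    refine ⟨c * c' * (a' * g b a * a'⁻¹ * (g b a)⁻¹)⁻¹,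
      Subgroup.mul_mem _ (Subgroup.mul_mem _ hc hc') (Subgroup.inv_mem _ hk), a' * a,
      A.mul_mem ha' ha, ?_⟩
    have e1 := h.C_comm_g hc' ha
    rw [g_mul a' a]
    calc c * g b a * (c' * g b a') = c * (g b a * c') * g b a' := by group
      _ = c * (c' * g b a) * g b a' := by rw [e1]
      _ = c * c' * (a' * g b a * a'⁻¹ * (g b a)⁻¹)⁻¹ *
          (a' * g b a * a'⁻¹ * (g b a)⁻¹ * g b a * g b a') := by group
  inv_mem' := by
    rintro x ⟨c, hc, a, ha, rfl⟩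
    have hk := h.comm_A_g_mem_C ha (A.inv_mem ha)
    refine ⟨(a * g b a⁻¹ * a⁻¹ * (g b a⁻¹)⁻¹) * c⁻¹,
      Subgroup.mul_mem _ hk (Subgroup.inv_mem _ hc), a⁻¹, A.inv_mem ha, ?_⟩
    have e0 := g_mul (b := b) a a⁻¹
    rw [mul_inv_cancel, g_one] at e0
    have e1 : (g b a)⁻¹ = (a * g b a⁻¹ * a⁻¹ * (g b a⁻¹)⁻¹) * g b a⁻¹ := by
      calc (g b a)⁻¹ = 1 * (g b a)⁻¹ := by group
        _ = (a * g b a⁻¹ * a⁻¹ * (g b a⁻¹)⁻¹ * g b a⁻¹ * g b a) * (g b a)⁻¹ := by rw [← e0]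
        _ = (a * g b a⁻¹ * a⁻¹ * (g b a⁻¹)⁻¹) * g b a⁻¹ := by group
    have e2 := h.C_comm_g (Subgroup.inv_mem _ hc) (A.inv_mem ha)
    calc (c * g b a)⁻¹ = (g b a)⁻¹ * c⁻¹ := by group
      _ = (a * g b a⁻¹ * a⁻¹ * (g b a⁻¹)⁻¹) * (g b a⁻¹ * c⁻¹) := by rw [e1]; group
      _ = (a * g b a⁻¹ * a⁻¹ * (g b a⁻¹)⁻¹) * (c⁻¹ * g b a⁻¹) := by rw [e2]
      _ = (a * g b a⁻¹ * a⁻¹ * (g b a⁻¹)⁻¹) * c⁻¹ * g b a⁻¹ := by group

theorem Astar_eq_T : Astar A b = h.T := by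
  apply le_antisymm
  · unfold Astar
    apply sup_le
    · intro c hc
      exact ⟨c, hc, 1, A.one_mem, by rw [g_one, mul_one]⟩
    · unfold L
      rw [Subgroup.closure_le]
      rintro x ⟨a, ha, rfl⟩
      exact ⟨1, Subgroup.one_mem _, a, ha, by rw [one_mul]; rfl⟩
  · rintro x ⟨c, hc, a, ha, rfl⟩
    exact Subgroup.mul_mem _ (Subgroup.mem_sup_left hc) (Subgroup.mem_sup_right (g_mem_L ha))

theorem mem_Astar {x : S} : x ∈ Astar A b ↔ ∃ c ∈ C A b, ∃ a ∈ A, x = c * g b a := by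
  rw [h.Astar_eq_T]; rfl

/-- (6) `A` normalizes `A*`. -/
theorem A_conj_Astar {a' x : S} (ha' : a' ∈ A) (hx : x ∈ Astar A b) :
    a' * x * a'⁻¹ ∈ Astar A b := by
  rw [h.mem_Astar] at hx ⊢
  obtain ⟨c, hc, a, ha, rfl⟩ := hx
  have hk := h.comm_A_g_mem_C ha' ha
  refine ⟨c * (a' * g b a * a'⁻¹ * (g b a)⁻¹), Subgroup.mul_mem _ hc hk, a, ha, ?_⟩
  have e1 := h.C_comm_A hc ha'
  calc a' * (c * g b a) * a'⁻¹ = (a' * c) * g b a * a'⁻¹ := by group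
    _ = (c * a') * g b a * a'⁻¹ := by rw [e1]
    _ = c * (a' * g b a * a'⁻¹ * (g b a)⁻¹) * g b a := by group

theorem A_le_normalizer_Astar : A ≤ Subgroup.normalizer (Astar A b : Set S) := by
  intro a' ha'
  rw [Subgroup.mem_normalizer_iff]
  intro x
  refine ⟨h.A_conj_Astar ha', fun hx => ?_⟩
  have := h.A_conj_Astar (A.inv_mem ha') hx
  have e : a'⁻¹ * (a' * x * a'⁻¹) * a'⁻¹⁻¹ = x := by group
  rwa [e] at this

/-- (8) conjugation by `b⁻¹` maps `A*` into itself. -/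
theorem b_conj_Astar {x : S} (hx : x ∈ Astar A b) : b⁻¹ * x * b ∈ Astar A b := by
  rw [h.mem_Astar] at hx ⊢
  obtain ⟨c, hc, a, ha, rfl⟩ := hx
  have hgB : g b a ∈ B := h.g_mem_B
  have hk : (g b a)⁻¹ * b⁻¹ * g b a * b ∈ A := by
    have := h.BA (g b a)⁻¹ (B.inv_mem hgB) b⁻¹ (B.inv_mem h.hb)
    rwa [inv_inv, inv_inv] at this
  have hkB : (g b a)⁻¹ * b⁻¹ * g b a * b ∈ B :=
    B.mul_mem (B.mul_mem (B.mul_mem (B.inv_mem hgB) (B.inv_mem h.hb)) hgB) h.hb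
  have hkC : (g b a)⁻¹ * b⁻¹ * g b a * b ∈ C A b :=
    h.A_inf_B_le_C (Subgroup.mem_inf.2 ⟨hk, hkB⟩)
  refine ⟨(b⁻¹ * c * b) * ((g b a)⁻¹ * b⁻¹ * g b a * b),
    Subgroup.mul_mem _ (h.conj_C hc) hkC, a, ha, ?_⟩
  have e1 := h.C_comm_g hkC ha
  calc b⁻¹ * (c * g b a) * b = (b⁻¹ * c * b) * (g b a * ((g b a)⁻¹ * b⁻¹ * g b a * b)) := by
        group
    _ = (b⁻¹ * c * b) * (((g b a)⁻¹ * b⁻¹ * g b a * b) * g b a) := by rw [e1]
    _ = (b⁻¹ * c * b) * ((g b a)⁻¹ * b⁻¹ * g b a * b) * g b a := by group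

theorem b_mem_normalizer_Astar [Finite S] : b ∈ Subgroup.normalizer (Astar A b : Set S) := by
  have h1 : b⁻¹ ∈ Subgroup.normalizer (Astar A b : Set S) := by
    apply mem_normalizer_of_forall_conj_mem
    intro x hx
    have := h.b_conj_Astar hx
    rwa [inv_inv]
  have := Subgroup.inv_mem _ h1
  rwa [inv_inv] at this

/-- `N(A)` normalizes `C`. -/
theorem N_conj_C {n c : S} (hn : n ∈ Subgroup.normalizer (A : Set S)) (hc : c ∈ C A b) :
    n * c * n⁻¹ ∈ C A b := by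
  obtain ⟨hcA, hcA'⟩ := mem_C.1 hc
  rw [mem_C]
  refine ⟨N_conj hn hcA, ?_⟩
  have h1 := N_conj (h.conj_mem_N hn) hcA'
  have e : b * (n * c * n⁻¹) * b⁻¹ = (b * n * b⁻¹) * (b * c * b⁻¹) * (b * n * b⁻¹)⁻¹ := by group
  rw [e]; exact h1

/-- (9a) `N(A)` normalizes `A*`. -/
theorem N_conj_Astar {n x : S} (hn : n ∈ Subgroup.normalizer (A : Set S))
    (hx : x ∈ Astar A b) : n * x * n⁻¹ ∈ Astar A b := by
  rw [h.mem_Astar] at hx ⊢
  obtain ⟨c, hc, a, ha, rfl⟩ := hx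
  have hn' := h.conj_mem_N hn
  have ha2 : (b * n * b⁻¹) * a * (b * n * b⁻¹)⁻¹ ∈ A := N_conj hn' ha
  -- m = n⁻¹ * (b n b⁻¹)
  have hmN : n⁻¹ * (b * n * b⁻¹) ∈ Subgroup.normalizer (A : Set S) :=
    Subgroup.mul_mem _ (Subgroup.inv_mem _ hn) hn'
  have hmB : n⁻¹ * (b * n * b⁻¹) ∈ B := by
    have e : n⁻¹ * (b * n * b⁻¹) = (n⁻¹ * b * n⁻¹⁻¹) * b⁻¹ := by group
    rw [e]; exact B.mul_mem (h.Bn.conj_mem b h.hb n⁻¹) (B.inv_mem h.hb)
  -- q = a m a⁻¹ m⁻¹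
  have hqA : a * (n⁻¹ * (b * n * b⁻¹)) * a⁻¹ * (n⁻¹ * (b * n * b⁻¹))⁻¹ ∈ A := by
    have := N_conj hmN (A.inv_mem ha)
    have e : a * (n⁻¹ * (b * n * b⁻¹)) * a⁻¹ * (n⁻¹ * (b * n * b⁻¹))⁻¹ =
        a * ((n⁻¹ * (b * n * b⁻¹)) * a⁻¹ * (n⁻¹ * (b * n * b⁻¹))⁻¹) := by group
    rw [e]; exact A.mul_mem ha this
  have hqB : a * (n⁻¹ * (b * n * b⁻¹)) * a⁻¹ * (n⁻¹ * (b * n * b⁻¹))⁻¹ ∈ B :=
    B.mul_mem (h.Bn.conj_mem _ hmB a) (B.inv_mem hmB)
  have hqC := h.A_inf_B_le_C (Subgroup.mem_inf.2 ⟨hqA, hqB⟩)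
  have hqC' := h.N_conj_C hn hqC
  refine ⟨(n * c * n⁻¹) * (n * (a * (n⁻¹ * (b * n * b⁻¹)) * a⁻¹ * (n⁻¹ * (b * n * b⁻¹))⁻¹) * n⁻¹),
    Subgroup.mul_mem _ (h.N_conj_C hn hc) hqC', _, ha2, ?_⟩
  unfold g; group

theorem N_le_normalizer_Astar :
    Subgroup.normalizer (A : Set S) ≤ Subgroup.normalizer (Astar A b : Set S) := by
  intro n hn
  rw [Subgroup.mem_normalizer_iff]
  intro x
  refine ⟨h.N_conj_Astar hn, fun hx => ?_⟩
  have := h.N_conj_Astar (Subgroup.inv_mem _ hn) hx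
  have e : n⁻¹ * (n * x * n⁻¹) * n⁻¹⁻¹ = x := by group
  rwa [e] at this

end Hyp

namespace Hyp

variable (h : Hyp A B b)
include h

/-- `g a ∈ C ↔ a ∈ C` for `a ∈ A`. -/
theorem g_mem_C_iff {a : S} (ha : a ∈ A) : g b a ∈ C A b ↔ a ∈ C A b := by
  have hy := y_mem_Ab (b := b) ha
  constructor
  · intro hg
    have h1 : g b a ∈ Ab A b := (Subgroup.mem_inf.1 hg).2
    have h2 : a ∈ Ab A b := by
      have := Subgroup.mul_mem _ h1 (Subgroup.inv_mem _ hy)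
      rw [g_eq] at this
      simpa [mul_assoc] using this
    exact Subgroup.mem_inf.2 ⟨ha, h2⟩
  · intro hc
    have h1 : b⁻¹ * a⁻¹ * b ∈ A := h.key (Subgroup.inv_mem _ hc)
    have h2 : b⁻¹ * a⁻¹ * b ∈ C A b := Subgroup.mem_inf.2 ⟨h1, hy⟩
    rw [g_eq]
    exact Subgroup.mul_mem _ hc h2

/-- `A*` is commutative as soon as `L` is. -/
theorem Astar_comm (hL : ∀ x ∈ L A b, ∀ y ∈ L A b, x * y = y * x) :
    ∀ x ∈ Astar A b, ∀ y ∈ Astar A b, x * y = y * x := by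
  intro x hx y hy
  rw [h.mem_Astar] at hx hy
  obtain ⟨c, hc, a, ha, rfl⟩ := hx
  obtain ⟨c', hc', a', ha', rfl⟩ := hy
  have e1 := h.C_comm_g hc' ha
  have e2 := h.C_comm_g hc ha'
  have e3 := hL _ (g_mem_L (b := b) ha) _ (g_mem_L (b := b) ha')
  have e4 := h.Acomm c (h.C_le_A hc) c' (h.C_le_A hc')
  calc c * g b a * (c' * g b a') = c * (g b a * c') * g b a' := by group
    _ = c * (c' * g b a) * g b a' := by rw [e1]
    _ = (c * c') * (g b a * g b a') := by group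
    _ = (c' * c) * (g b a' * g b a) := by rw [e3, e4]
    _ = c' * (c * g b a') * g b a := by group
    _ = c' * (g b a' * c) * g b a := by rw [e2]
    _ = c' * g b a' * (c * g b a) := by group

theorem card_Astar [Finite S] (hcomm : ∀ x ∈ Astar A b, ∀ y ∈ Astar A b, x * y = y * x) :
    Nat.card (Astar A b) = Nat.card A := by
  have hCle : C A b ≤ Astar A b := le_sup_left
  have hgmem : ∀ a : A, g b (a : S) ∈ Astar A b := fun a =>
    Subgroup.mem_sup_right (g_mem_L a.2)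
  let C' : Subgroup (Astar A b) := (C A b).subgroupOf (Astar A b)
  have hC'n : C'.Normal := ⟨fun n hn x => by
    have : x * n * x⁻¹ = n := by
      apply Subtype.ext
      have := hcomm x x.2 n n.2
      simp only [Subgroup.coe_mul, Subgroup.coe_inv]
      rw [this]; group
    rw [this]; exact hn⟩
  let φ : A →* (Astar A b) ⧸ C' := MonoidHom.mk'
    (fun a => QuotientGroup.mk (⟨g b (a : S), hgmem a⟩ : Astar A b)) (by
      intro a a'
      rw [← QuotientGroup.mk_mul, QuotientGroup.eq, Subgroup.mem_subgroupOf]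
      simp only [Subgroup.coe_mul, Subgroup.coe_inv]
      have hk := h.comm_A_g_mem_C a.2 a'.2
      have e3 := hcomm _ (hgmem a) _ (hgmem a')
      have e4 := h.C_comm_g hk a.2
      have e5 := h.C_comm_g hk a'.2
      have e : (g b ((a : S) * (a' : S)))⁻¹ * (g b a * g b a') =
          ((a : S) * g b a' * (a : S)⁻¹ * (g b a')⁻¹)⁻¹ := by
        rw [g_mul]
        calc ((a : S) * g b a' * (a : S)⁻¹ * (g b a')⁻¹ * g b a' * g b a)⁻¹ * (g b a * g b a')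
            = (g b a)⁻¹ * (g b a')⁻¹ * ((a : S) * g b a' * (a : S)⁻¹ * (g b a')⁻¹)⁻¹ *
              (g b a * g b a') := by group
          _ = (g b a)⁻¹ * (g b a')⁻¹ * ((a : S) * g b a' * (a : S)⁻¹ * (g b a')⁻¹)⁻¹ *
              (g b a' * g b a) := by rw [e3]
          _ = (g b a)⁻¹ * ((g b a')⁻¹ * (((a : S) * g b a' * (a : S)⁻¹ * (g b a')⁻¹)⁻¹ *
              g b a') * g b a) := by group
          _ = ((a : S) * g b a' * (a : S)⁻¹ * (g b a')⁻¹)⁻¹ := by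
            have e5' := h.C_comm_g (Subgroup.inv_mem _ hk) a'.2
            have e4' := h.C_comm_g (Subgroup.inv_mem _ hk) a.2
            rw [e5']
            calc (g b a)⁻¹ * ((g b a')⁻¹ * (g b a' *
                  ((a : S) * g b a' * (a : S)⁻¹ * (g b a')⁻¹)⁻¹) * g b a)
                = (g b a)⁻¹ * (((a : S) * g b a' * (a : S)⁻¹ * (g b a')⁻¹)⁻¹ * g b a) := by group
              _ = (g b a)⁻¹ * (g b a * ((a : S) * g b a' * (a : S)⁻¹ * (g b a')⁻¹)⁻¹) := by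
                rw [e4']
              _ = ((a : S) * g b a' * (a : S)⁻¹ * (g b a')⁻¹)⁻¹ := by group
      rw [e]
      exact Subgroup.inv_mem _ hk)
  have hφ : ∀ a : A, φ a = QuotientGroup.mk (⟨g b (a : S), hgmem a⟩ : Astar A b) := fun a => rfl
  have hsurj : Function.Surjective φ := by
    intro q
    obtain ⟨x, rfl⟩ := QuotientGroup.mk_surjective q
    obtain ⟨c, hc, a, ha, hxe⟩ := h.mem_Astar.1 x.2
    refine ⟨⟨a, ha⟩, ?_⟩
    rw [hφ, QuotientGroup.eq, Subgroup.mem_subgroupOf]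
    simp only [Subgroup.coe_mul, Subgroup.coe_inv]
    rw [hxe, h.C_comm_g hc ha]
    have : (g b a)⁻¹ * (g b a * c) = c := by group
    rw [this]; exact hc
  have hker : φ.ker = (C A b).subgroupOf A := by
    ext a
    rw [MonoidHom.mem_ker, hφ, QuotientGroup.eq_one_iff, Subgroup.mem_subgroupOf,
      Subgroup.mem_subgroupOf]
    exact h.g_mem_C_iff a.2
  have h1 : Nat.card φ.ker * φ.ker.index = Nat.card A := Subgroup.card_mul_index _
  have h2 : φ.ker.index = Nat.card ((Astar A b) ⧸ C') := by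
    rw [Subgroup.index_ker, MonoidHom.range_eq_top.2 hsurj, Subgroup.card_top]
  have h3 : Nat.card C' * C'.index = Nat.card (Astar A b) := Subgroup.card_mul_index _
  have h4 : C'.index = Nat.card ((Astar A b) ⧸ C') := Subgroup.index_eq_card _
  have h5 : Nat.card C' = Nat.card (C A b) :=
    Nat.card_congr (Subgroup.subgroupOfEquivOfLe hCle).toEquiv
  have h6 : Nat.card φ.ker = Nat.card (C A b) := by
    rw [hker]
    exact Nat.card_congr (Subgroup.subgroupOfEquivOfLe h.C_le_A).toEquiv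
  rw [← h3, ← h1, h2, h4, h5, h6]

end Hyp

namespace Hyp

variable (h : Hyp A B b)
include h

theorem pow_Astar_eq_one {e : ℕ} (hodd : Odd e) (he : ∀ a ∈ A, a ^ e = 1) :
    ∀ x ∈ Astar A b, x ^ e = 1 := by
  intro x hx
  obtain ⟨c, hc, a, ha, rfl⟩ := h.mem_Astar.1 hx
  have hcg : Commute c (g b a) := h.C_comm_g hc ha
  rw [hcg.mul_pow, he c (h.C_le_A hc), one_mul, g_eq]
  have hy := y_mem_Ab (b := b) ha
  set y := b⁻¹ * a⁻¹ * b with hy_def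
  have hk : a⁻¹ * y * a⁻¹⁻¹ * y⁻¹ ∈ C A b := h.comm_A_Ab_mem_C (A.inv_mem ha) hy
  rw [inv_inv] at hk
  have hky := h.C_comm_Ab hk hy
  have hεe : y⁻¹ * a⁻¹ * y * a = a⁻¹ * y * a * y⁻¹ := by
    calc y⁻¹ * a⁻¹ * y * a = y⁻¹ * ((a⁻¹ * y * a * y⁻¹) * y) := by group
      _ = y⁻¹ * (y * (a⁻¹ * y * a * y⁻¹)) := by rw [hky]
      _ = a⁻¹ * y * a * y⁻¹ := by group
  have hεC : y⁻¹ * a⁻¹ * y * a ∈ C A b := by rw [hεe]; exact hk
  have h1 : y * a = a * y * (y⁻¹ * a⁻¹ * y * a) := by group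
  have hpow := Cfsg.Agent.Helper16.mul_pow_of_class_two h1 (h.C_comm_A hεC ha)
    (h.C_comm_Ab hεC hy) e
  rw [hpow, he a ha, one_mul]
  have hye : y ^ e = 1 := by
    have h2 : b * y * b⁻¹ ∈ A := mem_Ab.1 hy
    have h3 := he _ h2
    rw [conj_pow] at h3
    calc y ^ e = b⁻¹ * (b * y ^ e * b⁻¹) * b := by group
      _ = 1 := by rw [h3]; group
  rw [hye, one_mul]
  obtain ⟨t, ht⟩ := hodd
  have h4 : e * (e - 1) / 2 = e * t := by
    have : e - 1 = 2 * t := by omega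
    rw [this, ← mul_assoc, mul_comm e 2, mul_assoc, Nat.mul_div_cancel_left _ (by norm_num)]
  rw [h4, pow_mul, he _ (h.C_le_A hεC), one_pow]

/-- (4) some generator is outside `A`. -/
theorem exists_g_not_mem [Finite S] (hbA : b ∉ Subgroup.normalizer (A : Set S)) :
    ∃ a ∈ A, g b a ∉ A := by
  by_contra hcon
  push Not at hcon
  apply hbA
  have h1 : b⁻¹ ∈ Subgroup.normalizer (A : Set S) := by
    apply mem_normalizer_of_forall_conj_mem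
    intro a ha
    rw [inv_inv]
    have h2 := hcon a⁻¹ (A.inv_mem ha)
    rw [g_eq, inv_inv] at h2
    have := A.mul_mem ha h2
    simpa [mul_assoc] using this
  have := Subgroup.inv_mem _ h1
  rwa [inv_inv] at this

theorem inf_lt [Finite S] (hbA : b ∉ Subgroup.normalizer (A : Set S)) :
    A ⊓ B < Astar A b ⊓ B := by
  rw [SetLike.lt_iff_le_and_exists]
  refine ⟨fun x hx => ?_, ?_⟩
  · exact Subgroup.mem_inf.2
      ⟨Subgroup.mem_sup_left (h.A_inf_B_le_C hx), (Subgroup.mem_inf.1 hx).2⟩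
  · obtain ⟨a, ha, hga⟩ := h.exists_g_not_mem hbA
    exact ⟨g b a, Subgroup.mem_inf.2 ⟨Subgroup.mem_sup_right (g_mem_L ha), h.g_mem_B⟩,
      fun hmem => hga (Subgroup.mem_inf.1 hmem).1⟩

theorem inf_lt' (hbA : b ∉ Subgroup.normalizer (A : Set S)) : Astar A b ⊓ B < B := by
  rw [SetLike.lt_iff_le_and_exists]
  refine ⟨inf_le_right, b, h.hb, fun hmem => hbA ?_⟩
  exact h.Astar_le_N (Subgroup.mem_inf.1 hmem).1

theorem normalizer_lt [Finite S] (hbA : b ∉ Subgroup.normalizer (A : Set S)) :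
    Subgroup.normalizer (A : Set S) < Subgroup.normalizer (Astar A b : Set S) := by
  rw [SetLike.lt_iff_le_and_exists]
  exact ⟨h.N_le_normalizer_Astar, b, h.b_mem_normalizer_Astar, hbA⟩

end Hyp

end Cfsg.Agent.Helper4.GR
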