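import Mathlib
import Cfsg.Prelude.Def_PLocal
import Cfsg.Prelude.Def_Transfer
import Cfsg.Agent.S0650

set_option autoImplicit false
open scoped commutatorElement

/-! Iterating Glauberman's replacement lemma. -/

namespace Cfsg.Agent.Helper4.GR

variable {S : Type*} [Group S]

/-- In a nilpotent group, a normal subgroup `B` not contained in `N` has an element
normalizing `N` outside `N`. -/
theorem exists_mem_normalizer_not_mem [Group.IsNilpotent S] (B N : Subgroup S) [hB : B.Normal]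
    (hBN : ¬ B ≤ N) : ∃ x ∈ B, x ∈ Subgroup.normalizer (N : Set S) ∧ x ∉ N := by
  classical
  obtain ⟨n, hn⟩ := Group.IsNilpotent.nilpotent S
  have hex : ∃ i, ¬ (B ⊓ Subgroup.upperCentralSeries S i ≤ N) :=
    ⟨n, by rw [hn, inf_top_eq]; exact hBN⟩
  have hi0 : Nat.find hex ≠ 0 := by
    intro h0
    have := Nat.find_spec hex
    rw [h0, Subgroup.upperCentralSeries_zero, inf_bot_eq] at this
    exact this bot_le
  obtain ⟨j, hj⟩ : ∃ j, Nat.find hex = j + 1 := ⟨Nat.find hex - 1, by omega⟩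
  have hjle : B ⊓ Subgroup.upperCentralSeries S j ≤ N := by
    by_contra hcon
    have := Nat.find_min' hex hcon
    omega
  have hspec := Nat.find_spec hex
  rw [hj] at hspec
  obtain ⟨x, hx, hxN⟩ := SetLike.not_le_iff_exists.1 hspec
  obtain ⟨hxB, hxZ⟩ := Subgroup.mem_inf.1 hx
  have hconj : ∀ y ∈ B ⊓ Subgroup.upperCentralSeries S (j + 1), ∀ m ∈ N, y * m * y⁻¹ ∈ N := by
    intro y hy m hm
    obtain ⟨hyB, hyZ⟩ := Subgroup.mem_inf.1 hy
    have h1 : ⁅y, m⁆ ∈ Subgroup.upperCentralSeries S j :=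
      Subgroup.mem_upperCentralSeries_succ_iff.1 hyZ m
    have h2 : ⁅y, m⁆ ∈ B := by
      rw [commutatorElement_def]
      have : y * m * y⁻¹ * m⁻¹ = y * (m * y⁻¹ * m⁻¹) := by group
      rw [this]
      exact B.mul_mem hyB (hB.conj_mem _ (B.inv_mem hyB) m)
    have h3 := hjle (Subgroup.mem_inf.2 ⟨h2, h1⟩)
    have : y * m * y⁻¹ = ⁅y, m⁆ * m := by rw [commutatorElement_def]; group
    rw [this]; exact N.mul_mem h3 hm
  refine ⟨x, hxB, ?_, hxN⟩
  rw [Subgroup.mem_normalizer_iff]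
  intro m
  refine ⟨hconj x hx m, fun hm => ?_⟩
  have := hconj x⁻¹ (Subgroup.inv_mem _ hx) _ hm
  have e : x⁻¹ * (x * m * x⁻¹) * x⁻¹⁻¹ = m := by group
  rwa [e] at this

/-- Abstract replacement: a family of subgroups stable under `A ↦ A*`. -/
theorem replacement_abstract [Finite S] {p : ℕ} [Fact p.Prime] (hS : IsPGroup p S)
    (B : Subgroup S) [B.Normal] (hB2 : p = 2 → IsMulCommutative B)
    (F : Set (Subgroup S)) (hFc : ∀ A ∈ F, IsMulCommutative A)
    (hF : ∀ A ∈ F, ⁅B, B⁆ ≤ A → ∀ b ∈ B,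
      b ∈ Subgroup.normalizer ((Subgroup.normalizer (A : Set S)) : Set S) →
      b ∉ Subgroup.normalizer (A : Set S) → Astar A b ∈ F)
    (hU : ∃ U ∈ F, ⁅B, B⁆ ≤ U ∧ ¬ B ≤ U) :
    ∃ A ∈ F, ⁅B, B⁆ ≤ A ∧ ¬ B ≤ A ∧ B ≤ Subgroup.normalizer (A : Set S) := by
  have : Group.IsNilpotent S := hS.isNilpotent
  let F' : Set (Subgroup S) := {A | A ∈ F ∧ ⁅B, B⁆ ≤ A ∧ ¬ B ≤ A}
  have hF'fin : F'.Finite := Set.toFinite _
  have hF'ne : F'.Nonempty := by
    obtain ⟨U, hU1, hU2, hU3⟩ := hU
    exact ⟨U, hU1, hU2, hU3⟩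
  obtain ⟨A, hAF', hmax⟩ := Set.exists_max_image F' (fun A => Nat.card ↥(A ⊓ B)) hF'fin hF'ne
  obtain ⟨hAF, hBA, hBnA⟩ := hAF'
  refine ⟨A, hAF, hBA, hBnA, ?_⟩
  by_contra hnot
  obtain ⟨b, hbB, hbN, hbA⟩ :=
    exists_mem_normalizer_not_mem B (Subgroup.normalizer (A : Set S)) hnot
  have hres := Cfsg.Agent.S0650.result hS B hB2 A (hFc A hAF) hBA hnot b hbB hbN hbA
  obtain ⟨-, -, h3, h4, h5, -⟩ := hres
  have hE : ((A ⊓ A.map (MulAut.conj (b⁻¹)).toMonoidHom) ⊔
      Subgroup.closure {g : S | ∃ a ∈ A, g = a * b⁻¹ * a⁻¹ * b}) = Astar A b := rfl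
  rw [hE] at h3 h4 h5
  have hmem : Astar A b ∈ F' := by
    refine ⟨hF A hAF hBA b hbB hbN hbA, h3, fun hle => ?_⟩
    have : Astar A b ⊓ B = B := inf_eq_right.2 hle
    rw [this] at h5
    exact lt_irrefl _ h5
  have hle : Nat.card ↥(Astar A b ⊓ B) ≤ Nat.card ↥(A ⊓ B) := hmax _ hmem
  have hlt : Nat.card ↥(A ⊓ B) < Nat.card ↥(Astar A b ⊓ B) := by
    have h6 : Nat.card ↥(A ⊓ B) ≤ Nat.card ↥(Astar A b ⊓ B) :=
      Subgroup.card_le_of_le h4.le
    rcases h6.lt_or_eq with h7 | h7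
    · exact h7
    · exfalso
      have := Subgroup.eq_of_le_of_card_ge h4.le h7.symm.le
      rw [this] at h4
      exact lt_irrefl _ h4
  omega

/-- `A*` lies in every normal subgroup containing `A`. -/
theorem Astar_le_of_normal {A D : Subgroup S} [hD : D.Normal] (hAD : A ≤ D) (b : S) :
    Astar A b ≤ D := by
  unfold Astar
  apply sup_le
  · exact inf_le_left.trans hAD
  · unfold L
    rw [Subgroup.closure_le]
    rintro x ⟨a, ha, rfl⟩
    have : a * b⁻¹ * a⁻¹ * b = a * (b⁻¹ * a⁻¹ * b⁻¹⁻¹) := by group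
    rw [this]
    exact D.mul_mem (hAD ha) (hD.conj_mem _ (D.inv_mem (hAD ha)) b⁻¹)

/-- The image in `S` of the family of abelian subgroups of largest order of `D`. -/
theorem mem_maxAbelian_image_iff [Finite S] (D A : Subgroup S) :
    A ∈ Set.image (fun A : Subgroup ↥D => A.map D.subtype) (Cfsg.maxAbelianSubgroups ↥D) ↔
      A ≤ D ∧ IsMulCommutative A ∧
        ∀ A' : Subgroup S, A' ≤ D → IsMulCommutative A' → Nat.card A' ≤ Nat.card A := by
  constructor
  · rintro ⟨A0, ⟨hc, hmax⟩, rfl⟩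
    refine ⟨Subgroup.map_subtype_le A0, ?_, ?_⟩
    · exact Subgroup.map_isMulCommutative A0 D.subtype
    · intro A' hA'D hA'c
      have h1 : IsMulCommutative (A'.subgroupOf D) := inferInstance
      have h2 := hmax (A'.subgroupOf D) h1
      have h3 : Nat.card (A'.subgroupOf D) = Nat.card A' :=
        Nat.card_congr (Subgroup.subgroupOfEquivOfLe hA'D).toEquiv
      have h4 : Nat.card (A0.map D.subtype) = Nat.card A0 :=
        Subgroup.card_map_of_injective D.subtype_injective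
      change Nat.card A' ≤ Nat.card (A0.map D.subtype)
      omega
  · rintro ⟨hAD, hAc, hmax⟩
    refine ⟨A.subgroupOf D, ⟨?_, ?_⟩, ?_⟩
    · exact inferInstance
    · intro B0 hB0
      have h1 := hmax (B0.map D.subtype) (Subgroup.map_subtype_le B0)
        (Subgroup.map_isMulCommutative B0 D.subtype)
      have h3 : Nat.card (A.subgroupOf D) = Nat.card A :=
        Nat.card_congr (Subgroup.subgroupOfEquivOfLe hAD).toEquiv
      have h4 : Nat.card (B0.map D.subtype) = Nat.card B0 :=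
        Subgroup.card_map_of_injective D.subtype_injective
      omega
    · simp only
      rw [Subgroup.subgroupOf_map_subtype]
      exact inf_eq_left.2 hAD

/-- The image in `S` of the family of elementary abelian subgroups of largest order of `D`. -/
theorem mem_maxElementaryAbelian_image_iff [Finite S] (p : ℕ) (D A : Subgroup S) :
    A ∈ Set.image (fun A : Subgroup ↥D => A.map D.subtype)
        (Cfsg.maxElementaryAbelianSubgroups p ↥D) ↔
      A ≤ D ∧ Cfsg.IsElementaryAbelian p A ∧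
        ∀ A' : Subgroup S, A' ≤ D → Cfsg.IsElementaryAbelian p A' →
          Nat.card A' ≤ Nat.card A := by
  constructor
  · rintro ⟨A0, ⟨⟨hc, hexp⟩, hmax⟩, rfl⟩
    refine ⟨Subgroup.map_subtype_le A0, ⟨?_, ?_⟩, ?_⟩
    · exact Subgroup.map_isMulCommutative A0 D.subtype
    · rintro _ ⟨a0, ha0, rfl⟩
      have := hexp a0 ha0
      rw [← map_pow, this, map_one]
    · intro A' hA'D hA'e
      obtain ⟨hA'c, hA'exp⟩ := hA'e
      have h1 : Cfsg.IsElementaryAbelian p (A'.subgroupOf D) := by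
        refine ⟨inferInstance, ?_⟩
        intro x hx
        apply Subtype.ext
        rw [Subgroup.coe_pow]
        exact hA'exp _ (Subgroup.mem_subgroupOf.1 hx)
      have h2 := hmax (A'.subgroupOf D) h1
      have h3 : Nat.card (A'.subgroupOf D) = Nat.card A' :=
        Nat.card_congr (Subgroup.subgroupOfEquivOfLe hA'D).toEquiv
      have h4 : Nat.card (A0.map D.subtype) = Nat.card A0 :=
        Subgroup.card_map_of_injective D.subtype_injective
      change Nat.card A' ≤ Nat.card (A0.map D.subtype)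
      omega
  · rintro ⟨hAD, ⟨hAc, hAexp⟩, hmax⟩
    refine ⟨A.subgroupOf D, ⟨⟨inferInstance, ?_⟩, ?_⟩, ?_⟩
    · intro x hx
      apply Subtype.ext
      rw [Subgroup.coe_pow]
      exact hAexp _ (Subgroup.mem_subgroupOf.1 hx)
    · rintro B0 ⟨hB0c, hB0exp⟩
      have h1 := hmax (B0.map D.subtype) (Subgroup.map_subtype_le B0)
        ⟨Subgroup.map_isMulCommutative B0 D.subtype, by
          rintro _ ⟨a0, ha0, rfl⟩
          have := hB0exp a0 ha0
          rw [← map_pow, this, map_one]⟩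
      have h3 : Nat.card (A.subgroupOf D) = Nat.card A :=
        Nat.card_congr (Subgroup.subgroupOfEquivOfLe hAD).toEquiv
      have h4 : Nat.card (B0.map D.subtype) = Nat.card B0 :=
        Subgroup.card_map_of_injective D.subtype_injective
      omega
    · simp only
      rw [Subgroup.subgroupOf_map_subtype]
      exact inf_eq_left.2 hAD

end Cfsg.Agent.Helper4.GR
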