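import Mathlib
import Cfsg.Prelude.Def_Solvable
import Cfsg.Prelude.Def_CaseTheorems
import Cfsg.Agent.Lib.Helper10.Cores
import Cfsg.Agent.Lib.Helper23.PSolvable
import Cfsg.Agent.Lib.Helper21.FittingSubgroup

set_option autoImplicit false
open scoped commutatorElement

/-! Core of Glauberman's ZJ-theorem, for an abstract "Thompson-type" family. -/

namespace Cfsg.Agent.Helper4.ZJ

open Cfsg

variable {G : Type*} [Group G]

/-- If the commutators of the generators lie in a normal subgroup `N`, so does the derived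
subgroup of the generated subgroup. -/
theorem commutator_closure_le_normal (N : Subgroup G) [hN : N.Normal] (T : Set G)
    (hT : ∀ x ∈ T, ∀ y ∈ T, ⁅x, y⁆ ∈ N) :
    ⁅Subgroup.closure T, Subgroup.closure T⁆ ≤ N := by
  rw [Subgroup.commutator_le]
  intro a ha b hb
  have key : (QuotientGroup.mk a : G ⧸ N) * QuotientGroup.mk b =
      QuotientGroup.mk b * QuotientGroup.mk a := by
    refine Subgroup.closure_induction₂
      (p := fun x y _ _ => (QuotientGroup.mk x : G ⧸ N) * QuotientGroup.mk y =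
        QuotientGroup.mk y * QuotientGroup.mk x) ?_ ?_ ?_ ?_ ?_ ?_ ?_ ha hb
    · intro x y hx hy
      have := hT x hx y hy
      rw [← QuotientGroup.eq_one_iff, commutatorElement_def] at this
      simp only [QuotientGroup.mk_mul, QuotientGroup.mk_inv] at this
      calc (QuotientGroup.mk x : G ⧸ N) * QuotientGroup.mk y
          = ((QuotientGroup.mk x : G ⧸ N) * QuotientGroup.mk y * (QuotientGroup.mk x)⁻¹ *
            (QuotientGroup.mk y)⁻¹) * (QuotientGroup.mk y * QuotientGroup.mk x) := by group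
        _ = QuotientGroup.mk y * QuotientGroup.mk x := by rw [this, one_mul]
    · intro x _; simp
    · intro x _; simp
    · intro x y z _ _ _ h1 h2
      simp only [QuotientGroup.mk_mul]
      rw [mul_assoc, h2, ← mul_assoc, h1, mul_assoc]
    · intro y z x _ _ _ h1 h2
      simp only [QuotientGroup.mk_mul]
      rw [← mul_assoc, h1, mul_assoc, h2, ← mul_assoc]
    · intro x y _ _ h1
      simp only [QuotientGroup.mk_inv]
      have : Commute (QuotientGroup.mk x : G ⧸ N) (QuotientGroup.mk y) := h1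
      exact this.inv_left.eq
    · intro x y _ _ h1
      simp only [QuotientGroup.mk_inv]
      have : Commute (QuotientGroup.mk x : G ⧸ N) (QuotientGroup.mk y) := h1
      exact this.inv_right.eq
  rw [← QuotientGroup.eq_one_iff, commutatorElement_def]
  simp only [QuotientGroup.mk_mul, QuotientGroup.mk_inv]
  rw [key]; group

/-- The abstract data: a family `𝒜 P` of abelian subgroups of `P` and a subgroup `Z P`. -/
structure Data (G : Type*) [Group G] (p : ℕ) where
  𝒜 : Subgroup G → Set (Subgroup G)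
  Z : Subgroup G → Subgroup G
  Z_le_self : ∀ P : Subgroup G, Z P ≤ P
  Z_comm : ∀ P : Subgroup G, ∀ x ∈ Z P, ∀ y ∈ Z P, x * y = y * x
  mem_le : ∀ {P A : Subgroup G}, A ∈ 𝒜 P → A ≤ P
  mem_comm : ∀ {P A : Subgroup G}, A ∈ 𝒜 P → ∀ x ∈ A, ∀ y ∈ A, x * y = y * x
  Z_map : ∀ (φ : G ≃* G) (P : Subgroup G),
    Z (P.map φ.toMonoidHom) = (Z P).map φ.toMonoidHom
  Z_le : ∀ {P A : Subgroup G}, A ∈ 𝒜 P → Z P ≤ A
  le_Z : ∀ {P B : Subgroup G}, B ≤ P → (∀ A ∈ 𝒜 P, B ≤ A) → B ≤ Z P
  mono : ∀ {P P₂ A : Subgroup G}, P₂ ≤ P → A ∈ 𝒜 P → A ≤ P₂ → A ∈ 𝒜 P₂ ∧ Z P ≤ Z P₂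
  repl : ∀ {P : Subgroup G}, IsPGroup p P → ∀ B : Subgroup G, B ≤ P →
    P ≤ Subgroup.normalizer (B : Set G) → (∃ U ∈ 𝒜 P, ⁅B, B⁆ ≤ U ∧ ¬ B ≤ U) →
    ∃ A ∈ 𝒜 P, ⁅B, B⁆ ≤ A ∧ ¬ B ≤ A ∧ B ≤ Subgroup.normalizer (A : Set G)

variable {p : ℕ}

/-- `Z P` is normalized by the normalizer of `P`. -/
theorem Data.normalizer_le (dat : Data G p) (P : Subgroup G) :
    Subgroup.normalizer (P : Set G) ≤ Subgroup.normalizer (dat.Z P : Set G) := by
  intro n hn
  have h1 : P.map (MulAut.conj n).toMonoidHom = P := by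
    rw [Subgroup.mem_normalizer_iff_map_conj_eq] at hn
    exact hn
  have h2 := dat.Z_map (MulAut.conj n) P
  rw [h1] at h2
  rw [Subgroup.mem_normalizer_iff_map_conj_eq]
  exact h2.symm

section K

variable [Finite G] [hp : Fact p.Prime]

/-- `K_B`: the preimage of `O_p(G / C_G(B))`. -/
def KK (p : ℕ) (B : Subgroup G) [B.Normal] : Subgroup G :=
  (pCore p (G ⧸ Subgroup.centralizer (B : Set G))).comap
    (QuotientGroup.mk' (Subgroup.centralizer (B : Set G)))

instance KK_normal (B : Subgroup G) [B.Normal] : (KK p B).Normal := by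
  unfold KK; infer_instance

theorem mem_KK {B : Subgroup G} [B.Normal] {a : G} :
    a ∈ KK p B ↔ (QuotientGroup.mk a : G ⧸ Subgroup.centralizer (B : Set G)) ∈
      pCore p (G ⧸ Subgroup.centralizer (B : Set G)) := Iff.rfl

theorem centralizer_le_KK (B : Subgroup G) [B.Normal] :
    Subgroup.centralizer (B : Set G) ≤ KK p B := by
  intro c hc
  rw [mem_KK]
  have : (QuotientGroup.mk c : G ⧸ Subgroup.centralizer (B : Set G)) = 1 :=
    (QuotientGroup.eq_one_iff c).2 hc
  rw [this]; exact Subgroup.one_mem _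

/-- Elements of `K_B` are products of an element of `P ∩ K_B` and a centralizing element. -/
theorem exists_mul_of_mem_KK (P : Sylow p G) (B : Subgroup G) [B.Normal] {k : G}
    (hk : k ∈ KK p B) :
    ∃ x ∈ (P : Subgroup G) ⊓ KK p B, ∃ c ∈ Subgroup.centralizer (B : Set G), k = x * c := by
  have hsurj := QuotientGroup.mk'_surjective (Subgroup.centralizer (B : Set G))
  have h1 : pCore p (G ⧸ Subgroup.centralizer (B : Set G)) ≤
      ((P.mapSurjective hsurj : Sylow p (G ⧸ Subgroup.centralizer (B : Set G))) : Subgroup _) :=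
    Cfsg.Agent.Helper23.PSolv.pCore_le_sylow _
  have h2 := h1 hk
  rw [Sylow.coe_mapSurjective] at h2
  obtain ⟨x, hxP, hx⟩ := h2
  have h3 : x⁻¹ * k ∈ Subgroup.centralizer (B : Set G) := by
    have : (QuotientGroup.mk' (Subgroup.centralizer (B : Set G))) x =
        (QuotientGroup.mk' (Subgroup.centralizer (B : Set G))) k := hx
    exact QuotientGroup.eq.1 this
  refine ⟨x, Subgroup.mem_inf.2 ⟨hxP, ?_⟩, x⁻¹ * k, h3, by group⟩
  have : x = k * (x⁻¹ * k)⁻¹ := by group
  rw [this]
  exact Subgroup.mul_mem _ hk (Subgroup.inv_mem _ (centralizer_le_KK B h3))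

/-- Frattini: every element is a product of an element normalizing `P ∩ K` and an element
centralizing `B`. -/
theorem exists_mul_normalizer_centralizer (P : Sylow p G) (B : Subgroup G) [B.Normal] (g : G) :
    ∃ n ∈ Subgroup.normalizer (((P : Subgroup G) ⊓ KK p B : Subgroup G) : Set G),
      ∃ c ∈ Subgroup.centralizer (B : Set G), g = n * c := by
  set K := KK p B with hK
  have hR : IsPGroup p (((P : Subgroup G) ⊓ K).subgroupOf K) :=
    (P.2.to_le inf_le_left).comap_subtype
  have hidx : ¬ p ∣ (((P : Subgroup G) ⊓ K).subgroupOf K).index := by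
    have h1 : (((P : Subgroup G) ⊓ K).subgroupOf K).index = (P : Subgroup G).relIndex K :=
      Subgroup.inf_relIndex_right _ _
    rw [h1]
    intro hdvd
    exact P.not_dvd_index
      (hdvd.trans (Cfsg.Agent.Helper21.relIndex_dvd_index_of_normal_right (P : Subgroup G) K))
  have hfr := Sylow.normalizer_sup_eq_top (hR.toSylow hidx)
  have hcoe : ((hR.toSylow hidx : Sylow p K) : Subgroup K).map K.subtype =
      (P : Subgroup G) ⊓ K := by
    show (((P : Subgroup G) ⊓ K).subgroupOf K).map K.subtype = _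
    rw [Subgroup.subgroupOf_map_subtype]
    exact inf_eq_left.2 inf_le_right
  rw [hcoe] at hfr
  have hg : g ∈ Subgroup.normalizer (((P : Subgroup G) ⊓ K : Subgroup G) : Set G) ⊔ K := by
    rw [hfr]; exact Subgroup.mem_top g
  rw [Subgroup.mem_sup_of_normal_right] at hg
  obtain ⟨n, hn, k, hk, rfl⟩ := hg
  obtain ⟨x, hx, c, hc, rfl⟩ := exists_mul_of_mem_KK P B hk
  refine ⟨n * x, Subgroup.mul_mem _ hn (Subgroup.le_normalizer hx), c, hc, by group⟩

end K

section main

variable [Finite G] [hp : Fact p.Prime]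

/-- the `p`-stability hypothesis, restricted to `p`-elements -/
def Stab (p : ℕ) (G : Type*) [Group G] : Prop :=
  ∀ (V : Subgroup G) [V.Normal], IsPGroup p V → ∀ a : G, (∃ k : ℕ, a ^ p ^ k = 1) →
    ⁅⁅V, Subgroup.zpowers a⁆, Subgroup.zpowers a⁆ = ⊥ →
    (QuotientGroup.mk a : G ⧸ Subgroup.centralizer (V : Set G)) ∈
      pCore p (G ⧸ Subgroup.centralizer (V : Set G))

/-- A subgroup `A` acting quadratically on a normal `p`-subgroup lies in `K_B`. -/
theorem le_KK_of_quadratic (hst : Stab p G) (B : Subgroup G) [B.Normal] (hBp : IsPGroup p B)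
    (A : Subgroup G) (hAp : IsPGroup p A) (hq : ⁅⁅B, A⁆, A⁆ = ⊥) : A ≤ KK p B := by
  intro a ha
  rw [mem_KK]
  apply hst B hBp a
  · obtain ⟨k, hk⟩ := hAp ⟨a, ha⟩
    exact ⟨k, by simpa using congrArg Subtype.val hk⟩
  · rw [eq_bot_iff, ← hq]
    have hz : Subgroup.zpowers a ≤ A := Subgroup.zpowers_le.2 ha
    exact Subgroup.commutator_mono (Subgroup.commutator_mono le_rfl hz) hz

theorem inf_normal (dat : Data G p) (P : Sylow p G) (hst : Stab p G) :
    ∀ n : ℕ, ∀ B : Subgroup G, B.Normal → IsPGroup p B → Nat.card B ≤ n →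
      (dat.Z (P : Subgroup G) ⊓ B).Normal := by
  intro n
  induction n using Nat.strong_induction_on with
  | _ n ih =>
  intro B hBn hBp hcard
  set Z := dat.Z (P : Subgroup G) with hZ
  have hBP : B ≤ P := Cfsg.Agent.Helper23.PSolv.normal_pGroup_le_sylow B hBp P
  have hPZ : (P : Subgroup G) ≤ Subgroup.normalizer (Z : Set G) :=
    Subgroup.le_normalizer.trans (dat.normalizer_le _)
  -- Z₁ is normalized by P
  have hZ₁P : ∀ x ∈ (P : Subgroup G), ∀ z ∈ Z ⊓ B, x * z * x⁻¹ ∈ Z ⊓ B := by
    intro x hx z hz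
    obtain ⟨hzZ, hzB⟩ := Subgroup.mem_inf.1 hz
    refine Subgroup.mem_inf.2 ⟨?_, hBn.conj_mem z hzB x⟩
    have := hPZ hx
    rw [Subgroup.mem_normalizer_iff] at this
    exact (this z).1 hzZ
  set B₁ := Subgroup.normalClosure ((Z ⊓ B : Subgroup G) : Set G) with hB₁
  have hB₁le : B₁ ≤ B := Subgroup.normalClosure_le_normal (fun x hx => (Subgroup.mem_inf.1 hx).2)
  have hZ₁B₁ : Z ⊓ B ≤ B₁ := Subgroup.le_normalClosure
  by_cases hB₁B : B₁ = B
  · by_cases hall : ∀ U ∈ dat.𝒜 (P : Subgroup G), B ≤ U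
    · have : B ≤ Z := dat.le_Z hBP hall
      rw [inf_eq_right.2 this]; exact hBn
    · exfalso
      push Not at hall
      obtain ⟨U, hU, hBU⟩ := hall
      -- B is nontrivial
      have hBne : B ≠ ⊥ := by
        intro h; apply hBU; rw [h]; exact bot_le
      -- the derived subgroup is smaller
      have hB'n : (⁅B, B⁆ : Subgroup G).Normal := inferInstance
      have hB'le : ⁅B, B⁆ ≤ B := Subgroup.commutator_le_left B B
      have hB'lt : Nat.card (⁅B, B⁆ : Subgroup G) < Nat.card B := by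
        have hnil : Group.IsNilpotent B := hBp.isNilpotent
        have hnt : Nontrivial B := by
          rw [Subgroup.nontrivial_iff_ne_bot]; exact hBne
        have h1 : commutator B < ⊤ := IsSolvable.commutator_lt_top_of_nontrivial B
        have h2 : ⁅B, B⁆ = (commutator B).map B.subtype := by
          rw [commutator_def, Subgroup.map_commutator, ← MonoidHom.range_eq_map,
            Subgroup.range_subtype]
        have h3 : Nat.card (⁅B, B⁆ : Subgroup G) = Nat.card (commutator B) := by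
          rw [h2]; exact Subgroup.card_map_of_injective B.subtype_injective
        rw [h3]
        rcases (Subgroup.card_le_of_le h1.le).lt_or_eq with h4 | h4
        · rwa [Subgroup.card_top] at h4
        · exfalso
          have := Subgroup.eq_of_le_of_card_ge h1.le h4.symm.le
          exact h1.ne this
      have hNn : (Z ⊓ ⁅B, B⁆).Normal :=
        ih _ (lt_of_lt_of_le hB'lt hcard) ⁅B, B⁆ hB'n (hBp.to_le hB'le) le_rfl
      -- the commutators of the generators lie in N
      have hB'N : ⁅B, B⁆ ≤ Z ⊓ ⁅B, B⁆ := by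
        have hBcl : Subgroup.closure
            (Group.conjugatesOfSet ((Z ⊓ B : Subgroup G) : Set G)) = B := hB₁B
        have hTB : ∀ y ∈ Group.conjugatesOfSet ((Z ⊓ B : Subgroup G) : Set G), y ∈ B := by
          intro y hy
          exact hB₁le (Subgroup.conjugatesOfSet_subset_normalClosure hy)
        have key := commutator_closure_le_normal (Z ⊓ ⁅B, B⁆)
          (Group.conjugatesOfSet ((Z ⊓ B : Subgroup G) : Set G)) (by
            intro x hx y hy
            rw [Group.mem_conjugatesOfSet_iff] at hx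
            obtain ⟨z, hz, hzx⟩ := hx
            rw [isConj_iff] at hzx
            obtain ⟨g, rfl⟩ := hzx
            have hyB := hTB y hy
            have hy'B : g⁻¹ * y * g⁻¹⁻¹ ∈ B := hBn.conj_mem y hyB g⁻¹
            have hzB : z ∈ B := (Subgroup.mem_inf.1 hz).2
            have h1 : ⁅z, g⁻¹ * y * g⁻¹⁻¹⁆ ∈ Z ⊓ ⁅B, B⁆ := by
              refine Subgroup.mem_inf.2 ⟨?_, Subgroup.commutator_mem_commutator hzB hy'B⟩
              have h2 := hZ₁P _ (hBP hy'B) z⁻¹ (Subgroup.inv_mem _ hz)
              have h3 := Subgroup.mul_mem _ hz h2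
              have e : ⁅z, g⁻¹ * y * g⁻¹⁻¹⁆ =
                  z * ((g⁻¹ * y * g⁻¹⁻¹) * z⁻¹ * (g⁻¹ * y * g⁻¹⁻¹)⁻¹) := by
                rw [commutatorElement_def]; group
              rw [e]; exact (Subgroup.mem_inf.1 h3).1
            have h4 := hNn.conj_mem _ h1 g
            have e2 : g * ⁅z, g⁻¹ * y * g⁻¹⁻¹⁆ * g⁻¹ = ⁅g * z * g⁻¹, y⁆ := by
              simp only [commutatorElement_def]; group
            rw [← e2]; exact h4)
        rw [hBcl] at key
        exact key
      have hB'Z : ⁅B, B⁆ ≤ Z := hB'N.trans inf_le_left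
      -- replacement
      have hPB : (P : Subgroup G) ≤ Subgroup.normalizer (B : Set G) := by
        rw [Subgroup.normalizer_eq_top]; exact le_top
      obtain ⟨A, hA, hB'A, hBnA, hBNA⟩ :=
        dat.repl P.2 B hBP hPB ⟨U, hU, hB'Z.trans (dat.Z_le hU), hBU⟩
      have hAP : A ≤ P := dat.mem_le hA
      -- quadratic action
      have hq : ⁅⁅B, A⁆, A⁆ = ⊥ := by
        have hAA : ⁅A, A⁆ = ⊥ := by
          rw [Subgroup.commutator_eq_bot_iff_le_centralizer]
          intro x hx
          rw [Subgroup.mem_centralizer_iff]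
          intro y hy
          exact dat.mem_comm hA y hy x hx
        rw [eq_bot_iff, ← hAA]
        refine Subgroup.commutator_mono ?_ le_rfl
        rw [Subgroup.commutator_le]
        intro b hb a ha
        have hbn := hBNA hb
        rw [Subgroup.mem_normalizer_iff] at hbn
        rw [commutatorElement_def]
        exact A.mul_mem ((hbn a).1 ha) (A.inv_mem ha)
      have hAK : A ≤ KK p B := le_KK_of_quadratic hst B hBp A (P.2.to_le hAP) hq
      set P₂ := (P : Subgroup G) ⊓ KK p B with hP₂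
      have hAP₂ : A ≤ P₂ := le_inf hAP hAK
      obtain ⟨hA₂, hZZ₂⟩ := dat.mono (inf_le_left : P₂ ≤ P) hA hAP₂
      -- X = Z(P₂) ∩ B is normal in G
      have hXn : ∀ g : G, ∀ x ∈ dat.Z P₂ ⊓ B, g * x * g⁻¹ ∈ dat.Z P₂ ⊓ B := by
        intro g x hx
        obtain ⟨hxZ, hxB⟩ := Subgroup.mem_inf.1 hx
        obtain ⟨m, hm, c, hc, rfl⟩ := exists_mul_normalizer_centralizer P B g
        have hcx : c * x * c⁻¹ = x := by
          rw [Subgroup.mem_centralizer_iff] at hc
          rw [← hc x hxB]; group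
        have e : m * c * x * (m * c)⁻¹ = m * (c * x * c⁻¹) * m⁻¹ := by group
        rw [e, hcx]
        refine Subgroup.mem_inf.2 ⟨?_, hBn.conj_mem x hxB m⟩
        have := dat.normalizer_le P₂ hm
        rw [Subgroup.mem_normalizer_iff] at this
        exact (this x).1 hxZ
      have hXnormal : (dat.Z P₂ ⊓ B).Normal := ⟨fun x hx g => hXn g x hx⟩
      have hZ₁X : ((Z ⊓ B : Subgroup G) : Set G) ⊆ (dat.Z P₂ ⊓ B : Subgroup G) :=
        fun x hx => Subgroup.mem_inf.2 ⟨hZZ₂ (Subgroup.mem_inf.1 hx).1, (Subgroup.mem_inf.1 hx).2⟩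
      have hBX : B ≤ dat.Z P₂ ⊓ B := by
        have h5 : B₁ ≤ dat.Z P₂ ⊓ B := Subgroup.normalClosure_le_normal hZ₁X
        rwa [hB₁B] at h5
      exact hBnA ((hBX.trans inf_le_left).trans (dat.Z_le hA₂))
  · -- B₁ < B
    have hlt : Nat.card B₁ < Nat.card B := by
      rcases (Subgroup.card_le_of_le hB₁le).lt_or_eq with h4 | h4
      · exact h4
      · exfalso
        exact hB₁B (Subgroup.eq_of_le_of_card_ge hB₁le h4.symm.le)
    have hB₁n : B₁.Normal := Subgroup.normalClosure_normal
    have := ih _ (lt_of_lt_of_le hlt hcard) B₁ hB₁n (hBp.to_le hB₁le) le_rfl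
    have heq : Z ⊓ B₁ = Z ⊓ B := by
      apply le_antisymm
      · exact inf_le_inf_left _ hB₁le
      · exact le_inf inf_le_left hZ₁B₁
    rw [← heq]; exact this

/-- **Glauberman's ZJ-theorem**, abstract form. -/
theorem Z_normal (dat : Data G p) (P : Sylow p G) (hst : Stab p G)
    (hc : Subgroup.centralizer (pCore p G : Set G) ≤ pCore p G) :
    (dat.Z (P : Subgroup G)).Normal := by
  set Q := pCore p G with hQ
  have hQp : IsPGroup p Q := Cfsg.Agent.Helper10.pCore_isPGroup p
  have hQP : Q ≤ P := Cfsg.Agent.Helper23.PSolv.pCore_le_sylow P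
  set Z := dat.Z (P : Subgroup G) with hZ
  have hPZ : (P : Subgroup G) ≤ Subgroup.normalizer (Z : Set G) :=
    Subgroup.le_normalizer.trans (dat.normalizer_le _)
  have hZP : Z ≤ P := dat.Z_le_self _
  -- Z acts quadratically on Q
  have hq : ⁅⁅Q, Z⁆, Z⁆ = ⊥ := by
    have hZZ : ⁅Z, Z⁆ = ⊥ := by
      rw [Subgroup.commutator_eq_bot_iff_le_centralizer]
      intro x hx
      rw [Subgroup.mem_centralizer_iff]
      intro y hy
      exact dat.Z_comm _ y hy x hx
    rw [eq_bot_iff, ← hZZ]
    refine Subgroup.commutator_mono ?_ le_rfl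
    rw [Subgroup.commutator_le]
    intro b hb a ha
    have hbn := hPZ (hQP hb)
    rw [Subgroup.mem_normalizer_iff] at hbn
    rw [commutatorElement_def]
    exact Z.mul_mem ((hbn a).1 ha) (Z.inv_mem ha)
  have hZK : Z ≤ KK p Q := le_KK_of_quadratic hst Q hQp Z (P.2.to_le hZP) hq
  -- K_Q is a normal p-subgroup
  have hKp : IsPGroup p (KK p Q) := by
    unfold KK
    apply IsPGroup.comap_of_ker_isPGroup (Cfsg.Agent.Helper10.pCore_isPGroup p)
    rw [QuotientGroup.ker_mk']
    exact hQp.to_le hc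
  have hKQ : KK p Q ≤ Q := le_sSup ⟨inferInstance, hKp⟩
  have hZQ : Z ≤ Q := hZK.trans hKQ
  have := inf_normal dat P hst (Nat.card Q) Q inferInstance hQp le_rfl
  rwa [inf_eq_left.2 hZQ] at this

end main

end Cfsg.Agent.Helper4.ZJ
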