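import Mathlib
import Cfsg.Prelude.Def_PLocal
import Cfsg.Agent.Lib.Helper4.ZJCore
import Cfsg.Agent.Lib.Helper4.GlaubermanRepl2

set_option autoImplicit false
open scoped commutatorElement

/-! Instantiating the ZJ-core with the abelian subgroups of largest order. -/

namespace Cfsg.Agent.Helper4.ZJ

open Cfsg Cfsg.Agent.Helper4.GR

variable {G : Type*} [Group G]

/-- The join of two commutative subgroups commuting elementwise is commutative. -/
theorem sup_comm_of (A Z : Subgroup G) (hA : ∀ x ∈ A, ∀ y ∈ A, x * y = y * x)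
    (hZ : ∀ x ∈ Z, ∀ y ∈ Z, x * y = y * x) (hAZ : ∀ x ∈ A, ∀ y ∈ Z, x * y = y * x) :
    IsMulCommutative (A ⊔ Z : Subgroup G) := by
  rw [← Subgroup.le_centralizer_iff_isMulCommutative]
  have h1 : (A ⊔ Z : Subgroup G) = Subgroup.closure ((A : Set G) ∪ Z) := by
    rw [Subgroup.closure_union, Subgroup.closure_eq, Subgroup.closure_eq]
  have h2 : Subgroup.centralizer ((A ⊔ Z : Subgroup G) : Set G) =
      Subgroup.centralizer ((A : Set G) ∪ Z) := by
    rw [h1, Subgroup.centralizer_closure]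
  rw [h2]
  apply sup_le
  · intro x hx
    rw [Subgroup.mem_centralizer_iff]
    rintro y (hy | hy)
    · exact hA y hy x hx
    · exact (hAZ x hx y hy).symm
  · intro x hx
    rw [Subgroup.mem_centralizer_iff]
    rintro y (hy | hy)
    · exact hAZ y hy x hx
    · exact hZ y hy x hx

/-- Replacement for the abelian subgroups of largest order of a `p`-group. -/
theorem replacement_maxAbelian_top {S : Type*} [Group S] [Finite S] {p : ℕ} [Fact p.Prime]
    (hS : IsPGroup p S) (hp : p ≠ 2) (B : Subgroup S) [B.Normal]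
    (hU : ∃ U ∈ Cfsg.maxAbelianSubgroups S, ⁅B, B⁆ ≤ U ∧ ¬ B ≤ U) :
    ∃ A ∈ Cfsg.maxAbelianSubgroups S, ⁅B, B⁆ ≤ A ∧ ¬ B ≤ A ∧
      B ≤ Subgroup.normalizer (A : Set S) := by
  refine replacement_abstract hS B (fun h => absurd h hp) _ (fun A hA => hA.1) ?_ hU
  intro A hA hBA b hbB hbN hbA
  obtain ⟨hAc, hmax⟩ := hA
  have hnot : ¬ B ≤ Subgroup.normalizer (A : Set S) := fun hle => hbA (hle hbB)
  have hres := Cfsg.Agent.S0650.result hS B (fun h => absurd h hp) A hAc hBA hnot b hbB hbN hbA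
  obtain ⟨h1, h2, -⟩ := hres
  have hE : ((A ⊓ A.map (MulAut.conj (b⁻¹)).toMonoidHom) ⊔
      Subgroup.closure {g : S | ∃ a ∈ A, g = a * b⁻¹ * a⁻¹ * b}) = Astar A b := rfl
  rw [hE] at h1 h2
  exact ⟨h2, fun B' hB' => by rw [h1]; exact hmax B' hB'⟩

/-- Replacement for the elementary abelian subgroups of largest order of a `p`-group. -/
theorem replacement_maxElementaryAbelian_top {S : Type*} [Group S] [Finite S] {p : ℕ}
    [Fact p.Prime] (hS : IsPGroup p S) (hp : p ≠ 2) (B : Subgroup S) [B.Normal]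
    (hU : ∃ U ∈ Cfsg.maxElementaryAbelianSubgroups p S, ⁅B, B⁆ ≤ U ∧ ¬ B ≤ U) :
    ∃ A ∈ Cfsg.maxElementaryAbelianSubgroups p S, ⁅B, B⁆ ≤ A ∧ ¬ B ≤ A ∧
      B ≤ Subgroup.normalizer (A : Set S) := by
  refine replacement_abstract hS B (fun h => absurd h hp) _ (fun A hA => hA.1.1) ?_ hU
  intro A hA hBA b hbB hbN hbA
  obtain ⟨⟨hAc, hAexp⟩, hmax⟩ := hA
  have hnot : ¬ B ≤ Subgroup.normalizer (A : Set S) := fun hle => hbA (hle hbB)
  have hres := Cfsg.Agent.S0650.result hS B (fun h => absurd h hp) A hAc hBA hnot b hbB hbN hbA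
  obtain ⟨h1, h2, -, -, -, -, -, -, -, h10⟩ := hres
  have hE : ((A ⊓ A.map (MulAut.conj (b⁻¹)).toMonoidHom) ⊔
      Subgroup.closure {g : S | ∃ a ∈ A, g = a * b⁻¹ * a⁻¹ * b}) = Astar A b := rfl
  rw [hE] at h1 h2 h10
  refine ⟨⟨h2, ?_⟩, fun B' hB' => by rw [h1]; exact hmax B' hB'⟩
  intro x hx
  have hd1 : Monoid.exponent A ∣ p := by
    apply Monoid.exponent_dvd_of_forall_pow_eq_one
    intro a
    apply Subtype.ext
    rw [Subgroup.coe_pow]
    exact hAexp a a.2
  have hd2 : Monoid.exponent (Astar A b) ∣ p := (h10 hp).trans hd1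
  have h3 : (⟨x, hx⟩ : Astar A b) ^ p = 1 := by
    obtain ⟨k, hk⟩ := hd2
    rw [hk, pow_mul, Monoid.pow_exponent_eq_one, one_pow]
  exact congrArg Subtype.val h3

/-- Transporting a replacement statement from the group `↥P` to subgroups of `G`. -/
theorem repl_transport [Finite G] (P : Subgroup G) (F₀ : Set (Subgroup ↥P))
    (h₀ : ∀ (B₀ : Subgroup ↥P) [B₀.Normal], (∃ U ∈ F₀, ⁅B₀, B₀⁆ ≤ U ∧ ¬ B₀ ≤ U) →
      ∃ A ∈ F₀, ⁅B₀, B₀⁆ ≤ A ∧ ¬ B₀ ≤ A ∧ B₀ ≤ Subgroup.normalizer (A : Set ↥P))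
    (B : Subgroup G) (hBP : B ≤ P) (hPB : P ≤ Subgroup.normalizer (B : Set G))
    (hU : ∃ U ∈ Set.image (fun A : Subgroup ↥P => A.map P.subtype) F₀, ⁅B, B⁆ ≤ U ∧ ¬ B ≤ U) :
    ∃ A ∈ Set.image (fun A : Subgroup ↥P => A.map P.subtype) F₀,
      ⁅B, B⁆ ≤ A ∧ ¬ B ≤ A ∧ B ≤ Subgroup.normalizer (A : Set G) := by
  set B₀ : Subgroup ↥P := B.subgroupOf P with hB₀
  have hB₀map : B₀.map P.subtype = B := by
    rw [hB₀, Subgroup.subgroupOf_map_subtype]; exact inf_eq_left.2 hBP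
  have hB₀n : B₀.Normal := by
    refine ⟨fun x hx g => ?_⟩
    rw [hB₀, Subgroup.mem_subgroupOf] at hx ⊢
    have := hPB g.2
    rw [Subgroup.mem_normalizer_iff] at this
    simpa using (this x).1 hx
  have hcomm : (⁅B₀, B₀⁆ : Subgroup ↥P).map P.subtype = ⁅B, B⁆ := by
    rw [Subgroup.map_commutator, hB₀map]
  have hinj := P.subtype_injective
  obtain ⟨U, ⟨U₀, hU₀, rfl⟩, hU1, hU2⟩ := hU
  simp only at hU1 hU2
  have hU1' : ⁅B₀, B₀⁆ ≤ U₀ := by
    rw [← Subgroup.map_le_map_iff_of_injective hinj, hcomm]; exact hU1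
  have hU2' : ¬ B₀ ≤ U₀ := by
    rw [← Subgroup.map_le_map_iff_of_injective hinj, hB₀map]; exact hU2
  obtain ⟨A₀, hA₀, hA1, hA2, hA3⟩ := h₀ B₀ ⟨U₀, hU₀, hU1', hU2'⟩
  refine ⟨A₀.map P.subtype, ⟨A₀, hA₀, rfl⟩, ?_, ?_, ?_⟩
  · rw [← hcomm]; exact Subgroup.map_mono hA1
  · rw [← hB₀map, Subgroup.map_le_map_iff_of_injective hinj]; exact hA2
  · intro b hb
    apply mem_normalizer_of_forall_conj_mem
    rintro _ ⟨a₀, ha₀, rfl⟩
    have hb₀ : (⟨b, hBP hb⟩ : ↥P) ∈ B₀ := by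
      rw [hB₀, Subgroup.mem_subgroupOf]; exact hb
    have h1 := hA3 hb₀
    rw [Subgroup.mem_normalizer_iff] at h1
    have h2 := (h1 a₀).1 ha₀
    exact ⟨_, h2, by simp⟩

section famA

variable [Finite G]

/-- The family of abelian subgroups of `P` of largest order, inside `G`. -/
def famA (P : Subgroup G) : Set (Subgroup G) :=
  Set.image (fun A : Subgroup ↥P => A.map P.subtype) (Cfsg.maxAbelianSubgroups ↥P)

theorem mem_famA {P A : Subgroup G} : A ∈ famA P ↔ A ≤ P ∧ IsMulCommutative A ∧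
    ∀ A' : Subgroup G, A' ≤ P → IsMulCommutative A' → Nat.card A' ≤ Nat.card A :=
  mem_maxAbelian_image_iff P A

theorem famA_nonempty (P : Subgroup G) : (famA P).Nonempty := by
  let T : Set (Subgroup G) := {A | A ≤ P ∧ IsMulCommutative A}
  have hTfin : T.Finite := Set.toFinite _
  have hTne : T.Nonempty := ⟨⊥, bot_le, inferInstance⟩
  obtain ⟨A, ⟨hAP, hAc⟩, hmax⟩ := Set.exists_max_image T (fun A => Nat.card A) hTfin hTne
  exact ⟨A, mem_famA.2 ⟨hAP, hAc, fun A' h1 h2 => hmax A' ⟨h1, h2⟩⟩⟩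

theorem thompsonSubgroupAOf_eq (P : Subgroup G) :
    Cfsg.thompsonSubgroupAOf P = sSup (famA P) := by
  unfold Cfsg.thompsonSubgroupAOf Cfsg.thompsonSubgroupA famA
  rw [sSup_eq_iSup, Subgroup.map_iSup, sSup_image]
  congr 1
  ext A
  rw [Subgroup.map_iSup]

theorem le_thompsonSubgroupAOf {P A : Subgroup G} (hA : A ∈ famA P) :
    A ≤ Cfsg.thompsonSubgroupAOf P := by
  rw [thompsonSubgroupAOf_eq]; exact le_sSup hA

theorem thompsonSubgroupAOf_le {P K : Subgroup G} (h : ∀ A ∈ famA P, A ≤ K) :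
    Cfsg.thompsonSubgroupAOf P ≤ K := by
  rw [thompsonSubgroupAOf_eq]; exact sSup_le h

theorem thompsonSubgroupAOf_le_self (P : Subgroup G) : Cfsg.thompsonSubgroupAOf P ≤ P :=
  thompsonSubgroupAOf_le fun _ hA => (mem_famA.1 hA).1

theorem comm_of_mem_famA {P A : Subgroup G} (hA : A ∈ famA P) :
    ∀ x ∈ A, ∀ y ∈ A, x * y = y * x := by
  intro x hx y hy
  have := (mem_famA.1 hA).2.1
  exact congrArg Subtype.val (this.is_comm.comm ⟨x, hx⟩ ⟨y, hy⟩)

/-- `Z(J(P)) ≤ A` for every `A` of largest order. -/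
theorem centerThompsonAOf_le {P A : Subgroup G} (hA : A ∈ famA P) :
    Cfsg.centerThompsonAOf P ≤ A := by
  obtain ⟨hAP, hAc, hmax⟩ := mem_famA.1 hA
  set Z := Cfsg.centerThompsonAOf P with hZ
  have hZJ : Z ≤ Cfsg.thompsonSubgroupAOf P := inf_le_left
  have hZC : Z ≤ Subgroup.centralizer (Cfsg.thompsonSubgroupAOf P : Set G) := inf_le_right
  have hcomm : IsMulCommutative (A ⊔ Z : Subgroup G) := by
    apply sup_comm_of A Z (comm_of_mem_famA hA)
    · intro x hx y hy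
      have := hZC hy
      rw [Subgroup.mem_centralizer_iff] at this
      exact this x (hZJ hx)
    · intro x hx y hy
      have := hZC hy
      rw [Subgroup.mem_centralizer_iff] at this
      exact this x (le_thompsonSubgroupAOf hA hx)
  have hle : (A ⊔ Z : Subgroup G) ≤ P := sup_le hAP (hZJ.trans (thompsonSubgroupAOf_le_self P))
  have hcard := hmax _ hle hcomm
  have heq : A = A ⊔ Z := Subgroup.eq_of_le_of_card_ge le_sup_left hcard
  rw [heq]; exact le_sup_right

theorem le_centerThompsonAOf {P B : Subgroup G} (_hBP : B ≤ P)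
    (h : ∀ A ∈ famA P, B ≤ A) : B ≤ Cfsg.centerThompsonAOf P := by
  obtain ⟨A₀, hA₀⟩ := famA_nonempty P
  refine le_inf ((h A₀ hA₀).trans (le_thompsonSubgroupAOf hA₀)) ?_
  intro b hb
  rw [Subgroup.mem_centralizer_iff]
  have hle : Cfsg.thompsonSubgroupAOf P ≤ Subgroup.centralizer {b} := by
    apply thompsonSubgroupAOf_le
    intro A hA x hx
    rw [Subgroup.mem_centralizer_iff]
    intro y hy
    rw [Set.mem_singleton_iff] at hy
    subst hy
    exact comm_of_mem_famA hA _ (h A hA hb) x hx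
  intro x hx
  have := hle hx
  rw [Subgroup.mem_centralizer_iff] at this
  exact (this b rfl).symm

theorem famA_mono {P P₂ A : Subgroup G} (hP₂ : P₂ ≤ P) (hA : A ∈ famA P) (hAP₂ : A ≤ P₂) :
    A ∈ famA P₂ ∧ Cfsg.centerThompsonAOf P ≤ Cfsg.centerThompsonAOf P₂ := by
  obtain ⟨hAP, hAc, hmax⟩ := mem_famA.1 hA
  have hA₂ : A ∈ famA P₂ :=
    mem_famA.2 ⟨hAP₂, hAc, fun A' h1 h2 => hmax A' (h1.trans hP₂) h2⟩
  refine ⟨hA₂, ?_⟩
  have hsub : famA P₂ ⊆ famA P := by
    intro A' hA'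
    obtain ⟨h1, h2, h3⟩ := mem_famA.1 hA'
    refine mem_famA.2 ⟨h1.trans hP₂, h2, fun A'' h4 h5 => ?_⟩
    exact (hmax A'' h4 h5).trans (h3 A hAP₂ hAc)
  have hJ : Cfsg.thompsonSubgroupAOf P₂ ≤ Cfsg.thompsonSubgroupAOf P :=
    thompsonSubgroupAOf_le fun A' hA' => le_thompsonSubgroupAOf (hsub hA')
  refine le_inf ((centerThompsonAOf_le hA).trans (le_thompsonSubgroupAOf hA₂)) ?_
  exact (inf_le_right : Cfsg.centerThompsonAOf P ≤ _).trans (Subgroup.centralizer_le hJ)

theorem famA_map (φ : G ≃* G) {P A : Subgroup G} (hA : A ∈ famA P) :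
    A.map φ.toMonoidHom ∈ famA (P.map φ.toMonoidHom) := by
  obtain ⟨hAP, hAc, hmax⟩ := mem_famA.1 hA
  refine mem_famA.2 ⟨Subgroup.map_mono hAP, Subgroup.map_isMulCommutative A _, ?_⟩
  intro A' hA'P hA'c
  have h1 : A'.map φ.symm.toMonoidHom ≤ P := by
    have := Subgroup.map_mono (f := φ.symm.toMonoidHom) hA'P
    rwa [Subgroup.map_map, show φ.symm.toMonoidHom.comp φ.toMonoidHom = MonoidHom.id G from by
      ext x; simp, Subgroup.map_id] at this
  have h2 := hmax _ h1 (Subgroup.map_isMulCommutative A' _)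
  rw [Subgroup.card_map_of_injective φ.symm.injective] at h2
  rw [Subgroup.card_map_of_injective φ.injective]
  exact h2

theorem thompsonSubgroupAOf_map (φ : G ≃* G) (P : Subgroup G) :
    Cfsg.thompsonSubgroupAOf (P.map φ.toMonoidHom) =
      (Cfsg.thompsonSubgroupAOf P).map φ.toMonoidHom := by
  have key : ∀ (ψ : G ≃* G) (Q : Subgroup G), (Cfsg.thompsonSubgroupAOf Q).map ψ.toMonoidHom ≤
      Cfsg.thompsonSubgroupAOf (Q.map ψ.toMonoidHom) := by
    intro ψ Q
    rw [Subgroup.map_le_iff_le_comap]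
    apply thompsonSubgroupAOf_le
    intro A hA
    rw [← Subgroup.map_le_iff_le_comap]
    exact le_thompsonSubgroupAOf (famA_map ψ hA)
  apply le_antisymm _ (key φ P)
  have h1 := key φ.symm (P.map φ.toMonoidHom)
  have hid : (P.map φ.toMonoidHom).map φ.symm.toMonoidHom = P := by
    rw [Subgroup.map_map, show φ.symm.toMonoidHom.comp φ.toMonoidHom = MonoidHom.id G from by
      ext x; simp, Subgroup.map_id]
  rw [hid] at h1
  have h2 := Subgroup.map_mono (f := φ.toMonoidHom) h1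
  rwa [Subgroup.map_map, show φ.toMonoidHom.comp φ.symm.toMonoidHom = MonoidHom.id G from by
      ext x; simp, Subgroup.map_id] at h2

theorem centerThompsonAOf_map (φ : G ≃* G) (P : Subgroup G) :
    Cfsg.centerThompsonAOf (P.map φ.toMonoidHom) =
      (Cfsg.centerThompsonAOf P).map φ.toMonoidHom := by
  unfold Cfsg.centerThompsonAOf
  rw [thompsonSubgroupAOf_map]
  ext x
  constructor
  · rintro ⟨⟨z, hz, rfl⟩, hx2⟩
    refine ⟨z, Subgroup.mem_inf.2 ⟨hz, ?_⟩, rfl⟩
    have hx2' : φ.toMonoidHom z ∈ Subgroup.centralizer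
        ((Subgroup.map φ.toMonoidHom (thompsonSubgroupAOf P) : Subgroup G) : Set G) := hx2
    rw [Subgroup.mem_centralizer_iff] at hx2' ⊢
    replace hx2 := hx2'
    intro y hy
    have := hx2 (φ y) ⟨y, hy, rfl⟩
    apply φ.injective
    simpa using this
  · rintro ⟨z, hz, rfl⟩
    obtain ⟨hz1, hz2⟩ := Subgroup.mem_inf.1 hz
    refine Subgroup.mem_inf.2 ⟨⟨z, hz1, rfl⟩, ?_⟩
    rw [Subgroup.mem_centralizer_iff] at hz2 ⊢
    rintro _ ⟨y, hy, rfl⟩
    have := hz2 y hy
    simp only [MulEquiv.coe_toMonoidHom, ← map_mul, this]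

end famA

section dataA

variable [Finite G] {p : ℕ} [Fact p.Prime]

/-- The ZJ-data of the abelian subgroups of largest order. -/
def dataA (hp : p ≠ 2) : Data G p where
  𝒜 := famA
  Z := Cfsg.centerThompsonAOf
  Z_le_self P := (inf_le_left : Cfsg.centerThompsonAOf P ≤ _).trans (thompsonSubgroupAOf_le_self P)
  Z_comm P x hx y hy := by
    have h1 : y ∈ Subgroup.centralizer (Cfsg.thompsonSubgroupAOf P : Set G) :=
      (Subgroup.mem_inf.1 hy).2
    rw [Subgroup.mem_centralizer_iff] at h1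
    exact h1 x (Subgroup.mem_inf.1 hx).1
  mem_le hA := (mem_famA.1 hA).1
  mem_comm hA := comm_of_mem_famA hA
  Z_map := centerThompsonAOf_map
  Z_le := centerThompsonAOf_le
  le_Z := le_centerThompsonAOf
  mono := famA_mono
  repl := fun {P} hP B hBP hPB hU =>
    repl_transport P (Cfsg.maxAbelianSubgroups ↥P)
      (fun B₀ _ hU₀ => replacement_maxAbelian_top hP hp B₀ hU₀) B hBP hPB hU

/-- From normality of `Z(P)` to characteristicity, for data compatible with automorphisms. -/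
theorem Z_characteristic (dat : Data G p) (P : Sylow p G)
    (hn : (dat.Z (P : Subgroup G)).Normal) : (dat.Z (P : Subgroup G)).Characteristic := by
  rw [Subgroup.characteristic_iff_map_eq]
  intro φ
  rw [← dat.Z_map]
  have hsurj : Function.Surjective φ.toMonoidHom := φ.surjective
  obtain ⟨g, hg⟩ := MulAction.exists_smul_eq G P (P.mapSurjective hsurj)
  have h1 : (P : Subgroup G).map φ.toMonoidHom = (P : Subgroup G).map (MulAut.conj g).toMonoidHom := by
    have h2 := congrArg (fun Q : Sylow p G => (Q : Subgroup G)) hg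
    simp only [Sylow.coe_mapSurjective] at h2
    rw [← h2]
    rfl
  rw [h1, dat.Z_map]
  have h3 : g ∈ Subgroup.normalizer (dat.Z (P : Subgroup G) : Set G) := by
    rw [Subgroup.normalizer_eq_top]; exact Subgroup.mem_top g
  rw [Subgroup.mem_normalizer_iff_map_conj_eq] at h3
  exact h3

end dataA

end Cfsg.Agent.Helper4.ZJ
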