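import Mathlib
import Cfsg.Agent.Lib.Helper4.ZJAbelian

set_option autoImplicit false

/-! `Z(J(P))` commutes with homomorphisms injective on `P`. -/

namespace Cfsg.Agent.Helper4.ZJ

open Cfsg

variable {G H : Type*} [Group G] [Group H]

theorem card_map_of_injOn (f : G →* H) (A : Subgroup G) (hf : Set.InjOn f A) :
    Nat.card (A.map f) = Nat.card A := by
  have : ((A.map f : Subgroup H) : Set H) = f '' (A : Set G) := Subgroup.coe_map f A
  rw [← SetLike.coe_sort_coe, this, Nat.card_image_of_injOn hf]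
  rfl

theorem comm_of_map_comm (f : G →* H) (P A : Subgroup G) (hf : Set.InjOn f P) (hAP : A ≤ P)
    (hc : IsMulCommutative (A.map f)) : IsMulCommutative A := by
  refine ⟨⟨fun x y => ?_⟩⟩
  apply Subtype.ext
  apply hf (P.mul_mem (hAP x.2) (hAP y.2)) (P.mul_mem (hAP y.2) (hAP x.2))
  have := hc.is_comm.comm ⟨f x, Subgroup.mem_map_of_mem f x.2⟩ ⟨f y, Subgroup.mem_map_of_mem f y.2⟩
  have h2 := congrArg Subtype.val this
  simpa using h2

theorem map_comap_inf (f : G →* H) (P : Subgroup G) (B : Subgroup H) (hB : B ≤ P.map f) :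
    (B.comap f ⊓ P).map f = B := by
  apply le_antisymm
  · rintro _ ⟨x, ⟨hx, _⟩, rfl⟩
    exact hx
  · intro y hy
    obtain ⟨x, hx, rfl⟩ := hB hy
    exact ⟨x, ⟨hy, hx⟩, rfl⟩

variable [Finite G] [Finite H]

theorem famA_map_of_injOn (f : G →* H) (P : Subgroup G) (hf : Set.InjOn f P) {A : Subgroup G}
    (hA : A ∈ famA P) : A.map f ∈ famA (P.map f) := by
  obtain ⟨hAP, hAc, hmax⟩ := mem_famA.1 hA
  refine mem_famA.2 ⟨Subgroup.map_mono hAP, Subgroup.map_isMulCommutative A _, ?_⟩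
  intro B hBP hBc
  have h1 : (B.comap f ⊓ P).map f = B := map_comap_inf f P B hBP
  have h2 : IsMulCommutative (B.comap f ⊓ P : Subgroup G) :=
    comm_of_map_comm f P _ hf inf_le_right (by rw [h1]; exact hBc)
  have h3 := hmax _ inf_le_right h2
  rw [card_map_of_injOn f A (hf.mono hAP), ← h1,
    card_map_of_injOn f _ (hf.mono inf_le_right)]
  exact h3

theorem famA_comap_of_injOn (f : G →* H) (P : Subgroup G) (hf : Set.InjOn f P) {B : Subgroup H}
    (hB : B ∈ famA (P.map f)) : (B.comap f ⊓ P) ∈ famA P := by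
  obtain ⟨hBP, hBc, hmax⟩ := mem_famA.1 hB
  have h1 : (B.comap f ⊓ P).map f = B := map_comap_inf f P B hBP
  refine mem_famA.2 ⟨inf_le_right,
    comm_of_map_comm f P _ hf inf_le_right (by rw [h1]; exact hBc), ?_⟩
  intro A' hA'P hA'c
  have h2 := hmax (A'.map f) (Subgroup.map_mono hA'P) (Subgroup.map_isMulCommutative A' _)
  rw [card_map_of_injOn f A' (hf.mono hA'P), ← h1,
    card_map_of_injOn f _ (hf.mono inf_le_right)] at h2
  exact h2

theorem thompsonSubgroupAOf_map_of_injOn (f : G →* H) (P : Subgroup G) (hf : Set.InjOn f P) :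
    Cfsg.thompsonSubgroupAOf (P.map f) = (Cfsg.thompsonSubgroupAOf P).map f := by
  apply le_antisymm
  · apply thompsonSubgroupAOf_le
    intro B hB
    have h1 : (B.comap f ⊓ P).map f = B := map_comap_inf f P B (mem_famA.1 hB).1
    rw [← h1]
    exact Subgroup.map_mono (le_thompsonSubgroupAOf (famA_comap_of_injOn f P hf hB))
  · rw [Subgroup.map_le_iff_le_comap]
    apply thompsonSubgroupAOf_le
    intro A hA
    rw [← Subgroup.map_le_iff_le_comap]
    exact le_thompsonSubgroupAOf (famA_map_of_injOn f P hf hA)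

theorem centerThompsonAOf_map_of_injOn (f : G →* H) (P : Subgroup G) (hf : Set.InjOn f P) :
    Cfsg.centerThompsonAOf (P.map f) = (Cfsg.centerThompsonAOf P).map f := by
  unfold Cfsg.centerThompsonAOf
  rw [thompsonSubgroupAOf_map_of_injOn f P hf]
  have hJP := thompsonSubgroupAOf_le_self P
  ext y
  constructor
  · rintro ⟨⟨x, hx, rfl⟩, hy2⟩
    refine ⟨x, Subgroup.mem_inf.2 ⟨hx, ?_⟩, rfl⟩
    have hy2' : f x ∈ Subgroup.centralizer
        ((Subgroup.map f (Cfsg.thompsonSubgroupAOf P) : Subgroup H) : Set H) := hy2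
    rw [Subgroup.mem_centralizer_iff] at hy2' ⊢
    intro j hj
    have := hy2' (f j) (Subgroup.mem_map_of_mem f hj)
    apply hf (P.mul_mem (hJP hj) (hJP hx)) (P.mul_mem (hJP hx) (hJP hj))
    simpa using this
  · rintro ⟨x, hx, rfl⟩
    obtain ⟨hx1, hx2⟩ := Subgroup.mem_inf.1 hx
    refine Subgroup.mem_inf.2 ⟨Subgroup.mem_map_of_mem f hx1, ?_⟩
    show f x ∈ Subgroup.centralizer
        ((Subgroup.map f (Cfsg.thompsonSubgroupAOf P) : Subgroup H) : Set H)
    rw [Subgroup.mem_centralizer_iff] at hx2 ⊢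
    rintro _ ⟨j, hj, rfl⟩
    rw [← map_mul, ← map_mul, hx2 j hj]

end Cfsg.Agent.Helper4.ZJ
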