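import Mathlib
import Cfsg.Agent.Lib.Helper4.ZJAbelian
import Cfsg.Agent.Lib.Helper4.ZJMap
import Cfsg.Agent.Lib.Helper4.PPrimeQuot

set_option autoImplicit false

/-! Glauberman's ZJ-theorem in the `IsPConstrained` / `IsPStable` vocabulary. -/

namespace Cfsg.Agent.Helper4.ZJ

open Cfsg
open scoped commutatorElement

variable {H : Type*} [Group H]

theorem cent_transport {H' : Type*} [Group H'] (p : ℕ) [Fact p.Prime] (e : H ≃* H')
    (h : Subgroup.centralizer (pCore p H : Set H) ≤ pCore p H) :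
    Subgroup.centralizer (pCore p H' : Set H') ≤ pCore p H' := by
  intro x hx
  have h1 : e.symm x ∈ Subgroup.centralizer (pCore p H : Set H) := by
    rw [Subgroup.mem_centralizer_iff]
    intro y hy
    have hy' : e y ∈ pCore p H' := by
      rw [← PQ.pCore_map_eq p e]; exact ⟨y, hy, rfl⟩
    have := Subgroup.mem_centralizer_iff.mp hx (e y) hy'
    apply e.injective
    simpa using this
  have h2 := h h1
  rw [← PQ.pCore_map_eq p e]
  exact ⟨e.symm x, h2, by simp⟩

variable [Finite H] {p : ℕ} [Fact p.Prime]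

theorem centralizer_pCore_le_of_isPConstrained (hc : IsPConstrained p H)
    (hK : pPrimeCore p H = ⊥) :
    Subgroup.centralizer (pCore p H : Set H) ≤ pCore p H := by
  rw [Cfsg.Agent.Helper7.isPConstrained_iff_centralizer_le] at hc
  exact cent_transport p
    ((QuotientGroup.quotientMulEquivOfEq hK).trans QuotientGroup.quotientBot) hc

theorem stab_of_isPStable (hs : IsPStable p H) : Stab p H := by
  obtain ⟨-, -, Hs⟩ := hs
  intro V hVn hVp a hak hq
  obtain ⟨k, hk⟩ := hak
  have hN : Subgroup.normalizer (V : Set H) = ⊤ := Subgroup.normalizer_eq_top V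
  have ha : a ∈ Subgroup.normalizer (V : Set H) := by rw [hN]; exact Subgroup.mem_top a
  have hzp : IsPGroup p (Subgroup.zpowers a) := by
    rintro ⟨g, hg⟩
    obtain ⟨n, rfl⟩ := Subgroup.mem_zpowers_iff.mp hg
    refine ⟨k, Subtype.ext ?_⟩
    show (a ^ n) ^ p ^ k = 1
    rw [← zpow_natCast, ← zpow_mul, mul_comm, zpow_mul, zpow_natCast, hk, one_zpow]
  have hres := Hs (Subgroup.zpowers a) V hzp hVp
    (fun b _ x hx => hVn.conj_mem x hx b)
    ((le_sSup ⟨hVn, hVp⟩ : V ≤ pCore p H).trans (PQ.pCore_le_pPrimePCore p H))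
    inferInstance hq
  have h1 := hres ⟨⟨a, ha⟩, Subgroup.mem_zpowers a, rfl⟩
  let ψ : ↥(Subgroup.normalizer (V : Set H)) →* H ⧸ Subgroup.centralizer (V : Set H) :=
    (QuotientGroup.mk' _).comp (Subgroup.normalizer (V : Set H)).subtype
  have hψ : Function.Surjective ψ := by
    intro y
    obtain ⟨x, rfl⟩ := QuotientGroup.mk'_surjective _ y
    exact ⟨⟨x, by rw [hN]; exact Subgroup.mem_top x⟩, rfl⟩
  have hker : ψ.ker = (Subgroup.centralizer (V : Set H)).subgroupOf
      (Subgroup.normalizer (V : Set H)) := by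
    ext ⟨n, hn⟩
    rw [MonoidHom.mem_ker, Subgroup.mem_subgroupOf]
    show QuotientGroup.mk' _ n = 1 ↔ _
    rw [QuotientGroup.mk'_apply, QuotientGroup.eq_one_iff]
  exact (PQ.mk_mem_pCore_iff p ψ hψ _ hker ⟨a, ha⟩).mp h1

/-- **Glauberman's ZJ-theorem** for a `p`-constrained, `p`-stable group with `O_{p'} = 1`. -/
theorem zj_normal_of_pPrimeCore_eq_bot (hp : p ≠ 2) (hc : IsPConstrained p H)
    (hs : IsPStable p H) (hK : pPrimeCore p H = ⊥) (S : Sylow p H) :
    (Cfsg.centerThompsonAOf (S : Subgroup H)).Normal :=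
  Z_normal (dataA hp) S (stab_of_isPStable hs) (centralizer_pCore_le_of_isPConstrained hc hK)

end Cfsg.Agent.Helper4.ZJ
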