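import Mathlib
import Cfsg.Prelude.Def_Transfer
import Cfsg.Agent.Lib.Helper10.Frobenius5
import Cfsg.Agent.Lib.Helper1.QuotientCard

set_option autoImplicit false

/-! Transfer lemmas for `NPC p G` (existence of a normal Hall `p'`-subgroup). -/

namespace Cfsg.Agent.Helper4.NPCB

open Cfsg Cfsg.Agent.Helper10

variable {G G' : Type*} [Group G] [Group G'] {p : ℕ} [hp : Fact p.Prime]

theorem npc_of_surjective [Finite G] (f : G →* G') (hf : Function.Surjective f) (h : NPC p G) :
    NPC p G' := by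
  obtain ⟨N, hN, hc, k, hk⟩ := h
  refine ⟨N.map f, Subgroup.Normal.map hN f hf,
    Nat.Coprime.coprime_dvd_left (Subgroup.card_map_dvd _ _) hc, ?_⟩
  have h1 : (N.map f).index ∣ p ^ k := hk ▸ Subgroup.index_map_dvd N hf
  obtain ⟨j, -, hj⟩ := (Nat.dvd_prime_pow hp.out).mp h1
  exact ⟨j, hj⟩

theorem npc_of_mulEquiv [Finite G] (e : G ≃* G') (h : NPC p G) : NPC p G' :=
  npc_of_surjective e.toMonoidHom e.surjective h

theorem npc_of_injective [Finite G'] (f : G →* G') (hf : Function.Injective f) (h : NPC p G') :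
    NPC p G := by
  have h1 : NPC p ↥f.range := h.subgroup f.range
  exact npc_of_mulEquiv (MonoidHom.ofInjective hf).symm h1

/-- `NPC` passes to smaller subgroups. -/
theorem npc_of_le [Finite G] {L L' : Subgroup G} (hle : L ≤ L') (h : NPC p ↥L') : NPC p ↥L :=
  npc_of_injective (Subgroup.inclusion hle) (Subgroup.inclusion_injective hle) h

theorem npc_top_iff [Finite G] : NPC p ↥(⊤ : Subgroup G) ↔ NPC p G :=
  ⟨npc_of_mulEquiv Subgroup.topEquiv, npc_of_mulEquiv Subgroup.topEquiv.symm⟩

/-- `NPC` is invariant under conjugation of subgroups. -/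
theorem npc_map_conj [Finite G] (L : Subgroup G) (g : G) (h : NPC p ↥L) :
    NPC p ↥(L.map (MulAut.conj g).toMonoidHom) :=
  npc_of_mulEquiv (L.equivMapOfInjective _ (MulAut.conj g).injective) h

/-- A `p`-group has a normal `p`-complement. -/
theorem npc_of_isPGroup [Finite G] (h : IsPGroup p G) : NPC p G := by
  refine ⟨⊥, inferInstance, by simp, ?_⟩
  obtain ⟨k, hk⟩ := IsPGroup.iff_card.mp h
  exact ⟨k, by rw [Subgroup.index_bot, hk]⟩

omit hp in
/-- Lifting through a normal `p'`-subgroup. -/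
theorem npc_of_quotient [Finite G] (K : Subgroup G) [K.Normal] (hK : (Nat.card K).Coprime p)
    (h : NPC p (G ⧸ K)) : NPC p G := by
  obtain ⟨N, hN, hc, k, hk⟩ := h
  refine ⟨N.comap (QuotientGroup.mk' K), Subgroup.Normal.comap hN _, ?_, k, ?_⟩
  · rw [Cfsg.Agent.Helper1.card_comap_mk' K N]
    exact Nat.Coprime.mul_left hK hc
  · rw [Subgroup.index_comap_of_surjective N (QuotientGroup.mk'_surjective K)]
    exact hk

/-- Frobenius: a group all of whose `p`-local subgroups have normal `p`-complements has one. -/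
theorem npc_of_local.{u} {G : Type u} [Group G] [Finite G] {p : ℕ} [Fact p.Prime]
    (h : ∀ Q : Subgroup G, IsPGroup p Q → Q ≠ ⊥ → NPC p ↥(Subgroup.normalizer (Q : Set G))) :
    NPC p G :=
  npc_of_frobCond _ G rfl (frobCond_of_local h)

/-- In a group with a normal `p`-complement, a normal `p`-subgroup commutes with it; so if
`C_G(H) ≤ H` for a normal `p`-subgroup `H`, the group is a `p`-group. -/
theorem isPGroup_of_npc_of_centralizer_le [Finite G] (h : NPC p G) (H : Subgroup G) [H.Normal]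
    (hH : IsPGroup p H) (hc : Subgroup.centralizer (H : Set G) ≤ H) : IsPGroup p G := by
  obtain ⟨N, hN, hcN, k, hk⟩ := h
  have hHN : H ⊓ N = ⊥ := by
    rw [← disjoint_iff]
    apply Subgroup.disjoint_of_coprime_natCard
    obtain ⟨n, hn⟩ := IsPGroup.iff_card.mp hH
    rw [hn]
    exact (Nat.Coprime.pow_right n hcN).symm
  have hNC : N ≤ Subgroup.centralizer (H : Set G) := by
    intro n hn
    rw [Subgroup.mem_centralizer_iff]
    intro x hx
    have h1 : x * n * x⁻¹ * n⁻¹ ∈ H ⊓ N := by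
      refine ⟨?_, N.mul_mem (hN.conj_mem n hn x) (N.inv_mem hn)⟩
      have : x * n * x⁻¹ * n⁻¹ = x * (n * x⁻¹ * n⁻¹) := by group
      rw [this]
      exact H.mul_mem hx (Subgroup.Normal.conj_mem inferInstance _ (H.inv_mem hx) n)
    rw [hHN, Subgroup.mem_bot] at h1
    calc x * n = (x * n * x⁻¹ * n⁻¹) * (n * x) := by group
      _ = n * x := by rw [h1, one_mul]
  have hNb : N = ⊥ := by
    rw [eq_bot_iff, ← hHN]
    exact le_inf (hNC.trans hc) le_rfl
  rw [IsPGroup.iff_card]
  refine ⟨k, ?_⟩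
  rw [← hk, hNb, Subgroup.index_bot]

end Cfsg.Agent.Helper4.NPCB
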