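import Mathlib

set_option autoImplicit false

/-! A `p`-element acting quadratically (`p` odd) on an abelian `p`-group centralizes every abelian
normal `p'`-subgroup of a faithfully acting group. -/

namespace Cfsg.Agent.Helper4.QR

/-- The ring computation. -/
theorem ring_key {E : Type*} [Ring E] {ι : Type*} [Fintype ι] (x : ι → E) (μ : ι → ι)
    (hμb : Function.Bijective μ) (B : E) (hB : (B - 1) ^ 2 = 0)
    (hq : ∀ i, (x i * B - 1) ^ 2 = 0) (hμ : ∀ i, x i * B * (x i * B) = x (μ i) * (B * B)) :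
    (Fintype.card ι : E) = ∑ i, x i := by
  have hBB : B * B = 2 * B - 1 := by
    have : (B - 1) ^ 2 = B * B - 2 * B + 1 := by noncomm_ring
    rw [this] at hB
    have h2 : B * B = B * B - 2 * B + 1 + (2 * B - 1) := by noncomm_ring
    rw [h2, hB, zero_add]
  have h1 : ∀ i, x (μ i) * (B * B) - 2 * (x i * B) + 1 = 0 := by
    intro i
    rw [← hμ i]
    have : (x i * B - 1) ^ 2 = x i * B * (x i * B) - 2 * (x i * B) + 1 := by noncomm_ring
    rw [← this]; exact hq i
  have h2 : ∑ i, (x (μ i) * (B * B) - 2 * (x i * B) + 1) = 0 :=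
    Finset.sum_eq_zero (fun i _ => h1 i)
  rw [Finset.sum_add_distrib, Finset.sum_sub_distrib, ← Finset.sum_mul, ← Finset.mul_sum,
    ← Finset.sum_mul, Finset.sum_const, Finset.card_univ, nsmul_eq_mul, mul_one] at h2
  have h3 : ∑ i, x (μ i) = ∑ i, x i :=
    Fintype.sum_bijective μ hμb _ _ (fun _ => rfl)
  rw [h3, hBB] at h2
  set S := ∑ i, x i with hS
  have h4 : S * (2 * B - 1) - 2 * (S * B) + (Fintype.card ι : E) = (Fintype.card ι : E) - S := by
    noncomm_ring
  rw [h4] at h2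
  exact sub_eq_zero.mp h2

section auto

variable {A : Type*} [CommGroup A]

/-- Coprime action on an abelian group: `[A, φ] ∩ C_A(φ) = 1`. -/
theorem div_eq_one_of_fixed (φ : MulAut A) (n : ℕ) (hφ : φ ^ n = 1)
    (hcop : (Nat.card A).Coprime n) (c : A) (hfix : φ (c / φ c) = c / φ c) : c / φ c = 1 := by
  classical
  let θ : A → A := fun x => ∏ i ∈ Finset.range n, (φ ^ i) x
  have hθφ : ∀ x, θ (φ x) = θ x := by
    intro x
    have h1 : ∏ i ∈ Finset.range (n + 1), (φ ^ i) x =
        (∏ i ∈ Finset.range n, (φ ^ (i + 1)) x) * (φ ^ 0) x := Finset.prod_range_succ' _ n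
    have h2 : ∏ i ∈ Finset.range (n + 1), (φ ^ i) x =
        (∏ i ∈ Finset.range n, (φ ^ i) x) * (φ ^ n) x := Finset.prod_range_succ _ n
    rw [h2, hφ, pow_zero] at h1
    have h3 : ∏ i ∈ Finset.range n, (φ ^ i) x = ∏ i ∈ Finset.range n, (φ ^ (i + 1)) x :=
      mul_right_cancel h1
    show ∏ i ∈ Finset.range n, (φ ^ i) (φ x) = ∏ i ∈ Finset.range n, (φ ^ i) x
    rw [h3]
    refine Finset.prod_congr rfl (fun i _ => ?_)
    rw [pow_succ, MulAut.mul_apply]
  have hθdiv : ∀ x y, θ (x / y) = θ x / θ y := by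
    intro x y
    show ∏ i ∈ Finset.range n, (φ ^ i) (x / y) = _
    simp only [map_div]
    exact Finset.prod_div_distrib (s := Finset.range n) (f := fun i => (φ ^ i) x)
      (g := fun i => (φ ^ i) y)
  set r := c / φ c with hr
  have h1 : θ r = 1 := by rw [hr, hθdiv, hθφ, div_self']
  have hfixi : ∀ i : ℕ, (φ ^ i) r = r := by
    intro i
    induction i with
    | zero => simp
    | succ i ih => rw [pow_succ, MulAut.mul_apply, hfix, ih]
  have h2 : θ r = r ^ n := by
    show ∏ i ∈ Finset.range n, (φ ^ i) r = r ^ n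
    rw [Finset.prod_congr rfl (fun i _ => hfixi i), Finset.prod_const, Finset.card_range]
  rw [h2] at h1
  have h3 : orderOf r ∣ n := orderOf_dvd_of_pow_eq_one h1
  have h4 : orderOf r ∣ Nat.card A := orderOf_dvd_natCard r
  have h5 : orderOf r = 1 := Nat.eq_one_of_dvd_coprimes hcop h4 h3
  exact orderOf_eq_one_iff.mp h5

/-- For `n` odd, `r ↦ r φ(r)` is injective on `[A, φ]`. -/
theorem mul_apply_injOn (φ : MulAut A) (n : ℕ) (hφ : φ ^ n = 1) (hodd : Odd n)
    (hcop : (Nat.card A).Coprime n) (c : A) (h : (c / φ c) * φ (c / φ c) = 1) : c / φ c = 1 := by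
  set r := c / φ c with hr
  have h1 : φ r = r⁻¹ := eq_inv_of_mul_eq_one_right h
  have h2 : φ (φ r) = r := by rw [h1, map_inv, h1, inv_inv]
  obtain ⟨j, hj⟩ := hodd
  have h3 : ∀ i : ℕ, (φ ^ (2 * i)) r = r := by
    intro i
    induction i with
    | zero => simp
    | succ i ih =>
      have : 2 * (i + 1) = 2 * i + 1 + 1 := by ring
      rw [this, pow_succ, pow_succ, MulAut.mul_apply, MulAut.mul_apply, h2, ih]
  have h4 : (φ ^ n) r = r := by rw [hφ]; rfl
  rw [hj, pow_succ, MulAut.mul_apply] at h4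
  have h5 : φ r = r := by
    have h6 := h3 j
    have h7 : (φ ^ (2 * j)) (φ r) = φ ((φ ^ (2 * j)) r) := by
      rw [← MulAut.mul_apply, ← MulAut.mul_apply, ← pow_succ, ← pow_succ']
    rw [h7, h6] at h4
    exact h4
  exact div_eq_one_of_fixed φ n hφ hcop c h5

end auto

/-- The additive endomorphism ring representation of `MulAut W`. -/
def toEnd (W : Type*) [CommGroup W] : MulAut W →* AddMonoid.End (Additive W) where
  toFun f := MonoidHom.toAdditive f.toMonoidHom
  map_one' := by ext; rfl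
  map_mul' f g := by ext; rfl

theorem toEnd_apply {W : Type*} [CommGroup W] (f : MulAut W) (w : W) :
    toEnd W f (Additive.ofMul w) = Additive.ofMul (f w) := rfl

theorem conj_sub_one_sq {E : Type*} [Ring E] (u v B : E) (huv : u * v = 1) (hvu : v * u = 1)
    (hB : (B - 1) ^ 2 = 0) : (u * B * v - 1) ^ 2 = 0 := by
  have h1 : u * B * v - 1 = u * (B - 1) * v := by
    rw [mul_sub, sub_mul, mul_one, huv]
  have h2 : (u * (B - 1) * v) ^ 2 = u * ((B - 1) * (v * u) * (B - 1)) * v := by noncomm_ring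
  rw [h1, h2, hvu, mul_one, ← pow_two, hB, mul_zero, zero_mul]

/-- **Quadratic action centralizes abelian normal `p'`-subgroups** (`p` odd, faithful action on an
abelian `p`-group). -/
theorem commute_of_quadratic {F W : Type*} [Group F] [Finite F] [CommGroup W] [Finite W] {p : ℕ}
    [hpp : Fact p.Prime] (hp : p ≠ 2) (act : F →* MulAut W) (hact : Function.Injective act)
    (hW : IsPGroup p W) (A : Subgroup F) [hAn : A.Normal]
    (hAc : ∀ x ∈ A, ∀ y ∈ A, x * y = y * x) (hAp : (Nat.card A).Coprime p)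
    (b : F) (k : ℕ) (hb : b ^ p ^ k = 1)
    (hquad : ∀ w : W, act b (act b w / w) = act b w / w) :
    ∀ c ∈ A, c * b = b * c := by
  classical
  let _ : CommGroup ↥A :=
    { (inferInstance : Group ↥A) with mul_comm := fun x y => Subtype.ext (hAc x x.2 y y.2) }
  let φ : MulAut ↥A := MulAut.conjNormal b
  have hφ : φ ^ (p ^ k) = 1 := by
    show (MulAut.conjNormal b : MulAut ↥A) ^ (p ^ k) = 1
    rw [← map_pow, hb, map_one]
  have hodd : Odd (p ^ k) := Odd.pow (hpp.out.odd_of_ne_two hp)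
  have hcop : (Nat.card ↥A).Coprime (p ^ k) := Nat.Coprime.pow_right k hAp
  let κ : ↥A →* ↥A := MonoidHom.id ↥A / φ.toMonoidHom
  have hκ : ∀ c : ↥A, κ c = c / φ c := fun c => rfl
  have hκF : ∀ c : ↥A, ((κ c : ↥A) : F) * b = (c : F) * b * (c : F)⁻¹ := by
    intro c
    rw [hκ, div_eq_mul_inv, Subgroup.coe_mul, Subgroup.coe_inv]
    show (c : F) * ((MulAut.conjNormal b c : ↥A) : F)⁻¹ * b = _
    rw [MulAut.conjNormal_apply]
    group
  let μ₀ : ↥A →* ↥A := MonoidHom.id ↥A * φ.toMonoidHom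
  have hμ₀ : ∀ c : ↥A, μ₀ c = c * φ c := fun c => rfl
  have hμκ : ∀ c : ↥A, μ₀ (κ c) = κ (μ₀ c) := by
    intro c
    rw [hμ₀, hκ, hκ, hμ₀, map_div, map_mul]
    rw [div_mul_div_comm]
  let R' : Subgroup ↥A := κ.range
  let μ : ↥R' → ↥R' := fun r => ⟨μ₀ r, by
    obtain ⟨c, hc⟩ := r.2
    exact ⟨μ₀ c, by rw [← hμκ, hc]⟩⟩
  have hμinj : Function.Injective μ := by
    intro r r' h
    have h1 : μ₀ (r : ↥A) = μ₀ (r' : ↥A) := congrArg Subtype.val h
    obtain ⟨c, hc⟩ := r.2
    obtain ⟨c', hc'⟩ := r'.2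
    have h2 : μ₀ (κ (c / c')) = 1 := by
      rw [map_div, map_div, hc, hc', h1, div_self']
    have h3 : κ (c / c') = 1 := by
      rw [hμ₀] at h2
      exact mul_apply_injOn φ (p ^ k) hφ hodd hcop (c / c') h2
    rw [map_div, hc, hc', div_eq_one] at h3
    exact Subtype.ext h3
  have hμb : Function.Bijective μ := Finite.injective_iff_bijective.mp hμinj
  -- the ring
  let ρ : F →* AddMonoid.End (Additive W) := (toEnd W).comp act
  set B := ρ b with hBdef
  have hB : (B - 1) ^ 2 = 0 := by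
    rw [pow_two]
    ext w'
    obtain ⟨w, rfl⟩ := Additive.ofMul.surjective w'
    show (B - 1) ((B - 1) (Additive.ofMul w)) = 0
    have h1 : (B - 1) (Additive.ofMul w) = Additive.ofMul (act b w / w) := rfl
    rw [h1]
    have h2 : (B - 1) (Additive.ofMul (act b w / w)) =
        Additive.ofMul (act b (act b w / w) / (act b w / w)) := rfl
    rw [h2, hquad, div_self']
    rfl
  have hinv : ∀ f : F, ρ f * ρ f⁻¹ = 1 ∧ ρ f⁻¹ * ρ f = 1 := by
    intro f
    constructor
    · rw [← map_mul, mul_inv_cancel, map_one]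
    · rw [← map_mul, inv_mul_cancel, map_one]
  have hq : ∀ r : ↥R', (ρ ((r : ↥A) : F) * B - 1) ^ 2 = 0 := by
    intro r
    obtain ⟨c, hc⟩ := r.2
    have h1 : ρ ((r : ↥A) : F) * B = ρ (c : F) * B * ρ (c : F)⁻¹ := by
      rw [hBdef, ← map_mul, ← map_mul, ← map_mul, ← hc, hκF]
    rw [h1]
    exact conj_sub_one_sq _ _ _ (hinv _).1 (hinv _).2 hB
  have hμE : ∀ r : ↥R', ρ ((r : ↥A) : F) * B * (ρ ((r : ↥A) : F) * B) =
      ρ (((μ r : ↥R') : ↥A) : F) * (B * B) := by
    intro r
    rw [hBdef, ← map_mul, ← map_mul, ← map_mul, ← map_mul]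
    congr 1
    show ((r : ↥A) : F) * b * (((r : ↥A) : F) * b) = ((μ₀ (r : ↥A) : ↥A) : F) * (b * b)
    rw [hμ₀, Subgroup.coe_mul]
    show _ = ((r : ↥A) : F) * ((MulAut.conjNormal b (r : ↥A) : ↥A) : F) * (b * b)
    rw [MulAut.conjNormal_apply]
    group
  let _ : Fintype ↥R' := Fintype.ofFinite _
  have hkey := ring_key (fun r : ↥R' => ρ ((r : ↥A) : F)) μ hμb B hB hq hμE
  -- every element of `R'` acts trivially
  have htriv : ∀ r₀ : ↥R', (r₀ : ↥A) = 1 := by
    intro r₀
    have h1 : ρ ((r₀ : ↥A) : F) * ∑ r : ↥R', ρ ((r : ↥A) : F) = ∑ r : ↥R', ρ ((r : ↥A) : F) := by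
      rw [Finset.mul_sum]
      refine Fintype.sum_bijective (fun r => r₀ * r) (Group.mulLeft_bijective r₀) _ _ ?_
      intro r
      rw [← map_mul]
      rfl
    rw [← hkey] at h1
    have h2 : act ((r₀ : ↥A) : F) = 1 := by
      ext w
      have h3 := congrArg (fun e : AddMonoid.End (Additive W) => e (Additive.ofMul w)) h1
      replace h3 : ρ ((r₀ : ↥A) : F) (Fintype.card ↥R' • Additive.ofMul w) =
          Fintype.card ↥R' • Additive.ofMul w := h3
      have h4 : (act ((r₀ : ↥A) : F) w) ^ Fintype.card ↥R' = w ^ Fintype.card ↥R' := by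
        have h5 : ρ ((r₀ : ↥A) : F) (Fintype.card ↥R' • Additive.ofMul w) =
            Additive.ofMul ((act ((r₀ : ↥A) : F) w) ^ Fintype.card ↥R') := by
          rw [map_nsmul]
          rfl
        rw [h5] at h3
        exact h3
      set y := act ((r₀ : ↥A) : F) w / w with hy
      have h5 : y ^ Fintype.card ↥R' = 1 := by
        rw [hy, div_pow, h4, div_self']
      obtain ⟨j, hj⟩ := hW y
      have h6 : orderOf y ∣ Fintype.card ↥R' := orderOf_dvd_of_pow_eq_one h5
      have h7 : orderOf y ∣ p ^ j := orderOf_dvd_of_pow_eq_one hj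
      have h8 : Fintype.card ↥R' ∣ Nat.card ↥A := by
        rw [← Nat.card_eq_fintype_card]
        exact Subgroup.card_subgroup_dvd_card R'
      have h9 : (Fintype.card ↥R').Coprime (p ^ j) :=
        Nat.Coprime.coprime_dvd_left h8 (Nat.Coprime.pow_right j hAp)
      have h10 : orderOf y = 1 := Nat.eq_one_of_dvd_coprimes h9 h6 h7
      have h11 : y = 1 := orderOf_eq_one_iff.mp h10
      rw [hy, div_eq_one] at h11
      simpa using h11
    have h3 : ((r₀ : ↥A) : F) = 1 := hact (by rw [h2, map_one])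
    exact Subtype.ext h3
  intro c hc
  have h1 := htriv ⟨κ ⟨c, hc⟩, ⟨⟨c, hc⟩, rfl⟩⟩
  have h2 : (⟨c, hc⟩ : ↥A) = φ ⟨c, hc⟩ := by
    have : κ ⟨c, hc⟩ = 1 := h1
    rw [hκ, div_eq_one] at this
    exact this
  have h3 := congrArg Subtype.val h2
  have h4 : ((φ ⟨c, hc⟩ : ↥A) : F) = b * c * b⁻¹ := MulAut.conjNormal_apply b ⟨c, hc⟩
  rw [h4] at h3
  simp only at h3
  calc c * b = (b * c * b⁻¹) * b := by rw [← h3]
    _ = b * c := by group

end Cfsg.Agent.Helper4.QR
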