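import Mathlib
import Cfsg.Agent.S0028
import Cfsg.Agent.Lib.Helper4.QuadRing
import Cfsg.Agent.Lib.Helper4.ZJCore
import Cfsg.Agent.Lib.Helper4.PPrimeQuot

set_option autoImplicit false

/-! `Stab p G` for a group with a normal series `H ≤ M ≤ G`, `H = O_p(G)`, `M/H` an abelian
`p'`-chief factor and `G/M` a `p`-group (`p` odd). -/

namespace Cfsg.Agent.Helper4.QS

open Cfsg
open scoped commutatorElement

/-- The structural hypothesis. -/
structure Struc (p : ℕ) (G : Type*) [Group G] (H M : Subgroup G) : Prop where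
  hHn : H.Normal
  hMn : M.Normal
  hHM : H ≤ M
  hHp : IsPGroup p H
  hHmax : ∀ V : Subgroup G, V.Normal → IsPGroup p V → V ≤ H
  hab : ∀ x ∈ M, ∀ y ∈ M, x * y * x⁻¹ * y⁻¹ ∈ H
  hcop : ∀ m ∈ M, ∃ e : ℕ, e.Coprime p ∧ m ^ e ∈ H
  hchief : ∀ L : Subgroup G, L.Normal → H ≤ L → L ≤ M → L = H ∨ L = M
  hidx : ∃ k : ℕ, M.index = p ^ k

variable {G : Type*} [Group G] {p : ℕ} [hpp : Fact p.Prime] {H M : Subgroup G}

omit hpp in
/-- The structure passes to quotients by normal subgroups inside `H`. -/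
theorem Struc.quotient [Finite G] (st : Struc p G H M) (V₁ : Subgroup G) [V₁.Normal]
    (hV₁ : V₁ ≤ H) :
    Struc p (G ⧸ V₁) (H.map (QuotientGroup.mk' V₁)) (M.map (QuotientGroup.mk' V₁)) := by
  have hsurj := QuotientGroup.mk'_surjective V₁
  have hV₁p : IsPGroup p V₁ := st.hHp.to_le hV₁
  have hcomapH : (H.map (QuotientGroup.mk' V₁)).comap (QuotientGroup.mk' V₁) = H := by
    rw [QuotientGroup.comap_map_mk', sup_eq_right.mpr hV₁]
  have hcomapM : (M.map (QuotientGroup.mk' V₁)).comap (QuotientGroup.mk' V₁) = M := by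
    rw [QuotientGroup.comap_map_mk', sup_eq_right.mpr (hV₁.trans st.hHM)]
  refine ⟨Subgroup.Normal.map st.hHn _ hsurj, Subgroup.Normal.map st.hMn _ hsurj,
    Subgroup.map_mono st.hHM, st.hHp.map _, ?_, ?_, ?_, ?_, ?_⟩
  · intro Vb hVbn hVbp
    have h1 : IsPGroup p (Vb.comap (QuotientGroup.mk' V₁)) := by
      apply IsPGroup.comap_of_ker_isPGroup hVbp
      rw [QuotientGroup.ker_mk']
      exact hV₁p
    have h2 := st.hHmax _ (Subgroup.Normal.comap hVbn _) h1
    rw [← Subgroup.map_comap_eq_self_of_surjective hsurj Vb]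
    exact Subgroup.map_mono h2
  · rintro _ ⟨x, hx, rfl⟩ _ ⟨y, hy, rfl⟩
    exact ⟨x * y * x⁻¹ * y⁻¹, st.hab x hx y hy, by simp⟩
  · rintro _ ⟨m, hm, rfl⟩
    obtain ⟨e, he, hme⟩ := st.hcop m hm
    exact ⟨e, he, ⟨m ^ e, hme, by simp⟩⟩
  · intro L hLn hHL hLM
    have h1 := st.hchief (L.comap (QuotientGroup.mk' V₁)) (Subgroup.Normal.comap hLn _)
      (by rw [← hcomapH]; exact Subgroup.comap_mono hHL)
      (by rw [← hcomapM]; exact Subgroup.comap_mono hLM)
    rcases h1 with h1 | h1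
    · left; rw [← Subgroup.map_comap_eq_self_of_surjective hsurj L, h1]
    · right; rw [← Subgroup.map_comap_eq_self_of_surjective hsurj L, h1]
  · obtain ⟨k, hk⟩ := st.hidx
    refine ⟨k, ?_⟩
    rw [Subgroup.index_map_eq _ hsurj (by rw [QuotientGroup.ker_mk']; exact hV₁.trans st.hHM)]
    exact hk

/-- `C_G(M/H) ≤ M`. -/
theorem Struc.mem_of_centralizes [Finite G] (st : Struc p G H M) (g : G)
    (hg : ∀ m ∈ M, m * g * m⁻¹ * g⁻¹ ∈ H) : g ∈ M := by
  have := st.hHn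
  have := st.hMn
  obtain P : Sylow p G := default
  have hHP : H ≤ P := Cfsg.Agent.Helper23.PSolv.normal_pGroup_le_sylow H st.hHp P
  -- `G = M P`
  have hMP : M ⊔ (P : Subgroup G) = ⊤ := by
    rw [← Subgroup.index_eq_one]
    have h1 : (M ⊔ (P : Subgroup G)).index ∣ M.index := Subgroup.index_dvd_of_le le_sup_left
    have h2 : (M ⊔ (P : Subgroup G)).index ∣ (P : Subgroup G).index :=
      Subgroup.index_dvd_of_le le_sup_right
    obtain ⟨k, hk⟩ := st.hidx
    rw [hk] at h1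
    obtain ⟨j, -, hj⟩ := (Nat.dvd_prime_pow hpp.out).mp h1
    rcases Nat.eq_zero_or_pos j with h0 | hpos
    · rw [hj, h0, pow_zero]
    · exfalso
      apply P.not_dvd_index
      refine dvd_trans ?_ h2
      rw [hj]; exact dvd_pow_self p hpos.ne'
  -- `D = C_G(M/H)`
  let D : Subgroup G :=
    { carrier := {x | ∀ m ∈ M, m * x * m⁻¹ * x⁻¹ ∈ H}
      one_mem' := by intro m _; simp [H.one_mem]
      mul_mem' := by
        intro x y hx hy m hm
        have h1 := hx m hm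
        have h2 := hy m hm
        have h3 : m * (x * y) * m⁻¹ * (x * y)⁻¹ =
            (m * x * m⁻¹ * x⁻¹) * (x * (m * y * m⁻¹ * y⁻¹) * x⁻¹) := by group
        rw [h3]
        exact H.mul_mem h1 (st.hHn.conj_mem _ h2 x)
      inv_mem' := by
        intro x hx m hm
        have h1 := hx m hm
        have h3 : m * x⁻¹ * m⁻¹ * x⁻¹⁻¹ = x⁻¹ * (m * x * m⁻¹ * x⁻¹)⁻¹ * x⁻¹⁻¹ := by group
        rw [h3]
        exact st.hHn.conj_mem _ (H.inv_mem h1) x⁻¹ }
  have hDmem : ∀ x, x ∈ D ↔ ∀ m ∈ M, m * x * m⁻¹ * x⁻¹ ∈ H := fun x => Iff.rfl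
  have hMD : M ≤ D := by
    intro x hx
    rw [hDmem]
    intro m hm
    exact st.hab m hm x hx
  have hDn : D.Normal := by
    constructor
    intro x hx n
    rw [hDmem] at hx ⊢
    intro m hm
    have h1 := hx (n⁻¹ * m * n⁻¹⁻¹) (st.hMn.conj_mem m hm n⁻¹)
    have h2 : m * (n * x * n⁻¹) * m⁻¹ * (n * x * n⁻¹)⁻¹ =
        n * ((n⁻¹ * m * n⁻¹⁻¹) * x * (n⁻¹ * m * n⁻¹⁻¹)⁻¹ * x⁻¹) * n⁻¹ := by group
    rw [h2]
    exact st.hHn.conj_mem _ h1 n
  -- `P₁ = D ∩ P` is normal in `G`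
  have hP₁n : (D ⊓ (P : Subgroup G)).Normal := by
    constructor
    intro x hx n
    have hn : n ∈ M ⊔ (P : Subgroup G) := by rw [hMP]; exact Subgroup.mem_top n
    obtain ⟨m, hm, y, hy, rfl⟩ := Subgroup.mem_sup_of_normal_left.mp hn
    have h1 : y * x * y⁻¹ ∈ D ⊓ (P : Subgroup G) :=
      ⟨hDn.conj_mem x hx.1 y, Subgroup.mul_mem _ (Subgroup.mul_mem _ hy hx.2)
        (Subgroup.inv_mem _ hy)⟩
    have h2 : m * (y * x * y⁻¹) * m⁻¹ * (y * x * y⁻¹)⁻¹ ∈ H := (hDmem _).mp h1.1 m hm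
    have h3 : m * y * x * (m * y)⁻¹ =
        (m * (y * x * y⁻¹) * m⁻¹ * (y * x * y⁻¹)⁻¹) * (y * x * y⁻¹) := by group
    rw [h3]
    exact Subgroup.mul_mem _ ⟨hMD (st.hHM h2), hHP h2⟩ h1
  have hP₁H : D ⊓ (P : Subgroup G) ≤ H :=
    st.hHmax _ hP₁n (P.2.to_le inf_le_right)
  have hgD : g ∈ D := (hDmem g).mpr hg
  have hgt : g ∈ M ⊔ (P : Subgroup G) := by rw [hMP]; exact Subgroup.mem_top g
  obtain ⟨m, hm, y, hy, rfl⟩ := Subgroup.mem_sup_of_normal_left.mp hgt
  have hyD : y ∈ D := by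
    have : y = m⁻¹ * (m * y) := by group
    rw [this]
    exact D.mul_mem (D.inv_mem (hMD hm)) hgD
  exact M.mul_mem hm (st.hHM (hP₁H ⟨hyD, hy⟩))

/-- Base case: `V` a minimal normal subgroup. -/
theorem base [Finite G] (st : Struc p G H M) (hp : p ≠ 2) (V : Subgroup G) [hVn : V.Normal]
    (hVp : IsPGroup p V)
    (hVmin : ∀ V₁ : Subgroup G, V₁.Normal → V₁ ≤ V → V₁ = ⊥ ∨ V₁ = V)
    (a : G) (k : ℕ) (hak : a ^ p ^ k = 1)
    (hq : ⁅⁅V, Subgroup.zpowers a⁆, Subgroup.zpowers a⁆ = ⊥) :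
    (QuotientGroup.mk a : G ⧸ Subgroup.centralizer (V : Set G)) ∈
      pCore p (G ⧸ Subgroup.centralizer (V : Set G)) := by
  have hHn := st.hHn
  have hMn := st.hMn
  set C := Subgroup.centralizer (V : Set G) with hC
  have hmem_of : a ∈ C → (QuotientGroup.mk a : G ⧸ C) ∈ pCore p (G ⧸ C) := by
    intro haC
    have : (QuotientGroup.mk a : G ⧸ C) = 1 := (QuotientGroup.eq_one_iff a).mpr haC
    rw [this]; exact Subgroup.one_mem _
  by_cases hV0 : V = ⊥
  · apply hmem_of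
    rw [hC, hV0, Subgroup.mem_centralizer_iff]
    intro h hh
    have : h = 1 := by simpa using hh
    rw [this]; simp
  -- `V` is abelian
  have hVab : ∀ x ∈ V, ∀ y ∈ V, x * y = y * x := by
    have h1 : ⁅V, V⁆ ≠ V :=
      Cfsg.Agent.S0028.commutator_ne_of_isPGroup p V V hVp hVp Subgroup.le_normalizer hV0
    have h2 : ⁅V, V⁆ = ⊥ := by
      rcases hVmin ⁅V, V⁆ inferInstance (Subgroup.commutator_le_left V V) with h | h
      · exact h
      · exact absurd h h1
    have h3 := Subgroup.commutator_eq_bot_iff_le_centralizer.mp h2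
    intro x hx y hy
    exact (Subgroup.mem_centralizer_iff.mp (h3 hy) x hx)
  -- `H ≤ C`
  have hHC : H ≤ C := by
    have h1 : ⁅V, H⁆ ≠ V :=
      Cfsg.Agent.S0028.commutator_ne_of_isPGroup p H V st.hHp hVp
        (by rw [Subgroup.normalizer_eq_top]; exact le_top) hV0
    have h2 : ⁅V, H⁆ = ⊥ := by
      rcases hVmin ⁅V, H⁆ inferInstance (Subgroup.commutator_le_left V H) with h | h
      · exact h
      · exact absurd h h1
    rw [Subgroup.commutator_comm] at h2
    exact Subgroup.commutator_eq_bot_iff_le_centralizer.mp h2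
  have hCn : C.Normal := inferInstance
  rcases st.hchief (M ⊓ C) inferInstance (le_inf st.hHM hHC) inf_le_left with hL | hL
  swap
  · -- `M ≤ C`: the quotient is a `p`-group
    have hMC : M ≤ C := by rw [← hL]; exact inf_le_right
    have hpg : IsPGroup p (G ⧸ C) := by
      intro x
      obtain ⟨g, rfl⟩ := QuotientGroup.mk_surjective x
      obtain ⟨j, hj⟩ := st.hidx
      refine ⟨j, ?_⟩
      rw [← QuotientGroup.mk_pow, QuotientGroup.eq_one_iff]
      apply hMC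
      rw [← hj]
      exact Subgroup.pow_index_mem M g
    have htop : pCore p (G ⧸ C) = ⊤ := by
      rw [eq_top_iff]
      exact le_sSup ⟨inferInstance, hpg.to_subgroup ⊤⟩
    rw [htop]; exact Subgroup.mem_top _
  -- `M ∩ C = H`
  apply hmem_of
  apply hHC
  let _ : CommGroup ↥V :=
    { (inferInstance : Group ↥V) with mul_comm := fun x y => Subtype.ext (hVab x x.2 y y.2) }
  let act₀ : G →* MulAut ↥V := MulAut.conjNormal
  have hact₀ : ∀ g : G, ∀ v : ↥V, ((act₀ g v : ↥V) : G) = g * v * g⁻¹ :=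
    fun g v => MulAut.conjNormal_apply g v
  have hker : ∀ c ∈ C, act₀ c = 1 := by
    intro c hc
    ext v
    rw [hact₀]
    have := Subgroup.mem_centralizer_iff.mp hc v v.2
    show c * (v : G) * c⁻¹ = v
    rw [← this]; group
  let act : G ⧸ C →* MulAut ↥V := QuotientGroup.lift C act₀ hker
  have hactmk : ∀ g : G, act (QuotientGroup.mk g) = act₀ g := fun g => rfl
  have hact : Function.Injective act := by
    rw [injective_iff_map_eq_one]
    intro x hx
    obtain ⟨g, rfl⟩ := QuotientGroup.mk_surjective x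
    rw [QuotientGroup.eq_one_iff, hC, Subgroup.mem_centralizer_iff]
    intro v hv
    have h1 : act₀ g ⟨v, hv⟩ = ⟨v, hv⟩ := by
      rw [← hactmk, hx]; rfl
    have h2 := congrArg Subtype.val h1
    rw [hact₀] at h2
    simp only at h2
    calc v * g = (g * v * g⁻¹) * g := by rw [h2]
      _ = g * v := by group
  have hW : IsPGroup p ↥V := hVp
  set A : Subgroup (G ⧸ C) := M.map (QuotientGroup.mk' C) with hA
  have hAn : A.Normal := Subgroup.Normal.map hMn _ (QuotientGroup.mk'_surjective C)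
  have hAc : ∀ x ∈ A, ∀ y ∈ A, x * y = y * x := by
    rintro _ ⟨m, hm, rfl⟩ _ ⟨m', hm', rfl⟩
    have h1 : (QuotientGroup.mk' C) (m * m' * m⁻¹ * m'⁻¹) = 1 :=
      (QuotientGroup.eq_one_iff _).mpr (hHC (st.hab m hm m' hm'))
    simp only [map_mul, map_inv] at h1
    calc (QuotientGroup.mk' C) m * (QuotientGroup.mk' C) m'
        = ((QuotientGroup.mk' C) m * (QuotientGroup.mk' C) m' * ((QuotientGroup.mk' C) m)⁻¹ *
            ((QuotientGroup.mk' C) m')⁻¹) * ((QuotientGroup.mk' C) m' * (QuotientGroup.mk' C) m) := by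
          group
      _ = (QuotientGroup.mk' C) m' * (QuotientGroup.mk' C) m := by rw [h1, one_mul]
  have hAp : (Nat.card A).Coprime p := by
    rw [Nat.coprime_comm, Nat.Prime.coprime_iff_not_dvd hpp.out]
    intro hdvd
    obtain ⟨x, hx⟩ := exists_prime_orderOf_dvd_card' (G := ↥A) p hdvd
    obtain ⟨m, hm, hmx⟩ := x.2
    obtain ⟨e, he, hme⟩ := st.hcop m hm
    have h1 : (x : G ⧸ C) ^ e = 1 := by
      rw [← hmx, ← map_pow]
      exact (QuotientGroup.eq_one_iff _).mpr (hHC hme)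
    have h2 : x ^ e = 1 := Subtype.ext (by simpa using h1)
    have h3 : p ∣ e := hx ▸ orderOf_dvd_of_pow_eq_one h2
    have h4 := Nat.Coprime.eq_one_of_dvd he.symm h3
    exact hpp.out.ne_one h4
  have hb : (QuotientGroup.mk a : G ⧸ C) ^ p ^ k = 1 := by
    rw [← QuotientGroup.mk_pow, hak]; rfl
  have hquad : ∀ w : ↥V, act (QuotientGroup.mk a) (act (QuotientGroup.mk a) w / w) =
      act (QuotientGroup.mk a) w / w := by
    intro w
    rw [hactmk]
    set x : ↥V := act₀ a w / w with hx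
    have hxG : (x : G) = a * w * a⁻¹ * (w : G)⁻¹ := by
      rw [hx, div_eq_mul_inv, Subgroup.coe_mul, Subgroup.coe_inv, hact₀]
    have hxmem : (x : G) ∈ ⁅V, Subgroup.zpowers a⁆ := by
      have h1 : ⁅(w : G), a⁆ ∈ ⁅V, Subgroup.zpowers a⁆ :=
        Subgroup.commutator_mem_commutator w.2 (Subgroup.mem_zpowers a)
      have h2 : (x : G) = ⁅(w : G), a⁆⁻¹ := by
        rw [hxG, commutatorElement_def]; group
      rw [h2]
      exact Subgroup.inv_mem _ h1
    have h1 : ⁅(x : G), a⁆ ∈ ⁅⁅V, Subgroup.zpowers a⁆, Subgroup.zpowers a⁆ :=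
      Subgroup.commutator_mem_commutator hxmem (Subgroup.mem_zpowers a)
    rw [hq, Subgroup.mem_bot, commutatorElement_def] at h1
    apply Subtype.ext
    rw [hact₀]
    calc a * (x : G) * a⁻¹ = ((x : G) * a * (x : G)⁻¹ * a⁻¹)⁻¹ * (x : G) := by group
      _ = x := by rw [h1, inv_one, one_mul]
  have hcomm := Cfsg.Agent.Helper4.QR.commute_of_quadratic hp act hact hW A hAc hAp
    (QuotientGroup.mk a) k hb hquad
  have hcent : ∀ m ∈ M, m * a * m⁻¹ * a⁻¹ ∈ H := by
    intro m hm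
    rw [← hL]
    refine ⟨?_, ?_⟩
    · have : m * a * m⁻¹ * a⁻¹ = m * (a * m⁻¹ * a⁻¹) := by group
      rw [this]
      exact M.mul_mem hm (hMn.conj_mem _ (M.inv_mem hm) a)
    · have h1 := hcomm (QuotientGroup.mk' C m) ⟨m, hm, rfl⟩
      show m * a * m⁻¹ * a⁻¹ ∈ C
      rw [← QuotientGroup.eq_one_iff]
      simp only [QuotientGroup.mk_mul, QuotientGroup.mk_inv]
      have h1' : (QuotientGroup.mk m : G ⧸ C) * QuotientGroup.mk a =
          QuotientGroup.mk a * QuotientGroup.mk m := h1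
      rw [h1']; group
  have haM : a ∈ M := st.mem_of_centralizes a hcent
  obtain ⟨e, he, hae⟩ := st.hcop a haM
  have h1 : (QuotientGroup.mk a : G ⧸ H) ^ e = 1 := by
    rw [← QuotientGroup.mk_pow]; exact (QuotientGroup.eq_one_iff _).mpr hae
  have h2 : (QuotientGroup.mk a : G ⧸ H) ^ p ^ k = 1 := by
    rw [← QuotientGroup.mk_pow, hak]; rfl
  have h3 : orderOf (QuotientGroup.mk a : G ⧸ H) = 1 :=
    Nat.eq_one_of_dvd_coprimes (Nat.Coprime.pow_right k he) (orderOf_dvd_of_pow_eq_one h1)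
      (orderOf_dvd_of_pow_eq_one h2)
  exact (QuotientGroup.eq_one_iff a).mp (orderOf_eq_one_iff.mp h3)

omit hpp in
/-- Elements of `p'`-order stabilizing the chain `V ≥ V₁ ≥ 1` centralize `V`. -/
theorem mem_centralizer_of_chain [Finite G] (V V₁ : Subgroup G) (hV₁p : IsPGroup p V₁) (y : G)
    (hy : (orderOf y).Coprime p) (h1 : y ∈ Subgroup.centralizer (V₁ : Set G))
    (h2 : ∀ v ∈ V, y * v * y⁻¹ * v⁻¹ ∈ V₁) : y ∈ Subgroup.centralizer (V : Set G) := by
  rw [Subgroup.mem_centralizer_iff]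
  intro v hv
  set w := y * v * y⁻¹ * v⁻¹ with hw
  have hwV : w ∈ V₁ := h2 v hv
  have hyw : w * y = y * w := Subgroup.mem_centralizer_iff.mp h1 w hwV
  have hywj : ∀ j : ℕ, y * w ^ j * y⁻¹ = w ^ j := by
    intro j
    have : Commute y (w ^ j) := (Commute.pow_right (show Commute y w from hyw.symm) j)
    rw [this.eq]; group
  have key : ∀ j : ℕ, y ^ j * v * (y ^ j)⁻¹ = w ^ j * v := by
    intro j
    induction j with
    | zero => simp
    | succ j ih =>
      calc y ^ (j + 1) * v * (y ^ (j + 1))⁻¹ = y * (y ^ j * v * (y ^ j)⁻¹) * y⁻¹ := by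
            rw [pow_succ']; group
        _ = y * (w ^ j * v) * y⁻¹ := by rw [ih]
        _ = (y * w ^ j * y⁻¹) * (y * v * y⁻¹ * v⁻¹) * v := by group
        _ = w ^ j * w * v := by rw [hywj j]
        _ = w ^ (j + 1) * v := by rw [pow_succ]
  have h3 := key (orderOf y)
  rw [pow_orderOf_eq_one, one_mul, inv_one, mul_one] at h3
  have h4 : w ^ orderOf y = 1 := by
    have : w ^ orderOf y * v = 1 * v := by rw [one_mul]; exact h3.symm
    exact mul_right_cancel this
  obtain ⟨i, hi⟩ := hV₁p ⟨w, hwV⟩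
  have hi' : w ^ p ^ i = 1 := by simpa using congrArg Subtype.val hi
  have h5 : orderOf w = 1 :=
    Nat.eq_one_of_dvd_coprimes (Nat.Coprime.pow_right i hy) (orderOf_dvd_of_pow_eq_one h4)
      (orderOf_dvd_of_pow_eq_one hi')
  have h6 : w = 1 := orderOf_eq_one_iff.mp h5
  calc v * y = (y * v * y⁻¹ * v⁻¹)⁻¹ * (y * v) := by group
    _ = y * v := by rw [← hw, h6, inv_one, one_mul]

theorem eq_one_of_mem_pCore_of_coprime {X : Type*} [Group X] [Finite X] (x : X)
    (hx : x ∈ pCore p X) (m : ℕ) (hm : m.Coprime p) (hxm : x ^ m = 1) : x = 1 := by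
  obtain ⟨j, hj⟩ := (Cfsg.Agent.Helper10.pCore_isPGroup (G := X) p) ⟨x, hx⟩
  have hj' : x ^ p ^ j = 1 := by simpa using congrArg Subtype.val hj
  have h5 : orderOf x = 1 :=
    Nat.eq_one_of_dvd_coprimes (Nat.Coprime.pow_right j hm) (orderOf_dvd_of_pow_eq_one hxm)
      (orderOf_dvd_of_pow_eq_one hj')
  exact orderOf_eq_one_iff.mp h5

/-- The induction step. -/
theorem step [Finite G] (V V₁ : Subgroup G) [V.Normal] [V₁.Normal]
    [hVb : (V.map (QuotientGroup.mk' V₁)).Normal] (hV₁p : IsPGroup p V₁) (a : G)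
    (h1 : (QuotientGroup.mk a : G ⧸ Subgroup.centralizer (V₁ : Set G)) ∈
      pCore p (G ⧸ Subgroup.centralizer (V₁ : Set G)))
    (h2 : (QuotientGroup.mk (QuotientGroup.mk' V₁ a) : (G ⧸ V₁) ⧸ Subgroup.centralizer
        ((V.map (QuotientGroup.mk' V₁) : Subgroup (G ⧸ V₁)) : Set (G ⧸ V₁))) ∈
      pCore p ((G ⧸ V₁) ⧸ Subgroup.centralizer
        ((V.map (QuotientGroup.mk' V₁) : Subgroup (G ⧸ V₁)) : Set (G ⧸ V₁)))) :
    (QuotientGroup.mk a : G ⧸ Subgroup.centralizer (V : Set G)) ∈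
      pCore p (G ⧸ Subgroup.centralizer (V : Set G)) := by
  set C := Subgroup.centralizer (V : Set G) with hC
  set C₁ := Subgroup.centralizer (V₁ : Set G) with hC₁
  set Cb := Subgroup.centralizer
    ((V.map (QuotientGroup.mk' V₁) : Subgroup (G ⧸ V₁)) : Set (G ⧸ V₁)) with hCb
  let T₁ : Subgroup G := (pCore p (G ⧸ C₁)).comap (QuotientGroup.mk' C₁)
  let T₂ : Subgroup G := ((pCore p ((G ⧸ V₁) ⧸ Cb)).comap (QuotientGroup.mk' Cb)).comap
    (QuotientGroup.mk' V₁)
  have hT₁n : T₁.Normal := inferInstance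
  have hT₂n : T₂.Normal := inferInstance
  set D : Subgroup G := T₁ ⊓ T₂ with hD
  have hDn : D.Normal := inferInstance
  have haD : a ∈ D := ⟨h1, h2⟩
  have hpg : IsPGroup p (D.map (QuotientGroup.mk' C)) := by
    rintro ⟨_, ⟨d, hd, rfl⟩⟩
    obtain ⟨k, m, hm, hkm⟩ := Nat.exists_eq_pow_mul_and_not_dvd
      (orderOf_pos d).ne' p hpp.out.one_lt.ne'
    refine ⟨k, Subtype.ext ?_⟩
    show (QuotientGroup.mk' C d) ^ p ^ k = 1
    rw [← map_pow, QuotientGroup.mk'_apply, QuotientGroup.eq_one_iff]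
    set y := d ^ p ^ k with hy
    have hyo : orderOf y = m := by
      rw [hy, orderOf_pow' d (pow_pos hpp.out.pos k).ne', hkm,
        Nat.gcd_eq_right (dvd_mul_right _ _), Nat.mul_div_cancel_left _ (pow_pos hpp.out.pos k)]
    have hmcop : m.Coprime p := (Nat.Coprime.symm ((Nat.Prime.coprime_iff_not_dvd hpp.out).mpr hm))
    have hym : y ^ m = 1 := by rw [← hyo]; exact pow_orderOf_eq_one y
    have hyD : y ∈ D := D.pow_mem hd _
    have hy1 : y ∈ C₁ := by
      rw [← QuotientGroup.eq_one_iff]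
      apply eq_one_of_mem_pCore_of_coprime _ hyD.1 m hmcop
      rw [← map_pow, hym, map_one]
    have hy2 : QuotientGroup.mk' V₁ y ∈ Cb := by
      rw [← QuotientGroup.eq_one_iff]
      apply eq_one_of_mem_pCore_of_coprime _ hyD.2 m hmcop
      rw [← map_pow, ← map_pow, hym, map_one, map_one]
    apply mem_centralizer_of_chain V V₁ hV₁p y (by rw [hyo]; exact hmcop) hy1
    intro v hv
    have h3 := Subgroup.mem_centralizer_iff.mp hy2 (QuotientGroup.mk' V₁ v)
      (Subgroup.mem_map_of_mem _ hv)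
    rw [← QuotientGroup.eq_one_iff, ← QuotientGroup.mk'_apply]
    simp only [map_mul, map_inv]
    rw [← h3]; group
  have hDmn : (D.map (QuotientGroup.mk' C)).Normal :=
    Subgroup.Normal.map hDn _ (QuotientGroup.mk'_surjective C)
  have hle : D.map (QuotientGroup.mk' C) ≤ pCore p (G ⧸ C) := le_sSup ⟨hDmn, hpg⟩
  exact hle ⟨a, haD, rfl⟩

/-- **`p`-stability** of a group with the structure `Struc`. -/
theorem stab_aux.{u} {p : ℕ} [hpp : Fact p.Prime] (hp : p ≠ 2) : ∀ n : ℕ, ∀ (G : Type u) [Group G]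
    [Finite G] (H M : Subgroup G), Struc p G H M → ∀ (V : Subgroup G) [V.Normal], IsPGroup p V →
    Nat.card V = n → ∀ a : G, (∃ k : ℕ, a ^ p ^ k = 1) →
    ⁅⁅V, Subgroup.zpowers a⁆, Subgroup.zpowers a⁆ = ⊥ →
    (QuotientGroup.mk a : G ⧸ Subgroup.centralizer (V : Set G)) ∈
      pCore p (G ⧸ Subgroup.centralizer (V : Set G)) := by
  intro n
  induction n using Nat.strong_induction_on with
  | _ n ih =>
  intro G _ _ H M st V hVn hVp hcard a hak hq
  by_cases hmin : ∀ V₁ : Subgroup G, V₁.Normal → V₁ ≤ V → V₁ = ⊥ ∨ V₁ = V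
  · obtain ⟨k, hk⟩ := hak
    exact base st hp V hVp hmin a k hk hq
  push Not at hmin
  obtain ⟨V₁, hV₁n, hV₁V, hV₁0, hV₁ne⟩ := hmin
  have hV₁p : IsPGroup p V₁ := hVp.to_le hV₁V
  have hV₁H : V₁ ≤ H := st.hHmax V₁ hV₁n hV₁p
  have hsurj := QuotientGroup.mk'_surjective V₁
  -- cardinalities
  have hc1 : Nat.card V₁ < Nat.card V := by
    by_contra h
    push Not at h
    exact hV₁ne (Subgroup.eq_of_le_of_card_ge hV₁V h)
  have hc2 : Nat.card (V.map (QuotientGroup.mk' V₁)) < Nat.card V := by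
    have h1 : (V.map (QuotientGroup.mk' V₁)).comap (QuotientGroup.mk' V₁) = V := by
      rw [QuotientGroup.comap_map_mk', sup_eq_right.mpr hV₁V]
    have h2 := Cfsg.Agent.Helper1.card_comap_mk' V₁ (V.map (QuotientGroup.mk' V₁))
    rw [h1] at h2
    have h3 : 1 < Nat.card V₁ := by
      rw [Subgroup.one_lt_card_iff_ne_bot]; exact hV₁0
    have h4 : 0 < Nat.card (V.map (QuotientGroup.mk' V₁)) := Nat.card_pos
    rw [h2]
    nlinarith
  -- first part
  have hq₁ : ⁅⁅V₁, Subgroup.zpowers a⁆, Subgroup.zpowers a⁆ = ⊥ := by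
    rw [eq_bot_iff, ← hq]
    exact Subgroup.commutator_mono (Subgroup.commutator_mono hV₁V le_rfl) le_rfl
  have r1 := ih (Nat.card V₁) (hcard ▸ hc1) G H M st V₁ hV₁p rfl a hak hq₁
  -- second part
  have hVbn : (V.map (QuotientGroup.mk' V₁)).Normal := Subgroup.Normal.map hVn _ hsurj
  have hq₂ : ⁅⁅V.map (QuotientGroup.mk' V₁), Subgroup.zpowers (QuotientGroup.mk' V₁ a)⁆,
      Subgroup.zpowers (QuotientGroup.mk' V₁ a)⁆ = ⊥ := by
    rw [← MonoidHom.map_zpowers, ← Subgroup.map_commutator, ← Subgroup.map_commutator, hq,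
      Subgroup.map_bot]
  have hak₂ : ∃ k : ℕ, (QuotientGroup.mk' V₁ a) ^ p ^ k = 1 := by
    obtain ⟨k, hk⟩ := hak
    exact ⟨k, by rw [← map_pow, hk, map_one]⟩
  have r2 := ih (Nat.card (V.map (QuotientGroup.mk' V₁))) (hcard ▸ hc2) (G ⧸ V₁) _ _
    (st.quotient V₁ hV₁H) (V.map (QuotientGroup.mk' V₁)) (hVp.map _) rfl
    (QuotientGroup.mk' V₁ a) hak₂ hq₂
  exact step V V₁ hV₁p a r1 r2

theorem stab_of_struc [Finite G] (st : Struc p G H M) (hp : p ≠ 2) :
    Cfsg.Agent.Helper4.ZJ.Stab p G :=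
  fun V _ hVp a ha hq => stab_aux hp _ G H M st V hVp rfl a ha hq

end Cfsg.Agent.Helper4.QS
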