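import Mathlib
import Cfsg.Agent.S0658
import Cfsg.Agent.S0667
import Cfsg.Agent.Lib.Helper4.NPCBasic
import Cfsg.Agent.Lib.Helper4.QuadStab
import Cfsg.Agent.Lib.Helper1.CoprimeSylow

set_option autoImplicit false

/-! The Glauberman--Thompson normal `p`-complement theorem for an abstract characteristic
`p`-functor `W` satisfying a `ZJ`-type theorem. -/

namespace Cfsg.Agent.Helper4.GT

universe u

open Cfsg Cfsg.Agent.Helper10 Cfsg.Agent.Helper4.NPCB
open scoped commutatorElement

/-- A characteristic `p`-functor with a `ZJ`-theorem. -/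
structure CharFun (p : ℕ) where
  W : ∀ (X : Type u) [Group X], Subgroup X → Subgroup X
  le_self : ∀ (X : Type u) [Group X] (R : Subgroup X), W X R ≤ R
  ne_bot : ∀ (X : Type u) [Group X] [Finite X] (R : Subgroup X), IsPGroup p R → R ≠ ⊥ →
    W X R ≠ ⊥
  map : ∀ (X Y : Type u) [Group X] [Group Y] [Finite X] [Finite Y] (f : X →* Y)
    (R : Subgroup X), Set.InjOn f R → W Y (R.map f) = (W X R).map f
  zj : ∀ (X : Type u) [Group X] [Finite X] (P : Sylow p X), Cfsg.Agent.Helper4.ZJ.Stab p X →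
    Subgroup.centralizer (pCore p X : Set X) ≤ pCore p X → (W X (P : Subgroup X)).Normal

variable {p : ℕ} [hpp : Fact p.Prime] (cf : CharFun.{u} p) {G : Type u} [Group G] [Finite G]

omit hpp in
theorem normalizer_le (R : Subgroup G) :
    Subgroup.normalizer (R : Set G) ≤ Subgroup.normalizer (cf.W G R : Set G) := by
  intro n hn
  rw [Subgroup.mem_normalizer_iff_map_conj_eq] at hn ⊢
  have h1 : R.map (MulAut.conj n).toMonoidHom = R := hn
  have h2 := cf.map G G (MulAut.conj n).toMonoidHom R (MulAut.conj n).injective.injOn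
  rw [h1] at h2
  exact h2.symm

omit hpp [Finite G] in
theorem sylow_coe_smul (P : Sylow p G) (g : G) :
    ((g • P : Sylow p G) : Subgroup G) = (P : Subgroup G).map (MulAut.conj g).toMonoidHom := rfl

theorem npc_normalizer_conj (P : Sylow p G)
    (h : NPC p ↥(Subgroup.normalizer (cf.W G (P : Subgroup G) : Set G))) (P' : Sylow p G) :
    NPC p ↥(Subgroup.normalizer (cf.W G (P' : Subgroup G) : Set G)) := by
  obtain ⟨g, hg⟩ := MulAction.exists_smul_eq G P P'
  have h1 : (P' : Subgroup G) = (P : Subgroup G).map (MulAut.conj g).toMonoidHom := by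
    rw [← hg]; rfl
  rw [h1, cf.map G G (MulAut.conj g).toMonoidHom _ (MulAut.conj g).injective.injOn,
    ← Subgroup.map_equiv_normalizer_eq]
  exact npc_map_conj _ g h

/-- the induction hypothesis, for subgroups -/
theorem npc_subgroup_of_ih {n : ℕ}
    (ih : ∀ m < n, ∀ (X : Type u) [Group X] [Finite X], Nat.card X = m → ∀ P : Sylow p X,
      NPC p ↥(Subgroup.normalizer (cf.W X (P : Subgroup X) : Set X)) → NPC p X)
    (L : Subgroup G) (hL : Nat.card L < n) (S : Sylow p ↥L)
    (h : NPC p ↥(Subgroup.normalizer (cf.W G ((S : Subgroup ↥L).map L.subtype) : Set G))) :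
    NPC p ↥L := by
  apply ih _ hL ↥L rfl S
  have hmap : cf.W G ((S : Subgroup ↥L).map L.subtype) = (cf.W ↥L (S : Subgroup ↥L)).map L.subtype :=
    cf.map ↥L G L.subtype _ (Subgroup.subtype_injective L).injOn
  rw [hmap] at h
  let f : ↥(Subgroup.normalizer (cf.W ↥L (S : Subgroup ↥L) : Set ↥L)) →*
      ↥(Subgroup.normalizer (((cf.W ↥L (S : Subgroup ↥L)).map L.subtype : Subgroup G) : Set G)) :=
    (L.subtype.comp (Subgroup.normalizer (cf.W ↥L (S : Subgroup ↥L) : Set ↥L)).subtype).codRestrict _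
      (fun x => Subgroup.le_normalizer_map L.subtype ⟨x, x.2, rfl⟩)
  have hf : Function.Injective f := by
    intro x y hxy
    have := congrArg Subtype.val hxy
    exact Subtype.ext (Subtype.ext this)
  exact npc_of_injective f hf h

/-- a `p`-subgroup of `N(Q)` has order at most `p ^ ν(Q)` -/
theorem card_le_of_le (L X : Subgroup G) (hX : IsPGroup p X) (hXL : X ≤ L) :
    Nat.card X ≤ p ^ (Nat.card L).factorization p := by
  obtain ⟨j, hj⟩ := IsPGroup.iff_card.mp hX
  have h1 : Nat.card X ∣ Nat.card L := Subgroup.card_dvd_of_le hXL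
  rw [hj] at h1 ⊢
  have := (hpp.out.pow_dvd_iff_le_factorization Nat.card_pos.ne').mp h1
  exact Nat.pow_le_pow_right hpp.out.pos this

theorem card_lt_of_ne_top (L : Subgroup G) (hL : L ≠ ⊤) : Nat.card L < Nat.card G := by
  refine lt_of_le_of_ne (Subgroup.card_le_card_group L) ?_
  intro h
  exact hL ((Subgroup.card_eq_iff_eq_top L).mp h)

theorem card_quotient_lt (K : Subgroup G) [K.Normal] (hK : K ≠ ⊥) :
    Nat.card (G ⧸ K) < Nat.card G := by
  have h1 : Nat.card (G ⧸ K) * Nat.card K = Nat.card G := by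
    rw [mul_comm, ← Subgroup.index_eq_card]; exact K.card_mul_index
  have h2 : 1 < Nat.card K := (Subgroup.one_lt_card_iff_ne_bot K).mpr hK
  have h3 : 0 < Nat.card (G ⧸ K) := Nat.card_pos
  nlinarith

/-- `ν(Q)`: the exponent of `p` in `|N_G(Q)|`. -/
noncomputable def nu (p : ℕ) (Q : Subgroup G) : ℕ :=
  (Nat.card ↥(Subgroup.normalizer (Q : Set G))).factorization p

section minimal

variable {n : ℕ} (hcard : Nat.card G = n)
  (ih : ∀ m < n, ∀ (X : Type u) [Group X] [Finite X], Nat.card X = m → ∀ P : Sylow p X,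
      NPC p ↥(Subgroup.normalizer (cf.W X (P : Subgroup X) : Set X)) → NPC p X)
  (hall : ∀ P' : Sylow p G, NPC p ↥(Subgroup.normalizer (cf.W G (P' : Subgroup G) : Set G)))

include hcard ih hall

/-- Step 1: a bad subgroup with `ν` maximal is normal. -/
theorem stepA (H : Subgroup G) (hHp : IsPGroup p H) (hH1 : H ≠ ⊥)
    (hHbad : ¬ NPC p ↥(Subgroup.normalizer (H : Set G)))
    (hmax : ∀ Q : Subgroup G, IsPGroup p Q → Q ≠ ⊥ →
      ¬ NPC p ↥(Subgroup.normalizer (Q : Set G)) → nu p Q ≤ nu p H) :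
    Subgroup.normalizer (H : Set G) = ⊤ := by
  by_contra hne
  set N := Subgroup.normalizer (H : Set G) with hN
  have hNlt : Nat.card N < n := hcard ▸ card_lt_of_ne_top N hne
  obtain R : Sylow p ↥N := default
  set RG : Subgroup G := (R : Subgroup ↥N).map N.subtype with hRG
  have hRGp : IsPGroup p RG := R.isPGroup'.map _
  have hbad2 : ¬ NPC p ↥(Subgroup.normalizer (cf.W G RG : Set G)) :=
    fun h => hHbad (npc_subgroup_of_ih cf ih N hNlt R h)
  have hHR : H ≤ RG := by
    have : (H.subgroupOf N).Normal := Subgroup.normal_in_normalizer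
    have h1 := Cfsg.Agent.Helper23.PSolv.normal_pGroup_le_sylow (H.subgroupOf N)
      hHp.comap_subtype R
    intro x hx
    exact ⟨⟨x, Subgroup.le_normalizer hx⟩, h1 (Subgroup.mem_subgroupOf.mpr hx), rfl⟩
  have hRG1 : RG ≠ ⊥ := fun h => hH1 (eq_bot_iff.mpr (h ▸ hHR))
  have hW1 : cf.W G RG ≠ ⊥ := cf.ne_bot G RG hRGp hRG1
  have hWp : IsPGroup p (cf.W G RG) := hRGp.to_le (cf.le_self G RG)
  have hν := hmax _ hWp hW1 hbad2
  have hcardR : Nat.card RG = p ^ nu p H := by
    rw [hRG, Subgroup.card_map_of_injective (Subgroup.subtype_injective _),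
      R.card_eq_multiplicity]
    rfl
  obtain ⟨P₁, hP₁⟩ := hRGp.exists_le_sylow
  by_cases hle : (P₁ : Subgroup G) ≤ RG
  · have heq : RG = P₁ := le_antisymm hP₁ hle
    rw [heq] at hbad2
    exact hbad2 (hall P₁)
  · obtain ⟨x, hxP, hxN, hxR⟩ :=
      Cfsg.Agent.S0658.exists_normalizer_growth (P₁ : Subgroup G) RG P₁.2 hP₁ hle
    set X : Subgroup G := (P₁ : Subgroup G) ⊓ Subgroup.normalizer (RG : Set G) with hX
    have hXp : IsPGroup p X := P₁.2.to_le inf_le_left
    have hlt : Nat.card RG < Nat.card X :=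
      Cfsg.Agent.S0658.card_lt_of_lt (le_inf hP₁ Subgroup.le_normalizer)
        (Subgroup.mem_inf.2 ⟨hxP, hxN⟩) hxR
    have hXN : X ≤ Subgroup.normalizer (cf.W G RG : Set G) :=
      inf_le_right.trans (normalizer_le cf RG)
    have h1 := card_le_of_le (Subgroup.normalizer (cf.W G RG : Set G)) X hXp hXN
    have h2 : p ^ nu p (cf.W G RG) ≤ p ^ nu p H := Nat.pow_le_pow_right hpp.out.pos hν
    have h1' : Nat.card X ≤ p ^ nu p (cf.W G RG) := h1
    omega

omit hall in
/-- Step 3: the quotient by `O_p(G)` has a normal `p`-complement. -/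
theorem stepB (P : Sylow p G) (hO1 : pCore p G ≠ ⊥) (hPO : ¬ (P : Subgroup G) ≤ pCore p G)
    (hb : ∀ Q : Subgroup G, IsPGroup p Q → (P : Subgroup G) ≤ Subgroup.normalizer (Q : Set G) →
      Nat.card (pCore p G) < Nat.card Q → NPC p ↥(Subgroup.normalizer (Q : Set G))) :
    NPC p (G ⧸ pCore p G) := by
  set O := pCore p G with hO
  have hsurj := QuotientGroup.mk'_surjective O
  have hlt : Nat.card (G ⧸ O) < n := hcard ▸ card_quotient_lt O hO1
  set Pb : Sylow p (G ⧸ O) := P.mapSurjective hsurj with hPb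
  have hPbcoe : (Pb : Subgroup (G ⧸ O)) = (P : Subgroup G).map (QuotientGroup.mk' O) :=
    Sylow.coe_mapSurjective hsurj P
  apply ih _ hlt (G ⧸ O) rfl Pb
  set Wb := cf.W (G ⧸ O) (Pb : Subgroup (G ⧸ O)) with hWb
  have hOP : O ≤ P := Cfsg.Agent.Helper23.PSolv.pCore_le_sylow P
  have hPb1 : (Pb : Subgroup (G ⧸ O)) ≠ ⊥ := by
    intro h
    rw [hPbcoe, Subgroup.map_eq_bot_iff, QuotientGroup.ker_mk'] at h
    exact hPO h
  have hWb1 : Wb ≠ ⊥ := cf.ne_bot _ _ Pb.2 hPb1
  have hWbP : Wb ≤ Pb := cf.le_self _ _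
  set H₁ : Subgroup G := Wb.comap (QuotientGroup.mk' O) with hH₁
  have hOH₁ : O ≤ H₁ := by
    intro x hx
    rw [hH₁, Subgroup.mem_comap]
    have : QuotientGroup.mk' O x = 1 := (QuotientGroup.eq_one_iff x).mpr hx
    rw [this]; exact Subgroup.one_mem _
  have hH₁P : H₁ ≤ P := by
    have h1 : H₁ ≤ ((P : Subgroup G).map (QuotientGroup.mk' O)).comap (QuotientGroup.mk' O) :=
      Subgroup.comap_mono (hPbcoe ▸ hWbP)
    rwa [QuotientGroup.comap_map_mk', sup_eq_right.mpr hOP] at h1
  have hH₁p : IsPGroup p H₁ := P.2.to_le hH₁P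
  have hcardlt : Nat.card O < Nat.card H₁ := by
    obtain ⟨⟨w, hw⟩, hw1⟩ := (Subgroup.ne_bot_iff_exists_ne_one (H := Wb)).mp hWb1
    obtain ⟨x, rfl⟩ := hsurj w
    refine Cfsg.Agent.S0658.card_lt_of_lt hOH₁ (x := x) hw ?_
    intro hxO
    apply hw1
    apply Subtype.ext
    exact (QuotientGroup.eq_one_iff x).mpr hxO
  have hPN : (P : Subgroup G) ≤ Subgroup.normalizer (H₁ : Set G) := by
    rw [hH₁, ← Subgroup.comap_normalizer_eq_of_surjective Wb hsurj]
    intro x hx
    rw [Subgroup.mem_comap]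
    apply normalizer_le cf (Pb : Subgroup (G ⧸ O))
    apply Subgroup.le_normalizer
    rw [hPbcoe]
    exact Subgroup.mem_map_of_mem _ hx
  have hnpc := hb H₁ hH₁p hPN hcardlt
  have hNeq : Subgroup.normalizer (Wb : Set (G ⧸ O)) =
      (Subgroup.normalizer (H₁ : Set G)).map (QuotientGroup.mk' O) := by
    rw [hH₁, ← Subgroup.comap_normalizer_eq_of_surjective Wb hsurj,
      Subgroup.map_comap_eq_self_of_surjective hsurj]
  rw [hNeq]
  exact npc_of_surjective ((QuotientGroup.mk' O).subgroupMap _)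
    ((QuotientGroup.mk' O).subgroupMap_surjective _) hnpc

/-- Step 4: `O_{p'}(G) = 1`. -/
theorem stepC (P : Sylow p G) (hnot : ¬ NPC p G) : pPrimeCore p G = ⊥ := by
  by_contra hK
  have hKc : (Nat.card (pPrimeCore p G)).Coprime p :=
    Cfsg.Agent.Helper22.card_pPrimeCore_coprime p
  have hlt : Nat.card (G ⧸ pPrimeCore p G) < n := hcard ▸ card_quotient_lt _ hK
  have hsurj := QuotientGroup.mk'_surjective (pPrimeCore p G)
  apply hnot
  apply npc_of_quotient (pPrimeCore p G) hKc
  apply ih _ hlt (G ⧸ pPrimeCore p G) rfl (P.mapSurjective hsurj)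
  rw [Sylow.coe_mapSurjective, cf.map G (G ⧸ pPrimeCore p G) (QuotientGroup.mk' (pPrimeCore p G))
    (P : Subgroup G) (Cfsg.Agent.S0667.injOn_mk' P.2 hKc)]
  have hWp : IsPGroup p (cf.W G (P : Subgroup G)) := P.2.to_le (cf.le_self G _)
  rw [Cfsg.Agent.Helper7.normalizer_map_mk'_eq hWp hKc]
  exact npc_of_surjective ((QuotientGroup.mk' (pPrimeCore p G)).subgroupMap _)
    ((QuotientGroup.mk' (pPrimeCore p G)).subgroupMap_surjective _) (hall P)

/-- Step 6a: `P` is a maximal subgroup of `G`. -/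
theorem stepE (P : Sylow p G)
    (hcent : Subgroup.centralizer (pCore p G : Set G) ≤ pCore p G) (L : Subgroup G)
    (hPL : (P : Subgroup G) ≤ L) (hL : L ≠ ⊤) : L ≤ P := by
  have hLlt : Nat.card L < n := hcard ▸ card_lt_of_ne_top L hL
  set S : Sylow p ↥L := P.subtype hPL with hS
  have hSmap : (S : Subgroup ↥L).map L.subtype = P := by
    rw [hS, Sylow.coe_subtype, Subgroup.map_subgroupOf_eq_of_le hPL]
  have hnpc : NPC p ↥L := npc_subgroup_of_ih cf ih L hLlt S (by rw [hSmap]; exact hall P)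
  have hOP : pCore p G ≤ P := Cfsg.Agent.Helper23.PSolv.pCore_le_sylow P
  have hOn : ((pCore p G).subgroupOf L).Normal :=
    Subgroup.Normal.subgroupOf inferInstance L
  have hpg : IsPGroup p ↥L :=
    isPGroup_of_npc_of_centralizer_le hnpc ((pCore p G).subgroupOf L)
      ((Cfsg.Agent.Helper10.pCore_isPGroup p).comap_subtype) (by
        intro x hx
        rw [Subgroup.mem_subgroupOf]
        apply hcent
        rw [Subgroup.mem_centralizer_iff] at hx ⊢
        intro o ho
        have := hx ⟨o, hPL (hOP ho)⟩ (Subgroup.mem_subgroupOf.mpr ho)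
        exact congrArg Subtype.val this)
  exact (P.is_maximal' (Q := L) hpg hPL).le

end minimal

/-- Step 5: `C_G(O_p(G)) ≤ O_p(G)`. -/
theorem stepD (hK : pPrimeCore p G = ⊥) (Nb : Subgroup (G ⧸ pCore p G)) (hNbn : Nb.Normal)
    (hNbc : (Nat.card Nb).Coprime p) (k : ℕ) (hk : Nb.index = p ^ k) :
    Subgroup.centralizer (pCore p G : Set G) ≤ pCore p G := by
  set O := pCore p G with hO
  have hsurj := QuotientGroup.mk'_surjective O
  set M : Subgroup G := Nb.comap (QuotientGroup.mk' O) with hM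
  have hMn : M.Normal := Subgroup.Normal.comap hNbn _
  have hOM : O ≤ M := by
    intro x hx
    rw [hM, Subgroup.mem_comap]
    have : QuotientGroup.mk' O x = 1 := (QuotientGroup.eq_one_iff x).mpr hx
    rw [this]; exact Subgroup.one_mem _
  have hidx : M.index = p ^ k := by
    rw [hM, Subgroup.index_comap_of_surjective Nb hsurj]; exact hk
  have hrel : O.relIndex M = Nat.card Nb := by
    have h1 := Subgroup.relIndex_ker (QuotientGroup.mk' O) (K := M)
    rw [QuotientGroup.ker_mk', hM, Subgroup.map_comap_eq_self_of_surjective hsurj] at h1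
    exact h1
  have s1 := Cfsg.Agent.Helper23.PSolv.centralizer_pCore_step hK O M hOM
    (Or.inr (hrel ▸ hNbc)) inf_le_left
  have s2 := Cfsg.Agent.Helper23.PSolv.centralizer_pCore_step hK M ⊤ le_top
    (Or.inl ⟨k, by rw [Subgroup.relIndex_top_right]; exact hidx⟩) s1
  rwa [top_inf_eq] at s2

/-- Step 6: the structure of the minimal counterexample. -/
theorem stepF (hnot : ¬ NPC p G) (P : Sylow p G)
    (hE : ∀ L : Subgroup G, (P : Subgroup G) ≤ L → L ≠ ⊤ → L ≤ P)
    (Nb : Subgroup (G ⧸ pCore p G)) (hNbn : Nb.Normal) (hNbc : (Nat.card Nb).Coprime p) (k : ℕ)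
    (hk : Nb.index = p ^ k) :
    Cfsg.Agent.Helper4.QS.Struc p G (pCore p G) (Nb.comap (QuotientGroup.mk' (pCore p G))) := by
  set O := pCore p G with hO
  have hOn : O.Normal := inferInstance
  have hOp : IsPGroup p O := Cfsg.Agent.Helper10.pCore_isPGroup p
  have hsurj := QuotientGroup.mk'_surjective O
  set M : Subgroup G := Nb.comap (QuotientGroup.mk' O) with hM
  have hMn : M.Normal := Subgroup.Normal.comap hNbn _
  have hOM : O ≤ M := by
    intro x hx
    rw [hM, Subgroup.mem_comap]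
    have : QuotientGroup.mk' O x = 1 := (QuotientGroup.eq_one_iff x).mpr hx
    rw [this]; exact Subgroup.one_mem _
  have hidx : M.index = p ^ k := by
    rw [hM, Subgroup.index_comap_of_surjective Nb hsurj]; exact hk
  have hMmap : M.map (QuotientGroup.mk' O) = Nb :=
    Subgroup.map_comap_eq_self_of_surjective hsurj Nb
  have hOP : O ≤ P := Cfsg.Agent.Helper23.PSolv.pCore_le_sylow P
  have hcop : ∀ m ∈ M, ∃ e : ℕ, e.Coprime p ∧ m ^ e ∈ O := by
    intro m hm
    refine ⟨Nat.card Nb, hNbc, ?_⟩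
    have h1 : (⟨QuotientGroup.mk' O m, hm⟩ : ↥Nb) ^ Nat.card ↥Nb = 1 := pow_card_eq_one'
    have h2 := congrArg Subtype.val h1
    simp only [Subgroup.coe_pow, Subgroup.coe_one] at h2
    rw [← map_pow] at h2
    exact (QuotientGroup.eq_one_iff _).mp h2
  -- `P ∩ M = O`
  have hPM : (P : Subgroup G) ⊓ M ≤ O := by
    rintro x ⟨hxP, hxM⟩
    obtain ⟨e, he, hxe⟩ := hcop x hxM
    obtain ⟨j, hj⟩ := P.2 ⟨x, hxP⟩
    have hj' : x ^ p ^ j = 1 := by simpa using congrArg Subtype.val hj
    have h1 : (QuotientGroup.mk x : G ⧸ O) ^ e = 1 := by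
      rw [← QuotientGroup.mk_pow]; exact (QuotientGroup.eq_one_iff _).mpr hxe
    have h2 : (QuotientGroup.mk x : G ⧸ O) ^ p ^ j = 1 := by
      rw [← QuotientGroup.mk_pow, hj']; rfl
    have h3 : orderOf (QuotientGroup.mk x : G ⧸ O) = 1 :=
      Nat.eq_one_of_dvd_coprimes (Nat.Coprime.pow_right j he) (orderOf_dvd_of_pow_eq_one h1)
        (orderOf_dvd_of_pow_eq_one h2)
    exact (QuotientGroup.eq_one_iff x).mp (orderOf_eq_one_iff.mp h3)
  -- the key dichotomy for `P`-invariant subgroups between `O` and `M`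
  have key : ∀ L : Subgroup G, O ≤ L → L ≤ M →
      (P : Subgroup G) ≤ Subgroup.normalizer (L : Set G) → L = O ∨ L = M := by
    intro L hOL hLM hPN
    by_cases h : L ⊔ (P : Subgroup G) = ⊤
    · right
      apply le_antisymm hLM
      intro m hm
      have h1 : m ∈ ((L ⊔ (P : Subgroup G) : Subgroup G) : Set G) := by
        rw [h]; exact Set.mem_univ m
      rw [Subgroup.coe_mul_of_right_le_normalizer_left L (P : Subgroup G) hPN] at h1
      obtain ⟨l, hl, x, hx, rfl⟩ := Set.mem_mul.mp h1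
      have hxM : x ∈ M := by
        have : x = l⁻¹ * (l * x) := by group
        rw [this]
        exact M.mul_mem (M.inv_mem (hLM hl)) hm
      exact L.mul_mem hl (hOL (hPM ⟨hx, hxM⟩))
    · left
      have h1 := hE (L ⊔ (P : Subgroup G)) le_sup_right h
      have h2 : L ≤ P := le_sup_left.trans h1
      exact le_antisymm ((le_inf h2 hLM).trans hPM) hOL
  -- `Nb ≠ ⊥`
  have hNb1 : Nb ≠ ⊥ := by
    intro h
    apply hnot
    apply npc_of_isPGroup
    have h1 : IsPGroup p (G ⧸ O) := by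
      rw [IsPGroup.iff_card]
      refine ⟨k, ?_⟩
      rw [← hk, h, Subgroup.index_bot]
    exact (IsPGroup.comap_of_ker_isPGroup (h1.to_subgroup ⊤) (QuotientGroup.mk' O)
      (by rw [QuotientGroup.ker_mk']; exact hOp)).of_equiv
        (by rw [Subgroup.comap_top]; exact Subgroup.topEquiv)
  -- an invariant Sylow subgroup of `Nb`
  have hcardNb : 1 < Nat.card Nb := (Subgroup.one_lt_card_iff_ne_bot Nb).mpr hNb1
  set q := (Nat.card Nb).minFac with hq
  have hqp : q.Prime := Nat.minFac_prime hcardNb.ne'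
  have : Fact q.Prime := ⟨hqp⟩
  have hqd : q ∣ Nat.card Nb := Nat.minFac_dvd _
  set Pb : Subgroup (G ⧸ O) := (P : Subgroup G).map (QuotientGroup.mk' O) with hPb
  have hPbp : IsPGroup p Pb := P.2.map _
  have hPbN : Pb ≤ Subgroup.normalizer (Nb : Set (G ⧸ O)) := by
    rw [Subgroup.normalizer_eq_top]; exact le_top
  have hcopPN : (Nat.card Pb).Coprime (Nat.card Nb) := by
    obtain ⟨j, hj⟩ := IsPGroup.iff_card.mp hPbp
    rw [hj]
    exact (Nat.Coprime.pow_right j hNbc).symm
  have hsolvP : Group.IsSolvable ↥Pb := by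
    have : Group.IsNilpotent ↥Pb := hPbp.isNilpotent
    infer_instance
  obtain ⟨Qb, hQb⟩ := Cfsg.Agent.Helper1.exists_invariant_sylow (p := q) (K := Nb) Pb hPbN
    hcopPN (Or.inl hsolvP)
  set Qb' : Subgroup (G ⧸ O) := (Qb : Subgroup ↥Nb).map Nb.subtype with hQb'
  have hQb'N : Qb' ≤ Nb := Subgroup.map_subtype_le _
  have hcomapO : ∀ T : Subgroup (G ⧸ O), O ≤ T.comap (QuotientGroup.mk' O) := by
    intro T x hx
    rw [Subgroup.mem_comap]
    have : QuotientGroup.mk' O x = 1 := (QuotientGroup.eq_one_iff x).mpr hx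
    rw [this]; exact Subgroup.one_mem _
  have hmapO : O.map (QuotientGroup.mk' O) = ⊥ := by
    rw [Subgroup.map_eq_bot_iff, QuotientGroup.ker_mk']
  have hPNL : (P : Subgroup G) ≤ Subgroup.normalizer
      ((Qb'.comap (QuotientGroup.mk' O) : Subgroup G) : Set G) := by
    rw [← Subgroup.comap_normalizer_eq_of_surjective Qb' hsurj]
    intro x hx
    rw [Subgroup.mem_comap]
    exact hQb (Subgroup.mem_map_of_mem _ hx)
  have hNbq : IsPGroup q ↥Nb := by
    rcases key (Qb'.comap (QuotientGroup.mk' O)) (hcomapO _) (Subgroup.comap_mono hQb'N) hPNL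
      with h | h
    · exfalso
      have h1 : Qb' = ⊥ := by
        rw [← Subgroup.map_comap_eq_self_of_surjective hsurj Qb', h, hmapO]
      rw [hQb', Subgroup.map_eq_bot_iff_of_injective _ (Subgroup.subtype_injective _)] at h1
      exact Qb.ne_bot_of_dvd_card hqd h1
    · have h1 : Qb' = Nb := by
        rw [← Subgroup.map_comap_eq_self_of_surjective hsurj Qb', h, hMmap]
      have h2 : (Qb : Subgroup ↥Nb) = ⊤ := by
        apply Subgroup.map_injective (Subgroup.subtype_injective Nb)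
        rw [← hQb', h1, ← MonoidHom.range_eq_map, Subgroup.range_subtype]
      have h3 : IsPGroup q ↥(Qb : Subgroup ↥Nb) := Qb.isPGroup'
      rw [h2] at h3
      exact h3.of_equiv Subgroup.topEquiv
  have hsolvN : Group.IsSolvable ↥Nb := by
    have : Group.IsNilpotent ↥Nb := hNbq.isNilpotent
    infer_instance
  have : Nontrivial ↥Nb := (Subgroup.nontrivial_iff_ne_bot Nb).mpr hNb1
  have hcomm : ⁅Nb, Nb⁆ = ⊥ := by
    have hcn : (⁅Nb, Nb⁆).Normal := inferInstance
    rcases key ((⁅Nb, Nb⁆).comap (QuotientGroup.mk' O)) (hcomapO _)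
      (Subgroup.comap_mono (Subgroup.commutator_le_self Nb))
      (by rw [Subgroup.normalizer_eq_top]; exact le_top) with h | h
    · rw [← Subgroup.map_comap_eq_self_of_surjective hsurj ⁅Nb, Nb⁆, h, hmapO]
    · exfalso
      have h1 : ⁅Nb, Nb⁆ = Nb := by
        rw [← Subgroup.map_comap_eq_self_of_surjective hsurj ⁅Nb, Nb⁆, h, hMmap]
      have h2 := Group.IsSolvable.commutator_lt_top_of_nontrivial ↥Nb
      apply h2.ne
      apply Subgroup.map_injective (Subgroup.subtype_injective Nb)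
      rw [Subgroup.map_subtype_commutator, h1, ← MonoidHom.range_eq_map, Subgroup.range_subtype]
  refine ⟨hOn, hMn, hOM, hOp, fun V hVn hVp => le_sSup ⟨hVn, hVp⟩, ?_, hcop, ?_, ⟨k, hidx⟩⟩
  · intro x hx y hy
    rw [← QuotientGroup.eq_one_iff, ← QuotientGroup.mk'_apply]
    have h1 : ⁅QuotientGroup.mk' O x, QuotientGroup.mk' O y⁆ ∈ ⁅Nb, Nb⁆ :=
      Subgroup.commutator_mem_commutator hx hy
    rw [hcomm, Subgroup.mem_bot, commutatorElement_def] at h1
    simpa using h1
  · intro L hLn hOL hLM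
    exact key L hOL hLM (by rw [Subgroup.normalizer_eq_top]; exact le_top)

/-- **Glauberman--Thompson**, abstract form. -/
theorem gt_aux (hp : p ≠ 2) : ∀ n : ℕ, ∀ (G : Type u) [Group G] [Finite G], Nat.card G = n →
    ∀ P : Sylow p G, NPC p ↥(Subgroup.normalizer (cf.W G (P : Subgroup G) : Set G)) →
    NPC p G := by
  intro n
  induction n using Nat.strong_induction_on with
  | _ n ih =>
  intro G _ _ hcard P hP
  by_contra hnot
  have hall := npc_normalizer_conj cf P hP
  -- the bad subgroups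
  let Bad : Subgroup G → Prop := fun Q =>
    IsPGroup p Q ∧ Q ≠ ⊥ ∧ ¬ NPC p ↥(Subgroup.normalizer (Q : Set G))
  have hne : ∃ Q, Bad Q := by
    by_contra h
    push Not at h
    apply hnot
    apply npc_of_local
    intro Q hQ hQ1
    by_contra hb
    exact h Q ⟨hQ, hQ1, hb⟩
  let f : Subgroup G → ℕ := fun Q => nu p Q * (Nat.card G + 1) + Nat.card Q
  obtain ⟨H, hHbad, hHmax⟩ := Set.exists_max_image {Q | Bad Q} f (Set.toFinite _) hne
  have hcardle : ∀ Q : Subgroup G, Nat.card Q ≤ Nat.card G := fun Q =>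
    Subgroup.card_le_card_group Q
  have hmax1 : ∀ Q, Bad Q → nu p Q ≤ nu p H := by
    intro Q hQ
    by_contra hlt
    push Not at hlt
    have h1 : f Q ≤ f H := hHmax Q hQ
    have h2 : (nu p H + 1) * (Nat.card G + 1) ≤ nu p Q * (Nat.card G + 1) :=
      Nat.mul_le_mul_right _ hlt
    have h3 := hcardle H
    simp only [f] at h1
    rw [add_mul, one_mul] at h2
    omega
  have hmax2 : ∀ Q, Bad Q → nu p Q = nu p H → Nat.card Q ≤ Nat.card H := by
    intro Q hQ heq
    have h1 : f Q ≤ f H := hHmax Q hQ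
    simp only [f] at h1
    rw [heq] at h1
    omega
  have hHn : Subgroup.normalizer (H : Set G) = ⊤ :=
    stepA cf hcard ih hall H hHbad.1 hHbad.2.1 hHbad.2.2
      (fun Q h1 h2 h3 => hmax1 Q ⟨h1, h2, h3⟩)
  have hHnormal : H.Normal := Subgroup.normalizer_eq_top_iff.mp hHn
  have hHO : H ≤ pCore p G := le_sSup ⟨hHnormal, hHbad.1⟩
  have hO1 : pCore p G ≠ ⊥ := fun h => hHbad.2.1 (eq_bot_iff.mpr (h ▸ hHO))
  have hνH : nu p H = (Nat.card G).factorization p := by
    unfold nu
    rw [hHn, Subgroup.card_top]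
  have hOP : pCore p G ≤ P := Cfsg.Agent.Helper23.PSolv.pCore_le_sylow P
  have hPO : ¬ (P : Subgroup G) ≤ pCore p G := by
    intro h
    have hPeq : (P : Subgroup G) = pCore p G := le_antisymm h hOP
    have hPn : (P : Subgroup G).Normal := hPeq ▸ inferInstance
    have h1 : Subgroup.normalizer (cf.W G (P : Subgroup G) : Set G) = ⊤ := by
      rw [eq_top_iff, ← Subgroup.normalizer_eq_top (P : Subgroup G)]
      exact normalizer_le cf _
    rw [h1] at hP
    exact hnot (npc_top_iff.mp hP)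
  have hb : ∀ Q : Subgroup G, IsPGroup p Q →
      (P : Subgroup G) ≤ Subgroup.normalizer (Q : Set G) →
      Nat.card (pCore p G) < Nat.card Q → NPC p ↥(Subgroup.normalizer (Q : Set G)) := by
    intro Q hQ hPQ hlt
    by_contra hbad
    have hQ1 : Q ≠ ⊥ := by
      rintro rfl
      rw [Subgroup.card_bot] at hlt
      have : 0 < Nat.card (pCore p G) := Nat.card_pos
      omega
    have hBadQ : Bad Q := ⟨hQ, hQ1, hbad⟩
    have h1 := hmax1 Q hBadQ
    have h2 : nu p H ≤ nu p Q := by
      have h3 := card_le_of_le (Subgroup.normalizer (Q : Set G)) (P : Subgroup G) P.2 hPQ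
      rw [P.card_eq_multiplicity] at h3
      rw [hνH]
      exact (Nat.pow_le_pow_iff_right hpp.out.one_lt).mp h3
    have h3 := hmax2 Q hBadQ (le_antisymm h1 h2)
    have h4 : Nat.card H ≤ Nat.card (pCore p G) := Subgroup.card_le_of_le hHO
    omega
  obtain ⟨Nb, hNbn, hNbc, k, hk⟩ := stepB cf hcard ih P hO1 hPO hb
  have hK := stepC cf hcard ih hall P hnot
  have hcent := stepD hK Nb hNbn hNbc k hk
  have hE := stepE cf hcard ih hall P hcent
  have st := stepF hnot P hE Nb hNbn hNbc k hk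
  have hst := Cfsg.Agent.Helper4.QS.stab_of_struc st hp
  have hWn := cf.zj G P hst hcent
  have h1 : Subgroup.normalizer (cf.W G (P : Subgroup G) : Set G) = ⊤ :=
    Subgroup.normalizer_eq_top_iff.mpr hWn
  rw [h1] at hP
  exact hnot (npc_top_iff.mp hP)

theorem gt (hp : p ≠ 2) (P : Sylow p G)
    (h : NPC p ↥(Subgroup.normalizer (cf.W G (P : Subgroup G) : Set G))) : NPC p G :=
  gt_aux cf hp _ G rfl P h

end Cfsg.Agent.Helper4.GT
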