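import Mathlib

set_option autoImplicit false

/-! Class counting in a finite group in which centralisers of non-central elements are
abelian (a "CA-group modulo a central subgroup `Z`"). -/

namespace Cfsg.Agent.Helper4.DC

variable {H : Type*} [Group H]

/-- centraliser of an element -/
abbrev Cen (g : H) : Subgroup H := Subgroup.centralizer ({g} : Set H)

theorem mem_Cen {g x : H} : x ∈ Cen g ↔ g * x = x * g := by
  rw [Subgroup.mem_centralizer_iff]
  simp only [Set.mem_singleton_iff, forall_eq]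

theorem self_mem_Cen (g : H) : g ∈ Cen g := mem_Cen.2 rfl

theorem mem_Cen_comm {g x : H} : x ∈ Cen g ↔ g ∈ Cen x := by
  rw [mem_Cen, mem_Cen]; exact eq_comm

theorem conj_mem_Cen_conj {g x : H} (h : H) : h * x * h⁻¹ ∈ Cen (h * g * h⁻¹) ↔ x ∈ Cen g := by
  rw [mem_Cen, mem_Cen]
  constructor
  · intro e
    have : h⁻¹ * (h * g * h⁻¹ * (h * x * h⁻¹)) * h = h⁻¹ * (h * x * h⁻¹ * (h * g * h⁻¹)) * h := by
      rw [e]
    simpa [mul_assoc] using this
  · intro e
    calc h * g * h⁻¹ * (h * x * h⁻¹) = h * (g * x) * h⁻¹ := by group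
      _ = h * (x * g) * h⁻¹ := by rw [e]
      _ = h * x * h⁻¹ * (h * g * h⁻¹) := by group

theorem mem_Cen_conj {g x : H} (h : H) : x ∈ Cen (h * g * h⁻¹) ↔ h⁻¹ * x * h ∈ Cen g := by
  rw [← conj_mem_Cen_conj h (g := g) (x := h⁻¹ * x * h)]
  have : h * (h⁻¹ * x * h) * h⁻¹ = x := by group
  rw [this]

/-- CA modulo a central subgroup `Z`. -/
structure CA (Z : Subgroup H) : Prop where
  central : Z ≤ Subgroup.center H
  comm : ∀ g : H, g ∉ Z → ∀ x ∈ Cen g, ∀ y ∈ Cen g, x * y = y * x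

variable {Z : Subgroup H}

theorem CA.le_Cen (hZ : CA Z) (g : H) : Z ≤ Cen g := by
  intro x hx
  rw [mem_Cen]
  exact ((Subgroup.mem_center_iff.1 (hZ.central hx)) g)

theorem CA.conj_mem_iff (hZ : CA Z) (h x : H) : h * x * h⁻¹ ∈ Z ↔ x ∈ Z := by
  constructor
  · intro hx
    have h1 := Subgroup.mem_center_iff.1 (hZ.central hx) h
    have : h * x * h⁻¹ = x := by
      have h2 : h * (h * x * h⁻¹) = h * x := by rw [h1]; group
      have h3 : h * x * h⁻¹ = x := mul_left_cancel h2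
      exact h3
    rwa [this] at hx
  · intro hx
    have h1 := Subgroup.mem_center_iff.1 (hZ.central hx) h
    have : h * x * h⁻¹ = x := by rw [h1]; group
    rwa [this]

/-- Centralisers of commuting non-central elements coincide. -/
theorem CA.cen_eq (hZ : CA Z) {g h : H} (hg : g ∉ Z) (hh : h ∉ Z) (hc : h ∈ Cen g) :
    Cen h = Cen g := by
  ext x
  constructor
  · intro hx
    -- x and g both commute with h
    have h1 : g ∈ Cen h := mem_Cen_comm.1 hc
    have := hZ.comm h hh x hx g h1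
    rw [mem_Cen]; exact this.symm
  · intro hx
    have := hZ.comm g hg x hx h hc
    rw [mem_Cen]; exact this.symm

/-- The relation: some conjugate of `x` commutes with `y`. -/
def Rel (x y : H) : Prop := ∃ h : H, h * x * h⁻¹ ∈ Cen y

theorem Rel.refl (x : H) : Rel x x := ⟨1, by simp [mem_Cen]⟩

theorem Rel.symm {x y : H} (h : Rel x y) : Rel y x := by
  obtain ⟨k, hk⟩ := h
  refine ⟨k⁻¹, ?_⟩
  rw [mem_Cen_comm]
  have := (mem_Cen_conj (g := y) (x := x) k⁻¹).2 (by simpa using hk)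
  simpa using this

theorem CA.rel_trans (hZ : CA Z) {x y w : H} (hy : y ∉ Z) (h1 : Rel x y)
    (h2 : Rel y w) : Rel x w := by
  obtain ⟨h, hh⟩ := h1
  obtain ⟨k, hk⟩ := h2
  refine ⟨k * h, ?_⟩
  -- k h x h⁻¹ k⁻¹ commutes with k y k⁻¹, which commutes with w
  have e1 : k * (h * x * h⁻¹) * k⁻¹ ∈ Cen (k * y * k⁻¹) := (conj_mem_Cen_conj k).2 hh
  have hy' : k * y * k⁻¹ ∉ Z := fun hmem => hy ((hZ.conj_mem_iff k y).1 hmem)
  have e2 : w ∈ Cen (k * y * k⁻¹) := mem_Cen_comm.1 hk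
  have := hZ.comm _ hy' _ e1 _ e2
  rw [mem_Cen]
  have e3 : k * h * x * (k * h)⁻¹ = k * (h * x * h⁻¹) * k⁻¹ := by group
  rw [e3]
  exact this.symm

/-- the class of `g`: non-central elements having a conjugate commuting with `g` -/
def K (Z : Subgroup H) (g : H) : Set H := {x | x ∉ Z ∧ Rel x g}

theorem mem_K {g x : H} : x ∈ K Z g ↔ x ∉ Z ∧ Rel x g := Iff.rfl

theorem CA.K_eq_of_rel (hZ : CA Z) {g g' : H} (hg : g ∉ Z) (hg' : g' ∉ Z) (h : Rel g g') :
    K Z g = K Z g' := by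
  ext x
  constructor
  · rintro ⟨hx, hr⟩
    exact ⟨hx, hZ.rel_trans hg hr h⟩
  · rintro ⟨hx, hr⟩
    exact ⟨hx, hZ.rel_trans hg' hr h.symm⟩

theorem CA.K_disjoint (hZ : CA Z) {g g' : H} (_hg : g ∉ Z) (h : ¬ Rel g g') :
    Disjoint (K Z g) (K Z g') := by
  rw [Set.disjoint_left]
  rintro x ⟨hx, h1⟩ ⟨-, h2⟩
  exact h (hZ.rel_trans hx h1.symm h2)

theorem K_disjoint_Z (g : H) : Disjoint (Z : Set H) (K Z g) := by
  rw [Set.disjoint_left]
  rintro x hx ⟨hx', -⟩
  exact hx' hx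

/-- An element normalises `Cen y` as soon as it conjugates `y ∈ Cen y ∖ Z` into `Cen y`. -/
theorem CA.mem_normalizer_of_conj_mem (hZ : CA Z) {y n : H} (hy : y ∉ Z)
    (h : n⁻¹ * y * n ∈ Cen y) : n ∈ Subgroup.normalizer ((Cen y : Subgroup H) : Set H) := by
  have hy' : n⁻¹ * y * n ∉ Z := by
    intro hmem
    apply hy
    have := (hZ.conj_mem_iff n⁻¹ y).1 (by simpa using hmem)
    exact this
  have e1 : Cen (n⁻¹ * y * n) = Cen y := hZ.cen_eq hy hy' h
  rw [Subgroup.mem_normalizer_iff]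
  intro x
  constructor
  · intro hx
    -- x ∈ Cen y = Cen (n⁻¹ y n), so n x n⁻¹ ∈ Cen y
    rw [← e1] at hx
    have := (mem_Cen_conj (g := y) (x := x) n⁻¹).1 (by simpa using hx)
    simpa using this
  · intro hx
    rw [← e1]
    have := (mem_Cen_conj (g := y) (x := x) n⁻¹).2 (by simpa using hx)
    simpa using this

section count

variable [Finite H]

open Classical in
/-- The size of a class. -/
theorem CA.card_K (hZ : CA Z) {g : H} (hg : g ∉ Z) :
    (K Z g).ncard * Nat.card (Subgroup.normalizer ((Cen g : Subgroup H) : Set H)) =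
      Nat.card H * (Nat.card (Cen g) - Nat.card Z) := by
  set M := Cen g with hM
  set N := Subgroup.normalizer ((M : Subgroup H) : Set H) with hN
  -- the set of pairs
  let PP := {hx : H × H // hx.2 ∉ Z ∧ hx.1⁻¹ * hx.2 * hx.1 ∈ M}
  have key : ∀ y : H, y ∈ M → y ∉ Z → Cen y = M := fun y hy hyZ => hZ.cen_eq hg hyZ hy
  let e₁ : PP ≃ H × {y : H // y ∈ M ∧ y ∉ Z} :=
    { toFun := fun a => (a.1.1, ⟨a.1.1⁻¹ * a.1.2 * a.1.1, a.2.2, by
        intro hmem
        exact a.2.1 ((hZ.conj_mem_iff a.1.1⁻¹ a.1.2).1 (by simpa using hmem))⟩)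
      invFun := fun b => ⟨(b.1, b.1 * b.2.1 * b.1⁻¹), by
        refine ⟨fun hmem => b.2.2.2 ((hZ.conj_mem_iff b.1 b.2.1).1 hmem), ?_⟩
        have : b.1⁻¹ * (b.1 * b.2.1 * b.1⁻¹) * b.1 = b.2.1 := by group
        simp only [this]
        exact b.2.2.1⟩
      left_inv := by
        rintro ⟨⟨h, x⟩, hx⟩
        apply Subtype.ext
        simp only [Prod.mk.injEq, true_and]
        group
      right_inv := by
        rintro ⟨h, ⟨y, hy⟩⟩
        simp only [Prod.mk.injEq, true_and]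
        apply Subtype.ext
        simp only
        group }
  -- choice of a conjugating element
  have hex : ∀ x : {x : H // x ∈ K Z g}, ∃ h₀ : H, h₀⁻¹ * x.1 * h₀ ∈ M := by
    rintro ⟨x, -, ⟨h, hh⟩⟩
    exact ⟨h⁻¹, by simpa using hh⟩
  choose h₀ hh₀ using hex
  have hnorm : ∀ (x : {x : H // x ∈ K Z g}) (h : H), h⁻¹ * x.1 * h ∈ M ↔ (h₀ x)⁻¹ * h ∈ N := by
    intro x h
    set y₀ := (h₀ x)⁻¹ * x.1 * (h₀ x) with hy₀
    have hy₀M : y₀ ∈ M := hh₀ x
    have hy₀Z : y₀ ∉ Z := by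
      intro hmem
      exact x.2.1 ((hZ.conj_mem_iff (h₀ x)⁻¹ x.1).1 (by simpa using hmem))
    have e : h⁻¹ * x.1 * h = ((h₀ x)⁻¹ * h)⁻¹ * y₀ * ((h₀ x)⁻¹ * h) := by
      rw [hy₀]; group
    constructor
    · intro hm
      rw [e, ← key y₀ hy₀M hy₀Z] at hm
      have := hZ.mem_normalizer_of_conj_mem hy₀Z hm
      rwa [key y₀ hy₀M hy₀Z] at this
    · intro hn
      rw [e]
      have := (Subgroup.mem_normalizer_iff.1 (N.inv_mem hn) y₀).1 hy₀M
      simpa using this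
  let e₂ : PP ≃ {x : H // x ∈ K Z g} × N :=
    { toFun := fun a => (⟨a.1.2, a.2.1, ⟨a.1.1⁻¹, by simpa using a.2.2⟩⟩,
        ⟨(h₀ ⟨a.1.2, a.2.1, ⟨a.1.1⁻¹, by simpa using a.2.2⟩⟩)⁻¹ * a.1.1,
          (hnorm ⟨a.1.2, a.2.1, ⟨a.1.1⁻¹, by simpa using a.2.2⟩⟩ a.1.1).1 a.2.2⟩)
      invFun := fun b => ⟨(h₀ b.1 * b.2.1, b.1.1), b.1.2.1, by
        apply (hnorm b.1 (h₀ b.1 * b.2.1)).2
        have : (h₀ b.1)⁻¹ * (h₀ b.1 * b.2.1) = b.2.1 := by group
        rw [this]; exact b.2.2⟩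
      left_inv := by
        rintro ⟨⟨h, x⟩, hx⟩
        apply Subtype.ext
        simp only [Prod.mk.injEq, and_true]
        group
      right_inv := by
        rintro ⟨⟨x, hx⟩, ⟨n, hn⟩⟩
        simp only [Prod.mk.injEq, true_and]
        apply Subtype.ext
        simp only
        group }
  have c1 := Nat.card_congr e₁
  have c2 := Nat.card_congr e₂
  rw [Nat.card_prod] at c1 c2
  have c3 : Nat.card {y : H // y ∈ M ∧ y ∉ Z} = Nat.card M - Nat.card Z := by
    have hsub : (Z : Set H) ⊆ (M : Set H) := hZ.le_Cen g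
    have h1 : {y : H | y ∈ M ∧ y ∉ Z} = (M : Set H) \ (Z : Set H) := by
      ext y; simp
    have h2 : Nat.card {y : H // y ∈ M ∧ y ∉ Z} = ({y : H | y ∈ M ∧ y ∉ Z}).ncard := by
      rw [← Nat.card_coe_set_eq]; rfl
    rw [h2, h1, Set.ncard_sdiff hsub (Set.toFinite _)]
    rw [← Nat.card_coe_set_eq, ← Nat.card_coe_set_eq]
    rfl
  have c4 : Nat.card {x : H // x ∈ K Z g} = (K Z g).ncard := by
    rw [← Nat.card_coe_set_eq]
  rw [← c4, ← c2, c1, c3]

/-- pairwise unrelated non-central elements have pairwise disjoint classes -/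
theorem CA.card_add_sum_le (hZ : CA Z) (T : Finset H) (hT : ∀ g ∈ T, g ∉ Z)
    (hpw : ∀ g ∈ T, ∀ g' ∈ T, g ≠ g' → ¬ Rel g g') :
    ((Z : Set H) ∪ ⋃ g ∈ T, K Z g).ncard = Nat.card Z + ∑ g ∈ T, (K Z g).ncard := by
  classical
  induction T using Finset.induction_on with
  | empty =>
    simp only [Finset.notMem_empty, Set.iUnion_of_empty, Set.iUnion_empty, Set.union_empty,
      Finset.sum_empty, add_zero]
    rw [← Nat.card_coe_set_eq]; rfl
  | insert a T ha ih =>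
    have hT' : ∀ g ∈ T, g ∉ Z := fun g hg => hT g (Finset.mem_insert_of_mem hg)
    have hpw' : ∀ g ∈ T, ∀ g' ∈ T, g ≠ g' → ¬ Rel g g' := fun g hg g' hg' hne =>
      hpw g (Finset.mem_insert_of_mem hg) g' (Finset.mem_insert_of_mem hg') hne
    have ih' := ih hT' hpw'
    have haZ : a ∉ Z := hT a (Finset.mem_insert_self a T)
    have e : ((Z : Set H) ∪ ⋃ g ∈ insert a T, K Z g) =
        K Z a ∪ ((Z : Set H) ∪ ⋃ g ∈ T, K Z g) := by
      ext x
      simp only [Finset.mem_insert, Set.iUnion_iUnion_eq_or_left, Set.mem_union, Set.mem_iUnion]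
      tauto
    have hd : Disjoint (K Z a) ((Z : Set H) ∪ ⋃ g ∈ T, K Z g) := by
      rw [Set.disjoint_union_right]
      refine ⟨(K_disjoint_Z a).symm, ?_⟩
      rw [Set.disjoint_iUnion₂_right]
      intro g hg
      apply hZ.K_disjoint haZ
      apply hpw a (Finset.mem_insert_self a T) g (Finset.mem_insert_of_mem hg)
      rintro rfl
      exact ha hg
    rw [e, Set.ncard_union_eq hd (Set.toFinite _) (Set.toFinite _), ih', Finset.sum_insert ha]
    ring

theorem CA.sum_le (hZ : CA Z) (T : Finset H) (hT : ∀ g ∈ T, g ∉ Z)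
    (hpw : ∀ g ∈ T, ∀ g' ∈ T, g ≠ g' → ¬ Rel g g') :
    Nat.card Z + ∑ g ∈ T, (K Z g).ncard ≤ Nat.card H := by
  rw [← hZ.card_add_sum_le T hT hpw, ← Set.ncard_univ]
  exact Set.ncard_le_ncard (Set.subset_univ _) (Set.toFinite _)

/-- if the classes do not exhaust `H`, there is a further class -/
theorem CA.exists_of_sum_lt (hZ : CA Z) (T : Finset H) (hT : ∀ g ∈ T, g ∉ Z)
    (hpw : ∀ g ∈ T, ∀ g' ∈ T, g ≠ g' → ¬ Rel g g')
    (hlt : Nat.card Z + ∑ g ∈ T, (K Z g).ncard < Nat.card H) :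
    ∃ x : H, x ∉ Z ∧ ∀ g ∈ T, ¬ Rel x g := by
  by_contra hcon
  push Not at hcon
  have : ((Z : Set H) ∪ ⋃ g ∈ T, K Z g) = Set.univ := by
    rw [Set.eq_univ_iff_forall]
    intro x
    by_cases hx : x ∈ Z
    · exact Or.inl hx
    · obtain ⟨g, hg, hr⟩ := hcon x hx
      right
      simp only [Set.mem_iUnion]
      exact ⟨g, hg, hx, hr⟩
  have h1 := hZ.card_add_sum_le T hT hpw
  rw [this, Set.ncard_univ] at h1
  omega

/-- if the classes exhaust `H` numerically, every non-central element is in one of them -/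
theorem CA.forall_of_sum_eq (hZ : CA Z) (T : Finset H) (hT : ∀ g ∈ T, g ∉ Z)
    (hpw : ∀ g ∈ T, ∀ g' ∈ T, g ≠ g' → ¬ Rel g g')
    (heq : Nat.card Z + ∑ g ∈ T, (K Z g).ncard = Nat.card H) :
    ∀ x : H, x ∉ Z → ∃ g ∈ T, Rel x g := by
  have h1 := hZ.card_add_sum_le T hT hpw
  rw [heq, ← Set.ncard_univ] at h1
  have h2 : ((Z : Set H) ∪ ⋃ g ∈ T, K Z g) = Set.univ :=
    Set.eq_of_subset_of_ncard_le (Set.subset_univ _) h1.ge (Set.toFinite _)
  intro x hx
  have hx' : x ∈ ((Z : Set H) ∪ ⋃ g ∈ T, K Z g) := by rw [h2]; exact Set.mem_univ x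
  rcases hx' with hx' | hx'
  · exact absurd hx' hx
  · simp only [Set.mem_iUnion] at hx'
    obtain ⟨g, hg, -, hr⟩ := hx'
    exact ⟨g, hg, hr⟩

/-! ### list versions -/

theorem CA.list_card (hZ : CA Z) (l : List H) (hl : ∀ g ∈ l, g ∉ Z)
    (hpw : l.Pairwise (fun a b => ¬ Rel a b)) :
    ((Z : Set H) ∪ ⋃ g ∈ l, K Z g).ncard = Nat.card Z + (l.map (fun g => (K Z g).ncard)).sum := by
  induction l with
  | nil =>
    simp only [List.not_mem_nil, Set.iUnion_of_empty, Set.iUnion_empty, Set.union_empty,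
      List.map_nil, List.sum_nil, add_zero]
    rw [← Nat.card_coe_set_eq]; rfl
  | cons a l ih =>
    have hl' : ∀ g ∈ l, g ∉ Z := fun g hg => hl g (List.mem_cons_of_mem a hg)
    rw [List.pairwise_cons] at hpw
    have ih' := ih hl' hpw.2
    have haZ : a ∉ Z := hl a List.mem_cons_self
    have e : ((Z : Set H) ∪ ⋃ g ∈ a :: l, K Z g) =
        K Z a ∪ ((Z : Set H) ∪ ⋃ g ∈ l, K Z g) := by
      ext x
      simp only [List.mem_cons, Set.iUnion_iUnion_eq_or_left, Set.mem_union, Set.mem_iUnion]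
      tauto
    have hd : Disjoint (K Z a) ((Z : Set H) ∪ ⋃ g ∈ l, K Z g) := by
      rw [Set.disjoint_union_right]
      refine ⟨(K_disjoint_Z a).symm, ?_⟩
      rw [Set.disjoint_iUnion₂_right]
      intro g hg
      exact hZ.K_disjoint haZ (hpw.1 g hg)
    rw [e, Set.ncard_union_eq hd (Set.toFinite _) (Set.toFinite _), ih', List.map_cons,
      List.sum_cons]
    ring

theorem CA.list_sum_le (hZ : CA Z) (l : List H) (hl : ∀ g ∈ l, g ∉ Z)
    (hpw : l.Pairwise (fun a b => ¬ Rel a b)) :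
    Nat.card Z + (l.map (fun g => (K Z g).ncard)).sum ≤ Nat.card H := by
  rw [← hZ.list_card l hl hpw, ← Set.ncard_univ]
  exact Set.ncard_le_ncard (Set.subset_univ _) (Set.toFinite _)

theorem CA.exists_of_list_sum_lt (hZ : CA Z) (l : List H) (hl : ∀ g ∈ l, g ∉ Z)
    (hpw : l.Pairwise (fun a b => ¬ Rel a b))
    (hlt : Nat.card Z + (l.map (fun g => (K Z g).ncard)).sum < Nat.card H) :
    ∃ x : H, x ∉ Z ∧ ∀ g ∈ l, ¬ Rel x g := by
  by_contra hcon
  push Not at hcon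
  have : ((Z : Set H) ∪ ⋃ g ∈ l, K Z g) = Set.univ := by
    rw [Set.eq_univ_iff_forall]
    intro x
    by_cases hx : x ∈ Z
    · exact Or.inl hx
    · obtain ⟨g, hg, hr⟩ := hcon x hx
      right
      simp only [Set.mem_iUnion]
      exact ⟨g, hg, hx, hr⟩
  have h1 := hZ.list_card l hl hpw
  rw [this, Set.ncard_univ] at h1
  omega

end count

end Cfsg.Agent.Helper4.DC
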