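import Mathlib
import Cfsg.Agent.Lib.Helper4.DicksonCount
import Cfsg.Agent.Lib.Helper1.Permutable
import Cfsg.Agent.Lib.Helper5.OrbitDvd

set_option autoImplicit false
set_option linter.unusedSectionVars false
set_option linter.style.haveILetI false

/-! Structure of a finite group satisfying the `SL₂`-like axioms `Ax`. -/

namespace Cfsg.Agent.Helper4.DC

open scoped Pointwise

variable {H : Type*} [Group H]

/-- The axioms (satisfied by subgroups of `SL₂(F)`, `F` finite of odd characteristic `p`). -/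
structure Ax (p : ℕ) (Z : Subgroup H) : Prop extends CA Z where
  hp3 : 3 ≤ p
  cop : (Nat.card Z).Coprime p
  pT : ∀ g : H, g ∉ Z → p ∣ Nat.card (Cen g) →
    ∃ Pg : Subgroup H, IsPGroup p Pg ∧ Cen g = Z ⊔ Pg
  tT : ∀ g : H, g ∉ Z → ¬ p ∣ Nat.card (Cen g) →
    Nat.card (Subgroup.normalizer ((Cen g : Subgroup H) : Set H)) ≤ 2 * Nat.card (Cen g)
  pab : ∀ Q : Subgroup H, IsPGroup p Q → ∀ x ∈ Q, ∀ y ∈ Q, x * y = y * x
  norm_cen : ∀ (P : Sylow p H), (P : Subgroup H) ≠ ⊥ → ∀ (y : H),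
    y ∈ Subgroup.normalizer ((P : Subgroup H) : Set H) →
    y ∉ Z → ¬ p ∣ Nat.card (Cen y) → Cen y ≤ Subgroup.normalizer ((P : Subgroup H) : Set H)
  norm_ab : ∀ (P : Sylow p H), (P : Subgroup H) ≠ ⊥ →
    ∀ x ∈ Subgroup.normalizer ((P : Subgroup H) : Set H),
    ∀ y ∈ Subgroup.normalizer ((P : Subgroup H) : Set H), x * y * x⁻¹ * y⁻¹ ∈ P

variable {p : ℕ} [hp : Fact p.Prime] {Z : Subgroup H}

theorem CA.normal (hZ : CA Z) : Z.Normal := by
  refine ⟨fun n hn g => ?_⟩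
  exact (hZ.conj_mem_iff g n).2 hn

section basic

variable [Finite H]

/-- a `p`-element of `Z` is trivial -/
theorem Ax.eq_one_of_mem_Z (ax : Ax p Z) {x : H} (hx : x ∈ Z) (k : ℕ) (hk : x ^ p ^ k = 1) :
    x = 1 := by
  have h1 : orderOf x ∣ p ^ k := orderOf_dvd_of_pow_eq_one hk
  have h2 : orderOf x ∣ Nat.card Z := by
    have := Subgroup.orderOf_dvd_natCard Z hx
    exact this
  have h3 : orderOf x = 1 :=
    Nat.eq_one_of_dvd_coprimes (Nat.Coprime.pow_right k ax.cop) h2 h1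
  exact orderOf_eq_one_iff.1 h3

/-- the `p`-elements of `Z ⊔ Q` (for a `p`-group `Q`) lie in `Q` -/
theorem Ax.mem_of_mem_sup (ax : Ax p Z) {Q : Subgroup H} (hQ : IsPGroup p Q) {x : H}
    (hx : x ∈ Z ⊔ Q) (k : ℕ) (hk : x ^ p ^ k = 1) : x ∈ Q := by
  haveI := ax.toCA.normal
  obtain ⟨ζ, hζ, v, hv, rfl⟩ := Subgroup.mem_sup_of_normal_left.mp hx
  obtain ⟨j, hj⟩ := hQ ⟨v, hv⟩
  have hj' : v ^ p ^ j = 1 := by simpa using congrArg Subtype.val hj
  have hcomm : Commute ζ v := (Subgroup.mem_center_iff.1 (ax.central hζ) v).symm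
  have h1 : (ζ * v) ^ p ^ (k + j) = 1 := by
    rw [pow_add, pow_mul, hk, one_pow]
  have h2 : v ^ p ^ (k + j) = 1 := by
    rw [pow_add, mul_comm, pow_mul, hj', one_pow]
  have h3 : ζ ^ p ^ (k + j) = 1 := by
    rw [hcomm.mul_pow, h2, mul_one] at h1
    exact h1
  have := ax.eq_one_of_mem_Z hζ _ h3
  rw [this, one_mul]; exact hv

theorem Ax.not_mem_Z_of_mem_sylow (ax : Ax p Z) (P : Sylow p H) {u : H} (hu : u ∈ P)
    (hu1 : u ≠ 1) : u ∉ Z := by
  intro hmem
  obtain ⟨k, hk⟩ := P.2 ⟨u, hu⟩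
  have hk' : u ^ p ^ k = 1 := by simpa using congrArg Subtype.val hk
  exact hu1 (ax.eq_one_of_mem_Z hmem k hk')

theorem Ax.sylow_le_Cen (ax : Ax p Z) (P : Sylow p H) {u : H} (hu : u ∈ P) :
    (P : Subgroup H) ≤ Cen u := by
  intro x hx
  rw [mem_Cen]
  exact ax.pab P P.2 u hu x hx

/-- **L1** the centraliser of a nontrivial element of a Sylow `p`-subgroup -/
theorem Ax.cen_of_mem_sylow (ax : Ax p Z) (P : Sylow p H) {u : H} (hu : u ∈ P) (hu1 : u ≠ 1) :
    Cen u = Z ⊔ P := by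
  have huZ := ax.not_mem_Z_of_mem_sylow P hu hu1
  have hle := ax.sylow_le_Cen P hu
  have hdvd : p ∣ Nat.card (Cen u) := by
    have h1 : Nat.card (P : Subgroup H) ∣ Nat.card (Cen u) := Subgroup.card_dvd_of_le hle
    have h2 : p ∣ Nat.card (P : Subgroup H) := by
      have hne : (P : Subgroup H) ≠ ⊥ := by
        intro hbot
        have : u ∈ (⊥ : Subgroup H) := hbot ▸ hu
        exact hu1 (Subgroup.mem_bot.1 this)
      obtain ⟨n, hn⟩ := IsPGroup.iff_card.1 P.2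
      rw [hn]
      rcases Nat.eq_zero_or_pos n with h0 | h0
      · exfalso
        rw [h0, pow_zero] at hn
        exact hne ((Subgroup.card_eq_one).1 hn)
      · exact dvd_pow_self p h0.ne'
    exact h2.trans h1
  obtain ⟨Pg, hPg, hcen⟩ := ax.pT u huZ hdvd
  have hPle : (P : Subgroup H) ≤ Pg := by
    intro x hx
    have hx' : x ∈ Z ⊔ Pg := hcen ▸ hle hx
    obtain ⟨k, hk⟩ := P.2 ⟨x, hx⟩
    have hk' : x ^ p ^ k = 1 := by simpa using congrArg Subtype.val hk
    exact ax.mem_of_mem_sup hPg hx' k hk'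
  have := P.is_maximal' hPg hPle
  rw [hcen, this]

/-- **L2** Sylow `p`-subgroups have trivial intersection. -/
theorem Ax.sylow_eq_of_mem (ax : Ax p Z) (P Q : Sylow p H) {u : H} (hu : u ∈ P) (hu' : u ∈ Q)
    (hu1 : u ≠ 1) : P = Q := by
  have h1 := ax.cen_of_mem_sylow P hu hu1
  have h2 := ax.cen_of_mem_sylow Q hu' hu1
  have hle : (P : Subgroup H) ≤ Q := by
    intro x hx
    have hx' : x ∈ Z ⊔ (Q : Subgroup H) := by
      rw [← h2, h1]; exact Subgroup.mem_sup_right hx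
    obtain ⟨k, hk⟩ := P.2 ⟨x, hx⟩
    have hk' : x ^ p ^ k = 1 := by simpa using congrArg Subtype.val hk
    exact ax.mem_of_mem_sup Q.2 hx' k hk'
  exact Sylow.ext (P.is_maximal' Q.2 hle).symm

/-- **L3** -/
theorem Ax.normalizer_sup (ax : Ax p Z) (P : Sylow p H) :
    Subgroup.normalizer (((Z ⊔ (P : Subgroup H) : Subgroup H)) : Set H) =
      Subgroup.normalizer ((P : Subgroup H) : Set H) := by
  have key : ∀ n : H, n ∈ Subgroup.normalizer (((Z ⊔ (P : Subgroup H) : Subgroup H)) : Set H) →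
      ∀ x ∈ (P : Subgroup H), n * x * n⁻¹ ∈ (P : Subgroup H) := by
    intro n hn x hx
    have h1 : n * x * n⁻¹ ∈ Z ⊔ (P : Subgroup H) :=
      (Subgroup.mem_normalizer_iff.1 hn x).1 (Subgroup.mem_sup_right hx)
    obtain ⟨k, hk⟩ := P.2 ⟨x, hx⟩
    have hk' : x ^ p ^ k = 1 := by simpa using congrArg Subtype.val hk
    apply ax.mem_of_mem_sup P.2 h1 k
    rw [conj_pow, hk']; group
  apply le_antisymm
  · intro n hn
    rw [Subgroup.mem_normalizer_iff]
    intro x
    constructor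
    · exact key n hn x
    · intro hx
      have := key n⁻¹ (Subgroup.inv_mem _ hn) _ hx
      have e : n⁻¹ * (n * x * n⁻¹) * n⁻¹⁻¹ = x := by group
      rwa [e] at this
  · intro n hn
    haveI := ax.toCA.normal
    rw [Subgroup.mem_normalizer_iff]
    have key2 : ∀ m : H, m ∈ Subgroup.normalizer ((P : Subgroup H) : Set H) →
        ∀ x ∈ Z ⊔ (P : Subgroup H), m * x * m⁻¹ ∈ Z ⊔ (P : Subgroup H) := by
      intro m hm x hx
      obtain ⟨ζ, hζ, v, hv, rfl⟩ := Subgroup.mem_sup_of_normal_left.mp hx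
      have e : m * (ζ * v) * m⁻¹ = (m * ζ * m⁻¹) * (m * v * m⁻¹) := by group
      rw [e]
      exact Subgroup.mul_mem _
        (Subgroup.mem_sup_left ((ax.toCA.conj_mem_iff m ζ).2 hζ))
        (Subgroup.mem_sup_right ((Subgroup.mem_normalizer_iff.1 hm v).1 hv))
    intro x
    constructor
    · exact key2 n hn x
    · intro hx
      have := key2 n⁻¹ (Subgroup.inv_mem _ hn) _ hx
      have e : n⁻¹ * (n * x * n⁻¹) * n⁻¹⁻¹ = x := by group
      rwa [e] at this

theorem Ax.inf_eq_bot (ax : Ax p Z) {Q : Subgroup H} (hQ : IsPGroup p Q) : Z ⊓ Q = ⊥ := by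
  rw [eq_bot_iff]
  rintro x ⟨hxZ, hxQ⟩
  obtain ⟨k, hk⟩ := hQ ⟨x, hxQ⟩
  have hk' : x ^ p ^ k = 1 := by simpa using congrArg Subtype.val hk
  exact Subgroup.mem_bot.2 (ax.eq_one_of_mem_Z hxZ k hk')

theorem Ax.card_sup (ax : Ax p Z) {Q : Subgroup H} (hQ : IsPGroup p Q) :
    Nat.card (Z ⊔ Q : Subgroup H) = Nat.card Z * Nat.card Q := by
  haveI := ax.toCA.normal
  apply Cfsg.Agent.Helper1.card_sup_of_mul_comm _ (ax.inf_eq_bot hQ)
  rw [← Subgroup.normal_mul, sup_comm, Subgroup.mul_normal]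

theorem mem_sylow_smul_iff (P : Sylow p H) (h a : H) :
    a ∈ h • P ↔ h⁻¹ * a * h ∈ P := by
  have : a ∈ ((h • P : Sylow p H) : Subgroup H) ↔ a ∈ MulAut.conj h • (P : Subgroup H) := by
    rw [Sylow.coe_subgroup_smul]
  show a ∈ ((h • P : Sylow p H) : Subgroup H) ↔ _
  rw [this, Subgroup.mem_pointwise_smul_iff_inv_smul_mem]
  simp [MulAut.smul_def]
  rfl

/-- **L5b** every non-central element whose centraliser has order divisible by `p` is related
to the nontrivial elements of a given Sylow `p`-subgroup -/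
theorem Ax.rel_of_pT (ax : Ax p Z) (P : Sylow p H) {u : H} (hu : u ∈ P) (hu1 : u ≠ 1)
    {g : H} (hg : g ∉ Z) (hdvd : p ∣ Nat.card (Cen g)) : Rel g u := by
  haveI := ax.toCA.normal
  obtain ⟨Pg, hPg, hcen⟩ := ax.pT g hg hdvd
  have hgm : g ∈ Z ⊔ Pg := hcen ▸ self_mem_Cen g
  obtain ⟨ζ, hζ, v, hv, rfl⟩ := Subgroup.mem_sup_of_normal_left.mp hgm
  obtain ⟨Q, hQ⟩ := hPg.exists_le_sylow
  obtain ⟨k, hk⟩ := MulAction.exists_smul_eq H P Q
  have hvQ : v ∈ k • P := by rw [hk]; exact hQ hv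
  rw [mem_sylow_smul_iff] at hvQ
  refine ⟨k⁻¹, ?_⟩
  rw [ax.cen_of_mem_sylow P hu hu1]
  have e : k⁻¹ * (ζ * v) * k⁻¹⁻¹ = (k⁻¹ * ζ * k⁻¹⁻¹) * (k⁻¹ * v * k) := by group
  rw [e]
  exact Subgroup.mul_mem _ (Subgroup.mem_sup_left ((ax.toCA.conj_mem_iff k⁻¹ ζ).2 hζ))
    (Subgroup.mem_sup_right hvQ)

theorem Ax.sup_le_normalizer (ax : Ax p Z) (P : Sylow p H) :
    Z ⊔ (P : Subgroup H) ≤ Subgroup.normalizer ((P : Subgroup H) : Set H) := by
  rw [← ax.normalizer_sup P]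
  exact Subgroup.le_normalizer

theorem Ax.Z_le_normalizer (ax : Ax p Z) (P : Sylow p H) :
    Z ≤ Subgroup.normalizer ((P : Subgroup H) : Set H) :=
  le_sup_left.trans (ax.sup_le_normalizer P)

/-- **L5** the size of the class of the `p`-type elements -/
theorem Ax.card_K_sylow (ax : Ax p Z) (P : Sylow p H) {u : H} (hu : u ∈ P) (hu1 : u ≠ 1) :
    (K Z u).ncard = Nat.card (Sylow p H) * (Nat.card Z * (Nat.card (P : Subgroup H) - 1)) := by
  have huZ := ax.not_mem_Z_of_mem_sylow P hu hu1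
  have h1 := ax.toCA.card_K huZ
  have hcen := ax.cen_of_mem_sylow P hu hu1
  rw [hcen, ax.normalizer_sup P, ax.card_sup P.2] at h1
  have h2 : Nat.card H = Nat.card (Sylow p H) *
      Nat.card (Subgroup.normalizer ((P : Subgroup H) : Set H)) := by
    rw [P.card_eq_index_normalizer, mul_comm]
    exact (Subgroup.card_mul_index _).symm
  have hpos : 0 < Nat.card (Subgroup.normalizer ((P : Subgroup H) : Set H)) := Nat.card_pos
  have h3 : Nat.card Z * Nat.card (P : Subgroup H) - Nat.card Z =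
      Nat.card Z * (Nat.card (P : Subgroup H) - 1) := by
    rw [Nat.mul_sub, mul_one]
  rw [h2, h3] at h1
  apply Nat.eq_of_mul_eq_mul_right hpos
  rw [h1]; ring

/-- **L6** -/
theorem Ax.card_normalizer (ax : Ax p Z) (P : Sylow p H) :
    ∃ d : ℕ, 0 < d ∧ Nat.card (Subgroup.normalizer ((P : Subgroup H) : Set H)) =
      Nat.card Z * Nat.card (P : Subgroup H) * d := by
  have h1 := Subgroup.card_dvd_of_le (ax.sup_le_normalizer P)
  rw [ax.card_sup P.2] at h1
  obtain ⟨d, hd⟩ := h1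
  refine ⟨d, ?_, hd⟩
  rcases Nat.eq_zero_or_pos d with h0 | h0
  · exfalso
    rw [h0, mul_zero] at hd
    have : 0 < Nat.card (Subgroup.normalizer ((P : Subgroup H) : Set H)) := Nat.card_pos
    omega
  · exact h0

theorem card_ne_sylow (P : Sylow p H) :
    Nat.card {Q : Sylow p H // Q ≠ P} = Nat.card (Sylow p H) - 1 := by
  classical
  have : Fintype (Sylow p H) := Fintype.ofFinite _
  rw [Nat.card_eq_fintype_card, Nat.card_eq_fintype_card, Fintype.card_subtype_compl,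
    Fintype.card_subtype_eq]

/-- **L7** the number of Sylow `p`-subgroups is `1` modulo the order of a Sylow `p`-subgroup -/
theorem Ax.card_sylow_sub_one (ax : Ax p Z) (P : Sylow p H) :
    Nat.card (P : Subgroup H) ∣ Nat.card (Sylow p H) - 1 := by
  let T : SubMulAction (↥(P : Subgroup H)) (Sylow p H) :=
    { carrier := {Q | Q ≠ P}
      smul_mem' := by
        intro v Q hQ hcon
        apply hQ
        have h1 : (v : H)⁻¹ • ((v : H) • Q) = (v : H)⁻¹ • P := by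
          have : v • Q = (v : H) • Q := rfl
          rw [← this, hcon]
        rw [inv_smul_smul] at h1
        rw [h1]
        exact Sylow.smul_eq_iff_mem_normalizer.2
          (Subgroup.inv_mem _ (Subgroup.le_normalizer v.2)) }
  have hT : Nat.card T = Nat.card (Sylow p H) - 1 := card_ne_sylow P
  rw [← hT]
  apply Cfsg.Agent.Helper5.dvd_card_of_forall_card_stabilizer_dvd (P := ↥(P : Subgroup H)) 1
    (Nat.card (P : Subgroup H)) (one_mul _)
  intro Q
  rw [Nat.dvd_one, Subgroup.card_eq_one, eq_bot_iff]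
  intro v hv
  rw [MulAction.mem_stabilizer_iff] at hv
  have hv' : (v : H) • (Q : Sylow p H) = Q := by
    have := congrArg Subtype.val hv
    exact this
  have h2 : (v : H) ∈ (P : Subgroup H) ⊓ Subgroup.normalizer (((Q : Sylow p H) : Subgroup H) : Set H) :=
    ⟨v.2, Sylow.smul_eq_iff_mem_normalizer.1 hv'⟩
  have h3 : (v : H) ∈ (P : Subgroup H) ⊓ ((Q : Sylow p H) : Subgroup H) := by
    have e := P.2.inf_normalizer_sylow (Q : Sylow p H)
    rw [← e]; exact h2
  rw [Subgroup.mem_bot]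
  by_contra hne
  have hne' : (v : H) ≠ 1 := fun h => hne (Subtype.ext h)
  exact Q.2 (ax.sylow_eq_of_mem P Q h3.1 h3.2 hne').symm

/-- a `p`-element of a centraliser of order prime to `p` is trivial -/
theorem eq_one_of_mem_of_not_dvd {D : Subgroup H} (hD : ¬ p ∣ Nat.card D) {x : H} (hx : x ∈ D)
    (k : ℕ) (hk : x ^ p ^ k = 1) : x = 1 := by
  have h1 : orderOf x ∣ p ^ k := orderOf_dvd_of_pow_eq_one hk
  have h2 : orderOf x ∣ Nat.card D := Subgroup.orderOf_dvd_natCard D hx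
  have hcop : (Nat.card D).Coprime p :=
    (Nat.Coprime.symm ((Nat.Prime.coprime_iff_not_dvd hp.out).2 hD))
  have h3 : orderOf x = 1 :=
    Nat.eq_one_of_dvd_coprimes (Nat.Coprime.pow_right k hcop) h2 h1
  exact orderOf_eq_one_iff.1 h3

theorem inf_sylow_eq_bot {D : Subgroup H} (hD : ¬ p ∣ Nat.card D) {Q : Subgroup H}
    (hQ : IsPGroup p Q) : D ⊓ Q = ⊥ := by
  rw [eq_bot_iff]
  rintro x ⟨hxD, hxQ⟩
  obtain ⟨k, hk⟩ := hQ ⟨x, hxQ⟩
  have hk' : x ^ p ^ k = 1 := by simpa using congrArg Subtype.val hk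
  exact Subgroup.mem_bot.2 (eq_one_of_mem_of_not_dvd hD hxD k hk')

/-- a `p`-element of the normaliser of a Sylow `p`-subgroup lies in it -/
theorem mem_sylow_of_mem_normalizer (P : Sylow p H) {v : H}
    (hv : v ∈ Subgroup.normalizer ((P : Subgroup H) : Set H)) (k : ℕ) (hk : v ^ p ^ k = 1) :
    v ∈ P := by
  have hz : IsPGroup p (Subgroup.zpowers v) := by
    have h2 : orderOf v ∣ p ^ k := orderOf_dvd_of_pow_eq_one hk
    obtain ⟨i, -, hi⟩ := (Nat.dvd_prime_pow hp.out).1 h2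
    apply IsPGroup.of_card (n := i)
    rw [Nat.card_zpowers, hi]
  have h1 : v ∈ Subgroup.zpowers v ⊓ Subgroup.normalizer ((P : Subgroup H) : Set H) :=
    ⟨Subgroup.mem_zpowers v, hv⟩
  have e := hz.inf_normalizer_sylow P
  have h2 : v ∈ Subgroup.zpowers v ⊓ (P : Subgroup H) := by rw [← e]; exact h1
  exact h2.2

/-- a torus-type element of the normaliser of `P`, outside `Z P` -/
structure TorusIn (Z : Subgroup H) (P : Sylow p H) (y : H) : Prop where
  ne : (P : Subgroup H) ≠ ⊥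
  mem : y ∈ Subgroup.normalizer ((P : Subgroup H) : Set H)
  nmem : y ∉ Z ⊔ (P : Subgroup H)

theorem TorusIn.not_mem_Z {P : Sylow p H} {y : H} (h : TorusIn Z P y) : y ∉ Z :=
  fun hy => h.nmem (Subgroup.mem_sup_left hy)

/-- **L8a** -/
theorem Ax.not_dvd_of_torusIn (ax : Ax p Z) {P : Sylow p H} {y : H} (h : TorusIn Z P y) :
    ¬ p ∣ Nat.card (Cen y) := by
  intro hdvd
  haveI := ax.toCA.normal
  obtain ⟨Pg, hPg, hcen⟩ := ax.pT y h.not_mem_Z hdvd
  have hym : y ∈ Z ⊔ Pg := hcen ▸ self_mem_Cen y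
  obtain ⟨ζ, hζ, v, hv, rfl⟩ := Subgroup.mem_sup_of_normal_left.mp hym
  obtain ⟨k, hk⟩ := hPg ⟨v, hv⟩
  have hk' : v ^ p ^ k = 1 := by simpa using congrArg Subtype.val hk
  have hvN : v ∈ Subgroup.normalizer ((P : Subgroup H) : Set H) := by
    have : v = ζ⁻¹ * (ζ * v) := by group
    rw [this]
    exact Subgroup.mul_mem _ (Subgroup.inv_mem _ (ax.Z_le_normalizer P hζ)) h.mem
  have hvP := mem_sylow_of_mem_normalizer P hvN k hk'
  exact h.nmem (Subgroup.mul_mem _ (Subgroup.mem_sup_left hζ) (Subgroup.mem_sup_right hvP))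

/-- **L8b** -/
theorem Ax.cen_le_normalizer (ax : Ax p Z) {P : Sylow p H} {y : H} (h : TorusIn Z P y) :
    Cen y ≤ Subgroup.normalizer ((P : Subgroup H) : Set H) :=
  ax.norm_cen P h.ne y h.mem h.not_mem_Z (ax.not_dvd_of_torusIn h)

theorem Ax.cen_inf_sylow (ax : Ax p Z) {P : Sylow p H} {y : H} (h : TorusIn Z P y)
    {Q : Subgroup H} (hQ : IsPGroup p Q) : Cen y ⊓ Q = ⊥ :=
  inf_sylow_eq_bot (ax.not_dvd_of_torusIn h) hQ

/-- **L8c** surjectivity of `v ↦ [v, y]` on `P` -/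
theorem Ax.exists_comm_eq (ax : Ax p Z) {P : Sylow p H} {y : H} (h : TorusIn Z P y) {c : H}
    (hc : c ∈ P) : ∃ v ∈ (P : Subgroup H), v * y * v⁻¹ * y⁻¹ = c := by
  have hmem : ∀ v : H, v ∈ (P : Subgroup H) → v * y * v⁻¹ * y⁻¹ ∈ (P : Subgroup H) := by
    intro v hv
    have h1 : y * v⁻¹ * y⁻¹ ∈ (P : Subgroup H) :=
      (Subgroup.mem_normalizer_iff.1 h.mem v⁻¹).1 (Subgroup.inv_mem _ hv)
    have e : v * y * v⁻¹ * y⁻¹ = v * (y * v⁻¹ * y⁻¹) := by group
    rw [e]
    exact Subgroup.mul_mem _ hv h1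
  let f : ↥(P : Subgroup H) → ↥(P : Subgroup H) := fun v => ⟨v * y * (v : H)⁻¹ * y⁻¹, hmem v v.2⟩
  have hinj : Function.Injective f := by
    intro v v' hvv
    have h1 : (v : H) * y * (v : H)⁻¹ * y⁻¹ = (v' : H) * y * (v' : H)⁻¹ * y⁻¹ :=
      congrArg Subtype.val hvv
    have h2 : (v : H) * y * (v : H)⁻¹ = (v' : H) * y * (v' : H)⁻¹ := mul_right_cancel h1
    have h3 : (v' : H)⁻¹ * v ∈ Cen y ⊓ (P : Subgroup H) := by
      refine Subgroup.mem_inf.2 ⟨?_, Subgroup.mul_mem _ (Subgroup.inv_mem _ v'.2) v.2⟩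
      rw [mem_Cen]
      calc y * ((v' : H)⁻¹ * v) = (v' : H)⁻¹ * ((v' : H) * y * (v' : H)⁻¹) * v := by group
        _ = (v' : H)⁻¹ * ((v : H) * y * (v : H)⁻¹) * v := by rw [h2]
        _ = (v' : H)⁻¹ * v * y := by group
    rw [ax.cen_inf_sylow h P.2, Subgroup.mem_bot] at h3
    apply Subtype.ext
    calc (v : H) = v' * ((v' : H)⁻¹ * v) := by group
      _ = v' := by rw [h3, mul_one]
  have hsurj : Function.Surjective f := Finite.injective_iff_surjective.1 hinj
  obtain ⟨v, hv⟩ := hsurj ⟨c, hc⟩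
  exact ⟨v, v.2, congrArg Subtype.val hv⟩

/-- **L8c'** the normaliser of `P` is `P · Cen y` -/
theorem Ax.exists_mul_mem_cen (ax : Ax p Z) {P : Sylow p H} {y : H} (h : TorusIn Z P y) {y' : H}
    (hy' : y' ∈ Subgroup.normalizer ((P : Subgroup H) : Set H)) :
    ∃ v ∈ (P : Subgroup H), v⁻¹ * y' ∈ Cen y := by
  obtain ⟨v, hv, hvy⟩ := ax.exists_comm_eq h (ax.norm_ab P h.ne y' hy' y h.mem)
  refine ⟨v, hv, ?_⟩
  have h2 : v * y * v⁻¹ = y' * y * y'⁻¹ := mul_right_cancel hvy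
  rw [mem_Cen]
  calc y * (v⁻¹ * y') = v⁻¹ * (v * y * v⁻¹) * y' := by group
    _ = v⁻¹ * (y' * y * y'⁻¹) * y' := by rw [h2]
    _ = v⁻¹ * y' * y := by group

/-- **L8d** -/
theorem Ax.card_normalizer_eq (ax : Ax p Z) {P : Sylow p H} {y : H} (h : TorusIn Z P y) :
    Nat.card (Subgroup.normalizer ((P : Subgroup H) : Set H)) =
      Nat.card (P : Subgroup H) * Nat.card (Cen y) := by
  have hle := ax.cen_le_normalizer h
  have e : Subgroup.normalizer ((P : Subgroup H) : Set H) = (P : Subgroup H) ⊔ Cen y := by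
    apply le_antisymm
    · intro y' hy'
      obtain ⟨v, hv, hvy⟩ := ax.exists_mul_mem_cen h hy'
      have : y' = v * (v⁻¹ * y') := by group
      rw [this]
      exact Subgroup.mul_mem _ (Subgroup.mem_sup_left hv) (Subgroup.mem_sup_right hvy)
    · exact sup_le Subgroup.le_normalizer hle
  rw [e]
  apply Cfsg.Agent.Helper1.card_sup_of_mul_comm
  · exact (Subgroup.set_mul_normalizer_comm _ _ hle).symm
  · rw [inf_comm]; exact ax.cen_inf_sylow h P.2

theorem Ax.Z_le_cen (ax : Ax p Z) (y : H) : Z ≤ Cen y := ax.toCA.le_Cen y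

theorem card_subgroupOf_of_le {A B : Subgroup H} (h : A ≤ B) :
    Nat.card (A.subgroupOf B) = Nat.card A :=
  Nat.card_congr (Subgroup.subgroupOfEquivOfLe h).toEquiv

/-- **L9** -/
theorem Ax.card_cen_dvd (ax : Ax p Z) {P : Sylow p H} {y : H} (h : TorusIn Z P y) :
    Nat.card (Cen y) ∣ Nat.card Z * (Nat.card (P : Subgroup H) - 1) := by
  set D := Cen y with hD
  have hDN := ax.cen_le_normalizer h
  letI : MulAction ↥D H := MulAction.compHom H ((MulAut.conj (G := H)).comp D.subtype)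
  have hsmul : ∀ (d : ↥D) (x : H), d • x = (d : H) * x * (d : H)⁻¹ := fun d x => rfl
  let T : SubMulAction (↥D) H :=
    { carrier := {u | u ∈ (P : Subgroup H) ∧ u ≠ 1}
      smul_mem' := by
        rintro d u ⟨hu, hu1⟩
        refine ⟨?_, ?_⟩
        · rw [hsmul]
          exact (Subgroup.mem_normalizer_iff.1 (hDN d.2) u).1 hu
        · rw [hsmul]
          intro hcon
          apply hu1
          have : u = (d : H)⁻¹ * ((d : H) * u * (d : H)⁻¹) * d := by group
          rw [this, hcon]; group }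
  have hT : Nat.card T = Nat.card (P : Subgroup H) - 1 := by
    have e1 : Nat.card T = ({u : H | u ∈ (P : Subgroup H) ∧ u ≠ 1}).ncard := by
      rw [← Nat.card_coe_set_eq]; rfl
    have e2 : {u : H | u ∈ (P : Subgroup H) ∧ u ≠ 1} = ((P : Subgroup H) : Set H) \ {1} := by
      ext u
      constructor
      · rintro ⟨h1, h2⟩; exact ⟨h1, h2⟩
      · rintro ⟨h1, h2⟩; exact ⟨h1, h2⟩
    rw [e1, e2, Set.ncard_sdiff_singleton_of_mem (Subgroup.one_mem _), ← Nat.card_coe_set_eq]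
    rfl
  obtain ⟨r, hr⟩ := Subgroup.card_dvd_of_le (ax.Z_le_cen y)
  have hdvd : r ∣ Nat.card T := by
    apply Cfsg.Agent.Helper5.dvd_card_of_forall_card_stabilizer_dvd (P := ↥D) (Nat.card Z) r
      hr.symm
    intro u
    have hle : MulAction.stabilizer (↥D) u ≤ Z.subgroupOf D := by
      intro d hd
      rw [MulAction.mem_stabilizer_iff] at hd
      have hd' : (d : H) * (u : H) * (d : H)⁻¹ = u := congrArg Subtype.val hd
      rw [Subgroup.mem_subgroupOf]
      -- d ∈ Cen u = Z ⊔ P and d ∈ D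
      have hdc : (d : H) ∈ Cen (u : H) := by
        rw [mem_Cen]
        calc (u : H) * d = ((d : H) * u * (d : H)⁻¹) * d := by rw [hd']
          _ = d * u := by group
      rw [ax.cen_of_mem_sylow P u.2.1 u.2.2] at hdc
      haveI := ax.toCA.normal
      obtain ⟨ζ, hζ, v, hv, hζv⟩ := Subgroup.mem_sup_of_normal_left.mp hdc
      have hvD : v ∈ D ⊓ (P : Subgroup H) := by
        refine ⟨?_, hv⟩
        have : v = ζ⁻¹ * (d : H) := by rw [← hζv]; group
        rw [this]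
        exact Subgroup.mul_mem _ (Subgroup.inv_mem _ (ax.Z_le_cen y hζ)) d.2
      rw [ax.cen_inf_sylow h P.2, Subgroup.mem_bot] at hvD
      rw [← hζv, hvD, mul_one]
      exact hζ
    have := Subgroup.card_dvd_of_le hle
    rwa [card_subgroupOf_of_le (ax.Z_le_cen y)] at this
  rw [hT] at hdvd
  rw [hr]
  exact Nat.mul_dvd_mul_left _ hdvd

theorem conj_mem_normalizer_smul (P : Sylow p H) (g n : H)
    (hn : n ∈ Subgroup.normalizer ((P : Subgroup H) : Set H)) :
    g * n * g⁻¹ ∈ Subgroup.normalizer (((g • P : Sylow p H) : Subgroup H) : Set H) := by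
  apply Sylow.smul_eq_iff_mem_normalizer.1
  rw [mul_smul, mul_smul, inv_smul_smul, Sylow.smul_eq_iff_mem_normalizer.2 hn]

theorem Ax.conj_mem_sup (ax : Ax p Z) (P : Sylow p H) (g : H) {x : H}
    (hx : x ∈ Z ⊔ ((g • P : Sylow p H) : Subgroup H)) :
    g⁻¹ * x * g ∈ Z ⊔ (P : Subgroup H) := by
  haveI := ax.toCA.normal
  obtain ⟨ζ, hζ, v, hv, rfl⟩ := Subgroup.mem_sup_of_normal_left.mp hx
  have e : g⁻¹ * (ζ * v) * g = (g⁻¹ * ζ * g⁻¹⁻¹) * (g⁻¹ * v * g) := by group
  rw [e]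
  exact Subgroup.mul_mem _ (Subgroup.mem_sup_left ((ax.toCA.conj_mem_iff g⁻¹ ζ).2 hζ))
    (Subgroup.mem_sup_right ((mem_sylow_smul_iff P g v).1 hv))

/-- **Claim A** a Sylow subgroup normalised by a non-central element of `Cen y` is `P` or
`w • P`. -/
theorem Ax.sylow_eq_of_fixed (ax : Ax p Z) {P : Sylow p H} {y : H} (h : TorusIn Z P y) {w : H}
    (hN : ∀ g ∈ Subgroup.normalizer ((Cen y : Subgroup H) : Set H), g ∈ Cen y ∨ w⁻¹ * g ∈ Cen y)
    (Q : Sylow p H) {d : H} (hd : d ∈ Cen y) (hdZ : d ∉ Z) (hdQ : d • Q = Q) :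
    Q = P ∨ Q = w • P := by
  haveI := ax.toCA.normal
  obtain ⟨g, hg⟩ := MulAction.exists_smul_eq H P Q
  have hdN : d ∈ Subgroup.normalizer ((Q : Subgroup H) : Set H) :=
    Sylow.smul_eq_iff_mem_normalizer.1 hdQ
  have hDn := ax.not_dvd_of_torusIn h
  -- elements of `Cen y` outside `Z` are outside `Z ⊔ Q`
  have houtside : ∀ e : H, e ∈ Cen y → e ∉ Z → e ∉ Z ⊔ (Q : Subgroup H) := by
    intro e he heZ hcon
    obtain ⟨ζ, hζ, v, hv, hζv⟩ := Subgroup.mem_sup_of_normal_left.mp hcon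
    have hvD : v ∈ Cen y ⊓ (Q : Subgroup H) := by
      refine Subgroup.mem_inf.2 ⟨?_, hv⟩
      have : v = ζ⁻¹ * e := by rw [← hζv]; group
      rw [this]
      exact Subgroup.mul_mem _ (Subgroup.inv_mem _ (ax.Z_le_cen y hζ)) he
    rw [ax.cen_inf_sylow h Q.2, Subgroup.mem_bot] at hvD
    apply heZ
    rw [← hζv, hvD, mul_one]; exact hζ
  have hQne : (Q : Subgroup H) ≠ ⊥ := by
    intro hbot
    apply h.ne
    rw [eq_bot_iff]
    intro x hx
    have h1 : g * x * g⁻¹ ∈ g • P := by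
      rw [mem_sylow_smul_iff]
      have : g⁻¹ * (g * x * g⁻¹) * g = x := by group
      rw [this]; exact hx
    rw [hg] at h1
    have h2 : g * x * g⁻¹ ∈ (⊥ : Subgroup H) := hbot ▸ h1
    rw [Subgroup.mem_bot] at h2 ⊢
    have : x = g⁻¹ * (g * x * g⁻¹) * g := by group
    rw [this, h2]; group
  have tQ : TorusIn Z Q d := ⟨hQne, hdN, houtside d hd hdZ⟩
  have hcend : Cen d = Cen y := ax.toCA.cen_eq h.not_mem_Z hdZ hd
  -- the conjugate of y
  have hy₂N : g * y * g⁻¹ ∈ Subgroup.normalizer ((Q : Subgroup H) : Set H) := by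
    rw [← hg]; exact conj_mem_normalizer_smul P g y h.mem
  obtain ⟨v, hv, hvd⟩ := ax.exists_mul_mem_cen tQ hy₂N
  rw [hcend] at hvd
  set d₁ := v⁻¹ * (g * y * g⁻¹) with hd₁
  have hd₁nm : d₁ ∉ Z ⊔ (Q : Subgroup H) := by
    intro hcon
    have h1 : g * y * g⁻¹ ∈ Z ⊔ (Q : Subgroup H) := by
      have : g * y * g⁻¹ = v * d₁ := by rw [hd₁]; group
      rw [this]
      exact Subgroup.mul_mem _ (Subgroup.mem_sup_right hv) hcon
    rw [← hg] at h1
    have h2 := ax.conj_mem_sup P g h1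
    have e : g⁻¹ * (g * y * g⁻¹) * g = y := by group
    rw [e] at h2
    exact h.nmem h2
  have hd₁Z : d₁ ∉ Z := fun hz => hd₁nm (Subgroup.mem_sup_left hz)
  have hd₁N : d₁ ∈ Subgroup.normalizer ((Q : Subgroup H) : Set H) := by
    have := ax.cen_le_normalizer tQ
    rw [hcend] at this
    exact this hvd
  have tQ₁ : TorusIn Z Q d₁ := ⟨hQne, hd₁N, hd₁nm⟩
  obtain ⟨v', hv', hv'e⟩ := ax.exists_comm_eq tQ₁ hv
  -- v' d₁ v'⁻¹ = v d₁ = g y g⁻¹
  have e1 : v' * d₁ * v'⁻¹ = g * y * g⁻¹ := by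
    have : v' * d₁ * v'⁻¹ = (v' * d₁ * v'⁻¹ * d₁⁻¹) * d₁ := by group
    rw [this, hv'e, hd₁]; group
  set m := v'⁻¹ * g with hm
  have e2 : m * y * m⁻¹ = d₁ := by
    have : m * y * m⁻¹ = v'⁻¹ * (g * y * g⁻¹) * v' := by rw [hm]; group
    rw [this, ← e1]; group
  have hmN : m ∈ Subgroup.normalizer ((Cen y : Subgroup H) : Set H) := by
    have h1 : m⁻¹⁻¹ * y * m⁻¹ ∈ Cen y := by
      rw [inv_inv, e2]; exact hvd
    have := ax.toCA.mem_normalizer_of_conj_mem h.not_mem_Z h1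
    simpa using Subgroup.inv_mem _ this
  have hgm : g = v' * m := by rw [hm]; group
  have hv'Q : v'⁻¹ • Q = Q :=
    Sylow.smul_eq_iff_mem_normalizer.2 (Subgroup.inv_mem _ (Subgroup.le_normalizer hv'))
  have hcenN := ax.cen_le_normalizer h
  rcases hN m hmN with hmD | hmD
  · left
    have h1 : m • P = P := Sylow.smul_eq_iff_mem_normalizer.2 (hcenN hmD)
    have h2 : Q = v' • P := by rw [← hg, hgm, mul_smul, h1]
    have h3 : v'⁻¹ • Q = P := by rw [h2, inv_smul_smul]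
    rw [← h3, hv'Q]
  · right
    have h1 : (w⁻¹ * m) • P = P := Sylow.smul_eq_iff_mem_normalizer.2 (hcenN hmD)
    have h1' : m • P = w • P := by
      have : m = w * (w⁻¹ * m) := by group
      rw [this, mul_smul, h1]
    have h2 : Q = v' • (w • P) := by rw [← hg, hgm, mul_smul, h1']
    have h3 : v'⁻¹ • Q = w • P := by rw [h2, inv_smul_smul]
    rw [← h3, hv'Q]

theorem Ax.smul_ne_of_normalizer (ax : Ax p Z) {P : Sylow p H} {y : H} (h : TorusIn Z P y) {w : H}
    (hw : w ∈ Subgroup.normalizer ((Cen y : Subgroup H) : Set H)) (hwD : w ∉ Cen y) :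
    w • P ≠ P := by
  intro hcon
  have hwN : w ∈ Subgroup.normalizer ((P : Subgroup H) : Set H) :=
    Sylow.smul_eq_iff_mem_normalizer.1 hcon
  obtain ⟨v, hv, hvw⟩ := ax.exists_mul_mem_cen h hwN
  -- v ∈ N(D)
  have hvN : v ∈ Subgroup.normalizer ((Cen y : Subgroup H) : Set H) := by
    have : v = w * (v⁻¹ * w)⁻¹ := by group
    rw [this]
    exact Subgroup.mul_mem _ hw (Subgroup.inv_mem _ (Subgroup.le_normalizer hvw))
  have hc : v * y * v⁻¹ * y⁻¹ ∈ Cen y ⊓ (P : Subgroup H) := by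
    refine Subgroup.mem_inf.2 ⟨?_, ?_⟩
    · exact Subgroup.mul_mem _ ((Subgroup.mem_normalizer_iff.1 hvN y).1 (self_mem_Cen y))
        (Subgroup.inv_mem _ (self_mem_Cen y))
    · have h1 : y * v⁻¹ * y⁻¹ ∈ (P : Subgroup H) :=
        (Subgroup.mem_normalizer_iff.1 h.mem v⁻¹).1 (Subgroup.inv_mem _ hv)
      have e : v * y * v⁻¹ * y⁻¹ = v * (y * v⁻¹ * y⁻¹) := by group
      rw [e]; exact Subgroup.mul_mem _ hv h1
  rw [ax.cen_inf_sylow h P.2, Subgroup.mem_bot] at hc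
  have hvD : v ∈ Cen y ⊓ (P : Subgroup H) := by
    refine Subgroup.mem_inf.2 ⟨?_, hv⟩
    rw [mem_Cen]
    have h1 : v * y * v⁻¹ = y := by
      have : v * y * v⁻¹ = (v * y * v⁻¹ * y⁻¹) * y := by group
      rw [this, hc, one_mul]
    calc y * v = (v * y * v⁻¹) * v := by rw [h1]
      _ = v * y := by group
  rw [ax.cen_inf_sylow h P.2, Subgroup.mem_bot] at hvD
  apply hwD
  have : w = v * (v⁻¹ * w) := by group
  rw [this, hvD, one_mul]
  rw [hvD] at hvw
  simpa using hvw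

theorem card_ne_ne_sylow (P P' : Sylow p H) (hne : P' ≠ P) :
    Nat.card {Q : Sylow p H // Q ≠ P ∧ Q ≠ P'} = Nat.card (Sylow p H) - 2 := by
  have e1 : Nat.card {Q : Sylow p H // Q ≠ P ∧ Q ≠ P'} =
      ({Q : Sylow p H | Q ≠ P ∧ Q ≠ P'}).ncard := by
    rw [← Nat.card_coe_set_eq]; rfl
  have e2 : {Q : Sylow p H | Q ≠ P ∧ Q ≠ P'} = Set.univ \ {P, P'} := by
    ext Q
    simp only [ne_eq, Set.mem_ofPred_eq, Set.mem_sdiff, Set.mem_univ, Set.mem_insert_iff,
      Set.mem_singleton_iff, not_or, true_and]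
  rw [e1, e2, Set.ncard_sdiff (Set.subset_univ _) (Set.toFinite _), Set.ncard_univ,
    Set.ncard_pair hne.symm]

/-- **L10** -/
theorem Ax.card_cen_dvd_sub_two (ax : Ax p Z) {P : Sylow p H} {y : H} (h : TorusIn Z P y) {w : H}
    (hw : w ∈ Subgroup.normalizer ((Cen y : Subgroup H) : Set H)) (hwD : w ∉ Cen y)
    (hN : ∀ g ∈ Subgroup.normalizer ((Cen y : Subgroup H) : Set H), g ∈ Cen y ∨ w⁻¹ * g ∈ Cen y) :
    Nat.card (Cen y) ∣ Nat.card Z * (Nat.card (Sylow p H) - 2) := by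
  set D := Cen y with hD
  have hDN := ax.cen_le_normalizer h
  have hwP := ax.smul_ne_of_normalizer h hw hwD
  let T : SubMulAction (↥D) (Sylow p H) :=
    { carrier := {Q | Q ≠ P ∧ Q ≠ w • P}
      smul_mem' := by
        rintro d Q ⟨hQ1, hQ2⟩
        have hdP : (d : H)⁻¹ • P = P :=
          Sylow.smul_eq_iff_mem_normalizer.2 (Subgroup.inv_mem _ (hDN d.2))
        refine ⟨?_, ?_⟩
        · intro hcon
          apply hQ1
          have h1 : (d : H)⁻¹ • ((d : H) • Q) = (d : H)⁻¹ • P := by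
            have : d • Q = (d : H) • Q := rfl
            rw [← this, hcon]
          rw [inv_smul_smul] at h1
          rw [h1, hdP]
        · intro hcon
          apply hQ2
          have h1 : (d : H)⁻¹ • ((d : H) • Q) = (d : H)⁻¹ • (w • P) := by
            have : d • Q = (d : H) • Q := rfl
            rw [← this, hcon]
          rw [inv_smul_smul] at h1
          rw [h1]
          -- d⁻¹ w = w (w⁻¹ d⁻¹ w)
          have h2 : w⁻¹ * (d : H)⁻¹ * w ∈ D := by
            have := (Subgroup.mem_normalizer_iff.1 (Subgroup.inv_mem _ hw) (d : H)⁻¹).1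
              (Subgroup.inv_mem _ d.2)
            simpa using this
          have h3 : (w⁻¹ * (d : H)⁻¹ * w) • P = P :=
            Sylow.smul_eq_iff_mem_normalizer.2 (hDN h2)
          have h4 : (d : H)⁻¹ • (w • P) = w • ((w⁻¹ * (d : H)⁻¹ * w) • P) := by
            rw [← mul_smul, ← mul_smul]
            congr 1
            group
          rw [h4, h3] }
  have hT : Nat.card T = Nat.card (Sylow p H) - 2 := card_ne_ne_sylow P (w • P) hwP
  obtain ⟨r, hr⟩ := Subgroup.card_dvd_of_le (ax.Z_le_cen y)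
  have hdvd : r ∣ Nat.card T := by
    apply Cfsg.Agent.Helper5.dvd_card_of_forall_card_stabilizer_dvd (P := ↥D) (Nat.card Z) r
      hr.symm
    intro Q
    have hle : MulAction.stabilizer (↥D) Q ≤ Z.subgroupOf D := by
      intro d hd
      rw [MulAction.mem_stabilizer_iff] at hd
      have hd' : (d : H) • (Q : Sylow p H) = Q := congrArg Subtype.val hd
      rw [Subgroup.mem_subgroupOf]
      by_contra hdZ
      rcases ax.sylow_eq_of_fixed h hN (Q : Sylow p H) d.2 hdZ hd' with h1 | h1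
      · exact Q.2.1 h1
      · exact Q.2.2 h1
    have := Subgroup.card_dvd_of_le hle
    rwa [card_subgroupOf_of_le (ax.Z_le_cen y)] at this
  rw [hT] at hdvd
  rw [hr]
  exact Nat.mul_dvd_mul_left _ hdvd

end basic

end Cfsg.Agent.Helper4.DC
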