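import Mathlib
import Cfsg.Agent.Lib.Helper4.DicksonStruct

set_option autoImplicit false
set_option linter.unusedSectionVars false
set_option linter.style.haveILetI false
set_option linter.unusedVariables false

/-! The class equation for a group satisfying `Ax` and its arithmetic consequences. -/

namespace Cfsg.Agent.Helper4.DC

/-! ### pure arithmetic -/


theorem arith_star (q k d t : ℕ) (hq : 3 ≤ q) (hk : 1 ≤ k) (hd : 2 ≤ d)
    (h1 : d ∣ q - 1) (h2 : d ∣ k * q - 1) (h3 : (1 + k * q) * d = t * (1 + k * (q - 2))) :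
    k = 1 ∨ (q = 3 ∧ d = 2 ∧ t = 5) := by
  by_cases hk1 : k = 1
  · exact Or.inl hk1
  right
  have hk2 : 2 ≤ k := by omega
  obtain ⟨q', rfl⟩ : ∃ q', q = q' + 3 := ⟨q - 3, by omega⟩
  -- d ∣ k - 1
  have h4 : d ∣ k - 1 := by
    have e : k * (q' + 3) - 1 = k * (q' + 3 - 1) + (k - 1) := by
      have : k * (q' + 3) = k * (q' + 3 - 1) + k := by
        have : q' + 3 = (q' + 3 - 1) + 1 := by omega
        nth_rewrite 1 [this]; ring
      omega
    rw [e] at h2
    exact (Nat.dvd_add_right (Dvd.dvd.mul_left h1 k)).1 h2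
  have h5 : d ≤ k - 1 := Nat.le_of_dvd (by omega) h4
  -- e = 1 + k (q'+1)
  have he : q' + 3 - 2 = q' + 1 := by omega
  rw [he] at h3
  set e := 1 + k * (q' + 1) with hedef
  have h6 : (1 + k * (q' + 3)) = e + 2 * k := by rw [hedef]; ring
  rw [h6] at h3
  -- e ∣ 2 k d
  have h7 : e ∣ 2 * k * d := by
    have : e ∣ (e + 2 * k) * d := ⟨t, by rw [h3]; ring⟩
    have e2 : (e + 2 * k) * d = e * d + 2 * k * d := by ring
    rw [e2] at this
    exact (Nat.dvd_add_right (Dvd.intro _ rfl)).1 this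
  have hcop : Nat.Coprime e k := by
    rw [hedef]
    have : Nat.Coprime (1 + k * (q' + 1)) k := by
      rw [Nat.coprime_add_mul_left_left]
      exact Nat.coprime_one_left k
    exact this
  have h8 : e ∣ 2 * d := by
    have : e ∣ k * (2 * d) := by
      have e3 : k * (2 * d) = 2 * k * d := by ring
      rw [e3]; exact h7
    exact hcop.dvd_of_dvd_mul_left this
  have h9 : e ≤ 2 * d := Nat.le_of_dvd (by omega) h8
  -- so q' = 0
  have hq0 : q' = 0 := by
    by_contra hne
    have : 1 ≤ q' := Nat.one_le_iff_ne_zero.2 hne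
    have : k * 2 ≤ k * (q' + 1) := Nat.mul_le_mul_left k (by omega)
    omega
  subst hq0
  -- d ∣ 2
  have hd2 : d = 2 := by
    have : d ≤ 2 := Nat.le_of_dvd (by norm_num) (by simpa using h1)
    omega
  subst hd2
  have he' : e = 1 + k := by rw [hedef]; ring
  have he4 : e = 4 := by
    have h10 : e ∣ 4 := by simpa using h8
    have h11 : 3 ≤ e := by omega
    have h12 : e ≤ 4 := Nat.le_of_dvd (by norm_num) h10
    interval_cases e
    · omega
    · rfl
  refine ⟨by norm_num, rfl, ?_⟩
  have hk3 : k = 3 := by omega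
  subst hk3
  rw [he4] at h3
  omega

/-- case `d = 1`, the first torus class -/
theorem ar1 (z n q1 m1 Kx : ℕ) (hz : 0 < z) (hn : 2 ≤ n) (hq : 2 ≤ q1) (hm : 1 ≤ m1)
    (hsum : z + n * z * q1 + Kx ≤ n * z * (q1 + 1))
    (hK : Kx * (m1 + 1) = n * z * (q1 + 1) * m1 ∨ 2 * Kx * (m1 + 1) = n * z * (q1 + 1) * m1) :
    q1 = 2 ∧ m1 = 1 ∧ 4 * Kx = 3 * n * z := by
  have h1 : Kx + z ≤ n * z := by nlinarith
  rcases hK with hK | hK
  · exfalso
    -- Kx (m1+1) + z (m1+1) ≤ n z (m1+1)
    have h2 : n * z * (q1 + 1) * m1 + z * (m1 + 1) ≤ n * z * (m1 + 1) := by nlinarith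
    have h3 : n * z * 3 * m1 ≤ n * z * (q1 + 1) * m1 := by
      apply Nat.mul_le_mul_right
      apply Nat.mul_le_mul_left
      omega
    have h4 : 0 < n * z := by positivity
    nlinarith
  · have h2 : n * z * (q1 + 1) * m1 + 2 * z * (m1 + 1) ≤ 2 * n * z * (m1 + 1) := by nlinarith
    have h4 : 0 < n * z := by positivity
    have hm1 : m1 = 1 := by
      by_contra hne
      have hm2 : 2 ≤ m1 := by omega
      have h3 : n * z * 3 * m1 ≤ n * z * (q1 + 1) * m1 := by
        apply Nat.mul_le_mul_right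
        apply Nat.mul_le_mul_left
        omega
      nlinarith
    subst hm1
    have hq1 : q1 = 2 := by
      by_contra hne
      have hq3 : 3 ≤ q1 := by omega
      have h3 : n * z * 4 ≤ n * z * (q1 + 1) := by
        apply Nat.mul_le_mul_left
        omega
      nlinarith
    subst hq1
    refine ⟨rfl, rfl, ?_⟩
    linarith

/-- case `d = 1`, no second torus class -/
theorem ar2 (z n m1 Kx Kx' : ℕ) (hz : 0 < z) (hn : 2 ≤ n) (hm : 1 ≤ m1)
    (hKx : 4 * Kx = 3 * n * z)
    (hsum : z + n * z * 2 + Kx + Kx' ≤ n * z * 3)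
    (hK : Kx' * (m1 + 1) = n * z * 3 * m1 ∨ 2 * Kx' * (m1 + 1) = n * z * 3 * m1) : False := by
  have h1 : 4 * Kx' + 4 * z ≤ n * z := by nlinarith
  have h2 : n * z * 3 * m1 ≤ 2 * Kx' * (m1 + 1) := by
    rcases hK with hK | hK
    · rw [← hK]; nlinarith
    · rw [hK]
  have h4 : 0 < n * z := by positivity
  nlinarith

/-- case `d ≥ 2`, `ε₁ = 1` is impossible -/
theorem ar3 (z n q1 d1 m1 Ky Kx : ℕ) (hz : 0 < z) (hn : 2 ≤ n) (hq : 2 ≤ q1) (hd : 1 ≤ d1)
    (hm : 1 ≤ m1)
    (hKy : Ky * (d1 + 1) = n * z * (q1 + 1) * (d1 + 1) * d1)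
    (hsum : z + n * z * q1 + Ky + Kx ≤ n * z * (q1 + 1) * (d1 + 1))
    (hK : Kx * (m1 + 1) = n * z * (q1 + 1) * (d1 + 1) * m1 ∨
      2 * Kx * (m1 + 1) = n * z * (q1 + 1) * (d1 + 1) * m1) : False := by
  have hKy' : Ky = n * z * (q1 + 1) * d1 := by
    have : Ky * (d1 + 1) = (n * z * (q1 + 1) * d1) * (d1 + 1) := by rw [hKy]; ring
    exact Nat.eq_of_mul_eq_mul_right (by omega) this
  subst hKy'
  have h1 : Kx + z ≤ n * z := by nlinarith
  have h2 : n * z * (q1 + 1) * (d1 + 1) * m1 ≤ 2 * Kx * (m1 + 1) := by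
    rcases hK with hK | hK
    · rw [← hK]; nlinarith
    · rw [hK]
  have h4 : 0 < n * z := by positivity
  have h5 : n * z * 6 * m1 ≤ n * z * (q1 + 1) * (d1 + 1) * m1 := by
    apply Nat.mul_le_mul_right
    have : 6 ≤ (q1 + 1) * (d1 + 1) := by nlinarith
    calc n * z * 6 ≤ n * z * ((q1 + 1) * (d1 + 1)) := Nat.mul_le_mul_left _ this
      _ = n * z * (q1 + 1) * (d1 + 1) := by ring
  nlinarith

theorem ar4a (z n q1 d1 Ky : ℕ) (hz : 0 < z) (hn : 2 ≤ n)
    (hKy : 2 * Ky = n * z * (q1 + 1) * d1) :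
    z + n * z * q1 + Ky < n * z * (q1 + 1) * (d1 + 1) := by
  have h4 : 0 < n * z := by positivity
  nlinarith

theorem ar4b (z n q1 d1 m1 Ky Kx : ℕ) (hz : 0 < z) (hn : 2 ≤ n) (hq : 2 ≤ q1)
    (hm : 1 ≤ m1)
    (hKy : 2 * Ky = n * z * (q1 + 1) * d1)
    (hsum : z + n * z * q1 + Ky + Kx ≤ n * z * (q1 + 1) * (d1 + 1))
    (hK : Kx * (m1 + 1) = n * z * (q1 + 1) * (d1 + 1) * m1) : False := by
  have h4 : 0 < n * z := by positivity
  -- 2 Kx ≤ nzq(d-1) + 2nz - 2z
  have h1 : 2 * Kx + 2 * z ≤ n * z * (q1 + 1) * d1 + 2 * n * z := by nlinarith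
  -- 2 Kx (m1+1) = 2 A m1 ≥ A (m1+1)
  have h2 : n * z * (q1 + 1) * (d1 + 1) * (m1 + 1) ≤ 2 * Kx * (m1 + 1) := by
    have : 2 * Kx * (m1 + 1) = 2 * (n * z * (q1 + 1) * (d1 + 1) * m1) := by rw [← hK]; ring
    rw [this]
    have h3 : m1 + 1 ≤ 2 * m1 := by omega
    calc n * z * (q1 + 1) * (d1 + 1) * (m1 + 1) ≤ n * z * (q1 + 1) * (d1 + 1) * (2 * m1) :=
          Nat.mul_le_mul_left _ h3
      _ = 2 * (n * z * (q1 + 1) * (d1 + 1) * m1) := by ring
  have h5 : n * z * (q1 + 1) * (d1 + 1) ≤ 2 * Kx := Nat.le_of_mul_le_mul_right h2 (by omega)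
  have h6 : n * z * 3 ≤ n * z * (q1 + 1) := Nat.mul_le_mul_left _ (by omega)
  nlinarith

theorem ar4c (z n q1 d1 t1 m1 Ky Kx Kx' : ℕ) (hz : 0 < z) (hn : 2 ≤ n) (hq : 2 ≤ q1)
    (ht : 1 ≤ t1) (hm : 1 ≤ m1)
    (hKy : 2 * Ky = n * z * (q1 + 1) * d1)
    (hKx : 2 * Kx * (t1 + 1) = n * z * (q1 + 1) * (d1 + 1) * t1)
    (hsum : z + n * z * q1 + Ky + Kx + Kx' ≤ n * z * (q1 + 1) * (d1 + 1))
    (hK : Kx' * (m1 + 1) = n * z * (q1 + 1) * (d1 + 1) * m1 ∨
      2 * Kx' * (m1 + 1) = n * z * (q1 + 1) * (d1 + 1) * m1) : False := by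
  have h4 : 0 < n * z := by positivity
  set A := n * z * (q1 + 1) * (d1 + 1) with hA
  -- 4 Kx' ≥ A
  have h2 : A * m1 ≤ 2 * Kx' * (m1 + 1) := by
    rcases hK with hK | hK
    · rw [← hK]; nlinarith
    · rw [hK]
  have h3 : A * (m1 + 1) ≤ 4 * Kx' * (m1 + 1) := by
    have : m1 + 1 ≤ 2 * m1 := by omega
    calc A * (m1 + 1) ≤ A * (2 * m1) := Nat.mul_le_mul_left _ this
      _ = 2 * (A * m1) := by ring
      _ ≤ 2 * (2 * Kx' * (m1 + 1)) := Nat.mul_le_mul_left _ h2
      _ = 4 * Kx' * (m1 + 1) := by ring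
  have h5 : A ≤ 4 * Kx' := Nat.le_of_mul_le_mul_right h3 (by omega)
  -- 2 Kx + 2 Kx' + 2 z ≤ nzq d1 + 2 n z
  have h1 : 2 * Kx + 2 * Kx' + 2 * z ≤ n * z * (q1 + 1) * d1 + 2 * n * z := by
    rw [hA] at hsum; nlinarith
  -- 4 Kx ≤ ... 
  have h6 : 4 * Kx + A + 4 * z ≤ 2 * (n * z * (q1 + 1) * d1) + 4 * n * z := by nlinarith
  -- multiply by (t1+1)
  have h7 : (4 * Kx + A + 4 * z) * (t1 + 1) ≤
      (2 * (n * z * (q1 + 1) * d1) + 4 * n * z) * (t1 + 1) := Nat.mul_le_mul_right _ h6
  have h8 : 4 * Kx * (t1 + 1) = 2 * (A * t1) := by rw [← hKx]; ring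
  have h9 : A = n * z * (q1 + 1) * d1 + n * z * (q1 + 1) := by rw [hA]; ring
  have h10 : n * z * 3 ≤ n * z * (q1 + 1) := Nat.mul_le_mul_left _ (by omega)
  have h11 : A * 2 ≤ A * (t1 + 1) := Nat.mul_le_mul_left _ (by omega)
  nlinarith

theorem ar4d (z n q1 d1 t1 Ky Kx : ℕ) (hz : 0 < z)
    (hKy : 2 * Ky = n * z * (q1 + 1) * d1)
    (hKx : 2 * Kx * (t1 + 1) = n * z * (q1 + 1) * (d1 + 1) * t1)
    (hsum : z + n * z * q1 + Ky + Kx = n * z * (q1 + 1) * (d1 + 1)) :
    n * (q1 + 1) * (d1 + 1) + (t1 + 1) * (2 * n) = (t1 + 1) * (n * (q1 + 1) + 2) := by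
  -- 2 Kx = nzq d1 + 2 n z - 2 z  (as an equation with additions)
  have h1 : 2 * Kx + 2 * z = n * z * (q1 + 1) * d1 + 2 * n * z := by nlinarith
  have h2 : (2 * Kx + 2 * z) * (t1 + 1) = (n * z * (q1 + 1) * d1 + 2 * n * z) * (t1 + 1) := by
    rw [h1]
  have h3 : z * (n * (q1 + 1) * (d1 + 1) + (t1 + 1) * (2 * n)) =
      z * ((t1 + 1) * (n * (q1 + 1) + 2)) := by nlinarith
  exact Nat.eq_of_mul_eq_mul_left hz h3
theorem ar5 (k q d t : ℕ) (hq : 3 ≤ q)
    (h : (1 + k * q) * q * d + t * (2 * (1 + k * q)) = t * ((1 + k * q) * q + 2)) :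
    (1 + k * q) * d = t * (1 + k * (q - 2)) := by
  obtain ⟨q', rfl⟩ : ∃ q', q = q' + 3 := ⟨q - 3, by omega⟩
  have e : q' + 3 - 2 = q' + 1 := by omega
  rw [e]
  have h3 : (q' + 3) * ((1 + k * (q' + 3)) * d) = (q' + 3) * (t * (1 + k * (q' + 1))) := by
    nlinarith
  exact Nat.eq_of_mul_eq_mul_left (by omega) h3

/-! ### group theory -/

open scoped Pointwise

variable {H : Type*} [Group H] {p : ℕ} [hp : Fact p.Prime] {Z : Subgroup H}

theorem card_Cen_conj (h g : H) : Nat.card (Cen (h * g * h⁻¹)) = Nat.card (Cen g) := by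
  apply Nat.card_congr
  refine ⟨fun a => ⟨h⁻¹ * a * h, (mem_Cen_conj h).1 a.2⟩,
    fun a => ⟨h * a * h⁻¹, (conj_mem_Cen_conj h).2 a.2⟩, ?_, ?_⟩
  · rintro ⟨a, ha⟩
    apply Subtype.ext
    simp only
    group
  · rintro ⟨a, ha⟩
    apply Subtype.ext
    simp only
    group

theorem CA.card_Cen_of_rel (hZ : CA Z) {x g : H} (hx : x ∉ Z) (hg : g ∉ Z) (hr : Rel x g) :
    Nat.card (Cen x) = Nat.card (Cen g) := by
  obtain ⟨h, hh⟩ := hr
  have hx' : h * x * h⁻¹ ∉ Z := fun hm => hx ((hZ.conj_mem_iff h x).1 hm)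
  rw [← card_Cen_conj h x, hZ.cen_eq hg hx' hh]

variable [Finite H]

/-- index two: coset representative -/
theorem exists_coset_rep {D N : Subgroup H} (hDN : D ≤ N) (hcard : Nat.card N = 2 * Nat.card D) :
    ∃ w ∈ N, w ∉ D ∧ ∀ g ∈ N, g ∈ D ∨ w⁻¹ * g ∈ D := by
  have h1 := Subgroup.card_mul_index (D.subgroupOf N)
  rw [card_subgroupOf_of_le hDN, hcard] at h1
  have hpos : 0 < Nat.card D := Nat.card_pos
  have h2 : (D.subgroupOf N).index = 2 := by
    have : Nat.card D * (D.subgroupOf N).index = Nat.card D * 2 := by rw [h1]; ring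
    exact Nat.eq_of_mul_eq_mul_left hpos this
  obtain ⟨a, ha⟩ := Subgroup.index_eq_two_iff.1 h2
  refine ⟨a, a.2, ?_, ?_⟩
  · have := ha 1
    rw [one_mul] at this
    rcases this with ⟨h3, h4⟩ | ⟨h3, h4⟩
    · exact absurd (Subgroup.one_mem _) h4
    · exact fun hcon => h4 (Subgroup.mem_subgroupOf.2 hcon)
  · intro g hg
    have := ha (⟨g, hg⟩⁻¹ : N)
    rcases this with ⟨h3, h4⟩ | ⟨h3, h4⟩
    · right
      have h5 := Subgroup.inv_mem _ h3
      rw [Subgroup.mem_subgroupOf] at h5
      simpa using h5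
    · left
      have h5 := Subgroup.inv_mem _ h3
      rw [Subgroup.mem_subgroupOf] at h5
      simpa using h5

/-- data of a torus class -/
theorem Ax.torus_data (ax : Ax p Z) {x : H} (hx : x ∉ Z) (hxp : ¬ p ∣ Nat.card (Cen x)) :
    ∃ m1 : ℕ, 1 ≤ m1 ∧ Nat.card (Cen x) = Nat.card Z * (m1 + 1) ∧
      (((K Z x).ncard * (m1 + 1) = Nat.card H * m1) ∨
       (Nat.card (Subgroup.normalizer ((Cen x : Subgroup H) : Set H)) = 2 * Nat.card (Cen x) ∧
        2 * (K Z x).ncard * (m1 + 1) = Nat.card H * m1)) := by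
  have hzpos : 0 < Nat.card Z := Nat.card_pos
  obtain ⟨m, hm⟩ := Subgroup.card_dvd_of_le (ax.Z_le_cen x)
  have hcpos : 0 < Nat.card (Cen x) := Nat.card_pos
  have hm0 : m ≠ 0 := by
    rintro rfl
    rw [mul_zero] at hm; omega
  have hm1 : m ≠ 1 := by
    rintro rfl
    rw [mul_one] at hm
    have : Z = Cen x := Subgroup.eq_of_le_of_card_ge (ax.Z_le_cen x) hm.le
    exact hx (this ▸ self_mem_Cen x)
  obtain ⟨m1, rfl⟩ : ∃ m1, m = m1 + 1 := ⟨m - 1, by omega⟩
  refine ⟨m1, by omega, hm, ?_⟩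
  have hK := ax.toCA.card_K hx
  obtain ⟨j, hj⟩ := Subgroup.card_dvd_of_le
    (Subgroup.le_normalizer : Cen x ≤ Subgroup.normalizer ((Cen x : Subgroup H) : Set H))
  have hle := ax.tT x hx hxp
  have hνpos : 0 < Nat.card (Subgroup.normalizer ((Cen x : Subgroup H) : Set H)) := Nat.card_pos
  have hj12 : j = 1 ∨ j = 2 := by
    rw [hj] at hle hνpos
    have hj0 : j ≠ 0 := by rintro rfl; simp at hνpos
    have : j ≤ 2 := by
      by_contra hcon
      push Not at hcon
      have : Nat.card (Cen x) * 3 ≤ Nat.card (Cen x) * j := Nat.mul_le_mul_left _ hcon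
      omega
    omega
  have hsub : Nat.card (Cen x) - Nat.card Z = Nat.card Z * m1 := by
    rw [hm]; ring_nf; omega
  rw [hsub, hj] at hK
  rcases hj12 with rfl | rfl
  · left
    rw [mul_one, hm] at hK
    have : Nat.card Z * ((K Z x).ncard * (m1 + 1)) = Nat.card Z * (Nat.card H * m1) := by
      rw [← mul_assoc, ← mul_assoc, mul_comm (Nat.card Z) ((K Z x).ncard)]
      rw [mul_assoc ((K Z x).ncard)]
      rw [hK]; ring
    exact Nat.eq_of_mul_eq_mul_left hzpos this
  · right
    refine ⟨by rw [hj]; ring, ?_⟩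
    rw [hm] at hK
    have : Nat.card Z * (2 * (K Z x).ncard * (m1 + 1)) = Nat.card Z * (Nat.card H * m1) := by
      have e : Nat.card Z * (2 * (K Z x).ncard * (m1 + 1)) =
          (K Z x).ncard * (Nat.card Z * (m1 + 1) * 2) := by ring
      rw [e, hK]; ring
    exact Nat.eq_of_mul_eq_mul_left hzpos this

/-- a torus-type element is not related to a nontrivial element of a Sylow `p`-subgroup -/
theorem Ax.not_rel_sylow (ax : Ax p Z) (P : Sylow p H) {u : H} (hu : u ∈ P) (hu1 : u ≠ 1) {x : H}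
    (hx : x ∉ Z) (hxp : ¬ p ∣ Nat.card (Cen x)) : ¬ Rel x u := by
  intro hr
  have huZ := ax.not_mem_Z_of_mem_sylow P hu hu1
  have h1 := ax.toCA.card_Cen_of_rel hx huZ hr
  apply hxp
  rw [h1]
  have hle := ax.sylow_le_Cen P hu
  have h2 : Nat.card (P : Subgroup H) ∣ Nat.card (Cen u) := Subgroup.card_dvd_of_le hle
  have h3 : p ∣ Nat.card (P : Subgroup H) := by
    obtain ⟨n, hn⟩ := IsPGroup.iff_card.1 P.2
    rw [hn]
    rcases Nat.eq_zero_or_pos n with h0 | h0
    · exfalso
      rw [h0, pow_zero] at hn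
      have hbot : (P : Subgroup H) = ⊥ := (Subgroup.card_eq_one).1 hn
      have : u ∈ (⊥ : Subgroup H) := hbot ▸ hu
      exact hu1 (Subgroup.mem_bot.1 this)
    · exact dvd_pow_self p h0.ne'
  exact h3.trans h2

/-- **Theorem C** the class equation: either `H` is `2`-transitive on its Sylow
`p`-subgroups, or `|P| = 3` and the centralisers of torus-type elements have order `2|Z|` or
`5|Z|`. -/
theorem Ax.main (ax : Ax p Z) (P : Sylow p H) (hn : 1 < Nat.card (Sylow p H)) :
    Nat.card (Sylow p H) = Nat.card (P : Subgroup H) + 1 ∨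
    (Nat.card (P : Subgroup H) = 3 ∧ ∀ g : H, g ∉ Z → ¬ p ∣ Nat.card (Cen g) →
       Nat.card (Cen g) = Nat.card Z * 2 ∨ Nat.card (Cen g) = Nat.card Z * 5) := by
  have hzpos : 0 < Nat.card Z := Nat.card_pos
  -- P is nontrivial
  have hPne : (P : Subgroup H) ≠ ⊥ := by
    intro hbot
    have hall : ∀ Q : Sylow p H, Q = P := by
      intro Q
      obtain ⟨g, rfl⟩ := MulAction.exists_smul_eq H P Q
      apply Sylow.ext
      rw [hbot, eq_bot_iff]
      intro x hx
      have hx' : x ∈ g • P := hx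
      rw [mem_sylow_smul_iff] at hx'
      have h1 : g⁻¹ * x * g ∈ (⊥ : Subgroup H) := hbot ▸ hx'
      rw [Subgroup.mem_bot] at h1 ⊢
      have : x = g * (g⁻¹ * x * g) * g⁻¹ := by group
      rw [this, h1]; group
    have : Subsingleton (Sylow p H) := ⟨fun a b => (hall a).trans (hall b).symm⟩
    have := Finite.card_le_one_iff_subsingleton.2 this
    omega
  obtain ⟨⟨u, hu⟩, hune⟩ := (Subgroup.ne_bot_iff_exists_ne_one).1 hPne
  have hu1 : u ≠ 1 := fun h => hune (Subtype.ext h)
  have huZ := ax.not_mem_Z_of_mem_sylow P hu hu1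
  -- q ≥ 3
  have hpq : p ∣ Nat.card (P : Subgroup H) := by
    obtain ⟨n, hn'⟩ := IsPGroup.iff_card.1 P.2
    rw [hn']
    rcases Nat.eq_zero_or_pos n with h0 | h0
    · exfalso
      rw [h0, pow_zero] at hn'
      exact hPne ((Subgroup.card_eq_one).1 hn')
    · exact dvd_pow_self p h0.ne'
  have hq3 : 3 ≤ Nat.card (P : Subgroup H) :=
    ax.hp3.trans (Nat.le_of_dvd Nat.card_pos hpq)
  obtain ⟨d, hdpos, hNP⟩ := ax.card_normalizer P
  have hKu := ax.card_K_sylow P hu hu1
  have hH : Nat.card H = Nat.card (Sylow p H) *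
      (Nat.card Z * Nat.card (P : Subgroup H) * d) := by
    rw [← hNP, P.card_eq_index_normalizer, mul_comm]
    exact (Subgroup.card_mul_index _).symm
  obtain ⟨k, hk⟩ := ax.card_sylow_sub_one P
  -- abbreviations
  obtain ⟨q1, hq1⟩ : ∃ q1, Nat.card (P : Subgroup H) = q1 + 1 :=
    ⟨Nat.card (P : Subgroup H) - 1, by omega⟩
  have hq12 : 2 ≤ q1 := by omega
  rw [hq1] at hKu hH hk hNP
  rw [Nat.add_sub_cancel] at hKu
  set z := Nat.card Z with hz
  set n := Nat.card (Sylow p H) with hndef
  have hn2 : 2 ≤ n := hn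
  have hnk : n = 1 + k * (q1 + 1) := by
    have : n - 1 = (q1 + 1) * k := hk
    rw [mul_comm] at this
    omega
  have hKu' : (K Z u).ncard = n * z * q1 := by rw [hKu]; ring
  -- torus-type elements are those unrelated to u
  have htorus : ∀ x : H, x ∉ Z → ¬ Rel x u → ¬ p ∣ Nat.card (Cen x) := by
    intro x hx hr hdvd
    exact hr (ax.rel_of_pT P hu hu1 hx hdvd)
  have hnz : 0 < n * z := by positivity
  rcases Nat.eq_or_lt_of_le (Nat.succ_le_of_lt hdpos) with hd1 | hd2
  · -- d = 1
    have hd1' : d = 1 := hd1.symm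
    subst hd1'
    rw [mul_one] at hH hNP
    have hH' : Nat.card H = n * z * (q1 + 1) := by rw [hH]; ring
    obtain ⟨x, hxZ, hxr⟩ := ax.toCA.exists_of_list_sum_lt [u] (by simpa using huZ)
      (List.pairwise_singleton _ _) (by
        simp only [List.map_cons, List.map_nil, List.sum_cons, List.sum_nil, add_zero]
        rw [hKu', hH']
        nlinarith)
    have hxu : ¬ Rel x u := hxr u (by simp)
    have hxp := htorus x hxZ hxu
    obtain ⟨m1, hm1, hcx, hKx⟩ := ax.torus_data hxZ hxp
    have hsum := ax.toCA.list_sum_le [u, x] (by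
        intro g hg
        simp only [List.mem_cons, List.not_mem_nil, or_false] at hg
        rcases hg with rfl | rfl
        · exact huZ
        · exact hxZ)
      (by
        simp only [List.pairwise_cons, List.mem_cons, List.not_mem_nil, or_false, forall_eq,
          IsEmpty.forall_iff, implies_true, List.Pairwise.nil, and_true]
        exact fun h => hxu h.symm)
    simp only [List.map_cons, List.map_nil, List.sum_cons, List.sum_nil, add_zero] at hsum
    rw [hKu', hH'] at hsum
    have hKx' : (K Z x).ncard * (m1 + 1) = n * z * (q1 + 1) * m1 ∨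
        2 * (K Z x).ncard * (m1 + 1) = n * z * (q1 + 1) * m1 := by
      rcases hKx with h | ⟨-, h⟩
      · left; rw [h, hH']
      · right; rw [h, hH']
    obtain ⟨hq2, hm1', h4K⟩ := ar1 z n q1 m1 (K Z x).ncard hzpos hn2 hq12 hm1
      (by linarith) hKx'
    subst hq2
    subst hm1'
    right
    refine ⟨hq1, ?_⟩
    intro g hgZ hgp
    by_cases hgx : Rel g x
    · left
      rw [ax.toCA.card_Cen_of_rel hgZ hxZ hgx, hcx]
    · exfalso
      have hgu := ax.not_rel_sylow P hu hu1 hgZ hgp
      obtain ⟨m1', hm1', hcg, hKg⟩ := ax.torus_data hgZ hgp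
      have hsum2 := ax.toCA.list_sum_le [u, x, g] (by
          intro g' hg'
          simp only [List.mem_cons, List.not_mem_nil, or_false] at hg'
          rcases hg' with rfl | rfl | rfl
          · exact huZ
          · exact hxZ
          · exact hgZ)
        (by
          simp only [List.pairwise_cons, List.mem_cons, List.not_mem_nil, or_false,
            forall_eq_or_imp, forall_eq, IsEmpty.forall_iff, implies_true, List.Pairwise.nil,
            and_true]
          exact ⟨⟨fun h => hxu h.symm, fun h => hgu h.symm⟩, fun h => hgx h.symm⟩)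
      simp only [List.map_cons, List.map_nil, List.sum_cons, List.sum_nil, add_zero] at hsum2
      rw [hKu', hH'] at hsum2
      have hKg' : (K Z g).ncard * (m1' + 1) = n * z * 3 * m1' ∨
          2 * (K Z g).ncard * (m1' + 1) = n * z * 3 * m1' := by
        rcases hKg with h | ⟨-, h⟩
        · left; rw [h, hH']
        · right; rw [h, hH']
      exact ar2 z n m1' (K Z x).ncard (K Z g).ncard hzpos hn2 hm1' h4K (by linarith) hKg'
  · -- d ≥ 2
    obtain ⟨d1, rfl⟩ : ∃ d1, d = d1 + 1 := ⟨d - 1, by omega⟩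
    have hd1 : 1 ≤ d1 := by omega
    have hH' : Nat.card H = n * z * (q1 + 1) * (d1 + 1) := by rw [hH]; ring
    -- an element of the normaliser outside Z P
    have hex : ∃ y ∈ Subgroup.normalizer ((P : Subgroup H) : Set H),
        y ∉ Z ⊔ (P : Subgroup H) := by
      by_contra hcon
      push Not at hcon
      have hle : Subgroup.normalizer ((P : Subgroup H) : Set H) ≤ Z ⊔ (P : Subgroup H) := hcon
      have h1 := Subgroup.card_le_of_le hle
      rw [hNP, ax.card_sup P.2, hq1] at h1
      have : z * (q1 + 1) * 2 ≤ z * (q1 + 1) * (d1 + 1) := Nat.mul_le_mul_left _ (by omega)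
      have : 0 < z * (q1 + 1) := by positivity
      nlinarith
    obtain ⟨y, hyN, hynm⟩ := hex
    have tor : TorusIn Z P y := ⟨hPne, hyN, hynm⟩
    have hyZ := tor.not_mem_Z
    have hyp := ax.not_dvd_of_torusIn tor
    have hyu := ax.not_rel_sylow P hu hu1 hyZ hyp
    have hcy : Nat.card (Cen y) = z * (d1 + 1) := by
      have h1 := ax.card_normalizer_eq tor
      rw [hNP, hq1] at h1
      have h2 : (q1 + 1) * Nat.card (Cen y) = (q1 + 1) * (z * (d1 + 1)) := by
        rw [← h1]; ring
      exact Nat.eq_of_mul_eq_mul_left (by omega) h2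
    obtain ⟨m1y, hm1y, hcy', hKy⟩ := ax.torus_data hyZ hyp
    have hm1y' : m1y = d1 := by
      rw [hcy] at hcy'
      have := Nat.eq_of_mul_eq_mul_left hzpos hcy'
      omega
    subst hm1y'
    rcases hKy with hKy | ⟨hNy, hKy⟩
    · -- ε₁ = 1 : impossible
      exfalso
      rw [hH'] at hKy
      have hKy2 : (K Z y).ncard = n * z * (q1 + 1) * m1y := by
        have : (K Z y).ncard * (m1y + 1) = (n * z * (q1 + 1) * m1y) * (m1y + 1) := by
          rw [hKy]; ring
        exact Nat.eq_of_mul_eq_mul_right (by omega) this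
      obtain ⟨x, hxZ, hxr⟩ := ax.toCA.exists_of_list_sum_lt [u, y] (by
          intro g hg
          simp only [List.mem_cons, List.not_mem_nil, or_false] at hg
          rcases hg with rfl | rfl
          · exact huZ
          · exact hyZ)
        (by
          simp only [List.pairwise_cons, List.mem_cons, List.not_mem_nil, or_false, forall_eq,
            IsEmpty.forall_iff, implies_true, List.Pairwise.nil, and_true]
          exact fun h => hyu h.symm)
        (by
          simp only [List.map_cons, List.map_nil, List.sum_cons, List.sum_nil, add_zero]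
          rw [hKu', hH', hKy2]
          nlinarith)
      have hxu : ¬ Rel x u := hxr u (by simp)
      have hxy : ¬ Rel x y := hxr y (by simp)
      have hxp := htorus x hxZ hxu
      obtain ⟨m1, hm1, hcx, hKx⟩ := ax.torus_data hxZ hxp
      have hsum := ax.toCA.list_sum_le [u, y, x] (by
          intro g' hg'
          simp only [List.mem_cons, List.not_mem_nil, or_false] at hg'
          rcases hg' with rfl | rfl | rfl
          · exact huZ
          · exact hyZ
          · exact hxZ)
        (by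
          simp only [List.pairwise_cons, List.mem_cons, List.not_mem_nil, or_false,
            forall_eq_or_imp, forall_eq, IsEmpty.forall_iff, implies_true, List.Pairwise.nil,
            and_true]
          exact ⟨⟨fun h => hyu h.symm, fun h => hxu h.symm⟩, fun h => hxy h.symm⟩)
      simp only [List.map_cons, List.map_nil, List.sum_cons, List.sum_nil, add_zero] at hsum
      rw [hKu', hH'] at hsum
      have hKx' : (K Z x).ncard * (m1 + 1) = n * z * (q1 + 1) * (m1y + 1) * m1 ∨
          2 * (K Z x).ncard * (m1 + 1) = n * z * (q1 + 1) * (m1y + 1) * m1 := by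
        rcases hKx with h | ⟨-, h⟩
        · left; rw [h, hH']
        · right; rw [h, hH']
      exact ar3 z n q1 m1y m1 (K Z y).ncard (K Z x).ncard hzpos hn2 hq12 hd1 hm1 hKy
        (by linarith) hKx'
    · -- ε₁ = 2
      rw [hH'] at hKy
      have hKy2 : 2 * (K Z y).ncard = n * z * (q1 + 1) * m1y := by
        have : (2 * (K Z y).ncard) * (m1y + 1) = (n * z * (q1 + 1) * m1y) * (m1y + 1) := by
          rw [hKy]; ring
        exact Nat.eq_of_mul_eq_mul_right (by omega) this
      have hlu : ∀ g ∈ [u, y], g ∉ Z := by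
        intro g hg
        simp only [List.mem_cons, List.not_mem_nil, or_false] at hg
        rcases hg with rfl | rfl
        · exact huZ
        · exact hyZ
      have hpu : [u, y].Pairwise (fun a b => ¬ Rel a b) := by
        simp only [List.pairwise_cons, List.mem_cons, List.not_mem_nil, or_false, forall_eq,
          IsEmpty.forall_iff, implies_true, List.Pairwise.nil, and_true]
        exact fun h => hyu h.symm
      obtain ⟨x, hxZ, hxr⟩ := ax.toCA.exists_of_list_sum_lt [u, y] hlu hpu (by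
          simp only [List.map_cons, List.map_nil, List.sum_cons, List.sum_nil, add_zero]
          rw [hKu', hH']
          have := ar4a z n q1 m1y (K Z y).ncard hzpos hn2 hKy2
          linarith)
      have hxu : ¬ Rel x u := hxr u (by simp)
      have hxy : ¬ Rel x y := hxr y (by simp)
      have hxp := htorus x hxZ hxu
      obtain ⟨t1, ht1, hcx, hKx⟩ := ax.torus_data hxZ hxp
      have hl3 : ∀ g ∈ [u, y, x], g ∉ Z := by
        intro g' hg'
        simp only [List.mem_cons, List.not_mem_nil, or_false] at hg'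
        rcases hg' with rfl | rfl | rfl
        · exact huZ
        · exact hyZ
        · exact hxZ
      have hp3 : [u, y, x].Pairwise (fun a b => ¬ Rel a b) := by
        simp only [List.pairwise_cons, List.mem_cons, List.not_mem_nil, or_false,
          forall_eq_or_imp, forall_eq, IsEmpty.forall_iff, implies_true, List.Pairwise.nil,
          and_true]
        exact ⟨⟨fun h => hyu h.symm, fun h => hxu h.symm⟩, fun h => hxy h.symm⟩
      have hsum := ax.toCA.list_sum_le [u, y, x] hl3 hp3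
      simp only [List.map_cons, List.map_nil, List.sum_cons, List.sum_nil, add_zero] at hsum
      rw [hKu', hH'] at hsum
      have hKx2 : 2 * (K Z x).ncard * (t1 + 1) = n * z * (q1 + 1) * (m1y + 1) * t1 := by
        rcases hKx with h | ⟨-, h⟩
        · exfalso
          rw [hH'] at h
          exact ar4b z n q1 m1y t1 (K Z y).ncard (K Z x).ncard hzpos hn2 hq12 ht1 hKy2
            (by linarith) h
        · rw [h, hH']
      -- exhaustion
      have hexh : ∀ g : H, g ∉ Z → ¬ p ∣ Nat.card (Cen g) → Rel g y ∨ Rel g x := by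
        intro g hgZ hgp
        by_contra hcon
        push Not at hcon
        obtain ⟨hgy, hgx⟩ := hcon
        have hgu := ax.not_rel_sylow P hu hu1 hgZ hgp
        obtain ⟨m1', hm1', hcg, hKg⟩ := ax.torus_data hgZ hgp
        have hsum2 := ax.toCA.list_sum_le [u, y, x, g] (by
            intro g' hg'
            simp only [List.mem_cons, List.not_mem_nil, or_false] at hg'
            rcases hg' with rfl | rfl | rfl | rfl
            · exact huZ
            · exact hyZ
            · exact hxZ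
            · exact hgZ)
          (by
            simp only [List.pairwise_cons, List.mem_cons, List.not_mem_nil, or_false,
              forall_eq_or_imp, forall_eq, IsEmpty.forall_iff, implies_true, List.Pairwise.nil,
              and_true]
            exact ⟨⟨fun h => hyu h.symm, fun h => hxu h.symm, fun h => hgu h.symm⟩,
              ⟨fun h => hxy h.symm, fun h => hgy h.symm⟩, fun h => hgx h.symm⟩)
        simp only [List.map_cons, List.map_nil, List.sum_cons, List.sum_nil, add_zero] at hsum2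
        rw [hKu', hH'] at hsum2
        have hKg' : (K Z g).ncard * (m1' + 1) = n * z * (q1 + 1) * (m1y + 1) * m1' ∨
            2 * (K Z g).ncard * (m1' + 1) = n * z * (q1 + 1) * (m1y + 1) * m1' := by
          rcases hKg with h | ⟨-, h⟩
          · left; rw [h, hH']
          · right; rw [h, hH']
        exact ar4c z n q1 m1y t1 m1' (K Z y).ncard (K Z x).ncard (K Z g).ncard hzpos hn2 hq12
          ht1 hm1' hKy2 hKx2 (by linarith) hKg'
      -- equality in the class equation
      have heq : z + n * z * q1 + (K Z y).ncard + (K Z x).ncard =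
          n * z * (q1 + 1) * (m1y + 1) := by
        by_contra hne
        have hlt : z + ([u, y, x].map (fun g => (K Z g).ncard)).sum < Nat.card H := by
          simp only [List.map_cons, List.map_nil, List.sum_cons, List.sum_nil, add_zero]
          rw [hKu', hH']
          omega
        obtain ⟨g, hgZ, hgr⟩ := ax.toCA.exists_of_list_sum_lt [u, y, x] hl3 hp3 hlt
        have hgu : ¬ Rel g u := hgr u (by simp)
        have hgy : ¬ Rel g y := hgr y (by simp)
        have hgx : ¬ Rel g x := hgr x (by simp)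
        rcases hexh g hgZ (htorus g hgZ hgu) with h | h
        · exact hgy h
        · exact hgx h
      have hstar := ar4d z n q1 m1y t1 (K Z y).ncard (K Z x).ncard hzpos hKy2 hKx2 heq
      -- divisibilities
      have hd_q : (m1y + 1) ∣ (q1 + 1) - 1 := by
        have h1 := ax.card_cen_dvd tor
        rw [hcy, hq1] at h1
        exact Nat.dvd_of_mul_dvd_mul_left hzpos h1
      obtain ⟨w, hwN, hwD, hwc⟩ := exists_coset_rep
        (Subgroup.le_normalizer : Cen y ≤ Subgroup.normalizer ((Cen y : Subgroup H) : Set H)) hNy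
      have hd_n : (m1y + 1) ∣ k * (q1 + 1) - 1 := by
        have h1 := ax.card_cen_dvd_sub_two tor hwN hwD hwc
        rw [hcy] at h1
        have h2 := Nat.dvd_of_mul_dvd_mul_left hzpos h1
        have : Nat.card (Sylow p H) - 2 = k * (q1 + 1) - 1 := by
          rw [← hndef, hnk]; omega
        rwa [this] at h2
      have hk1 : 1 ≤ k := by
        rcases Nat.eq_zero_or_pos k with h0 | h0
        · rw [h0] at hnk; omega
        · exact h0
      have hstar2 : (1 + k * (q1 + 1)) * (m1y + 1) =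
          (t1 + 1) * (1 + k * ((q1 + 1) - 2)) := by
        apply ar5 k (q1 + 1) (m1y + 1) (t1 + 1) (by omega)
        rw [← hnk]
        linarith
      rcases arith_star (q1 + 1) k (m1y + 1) (t1 + 1) (by omega) hk1 (by omega) hd_q hd_n hstar2
        with hk1' | ⟨hq3', hd2, ht5⟩
      · left
        rw [hq1, hnk, hk1']; ring
      · right
        refine ⟨by rw [hq1, hq3'], ?_⟩
        intro g hgZ hgp
        rcases hexh g hgZ hgp with h | h
        · left
          rw [ax.toCA.card_Cen_of_rel hgZ hyZ h, hcy, hd2]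
        · right
          rw [ax.toCA.card_Cen_of_rel hgZ hxZ h, hcx, ht5]

end Cfsg.Agent.Helper4.DC
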