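import Mathlib
import Cfsg.Agent.Lib.Helper4.DicksonArith
import Cfsg.Agent.Lib.Helper2.SL2Sylow
import Cfsg.Agent.Lib.Helper12.SL2Norm

set_option autoImplicit false
set_option linter.unusedSectionVars false
set_option linter.style.haveILetI false
set_option linter.unusedVariables false

/-! Matrix lemmas for Dickson's theorem on subgroups of `SL₂(F)`. -/

namespace Cfsg.Agent.Helper4.DSL

open Matrix Matrix.SpecialLinearGroup
open scoped MatrixGroups
open Cfsg.Agent.Helper2.SL2S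
open Cfsg.Agent.Helper12

variable {F : Type*} [Field F]

theorem v_add (b c : F) : v (b + c) = v b * v c := transvection_add _ b c

theorem v_zero : v (0 : F) = 1 := transvection_coeff_zero _

theorem v_inv (b : F) : (v b)⁻¹ = v (-b) := transvection_inv _ b

theorem u_pow (a : F) (n : ℕ) : (u a) ^ n = u (n * a) := by
  induction n with
  | zero => simp
  | succ n ih => rw [pow_succ, ih, ← u_add]; congr 1; push_cast; ring

theorem v_pow (a : F) (n : ℕ) : (v a) ^ n = v (n * a) := by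
  induction n with
  | zero => simp
  | succ n ih => rw [pow_succ, ih, ← v_add]; congr 1; push_cast; ring

theorem u_eq_one_iff (a : F) : u a = 1 ↔ a = 0 := by
  constructor
  · intro h
    have := congrArg (fun x : SL(2, F) => (x : Matrix (Fin 2) (Fin 2) F) 0 1) h
    simpa [u_coe] using this
  · rintro rfl; exact u_zero

theorem v_eq_one_iff (a : F) : v a = 1 ↔ a = 0 := by
  constructor
  · intro h
    have := congrArg (fun x : SL(2, F) => (x : Matrix (Fin 2) (Fin 2) F) 1 0) h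
    simpa [v_coe] using this
  · rintro rfl; exact v_zero

/-- conjugating `v t` by `k` -/
theorem conj_v_coe (k : SL(2, F)) (t : F) :
    ((k * v t * k⁻¹ : SL(2, F)) : Matrix (Fin 2) (Fin 2) F) =
      !![1 + t * k.1 0 1 * k.1 1 1, -(t * k.1 0 1 * k.1 0 1);
         t * k.1 1 1 * k.1 1 1, 1 - t * k.1 0 1 * k.1 1 1] := by
  have hdet : k.1 0 0 * k.1 1 1 - k.1 0 1 * k.1 1 0 = 1 := by
    have := k.2
    rwa [Matrix.det_fin_two] at this
  rw [coe_mul, coe_mul, coe_inv, v_coe, Matrix.adjugate_fin_two]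
  ext i j
  fin_cases i <;> fin_cases j <;>
    simp [Matrix.mul_apply, Fin.sum_univ_two]
  · linear_combination hdet
  · ring
  · ring
  · linear_combination hdet

/-- matrices commuting with `u a`, `a ≠ 0` -/
theorem commute_u_iff {a : F} (ha : a ≠ 0) (k : SL(2, F)) :
    k * u a = u a * k ↔ k.1 1 0 = 0 ∧ k.1 0 0 = k.1 1 1 := by
  constructor
  · intro h
    have h1 := congrArg (fun x : SL(2, F) => (x : Matrix (Fin 2) (Fin 2) F)) h
    simp only [coe_mul, u_coe] at h1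
    have e00 := congrFun (congrFun h1 0) 0
    have e01 := congrFun (congrFun h1 0) 1
    simp [Matrix.mul_apply, Fin.sum_univ_two] at e00 e01
    have h10 : k.1 1 0 = 0 := by
      rcases e00 with h | h
      · exact absurd h ha
      · exact h
    refine ⟨h10, ?_⟩
    have : a * (k.1 0 0 - k.1 1 1) = 0 := by linear_combination e01
    rcases mul_eq_zero.1 this with h | h
    · exact absurd h ha
    · exact sub_eq_zero.1 h
  · rintro ⟨h1, h2⟩
    apply Subtype.ext
    simp only [coe_mul, u_coe]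
    ext i j
    fin_cases i <;> fin_cases j <;> simp [Matrix.mul_apply, Fin.sum_univ_two, h1, h2]
    ring

/-- matrices commuting with `v b`, `b ≠ 0` -/
theorem commute_v_iff {b : F} (hb : b ≠ 0) (k : SL(2, F)) :
    k * v b = v b * k ↔ k.1 0 1 = 0 ∧ k.1 0 0 = k.1 1 1 := by
  constructor
  · intro h
    have h1 := congrArg (fun x : SL(2, F) => (x : Matrix (Fin 2) (Fin 2) F)) h
    simp only [coe_mul, v_coe] at h1
    have e11 := congrFun (congrFun h1 1) 1
    have e10 := congrFun (congrFun h1 1) 0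
    simp [Matrix.mul_apply, Fin.sum_univ_two] at e11 e10
    have h01 : k.1 0 1 = 0 := by
      rcases e11 with h | h
      · exact absurd h hb
      · exact h
    refine ⟨h01, ?_⟩
    have : b * (k.1 0 0 - k.1 1 1) = 0 := by linear_combination -e10
    rcases mul_eq_zero.1 this with h | h
    · exact absurd h hb
    · exact sub_eq_zero.1 h
  · rintro ⟨h1, h2⟩
    apply Subtype.ext
    simp only [coe_mul, v_coe]
    ext i j
    fin_cases i <;> fin_cases j <;> simp [Matrix.mul_apply, Fin.sum_univ_two, h1, h2]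
    ring

theorem trace_u_mul (a : F) (y : SL(2, F)) :
    ((u a * y : SL(2, F)) : Matrix (Fin 2) (Fin 2) F).trace =
      y.1 0 0 + a * y.1 1 0 + y.1 1 1 := by
  rw [coe_mul, u_coe, Matrix.trace_fin_two]
  simp [Matrix.mul_apply, Fin.sum_univ_two]

/-- **(T)** trace identity -/
theorem trace_u_conj (a : F) (y : SL(2, F)) (hy : (y : Matrix (Fin 2) (Fin 2) F).trace = 2) :
    ((u a * (y * u a * y⁻¹) : SL(2, F)) : Matrix (Fin 2) (Fin 2) F).trace =
      2 - (((u a * y : SL(2, F)) : Matrix (Fin 2) (Fin 2) F).trace - 2) ^ 2 := by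
  rw [trace_u_mul, trace_u_mul, conj_u_coe]
  rw [Matrix.trace_fin_two] at hy
  simp
  linear_combination (y.1 0 0 + y.1 1 1 + 2 * a * y.1 1 0 - 2) * hy

section finite

variable [Fintype F] (p : ℕ) [hp : Fact p.Prime] [CharP F p]

/-- **(N0)** an element of order `p` is conjugate to some `u a` -/
theorem exists_conj_u (x : SL(2, F)) (hx : x ^ p = 1) (hx1 : x ≠ 1) :
    ∃ (s : SL(2, F)) (a : F), a ≠ 0 ∧ s * x * s⁻¹ = u a := by
  have hz : IsPGroup p (Subgroup.zpowers x) := by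
    apply IsPGroup.of_card (n := 1)
    rw [Nat.card_zpowers, pow_one]
    exact orderOf_eq_prime hx hx1
  obtain ⟨P, hP⟩ := hz.exists_le_sylow
  obtain ⟨g, hg⟩ := exists_conj_eq p P
  obtain ⟨b, hb⟩ := (hg x).1 (hP (Subgroup.mem_zpowers x))
  refine ⟨g⁻¹, b, ?_, ?_⟩
  · rintro rfl
    rw [u_zero] at hb
    apply hx1
    rw [hb]; group
  · rw [hb]; group

omit [Fintype F] in
theorem unipotent_data (y : SL(2, F)) (hy : y ^ p = 1) :
    (y : Matrix (Fin 2) (Fin 2) F).trace = 2 := by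
  by_cases hy1 : y = 1
  · rw [hy1, coe_one, Matrix.trace_fin_two]; simp; norm_num
  · have h1 : (y : Matrix (Fin 2) (Fin 2) F) ^ p = 1 := by
      have := congrArg (fun x : SL(2, F) => (x : Matrix (Fin 2) (Fin 2) F)) hy
      simpa using this
    have h2 : (y : Matrix (Fin 2) (Fin 2) F) ≠ 1 := by
      intro h
      apply hy1
      apply Subtype.ext
      rw [h, coe_one]
    exact (unipotent2_data _ p h1 h2).2.1

/-- **(N)** two non-commuting elements of order `p` are simultaneously conjugate to `u a`, `v b` -/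
theorem exists_conj_u_v (x y : SL(2, F)) (hx : x ^ p = 1) (hx1 : x ≠ 1) (hy : y ^ p = 1)
    (hxy : x * y ≠ y * x) :
    ∃ (s : SL(2, F)) (a b : F), a ≠ 0 ∧ b ≠ 0 ∧ s * x * s⁻¹ = u a ∧ s * y * s⁻¹ = v b := by
  obtain ⟨s₁, a, ha, hs₁⟩ := exists_conj_u p x hx hx1
  set y₁ := s₁ * y * s₁⁻¹ with hy₁
  have hy₁p : y₁ ^ p = 1 := by rw [hy₁, conj_pow, hy]; group
  have htr := unipotent_data p y₁ hy₁p
  have hdet : y₁.1 0 0 * y₁.1 1 1 - y₁.1 0 1 * y₁.1 1 0 = 1 := by
    have := y₁.2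
    rwa [Matrix.det_fin_two] at this
  rw [Matrix.trace_fin_two] at htr
  have hγ : y₁.1 1 0 ≠ 0 := by
    intro h0
    apply hxy
    -- y₁ commutes with u a
    have h00 : y₁.1 0 0 = y₁.1 1 1 := by
      rw [h0, mul_zero, sub_zero] at hdet
      have h3 : (y₁.1 0 0 - 1) ^ 2 = 0 := by linear_combination -hdet + y₁.1 0 0 * htr
      have h4 : y₁.1 0 0 = 1 := sub_eq_zero.1 (pow_eq_zero_iff (two_ne_zero)|>.1 h3)
      rw [h4] at htr ⊢
      linear_combination -htr
    have hc := (commute_u_iff ha y₁).2 ⟨h0, h00⟩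
    rw [← hs₁, hy₁] at hc
    have : s₁⁻¹ * (s₁ * y * s₁⁻¹ * (s₁ * x * s₁⁻¹)) * s₁ =
        s₁⁻¹ * (s₁ * x * s₁⁻¹ * (s₁ * y * s₁⁻¹)) * s₁ := by rw [hc]
    have e1 : s₁⁻¹ * (s₁ * y * s₁⁻¹ * (s₁ * x * s₁⁻¹)) * s₁ = y * x := by group
    have e2 : s₁⁻¹ * (s₁ * x * s₁⁻¹ * (s₁ * y * s₁⁻¹)) * s₁ = x * y := by group
    rw [e1, e2] at this
    exact this.symm
  obtain ⟨r, hrγ⟩ : ∃ r : F, r * y₁.1 1 0 = 1 - y₁.1 0 0 :=
    ⟨(1 - y₁.1 0 0) / y₁.1 1 0, by field_simp⟩
  refine ⟨u r * s₁, a, y₁.1 1 0, ha, hγ, ?_, ?_⟩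
  · have : u r * s₁ * x * (u r * s₁)⁻¹ = u r * (s₁ * x * s₁⁻¹) * (u r)⁻¹ := by group
    rw [this, hs₁, u_inv, ← u_add, ← u_add]
    congr 1; ring
  · have : u r * s₁ * y * (u r * s₁)⁻¹ = u r * y₁ * (u r)⁻¹ := by rw [hy₁]; group
    rw [this, u_inv]
    apply Subtype.ext
    rw [coe_mul, coe_mul, u_coe, u_coe, v_coe]
    have hY : (y₁ : Matrix (Fin 2) (Fin 2) F) = !![y₁.1 0 0, y₁.1 0 1; y₁.1 1 0, y₁.1 1 1] :=
      Matrix.eta_fin_two _
    generalize hA : y₁.1 0 0 = A at *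
    generalize hB : y₁.1 0 1 = B at *
    generalize hC : y₁.1 1 0 = C at *
    generalize hD : y₁.1 1 1 = D at *
    rw [hY, Matrix.mul_fin_two, Matrix.mul_fin_two]
    have h5 : C * (-(A * r) + B + r * (-(C * r) + D)) = 0 := by
      linear_combination (D - 1 - r * C) * hrγ + htr - hdet
    have h6 : -(A * r) + B + r * (-(C * r) + D) = 0 := by
      rcases mul_eq_zero.1 h5 with h | h
      · exact absurd h hγ
      · exact h
    ext i j
    fin_cases i <;> fin_cases j <;> simp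
    · linear_combination hrγ
    · linear_combination h6
    · linear_combination -hrγ + htr

end finite

section embed

variable (p : ℕ) [hp : Fact p.Prime] [CharP F p]

/-- the prime field map -/
noncomputable abbrev cc : ZMod p →+* F := ZMod.castHom (dvd_refl p) F

/-- the embedding of `SL₂(ZMod p)` twisted by `diag(a, 1)` -/
noncomputable def embed (a : F) (ha : a ≠ 0) : SL(2, ZMod p) →* SL(2, F) where
  toFun M := ⟨!![cc p (M.1 0 0), a * cc p (M.1 0 1); a⁻¹ * cc p (M.1 1 0), cc p (M.1 1 1)], by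
    have hdet : M.1 0 0 * M.1 1 1 - M.1 0 1 * M.1 1 0 = 1 := by
      have := M.2
      rwa [Matrix.det_fin_two] at this
    have h2 := congrArg (cc (F := F) p) hdet
    simp only [map_sub, map_mul, map_one] at h2
    rw [Matrix.det_fin_two_of]
    field_simp
    linear_combination h2⟩
  map_one' := by
    apply Subtype.ext
    ext i j
    fin_cases i <;> fin_cases j <;> simp
  map_mul' M N := by
    apply Subtype.ext
    change !![cc p ((M * N).1 0 0), a * cc p ((M * N).1 0 1);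
        a⁻¹ * cc p ((M * N).1 1 0), cc p ((M * N).1 1 1)] =
      !![cc p (M.1 0 0), a * cc p (M.1 0 1); a⁻¹ * cc p (M.1 1 0), cc p (M.1 1 1)] *
      !![cc p (N.1 0 0), a * cc p (N.1 0 1); a⁻¹ * cc p (N.1 1 0), cc p (N.1 1 1)]
    have h00 : (M * N).1 0 0 = M.1 0 0 * N.1 0 0 + M.1 0 1 * N.1 1 0 := by
      rw [coe_mul, Matrix.mul_apply, Fin.sum_univ_two]
    have h01 : (M * N).1 0 1 = M.1 0 0 * N.1 0 1 + M.1 0 1 * N.1 1 1 := by
      rw [coe_mul, Matrix.mul_apply, Fin.sum_univ_two]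
    have h10 : (M * N).1 1 0 = M.1 1 0 * N.1 0 0 + M.1 1 1 * N.1 1 0 := by
      rw [coe_mul, Matrix.mul_apply, Fin.sum_univ_two]
    have h11 : (M * N).1 1 1 = M.1 1 0 * N.1 0 1 + M.1 1 1 * N.1 1 1 := by
      rw [coe_mul, Matrix.mul_apply, Fin.sum_univ_two]
    rw [h00, h01, h10, h11, Matrix.mul_fin_two]
    simp only [map_add, map_mul]
    ext i j
    fin_cases i <;> fin_cases j <;> simp <;> field_simp

theorem embed_coe (a : F) (ha : a ≠ 0) (M : SL(2, ZMod p)) :
    ((embed p a ha M : SL(2, F)) : Matrix (Fin 2) (Fin 2) F) =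
      !![cc p (M.1 0 0), a * cc p (M.1 0 1); a⁻¹ * cc p (M.1 1 0), cc p (M.1 1 1)] := rfl

theorem embed_injective (a : F) (ha : a ≠ 0) : Function.Injective (embed (F := F) p a ha) := by
  intro M N h
  have h1 := congrArg (fun x : SL(2, F) => (x : Matrix (Fin 2) (Fin 2) F)) h
  simp only [embed_coe] at h1
  have hinj : Function.Injective (cc (F := F) p) := RingHom.injective _
  have e00 := congrFun (congrFun h1 0) 0
  have e01 := congrFun (congrFun h1 0) 1
  have e10 := congrFun (congrFun h1 1) 0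
  have e11 := congrFun (congrFun h1 1) 1
  simp at e00 e01 e10 e11
  apply Subtype.ext
  ext i j
  fin_cases i <;> fin_cases j
  · exact hinj e00
  · rcases e01 with h | h
    · exact hinj h
    · exact absurd h ha
  · rcases e10 with h | h
    · exact hinj h
    · exact absurd h ha
  · exact hinj e11

theorem embed_u (a : F) (ha : a ≠ 0) (t : ZMod p) : embed p a ha (u t) = u (a * cc p t) := by
  apply Subtype.ext
  rw [embed_coe, u_coe, u_coe]
  ext i j
  fin_cases i <;> fin_cases j <;> simp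

theorem embed_v (a : F) (ha : a ≠ 0) (t : ZMod p) : embed p a ha (v t) = v (a⁻¹ * cc p t) := by
  apply Subtype.ext
  rw [embed_coe, v_coe, v_coe]
  ext i j
  fin_cases i <;> fin_cases j <;> simp

/-- `Hs` contains a conjugate of a standard copy of `SL₂(p)` -/
def HasStd (Hs : Subgroup SL(2, F)) : Prop :=
  ∃ (s : SL(2, F)) (a : F) (ha : a ≠ 0), ∀ M : SL(2, ZMod p), s⁻¹ * embed p a ha M * s ∈ Hs

theorem HasStd.exists_equiv {Hs : Subgroup SL(2, F)} (h : HasStd p Hs) :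
    ∃ K : Subgroup SL(2, F), K ≤ Hs ∧ Nonempty (K ≃* SL(2, ZMod p)) := by
  obtain ⟨s, a, ha, hM⟩ := h
  let φ : SL(2, ZMod p) →* SL(2, F) :=
    (MulAut.conj s⁻¹).toMonoidHom.comp (embed p a ha)
  have hφinj : Function.Injective φ := by
    intro M N h
    apply embed_injective p a ha
    exact (MulAut.conj s⁻¹).injective h
  have hφ : ∀ M, φ M = s⁻¹ * embed p a ha M * s := by
    intro M
    simp [φ]
  refine ⟨φ.range, ?_, ⟨(MonoidHom.ofInjective hφinj).symm⟩⟩
  rintro _ ⟨M, rfl⟩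
  rw [hφ]
  exact hM M

/-- **Lemma G'** -/
theorem hasStd_of_u_v (Hs : Subgroup SL(2, F)) (s : SL(2, F)) (x y : SL(2, F))
    (hx : x ∈ Hs) (hy : y ∈ Hs) (a b : F) (ha : a ≠ 0) (hxs : s * x * s⁻¹ = u a)
    (hys : s * y * s⁻¹ = v b) (j : ZMod p) (hj : j ≠ 0) (hab : a * b = cc p j) :
    HasStd p Hs := by
  let φ : SL(2, ZMod p) →* SL(2, F) :=
    (MulAut.conj s⁻¹).toMonoidHom.comp (embed p a ha)
  have hφinj : Function.Injective φ := by
    intro M N h
    apply embed_injective p a ha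
    exact (MulAut.conj s⁻¹).injective h
  have hφ : ∀ M, φ M = s⁻¹ * embed p a ha M * s := by
    intro M
    simp [φ]
  have hxu : s⁻¹ * u a * s = x := by rw [← hxs]; group
  have hyv : s⁻¹ * v b * s = y := by rw [← hys]; group
  have htop : Hs.comap φ = ⊤ := by
    rw [eq_top_iff]
    intro M _
    refine SL2.transvection_induction (fun M => M ∈ Hs.comap φ) ?_
      (fun A B hA hB => (Hs.comap φ).mul_mem hA hB) M
    intro i k hik t
    fin_cases i <;> fin_cases k
    · exact absurd rfl hik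
    · -- u t = (u 1)^t.val
      change u t ∈ Hs.comap φ
      have e : u t = (u (1 : ZMod p)) ^ t.val := by
        rw [u_pow, mul_one, ZMod.natCast_zmod_val]
      rw [e]
      apply Subgroup.pow_mem
      rw [Subgroup.mem_comap, hφ, embed_u, map_one, mul_one, hxu]
      exact hx
    · change v t ∈ Hs.comap φ
      have e : v t = (v j) ^ (t * j⁻¹).val := by
        rw [v_pow, ZMod.natCast_zmod_val, mul_assoc, inv_mul_cancel₀ hj, mul_one]
      rw [e]
      apply Subgroup.pow_mem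
      rw [Subgroup.mem_comap, hφ, embed_v]
      have : a⁻¹ * cc p j = b := by rw [← hab]; field_simp
      rw [this, hyv]
      exact hy
    · exact absurd rfl hik
  refine ⟨s, a, ha, fun M => ?_⟩
  have : M ∈ Hs.comap φ := by rw [htop]; exact Subgroup.mem_top M
  rw [Subgroup.mem_comap, hφ] at this
  exact this

theorem exists_sl2p_of_u_v (Hs : Subgroup SL(2, F)) (s : SL(2, F)) (x y : SL(2, F))
    (hx : x ∈ Hs) (hy : y ∈ Hs) (a b : F) (ha : a ≠ 0) (hxs : s * x * s⁻¹ = u a)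
    (hys : s * y * s⁻¹ = v b) (j : ZMod p) (hj : j ≠ 0) (hab : a * b = cc p j) :
    ∃ K : Subgroup SL(2, F), K ≤ Hs ∧ Nonempty (K ≃* SL(2, ZMod p)) :=
  (hasStd_of_u_v p Hs s x y hx hy a b ha hxs hys j hj hab).exists_equiv

end embed

theorem trace_conj (s m : SL(2, F)) :
    ((s * m * s⁻¹ : SL(2, F)) : Matrix (Fin 2) (Fin 2) F).trace =
      (m : Matrix (Fin 2) (Fin 2) F).trace := by
  rw [coe_mul, coe_mul, Matrix.trace_mul_cycle, ← coe_mul, inv_mul_cancel, coe_one, Matrix.one_mul]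

theorem trace_u_v (a b : F) :
    ((u a * v b : SL(2, F)) : Matrix (Fin 2) (Fin 2) F).trace = 2 + a * b := by
  rw [trace_u_mul, v_coe]
  simp
  ring

section lemmaG

variable [Fintype F] (p : ℕ) [hp : Fact p.Prime] [CharP F p]

/-- **Lemma G** two elements of order `p` whose product has trace `2 + j`, `j` a nonzero
element of the prime field, generate a copy of `SL₂(p)`. -/
theorem hasStd_of_trace (Hs : Subgroup SL(2, F)) (x y : SL(2, F)) (hx : x ∈ Hs) (hy : y ∈ Hs)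
    (hxp : x ^ p = 1) (hx1 : x ≠ 1) (hyp : y ^ p = 1) (j : ZMod p) (hj : j ≠ 0)
    (htr : ((x * y : SL(2, F)) : Matrix (Fin 2) (Fin 2) F).trace = 2 + cc p j) :
    HasStd p Hs := by
  have hcj : cc (F := F) p j ≠ 0 := by
    intro h
    apply hj
    have hinj : Function.Injective (cc (F := F) p) := RingHom.injective _
    exact hinj (by rw [h, map_zero])
  have hxy : x * y ≠ y * x := by
    intro hc
    have h1 : (x * y) ^ p = 1 := by
      rw [(show Commute x y from hc).mul_pow, hxp, hyp, one_mul]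
    have := unipotent_data p (x * y) h1
    rw [htr] at this
    apply hcj
    linear_combination this
  obtain ⟨s, a, b, ha, hb, hxs, hys⟩ := exists_conj_u_v p x y hxp hx1 hyp hxy
  have hab : a * b = cc p j := by
    have h1 : s * (x * y) * s⁻¹ = u a * v b := by
      rw [← hxs, ← hys]; group
    have h2 := trace_conj s (x * y)
    rw [h1, trace_u_v, htr] at h2
    linear_combination h2
  exact hasStd_of_u_v p Hs s x y hx hy a b ha hxs hys j hj hab

theorem exists_sl2p (Hs : Subgroup SL(2, F)) (x y : SL(2, F)) (hx : x ∈ Hs) (hy : y ∈ Hs)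
    (hxp : x ^ p = 1) (hx1 : x ≠ 1) (hyp : y ^ p = 1) (j : ZMod p) (hj : j ≠ 0)
    (htr : ((x * y : SL(2, F)) : Matrix (Fin 2) (Fin 2) F).trace = 2 + cc p j) :
    ∃ K : Subgroup SL(2, F), K ≤ Hs ∧ Nonempty (K ≃* SL(2, ZMod p)) :=
  (hasStd_of_trace p Hs x y hx hy hxp hx1 hyp j hj htr).exists_equiv

end lemmaG

/-- **Lemma A**, in coordinates -/
theorem lemmaA_coord (a b a' : F) (ha : a ≠ 0) (hb : b ≠ 0) (w : SL(2, F))
    (h1 : w * u a * w⁻¹ = v b)
    (h3 : (w⁻¹ * u a * w) * v b = v b * (w⁻¹ * u a * w))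
    (h4 : ((u a')⁻¹ * w * u a) * v b * ((u a')⁻¹ * w * u a)⁻¹ * v b =
      v b * (((u a')⁻¹ * w * u a) * v b * ((u a')⁻¹ * w * u a)⁻¹)) :
    ((u a * (w * u a' * w⁻¹) : SL(2, F)) : Matrix (Fin 2) (Fin 2) F).trace = 3 := by
  have hdet : w.1 0 0 * w.1 1 1 - w.1 0 1 * w.1 1 0 = 1 := by
    have := w.2
    rwa [Matrix.det_fin_two] at this
  -- w 0 0 = 0
  have hw00 : w.1 0 0 = 0 := by
    have := congrArg (fun x : SL(2, F) => (x : Matrix (Fin 2) (Fin 2) F) 0 1) h1
    simp only [conj_u_coe, v_coe] at this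
    simp at this
    rcases this with h | h
    · exact absurd h ha
    · exact h
  -- w 1 1 = 0
  have hw11 : w.1 1 1 = 0 := by
    have hc := (commute_v_iff hb (w⁻¹ * u a * w)).1 h3
    have e : w⁻¹ * u a * w = w⁻¹ * u a * w⁻¹⁻¹ := by rw [inv_inv]
    have h01 := hc.1
    rw [e, conj_u_coe] at h01
    simp [coe_inv, Matrix.adjugate_fin_two] at h01
    rcases h01 with h | h
    · exact absurd h ha
    · exact h
  have hdet' : w.1 0 1 * w.1 1 0 = -1 := by
    rw [hw00, hw11] at hdet; linear_combination -hdet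
  -- the condition on g
  set g := (u a')⁻¹ * w * u a with hg
  have hg01 : g.1 0 1 = 0 := by
    have hc := (commute_v_iff hb (g * v b * g⁻¹)).1 h4
    have h01 := hc.1
    rw [conj_v_coe] at h01
    simp at h01
    rcases h01 with h | h
    · exact absurd h hb
    · exact h
  have hg01' : g.1 0 1 = w.1 0 1 - a' * a * w.1 1 0 := by
    have hW : (w : Matrix (Fin 2) (Fin 2) F) = !![w.1 0 0, w.1 0 1; w.1 1 0, w.1 1 1] :=
      Matrix.eta_fin_two _
    generalize hA : w.1 0 0 = A at *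
    generalize hB : w.1 0 1 = B at *
    generalize hC : w.1 1 0 = C at *
    generalize hD : w.1 1 1 = D at *
    rw [hg, u_inv, coe_mul, coe_mul, u_coe, u_coe, hW, Matrix.mul_fin_two, Matrix.mul_fin_two]
    simp [hw00, hw11]
    ring
  rw [hg01'] at hg01
  rw [trace_u_mul, conj_u_coe]
  simp [hw00]
  -- goal: 1 + a * -(a' * w10 * w10) + 1 = 3
  have : a * a' * (w.1 1 0 * w.1 1 0) = -1 := by
    have h5 : w.1 0 1 = a' * a * w.1 1 0 := by linear_combination hg01
    rw [h5] at hdet'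
    linear_combination hdet'
  linear_combination (-1 : F) * this

section lemmaA

variable [Fintype F] (p : ℕ) [hp : Fact p.Prime] [CharP F p]

omit [Fintype F] in
theorem two_ne_zero_of_odd (hp2 : p ≠ 2) : (2 : F) ≠ 0 := by
  intro h
  have h1 : ((2 : ℕ) : F) = 0 := by exact_mod_cast h
  rw [CharP.cast_eq_zero_iff F p] at h1
  exact hp2 ((Nat.prime_dvd_prime_iff_eq hp.out Nat.prime_two).1 h1)

omit [Fintype F] in
/-- an element of order dividing `p` commuting with `u a` is some `u a'` -/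
theorem eq_u_of_commute (hp2 : p ≠ 2) {a : F} (ha : a ≠ 0) (k : SL(2, F)) (hk : k ^ p = 1)
    (hc : k * u a = u a * k) : ∃ a' : F, k = u a' := by
  obtain ⟨h10, h00⟩ := (commute_u_iff ha k).1 hc
  have htr := unipotent_data p k hk
  rw [Matrix.trace_fin_two, ← h00] at htr
  have h2 := two_ne_zero_of_odd (F := F) p hp2
  have h1 : k.1 0 0 = 1 := by
    have : 2 * (k.1 0 0 - 1) = 0 := by linear_combination htr
    rcases mul_eq_zero.1 this with h | h
    · exact absurd h h2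
    · exact sub_eq_zero.1 h
  refine ⟨k.1 0 1, ?_⟩
  apply Subtype.ext
  rw [u_coe]
  ext i j
  fin_cases i <;> fin_cases j <;> simp [h10, h1, ← h00]

/-- **Lemma A** -/
theorem lemmaA (hp2 : p ≠ 2) (x x' w : SL(2, F)) (hx : x ^ p = 1) (hx1 : x ≠ 1)
    (hx' : x' ^ p = 1) (hxx' : x * x' = x' * x)
    (h2 : x * (w * x * w⁻¹) ≠ (w * x * w⁻¹) * x)
    (h3 : (w⁻¹ * x * w) * (w * x * w⁻¹) = (w * x * w⁻¹) * (w⁻¹ * x * w))
    (h4 : ((x'⁻¹ * w * x) * (w * x * w⁻¹) * (x'⁻¹ * w * x)⁻¹) * (w * x * w⁻¹) =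
      (w * x * w⁻¹) * ((x'⁻¹ * w * x) * (w * x * w⁻¹) * (x'⁻¹ * w * x)⁻¹)) :
    ((x * (w * x' * w⁻¹) : SL(2, F)) : Matrix (Fin 2) (Fin 2) F).trace = 3 := by
  have hy₀ : (w * x * w⁻¹) ^ p = 1 := by rw [conj_pow, hx]; group
  obtain ⟨s, a, b, ha, hb, hxs, hys⟩ := exists_conj_u_v p x (w * x * w⁻¹) hx hx1 hy₀ h2
  -- x' in coordinates
  have hX'p : (s * x' * s⁻¹) ^ p = 1 := by rw [conj_pow, hx']; group
  have hX'c : (s * x' * s⁻¹) * u a = u a * (s * x' * s⁻¹) := by
    rw [← hxs]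
    calc s * x' * s⁻¹ * (s * x * s⁻¹) = s * (x' * x) * s⁻¹ := by group
      _ = s * (x * x') * s⁻¹ := by rw [hxx']
      _ = s * x * s⁻¹ * (s * x' * s⁻¹) := by group
  obtain ⟨a', ha'⟩ := eq_u_of_commute p hp2 ha _ hX'p hX'c
  set W := s * w * s⁻¹ with hW
  have e1 : W * u a * W⁻¹ = v b := by
    rw [← hys, ← hxs, hW]; group
  have e3 : (W⁻¹ * u a * W) * v b = v b * (W⁻¹ * u a * W) := by
    rw [← hys, ← hxs, hW]
    calc (s * w * s⁻¹)⁻¹ * (s * x * s⁻¹) * (s * w * s⁻¹) * (s * (w * x * w⁻¹) * s⁻¹)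
        = s * ((w⁻¹ * x * w) * (w * x * w⁻¹)) * s⁻¹ := by group
      _ = s * ((w * x * w⁻¹) * (w⁻¹ * x * w)) * s⁻¹ := by rw [h3]
      _ = _ := by group
  have e4 : ((u a')⁻¹ * W * u a) * v b * ((u a')⁻¹ * W * u a)⁻¹ * v b =
      v b * (((u a')⁻¹ * W * u a) * v b * ((u a')⁻¹ * W * u a)⁻¹) := by
    rw [← hys, ← hxs, ← ha', hW]
    calc (s * x' * s⁻¹)⁻¹ * (s * w * s⁻¹) * (s * x * s⁻¹) * (s * (w * x * w⁻¹) * s⁻¹) *
          ((s * x' * s⁻¹)⁻¹ * (s * w * s⁻¹) * (s * x * s⁻¹))⁻¹ * (s * (w * x * w⁻¹) * s⁻¹)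
        = s * (((x'⁻¹ * w * x) * (w * x * w⁻¹) * (x'⁻¹ * w * x)⁻¹) * (w * x * w⁻¹)) * s⁻¹ := by
          group
      _ = s * ((w * x * w⁻¹) * ((x'⁻¹ * w * x) * (w * x * w⁻¹) * (x'⁻¹ * w * x)⁻¹)) * s⁻¹ := by
          rw [h4]
      _ = _ := by group
  have key := lemmaA_coord a b a' ha hb W e1 e3 e4
  have e5 : u a * (W * u a' * W⁻¹) = s * (x * (w * x' * w⁻¹)) * s⁻¹ := by
    rw [← hxs, ← ha', hW]; group
  rw [e5, trace_conj] at key
  exact key

end lemmaA

section lemmaB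

theorem sq_eq_SL (g : SL(2, F)) :
    (g : Matrix (Fin 2) (Fin 2) F) * (g : Matrix (Fin 2) (Fin 2) F) =
      (g : Matrix (Fin 2) (Fin 2) F).trace • (g : Matrix (Fin 2) (Fin 2) F) - 1 := by
  rw [sq_eq2, g.2, one_smul]

theorem pow_five_coeff (g : SL(2, F)) :
    (g : Matrix (Fin 2) (Fin 2) F) ^ 5 =
      ((g : Matrix (Fin 2) (Fin 2) F).trace ^ 4 - 3 * (g : Matrix (Fin 2) (Fin 2) F).trace ^ 2 + 1) •
        (g : Matrix (Fin 2) (Fin 2) F) -
      ((g : Matrix (Fin 2) (Fin 2) F).trace ^ 3 - 2 * (g : Matrix (Fin 2) (Fin 2) F).trace) •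
        (1 : Matrix (Fin 2) (Fin 2) F) := by
  set M := (g : Matrix (Fin 2) (Fin 2) F) with hM
  set τ := M.trace with hτ
  have h2 : M * M = τ • M - 1 := sq_eq_SL g
  have h3 : M ^ 3 = (τ ^ 2 - 1) • M - τ • (1 : Matrix (Fin 2) (Fin 2) F) := by
    have : M ^ 3 = (M * M) * M := by rw [pow_succ, pow_two]
    rw [this, h2, sub_mul, smul_mul_assoc, h2, one_mul]
    module
  have h4 : M ^ 4 = (τ ^ 3 - 2 * τ) • M - (τ ^ 2 - 1) • (1 : Matrix (Fin 2) (Fin 2) F) := by
    have : M ^ 4 = M ^ 3 * M := by rw [pow_succ]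
    rw [this, h3, sub_mul, smul_mul_assoc, smul_mul_assoc, h2, one_mul]
    module
  have : M ^ 5 = M ^ 4 * M := by rw [pow_succ]
  rw [this, h4, sub_mul, smul_mul_assoc, smul_mul_assoc, h2, one_mul]
  module

variable [Fintype F] [CharP F 3]

omit [Fintype F] in
theorem three_eq_zero : (3 : F) = 0 := by
  have : ((3 : ℕ) : F) = 0 := CharP.cast_eq_zero F 3
  exact_mod_cast this

omit [Fintype F] in
theorem trace_of_pow_ten (g : SL(2, F)) (hns : ¬ IsScalar2 (g : Matrix (Fin 2) (Fin 2) F))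
    (h10 : g ^ 10 = 1) : (g : Matrix (Fin 2) (Fin 2) F).trace ^ 4 = -1 := by
  have h2 : (2 : F) ≠ 0 := two_ne_zero_of_odd (F := F) 3 (by norm_num)
  have h5 : g ^ 5 * g ^ 5 = 1 := by rw [← pow_add]; exact h10
  have hsc : ∃ c : F, (g : Matrix (Fin 2) (Fin 2) F) ^ 5 = c • (1 : Matrix (Fin 2) (Fin 2) F) := by
    rcases SL2_sq_eq_one h2 (g ^ 5) h5 with h | h
    · refine ⟨1, ?_⟩
      have := congrArg (fun x : SL(2, F) => (x : Matrix (Fin 2) (Fin 2) F)) h
      simpa using this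
    · refine ⟨-1, ?_⟩
      have := congrArg (fun x : SL(2, F) => (x : Matrix (Fin 2) (Fin 2) F)) h
      simp only [coe_pow, negOneSL_coe] at this
      rw [this]; simp
  obtain ⟨c, hc⟩ := hsc
  rw [pow_five_coeff] at hc
  set τ := (g : Matrix (Fin 2) (Fin 2) F).trace with hτ
  have hcoef : τ ^ 4 - 3 * τ ^ 2 + 1 = 0 := by
    by_contra hne
    apply hns
    have : (g : Matrix (Fin 2) (Fin 2) F) =
        ((τ ^ 4 - 3 * τ ^ 2 + 1)⁻¹ * (c + (τ ^ 3 - 2 * τ))) • (1 : Matrix (Fin 2) (Fin 2) F) := by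
      have h6 : (τ ^ 4 - 3 * τ ^ 2 + 1) • (g : Matrix (Fin 2) (Fin 2) F) =
          (c + (τ ^ 3 - 2 * τ)) • (1 : Matrix (Fin 2) (Fin 2) F) := by
        have h7 := hc
        rw [sub_eq_iff_eq_add] at h7
        rw [h7, add_smul]
      rw [mul_smul, ← h6, smul_smul, inv_mul_cancel₀ hne, one_smul]
    rw [this]
    exact isScalar2_smul_one _
  have h3 := three_eq_zero (F := F)
  linear_combination hcoef + τ ^ 2 * h3

/-- conjugation-invariant trace identity -/
theorem trace_conj_unip (x y : SL(2, F)) (hx : x ^ 3 = 1) (hx1 : x ≠ 1)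
    (hy : (y : Matrix (Fin 2) (Fin 2) F).trace = 2) :
    ((x * (y * x * y⁻¹) : SL(2, F)) : Matrix (Fin 2) (Fin 2) F).trace =
      2 - (((x * y : SL(2, F)) : Matrix (Fin 2) (Fin 2) F).trace - 2) ^ 2 := by
  obtain ⟨s, a, ha, hs⟩ := exists_conj_u 3 x hx hx1
  have hY : ((s * y * s⁻¹ : SL(2, F)) : Matrix (Fin 2) (Fin 2) F).trace = 2 := by
    rw [trace_conj]; exact hy
  have key := trace_u_conj a (s * y * s⁻¹) hY
  have e1 : u a * (s * y * s⁻¹ * u a * (s * y * s⁻¹)⁻¹) = s * (x * (y * x * y⁻¹)) * s⁻¹ := by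
    rw [← hs]; group
  have e2 : u a * (s * y * s⁻¹) = s * (x * y) * s⁻¹ := by rw [← hs]; group
  rw [e1, e2, trace_conj, trace_conj] at key
  exact key

/-- **Lemma B** (characteristic `3`) -/
theorem lemmaB_std (Hs : Subgroup SL(2, F)) (x y : SL(2, F)) (hx : x ∈ Hs) (hy : y ∈ Hs)
    (hx3 : x ^ 3 = 1) (hx1 : x ≠ 1) (hy3 : y ^ 3 = 1) (hxy : x * y ≠ y * x)
    (hcl : ((x * y : SL(2, F)) : Matrix (Fin 2) (Fin 2) F).trace ^ 2 = 4 ∨
      (x * y) ^ 4 = 1 ∨ (x * y) ^ 10 = 1) :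
    HasStd 3 Hs := by
  have h2 : (2 : F) ≠ 0 := two_ne_zero_of_odd (F := F) 3 (by norm_num)
  have h3 := three_eq_zero (F := F)
  set τ := ((x * y : SL(2, F)) : Matrix (Fin 2) (Fin 2) F).trace with hτ
  -- τ ≠ 2
  have hτ2 : τ ≠ 2 := by
    intro h
    obtain ⟨s, a, b, ha, hb, hxs, hys⟩ := exists_conj_u_v 3 x y hx3 hx1 hy3 hxy
    have h1 : s * (x * y) * s⁻¹ = u a * v b := by rw [← hxs, ← hys]; group
    have h4 := trace_conj s (x * y)
    rw [h1, trace_u_v, ← hτ, h] at h4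
    have : a * b = 0 := by linear_combination h4
    rcases mul_eq_zero.1 this with h5 | h5
    · exact ha h5
    · exact hb h5
  have hc1 : cc (F := F) 3 1 = 1 := map_one _
  have hcm1 : cc (F := F) 3 (-1) = -1 := by rw [map_neg, map_one]
  have hne1 : (1 : ZMod 3) ≠ 0 := one_ne_zero
  have hnem1 : (-1 : ZMod 3) ≠ 0 := by decide
  -- case trace = -2
  have caseA : τ = -2 → HasStd 3 Hs := by
    intro h
    apply hasStd_of_trace 3 Hs x y hx hy hx3 hx1 hy3 (-1) hnem1
    rw [← hτ, h, hcm1]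
    linear_combination (-1 : F) * h3
  -- case trace = 0
  have caseB : τ = 0 → HasStd 3 Hs := by
    intro h
    apply hasStd_of_trace 3 Hs x y hx hy hx3 hx1 hy3 1 hne1
    rw [← hτ, h, hc1]
    linear_combination (-1 : F) * h3
  have caseSq : τ ^ 2 = 4 → HasStd 3 Hs := by
    intro h
    have : (τ - 2) * (τ + 2) = 0 := by linear_combination h
    rcases mul_eq_zero.1 this with h5 | h5
    · exact absurd (sub_eq_zero.1 h5) hτ2
    · exact caseA (by linear_combination h5)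
  rcases hcl with h | h | h
  · exact caseSq h
  · -- (xy)^4 = 1
    have h5 : (x * y) ^ 2 * (x * y) ^ 2 = 1 := by rw [← pow_add]; exact h
    rcases SL2_sq_eq_one h2 ((x * y) ^ 2) h5 with h6 | h6
    · -- (xy)^2 = 1
      rw [pow_two] at h6
      rcases SL2_sq_eq_one h2 (x * y) h6 with h7 | h7
      · apply caseSq
        rw [hτ, h7, coe_one, Matrix.trace_fin_two]; simp; norm_num
      · apply caseSq
        rw [hτ, h7, negOneSL_coe, Matrix.trace_fin_two]; simp; norm_num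
    · -- (xy)^2 = -1 : trace 0
      apply caseB
      have h7 := sq_eq_SL (x * y)
      have h8 : ((x * y : SL(2, F)) : Matrix (Fin 2) (Fin 2) F) *
          ((x * y : SL(2, F)) : Matrix (Fin 2) (Fin 2) F) = -1 := by
        have := congrArg (fun g : SL(2, F) => (g : Matrix (Fin 2) (Fin 2) F)) h6
        simp only [coe_pow, negOneSL_coe, pow_two] at this
        exact this
      rw [h8, ← hτ] at h7
      -- τ • M = 0
      have h9 : τ • ((x * y : SL(2, F)) : Matrix (Fin 2) (Fin 2) F) = 0 := by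
        have : τ • ((x * y : SL(2, F)) : Matrix (Fin 2) (Fin 2) F) = -1 + 1 := by
          rw [h7]; abel
        rw [this]; simp
      rcases smul_eq_zero.1 h9 with h10 | h10
      · exact h10
      · exfalso
        have := congrArg Matrix.det h10
        rw [(x * y).2, Matrix.det_zero] at this
        exact one_ne_zero this
  · -- (xy)^10 = 1
    by_cases hsc : IsScalar2 ((x * y : SL(2, F)) : Matrix (Fin 2) (Fin 2) F)
    · apply caseSq
      rcases scalar_SL2_entry (x * y) hsc with h5 | h5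
      · rw [hτ, Matrix.trace_fin_two, ← hsc.2.2, h5]; norm_num
      · rw [hτ, Matrix.trace_fin_two, ← hsc.2.2, h5]; norm_num
    · have hτ4 := trace_of_pow_ten (x * y) hsc h
      rw [← hτ] at hτ4
      -- ι = τ - 2
      set ι := τ - 2 with hι
      have hfac : (ι ^ 2 + 1) * (ι ^ 2 - ι - 1) = 0 := by
        rw [hι]
        linear_combination hτ4 + (-3 * τ ^ 3 + 10 * τ ^ 2 - 15 * τ + 8) * h3
      have hytr : (y : Matrix (Fin 2) (Fin 2) F).trace = 2 := unipotent_data 3 y hy3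
      set y₁ := y * x * y⁻¹ with hy₁
      have hy₁H : y₁ ∈ Hs := Hs.mul_mem (Hs.mul_mem hy hx) (Hs.inv_mem hy)
      have hy₁3 : y₁ ^ 3 = 1 := by rw [hy₁, conj_pow, hx3]; group
      have htr1 := trace_conj_unip x y hx3 hx1 hytr
      rw [← hτ, ← hy₁] at htr1
      rcases mul_eq_zero.1 hfac with h5 | h5
      · -- ι² = -1
        apply hasStd_of_trace 3 Hs x y₁ hx hy₁H hx3 hx1 hy₁3 1 hne1
        rw [htr1, hc1]
        linear_combination (-1 : F) * h5
      · -- ι² = ι + 1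
        have hy₁tr : (y₁ : Matrix (Fin 2) (Fin 2) F).trace = 2 := unipotent_data 3 y₁ hy₁3
        set y₂ := y₁ * x * y₁⁻¹ with hy₂
        have hy₂H : y₂ ∈ Hs := Hs.mul_mem (Hs.mul_mem hy₁H hx) (Hs.inv_mem hy₁H)
        have hy₂3 : y₂ ^ 3 = 1 := by rw [hy₂, conj_pow, hx3]; group
        have htr2 := trace_conj_unip x y₁ hx3 hx1 hy₁tr
        rw [← hy₂, htr1] at htr2
        apply hasStd_of_trace 3 Hs x y₂ hx hy₂H hx3 hx1 hy₂3 1 hne1
        rw [htr2, hc1]
        have h6 : ι ^ 2 = ι + 1 := by linear_combination h5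
        have h7 : (2 - (τ - 2) ^ 2 - 2) ^ 2 = ι ^ 2 + 2 * ι + 1 := by
          rw [← hι]
          have : (2 - ι ^ 2 - 2) ^ 2 = (ι ^ 2) ^ 2 := by ring
          rw [this, h6]; ring_nf; rw [h6]; ring
        rw [h7, h6]
        linear_combination (-ι - 1) * h3

theorem lemmaB (Hs : Subgroup SL(2, F)) (x y : SL(2, F)) (hx : x ∈ Hs) (hy : y ∈ Hs)
    (hx3 : x ^ 3 = 1) (hx1 : x ≠ 1) (hy3 : y ^ 3 = 1) (hxy : x * y ≠ y * x)
    (hcl : ((x * y : SL(2, F)) : Matrix (Fin 2) (Fin 2) F).trace ^ 2 = 4 ∨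
      (x * y) ^ 4 = 1 ∨ (x * y) ^ 10 = 1) :
    ∃ K : Subgroup SL(2, F), K ≤ Hs ∧ Nonempty (K ≃* SL(2, ZMod 3)) :=
  (lemmaB_std Hs x y hx hy hx3 hx1 hy3 hxy hcl).exists_equiv

end lemmaB

end Cfsg.Agent.Helper4.DSL
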