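import Mathlib
import Cfsg.Agent.Lib.Helper4.DicksonSL2

set_option autoImplicit false
set_option linter.unusedSectionVars false
set_option linter.style.haveILetI false
set_option linter.unusedVariables false

/-! Dickson's theorem: a subgroup of `SL₂(F)` (`F` finite of odd characteristic `p`) with more
than one Sylow `p`-subgroup contains a copy of `SL₂(p)`. -/

namespace Cfsg.Agent.Helper4.DSL

open Matrix Matrix.SpecialLinearGroup
open scoped MatrixGroups
open Cfsg.Agent.Helper2.SL2S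
open Cfsg.Agent.Helper12
open Cfsg.Agent.Helper4.DC

variable {F : Type*} [Field F]

/-! ### `SL₂`-level lemmas -/

theorem negOne_mem_center : (negOneSL : SL(2, F)) ∈ Subgroup.center SL(2, F) := by
  rw [Subgroup.mem_center_iff]
  intro g
  have := negOneSL_mem_torus g
  rw [mem_torus_iff] at this
  exact this

theorem isScalar2_of_mem_center {g : SL(2, F)} (hg : g ∈ Subgroup.center SL(2, F)) :
    IsScalar2 (g : Matrix (Fin 2) (Fin 2) F) := by
  rw [Matrix.SpecialLinearGroup.mem_center_iff] at hg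
  obtain ⟨r, -, hr⟩ := hg
  rw [← hr]
  refine ⟨?_, ?_, ?_⟩ <;> simp [Matrix.scalar]

theorem mem_center_iff_isScalar2 {g : SL(2, F)} :
    g ∈ Subgroup.center SL(2, F) ↔ IsScalar2 (g : Matrix (Fin 2) (Fin 2) F) :=
  ⟨isScalar2_of_mem_center, mem_center_of_isScalar2 g⟩

theorem isScalar2_conj_iff (s g : SL(2, F)) :
    IsScalar2 ((s * g * s⁻¹ : SL(2, F)) : Matrix (Fin 2) (Fin 2) F) ↔
      IsScalar2 (g : Matrix (Fin 2) (Fin 2) F) := by
  rw [← mem_center_iff_isScalar2, ← mem_center_iff_isScalar2]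
  constructor
  · intro h
    have := (Subgroup.center SL(2, F)).normal_of_characteristic.conj_mem _ h s⁻¹
    simpa [mul_assoc] using this
  · intro h
    exact (Subgroup.center SL(2, F)).normal_of_characteristic.conj_mem _ h s

/-- a central element of `SL₂` squares to one -/
theorem sq_eq_one_of_mem_center {g : SL(2, F)} (hg : g ∈ Subgroup.center SL(2, F)) :
    g * g = 1 := by
  have hs := isScalar2_of_mem_center hg
  apply Subtype.ext
  rw [coe_mul, coe_one]
  rcases scalar_SL2_entry g hs with h | h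
  · rw [(isScalar2_iff _).1 hs, h]; simp
  · rw [(isScalar2_iff _).1 hs, h]; simp

/-- elements commuting with `u a` -/
theorem eq_u_or_neg_of_commute {a : F} (ha : a ≠ 0) (k : SL(2, F))
    (hc : k * u a = u a * k) : (∃ t : F, k = u t) ∨ (∃ t : F, k = negOneSL * u t) := by
  obtain ⟨h10, h00⟩ := (commute_u_iff ha k).1 hc
  have hdet := k.2
  rw [Matrix.det_fin_two, h10, ← h00, mul_zero, sub_zero] at hdet
  have : (k.1 0 0 - 1) * (k.1 0 0 + 1) = 0 := by linear_combination hdet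
  rcases mul_eq_zero.1 this with h | h
  · left
    have h1 : k.1 0 0 = 1 := sub_eq_zero.1 h
    refine ⟨k.1 0 1, ?_⟩
    apply Subtype.ext
    rw [u_coe]
    ext i j
    fin_cases i <;> fin_cases j <;> simp [h10, h1, ← h00]
  · right
    have h1 : k.1 0 0 = -1 := eq_neg_of_add_eq_zero_left h
    refine ⟨-k.1 0 1, ?_⟩
    apply Subtype.ext
    rw [coe_mul, negOneSL_coe, u_coe]
    ext i j
    fin_cases i <;> fin_cases j <;> simp [h10, h1, ← h00]

theorem negOne_pow_odd {n : ℕ} (hn : Odd n) : (negOneSL : SL(2, F)) ^ n = negOneSL := by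
  obtain ⟨k, rfl⟩ := hn
  rw [pow_succ, pow_mul, pow_two, negOneSL_mul_self, one_pow, one_mul]

section charp

variable (p : ℕ) [hp : Fact p.Prime] [CharP F p]

theorem u_pow_p (t : F) : (u t) ^ p = 1 := by
  rw [u_pow, CharP.cast_eq_zero F p, zero_mul, u_zero]

/-- if `tr² = 4` then the square is unipotent -/
theorem sq_pow_p_of_trace (g : SL(2, F)) (h2 : (2 : F) ≠ 0)
    (ht : (g : Matrix (Fin 2) (Fin 2) F).trace ^ 2 = 4) : (g * g) ^ p = 1 := by
  set M := (g : Matrix (Fin 2) (Fin 2) F) with hM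
  set τ := M.trace with hτ
  have hMM : M * M = τ • M - 1 := sq_eq_SL g
  set ε := τ / 2 with hε
  have hε2 : ε * ε = 1 := by rw [hε]; field_simp; linear_combination ht
  set N := M - ε • (1 : Matrix (Fin 2) (Fin 2) F) with hN
  have hNN : N * N = 0 := by
    rw [hN, sub_mul, mul_sub, mul_sub, hMM]
    simp only [Matrix.smul_mul, Matrix.mul_smul, Matrix.one_mul, Matrix.mul_one, smul_smul, hε2]
    have : τ = 2 * ε := by rw [hε]; field_simp
    rw [this]
    module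
  have hNp : N ^ p = 0 := by
    have h2p : 2 ≤ p := hp.out.two_le
    obtain ⟨k, rfl⟩ : ∃ k, p = 2 + k := ⟨p - 2, by omega⟩
    rw [pow_add, pow_two, hNN, zero_mul]
  have hMp : M ^ p = (ε ^ p) • (1 : Matrix (Fin 2) (Fin 2) F) := by
    have hcomm : Commute (ε • (1 : Matrix (Fin 2) (Fin 2) F)) N :=
      (Commute.one_left N).smul_left ε
    have : M = ε • (1 : Matrix (Fin 2) (Fin 2) F) + N := by rw [hN]; abel
    rw [this, add_pow_char_of_commute p hcomm, hNp, add_zero, smul_pow, one_pow]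
  have hε2' : ε ^ 2 = 1 := by rw [pow_two]; exact hε2
  apply Subtype.ext
  rw [coe_pow, coe_mul, coe_one, ← hM, ← pow_two, ← pow_mul, mul_comm, pow_mul, hMp, smul_pow,
    one_pow, ← pow_mul, mul_comm, pow_mul, hε2', one_pow, one_smul]

/-- an element with `tr² ≠ 4` is regular -/
theorem isRegularSL_of_trace (h2 : (2 : F) ≠ 0) (g : SL(2, F))
    (ht : (g : Matrix (Fin 2) (Fin 2) F).trace ^ 2 ≠ 4) : IsRegularSL g := by
  have hns : ¬ IsScalar2 (g : Matrix (Fin 2) (Fin 2) F) := by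
    intro hs
    apply ht
    rcases scalar_SL2_entry g hs with h | h
    · rw [Matrix.trace_fin_two, ← hs.2.2, h]; norm_num
    · rw [Matrix.trace_fin_two, ← hs.2.2, h]; norm_num
  refine ⟨hns, ?_⟩
  intro h hh htr
  obtain ⟨a, b, hab⟩ := (mem_torus_iff_coe g h hns).1 hh
  set τ := (g : Matrix (Fin 2) (Fin 2) F).trace with hτ
  have h1 : 2 * a + b * τ = τ := by
    have := congrArg Matrix.trace hab
    rw [htr, Matrix.trace_add, Matrix.trace_smul, Matrix.trace_smul, Matrix.trace_one,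
      ← hτ] at this
    simp at this
    linear_combination -this
  have h3 : a ^ 2 + a * b * τ + b ^ 2 = 1 := by
    have := congrArg Matrix.det hab
    rw [h.2, det_smul_one_add_smul, g.2, ← hτ] at this
    linear_combination -this
  have h4 : (1 - b ^ 2) * (τ ^ 2 - 4) = 0 := by
    have ha : a = τ * (1 - b) / 2 := by field_simp; linear_combination h1
    rw [ha] at h3
    field_simp at h3
    linear_combination h3
  rcases mul_eq_zero.1 h4 with h5 | h5
  · have : (1 - b) * (1 + b) = 0 := by linear_combination h5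
    rcases mul_eq_zero.1 this with h6 | h6
    · left
      have hb : b = 1 := by linear_combination -h6
      have ha : a = 0 := by
        rw [hb] at h1
        have : 2 * a = 0 := by linear_combination h1
        rcases mul_eq_zero.1 this with h7 | h7
        · exact absurd h7 h2
        · exact h7
      apply Subtype.ext
      rw [hab, ha, hb]; simp
    · right
      have hb : b = -1 := by linear_combination h6
      have ha : a = τ := by
        rw [hb] at h1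
        have : 2 * (a - τ) = 0 := by linear_combination h1
        rcases mul_eq_zero.1 this with h7 | h7
        · exact absurd h7 h2
        · exact sub_eq_zero.1 h7
      apply Subtype.ext
      rw [hab, ha, hb, coe_inv_SL2, ← hτ]; simp [sub_eq_add_neg]
  · exact absurd (by linear_combination h5) ht

end charp

/-! ### upper triangular matrices -/

theorem mul_10 (X Y : SL(2, F)) : (X * Y).1 1 0 = X.1 1 0 * Y.1 0 0 + X.1 1 1 * Y.1 1 0 := by
  rw [coe_mul, Matrix.mul_apply, Fin.sum_univ_two]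

theorem mul_00 (X Y : SL(2, F)) : (X * Y).1 0 0 = X.1 0 0 * Y.1 0 0 + X.1 0 1 * Y.1 1 0 := by
  rw [coe_mul, Matrix.mul_apply, Fin.sum_univ_two]

theorem mul_11 (X Y : SL(2, F)) : (X * Y).1 1 1 = X.1 1 0 * Y.1 0 1 + X.1 1 1 * Y.1 1 1 := by
  rw [coe_mul, Matrix.mul_apply, Fin.sum_univ_two]

theorem inv_10 (X : SL(2, F)) : (X⁻¹).1 1 0 = -X.1 1 0 := by
  rw [coe_inv, Matrix.adjugate_fin_two]; simp

theorem inv_00 (X : SL(2, F)) : (X⁻¹).1 0 0 = X.1 1 1 := by
  rw [coe_inv, Matrix.adjugate_fin_two]; simp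

theorem inv_11 (X : SL(2, F)) : (X⁻¹).1 1 1 = X.1 0 0 := by
  rw [coe_inv, Matrix.adjugate_fin_two]; simp

theorem upper_det (X : SL(2, F)) (h : X.1 1 0 = 0) : X.1 0 0 * X.1 1 1 = 1 := by
  have := X.2
  rw [Matrix.det_fin_two, h, mul_zero, sub_zero] at this
  exact this

/-- the commutator of two upper triangular matrices is upper unitriangular -/
theorem comm_upper (X Y : SL(2, F)) (hX : X.1 1 0 = 0) (hY : Y.1 1 0 = 0) :
    ∃ t : F, X * Y * X⁻¹ * Y⁻¹ = u t := by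
  have hdX := upper_det X hX
  have hdY := upper_det Y hY
  have h10 : (X * Y * X⁻¹ * Y⁻¹).1 1 0 = 0 := by
    rw [mul_10, mul_10, mul_10, inv_10, inv_10, hX, hY]; ring
  have h00 : (X * Y * X⁻¹ * Y⁻¹).1 0 0 = 1 := by
    rw [mul_00, mul_00, mul_00, inv_10, inv_10, inv_00, inv_00, hX, hY]
    linear_combination (X.1 0 0 * X.1 1 1) * hdY + hdX
  have h11 : (X * Y * X⁻¹ * Y⁻¹).1 1 1 = 1 := by
    have := upper_det _ h10
    rw [h00, one_mul] at this
    exact this
  refine ⟨(X * Y * X⁻¹ * Y⁻¹).1 0 1, ?_⟩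
  apply Subtype.ext
  rw [u_coe]
  ext i j
  fin_cases i <;> fin_cases j <;> simp [h10, h00, h11]

section sub

variable [Fintype F] (p : ℕ) [hp : Fact p.Prime] [CharP F p]

/-- a `p`-element of `SL₂(F)` has order dividing `p` -/
theorem pow_p_of_pow (x : SL(2, F)) (k : ℕ) (hx : x ^ p ^ k = 1) : x ^ p = 1 := by
  have hz : IsPGroup p (Subgroup.zpowers x) := by
    have h2 : orderOf x ∣ p ^ k := orderOf_dvd_of_pow_eq_one hx
    obtain ⟨i, -, hi⟩ := (Nat.dvd_prime_pow hp.out).1 h2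
    apply IsPGroup.of_card (n := i)
    rw [Nat.card_zpowers, hi]
  obtain ⟨P, hP⟩ := hz.exists_le_sylow
  obtain ⟨g, hg⟩ := exists_conj_eq p P
  obtain ⟨b, hb⟩ := (hg x).1 (hP (Subgroup.mem_zpowers x))
  rw [hb, conj_pow, u_pow_p]; group

variable (Hs : Subgroup SL(2, F))

/-- the central subgroup of `Hs` -/
def ZZ : Subgroup ↥Hs := (Subgroup.center SL(2, F)).subgroupOf Hs

variable {Hs}

theorem mem_ZZ {x : ↥Hs} : x ∈ ZZ Hs ↔ (x : SL(2, F)) ∈ Subgroup.center SL(2, F) :=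
  Subgroup.mem_subgroupOf

theorem mem_ZZ_iff {x : ↥Hs} : x ∈ ZZ Hs ↔ IsScalar2 ((x : SL(2, F)) : Matrix (Fin 2) (Fin 2) F) := by
  rw [mem_ZZ, mem_center_iff_isScalar2]

theorem mem_Cen_iff {g x : ↥Hs} : x ∈ Cen g ↔ (g : SL(2, F)) * x = x * g := by
  rw [mem_Cen]
  constructor
  · intro h
    have := congrArg Subtype.val h
    simpa using this
  · intro h
    apply Subtype.ext
    simpa using h

variable (Hs)

/-- elements of `Hs` that are unitriangular in the frame `s` -/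
def Uhat (s : SL(2, F)) : Subgroup ↥Hs where
  carrier := {x | ∃ t : F, s * (x : SL(2, F)) * s⁻¹ = u t}
  mul_mem' := by
    rintro x y ⟨t, ht⟩ ⟨t', ht'⟩
    refine ⟨t + t', ?_⟩
    rw [u_add, ← ht, ← ht']
    simp only [Subgroup.coe_mul]
    group
  one_mem' := ⟨0, by simp⟩
  inv_mem' := by
    rintro x ⟨t, ht⟩
    refine ⟨-t, ?_⟩
    rw [← u_inv, ← ht]
    simp only [Subgroup.coe_inv]
    group

/-- elements of `Hs` that are upper triangular in the frame `s` -/
def Bhat (s : SL(2, F)) : Subgroup ↥Hs where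
  carrier := {x | (s * (x : SL(2, F)) * s⁻¹).1 1 0 = 0}
  mul_mem' := by
    intro x y hx hy
    simp only [Set.mem_ofPred_eq] at hx hy ⊢
    have e : s * ((x * y : ↥Hs) : SL(2, F)) * s⁻¹ =
        (s * (x : SL(2, F)) * s⁻¹) * (s * (y : SL(2, F)) * s⁻¹) := by
      simp only [Subgroup.coe_mul]; group
    rw [e, mul_10, hx, hy]; ring
  one_mem' := by
    simp only [Set.mem_ofPred_eq, Subgroup.coe_one, mul_one, mul_inv_cancel, coe_one]
    simp
  inv_mem' := by
    intro x hx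
    simp only [Set.mem_ofPred_eq] at hx ⊢
    have e : s * ((x⁻¹ : ↥Hs) : SL(2, F)) * s⁻¹ = (s * (x : SL(2, F)) * s⁻¹)⁻¹ := by
      simp only [Subgroup.coe_inv]; group
    rw [e, inv_10, hx, neg_zero]

variable {Hs}

theorem mem_Uhat {s : SL(2, F)} {x : ↥Hs} :
    x ∈ Uhat Hs s ↔ ∃ t : F, s * (x : SL(2, F)) * s⁻¹ = u t := Iff.rfl

theorem mem_Bhat {s : SL(2, F)} {x : ↥Hs} :
    x ∈ Bhat Hs s ↔ (s * (x : SL(2, F)) * s⁻¹).1 1 0 = 0 := Iff.rfl

theorem Uhat_le_Bhat (s : SL(2, F)) : Uhat Hs s ≤ Bhat Hs s := by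
  rintro x ⟨t, ht⟩
  rw [mem_Bhat, ht, u_coe]; simp

theorem isPGroup_Uhat (s : SL(2, F)) : IsPGroup p (Uhat Hs s) := by
  rintro ⟨x, t, ht⟩
  refine ⟨1, ?_⟩
  apply Subtype.ext
  apply Subtype.ext
  simp only [pow_one, Subgroup.coe_pow, Subgroup.coe_one]
  have : (s * (x : SL(2, F)) * s⁻¹) ^ p = 1 := by rw [ht, u_pow_p]
  rw [conj_pow] at this
  have h2 : (x : SL(2, F)) ^ p = s⁻¹ * (s * (x : SL(2, F)) ^ p * s⁻¹) * s := by group
  rw [h2, this]; group

end sub

section verify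

variable [Fintype F] (p : ℕ) [hp : Fact p.Prime] [CharP F p] {Hs : Subgroup SL(2, F)}

theorem ZZ_central : ZZ Hs ≤ Subgroup.center ↥Hs := by
  intro x hx
  rw [mem_ZZ] at hx
  rw [Subgroup.mem_center_iff]
  intro g
  apply Subtype.ext
  simp only [Subgroup.coe_mul]
  exact Subgroup.mem_center_iff.1 hx g

theorem cen_comm (g : ↥Hs) (hg : g ∉ ZZ Hs) (x : ↥Hs) (hx : x ∈ Cen g) (y : ↥Hs)
    (hy : y ∈ Cen g) : x * y = y * x := by
  rw [mem_ZZ_iff] at hg
  rw [mem_Cen_iff] at hx hy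
  apply Subtype.ext
  simp only [Subgroup.coe_mul]
  exact torus_comm (g : SL(2, F)) hg x y ((mem_torus_iff _ _).2 hx) ((mem_torus_iff _ _).2 hy)

theorem three_le_of_odd (hp2 : p ≠ 2) : 3 ≤ p := by
  have := hp.out.two_le
  omega

theorem ZZ_coprime (hp2 : p ≠ 2) : (Nat.card (ZZ Hs)).Coprime p := by
  rw [Nat.coprime_comm, Nat.Prime.coprime_iff_not_dvd hp.out]
  intro hdvd
  obtain ⟨ζ, hζ⟩ := exists_prime_orderOf_dvd_card' p hdvd
  have h1 : ζ * ζ = 1 := by
    apply Subtype.ext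
    apply Subtype.ext
    simp only [Subgroup.coe_mul, Subgroup.coe_one]
    exact sq_eq_one_of_mem_center (mem_ZZ.1 ζ.2)
  have h2 : orderOf ζ ∣ 2 := orderOf_dvd_of_pow_eq_one (by rw [pow_two]; exact h1)
  rw [hζ] at h2
  exact hp2 ((Nat.prime_dvd_prime_iff_eq hp.out Nat.prime_two).1 h2)

/-- `p`-subgroups of `SL₂(F)` are commutative -/
theorem pGroup_comm (Q : Subgroup SL(2, F)) (hQ : IsPGroup p Q) (x y : SL(2, F)) (hx : x ∈ Q)
    (hy : y ∈ Q) : x * y = y * x := by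
  obtain ⟨P, hP⟩ := hQ.exists_le_sylow
  obtain ⟨g, hg⟩ := exists_conj_eq p P
  obtain ⟨b, hb⟩ := (hg x).1 (hP hx)
  obtain ⟨b', hb'⟩ := (hg y).1 (hP hy)
  rw [hb, hb']
  calc g * u b * g⁻¹ * (g * u b' * g⁻¹) = g * (u b * u b') * g⁻¹ := by group
    _ = g * (u b' * u b) * g⁻¹ := by rw [← u_add, ← u_add, add_comm]
    _ = _ := by group

theorem sub_pGroup_comm (Q : Subgroup ↥Hs) (hQ : IsPGroup p Q) (x : ↥Hs) (hx : x ∈ Q) (y : ↥Hs)
    (hy : y ∈ Q) : x * y = y * x := by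
  apply Subtype.ext
  simp only [Subgroup.coe_mul]
  exact pGroup_comm p (Q.map Hs.subtype) (hQ.map _) x y (Subgroup.mem_map_of_mem _ hx)
    (Subgroup.mem_map_of_mem _ hy)

theorem sub_pow_p (x : ↥Hs) (k : ℕ) (hx : x ^ p ^ k = 1) : (x : SL(2, F)) ^ p = 1 := by
  apply pow_p_of_pow p _ k
  have := congrArg (fun y : ↥Hs => (y : SL(2, F))) hx
  simpa using this

/-- the frame of a Sylow subgroup -/
theorem sylow_le_Uhat (hp2 : p ≠ 2) (P : Sylow p ↥Hs) (c : ↥Hs) (hc : c ∈ P) (s : SL(2, F)) (a : F)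
    (ha : a ≠ 0) (hs : s * (c : SL(2, F)) * s⁻¹ = u a) : (P : Subgroup ↥Hs) ≤ Uhat Hs s := by
  intro x hx
  rw [mem_Uhat]
  obtain ⟨k, hk⟩ := P.2 ⟨x, hx⟩
  have hk' : x ^ p ^ k = 1 := by simpa using congrArg Subtype.val hk
  have hxp := sub_pow_p p x k hk'
  have hcomm : x * c = c * x := sub_pGroup_comm p P P.2 x hx c hc
  have hcomm' : (x : SL(2, F)) * c = c * x := by
    have := congrArg (fun y : ↥Hs => (y : SL(2, F))) hcomm
    simpa using this
  apply eq_u_of_commute p hp2 ha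
  · rw [conj_pow, hxp]; group
  · rw [← hs]
    calc s * (x : SL(2, F)) * s⁻¹ * (s * (c : SL(2, F)) * s⁻¹)
        = s * ((x : SL(2, F)) * c) * s⁻¹ := by group
      _ = s * ((c : SL(2, F)) * x) * s⁻¹ := by rw [hcomm']
      _ = _ := by group

theorem sylow_eq_Uhat (hp2 : p ≠ 2) (P : Sylow p ↥Hs) (c : ↥Hs) (hc : c ∈ P) (s : SL(2, F)) (a : F)
    (ha : a ≠ 0) (hs : s * (c : SL(2, F)) * s⁻¹ = u a) : (P : Subgroup ↥Hs) = Uhat Hs s :=
  (P.is_maximal' (isPGroup_Uhat p s) (sylow_le_Uhat p hp2 P c hc s a ha hs)).symm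

theorem normalizer_eq_Bhat (hp2 : p ≠ 2) (P : Sylow p ↥Hs) (c : ↥Hs) (hc : c ∈ P) (s : SL(2, F))
    (a : F) (ha : a ≠ 0) (hs : s * (c : SL(2, F)) * s⁻¹ = u a) :
    Subgroup.normalizer ((P : Subgroup ↥Hs) : Set ↥Hs) = Bhat Hs s := by
  have hPU := sylow_eq_Uhat p hp2 P c hc s a ha hs
  apply le_antisymm
  · intro n hn
    rw [mem_Bhat]
    have h1 : n * c * n⁻¹ ∈ (P : Subgroup ↥Hs) := (Subgroup.mem_normalizer_iff.1 hn c).1 hc
    rw [hPU, mem_Uhat] at h1
    obtain ⟨t, ht⟩ := h1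
    have e : s * ((n * c * n⁻¹ : ↥Hs) : SL(2, F)) * s⁻¹ =
        (s * (n : SL(2, F)) * s⁻¹) * u a * (s * (n : SL(2, F)) * s⁻¹)⁻¹ := by
      rw [← hs]
      simp only [Subgroup.coe_mul, Subgroup.coe_inv]
      group
    rw [e] at ht
    have h2 := congrArg (fun x : SL(2, F) => (x : Matrix (Fin 2) (Fin 2) F) 1 0) ht
    simp only [conj_u_coe, u_coe] at h2
    simp at h2
    rcases h2 with h3 | h3
    · exact absurd h3 ha
    · exact h3
  · have key : ∀ x : ↥Hs, x ∈ Bhat Hs s → ∀ y ∈ (P : Subgroup ↥Hs), x * y * x⁻¹ ∈ (P : Subgroup ↥Hs) := by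
      intro x hx y hy
      rw [hPU, mem_Uhat] at hy ⊢
      obtain ⟨t, ht⟩ := hy
      rw [mem_Bhat] at hx
      refine ⟨t * (s * (x : SL(2, F)) * s⁻¹).1 0 0 * (s * (x : SL(2, F)) * s⁻¹).1 0 0, ?_⟩
      rw [← conj_u_of_lower_zero _ hx, ← ht]
      simp only [Subgroup.coe_mul, Subgroup.coe_inv]
      group
    intro x hx
    rw [Subgroup.mem_normalizer_iff]
    intro y
    constructor
    · exact key x hx y
    · intro hy
      have := key x⁻¹ (Subgroup.inv_mem _ hx) _ hy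
      have e : x⁻¹ * (x * y * x⁻¹) * x⁻¹⁻¹ = y := by group
      rwa [e] at this


theorem ca_ZZ : CA (ZZ Hs) := ⟨ZZ_central, cen_comm⟩

/-- conjugating back -/
theorem coe_conj_eq {s : SL(2, F)} {x : ↥Hs} {m : SL(2, F)} (h : s * (x : SL(2, F)) * s⁻¹ = m) :
    (x : SL(2, F)) = s⁻¹ * m * s := by
  rw [← h]; group

/-- the centraliser of an element of order `p` -/
theorem cen_eq_sup (hp2 : p ≠ 2) (c : ↥Hs) (s : SL(2, F)) (a : F) (ha : a ≠ 0)
    (hs : s * (c : SL(2, F)) * s⁻¹ = u a) : Cen c = ZZ Hs ⊔ Uhat Hs s := by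
  apply le_antisymm
  · intro x hx
    rw [mem_Cen_iff] at hx
    have hX : (s * (x : SL(2, F)) * s⁻¹) * u a = u a * (s * (x : SL(2, F)) * s⁻¹) := by
      rw [← hs]
      calc s * (x : SL(2, F)) * s⁻¹ * (s * (c : SL(2, F)) * s⁻¹)
          = s * ((x : SL(2, F)) * c) * s⁻¹ := by group
        _ = s * ((c : SL(2, F)) * x) * s⁻¹ := by rw [hx]
        _ = _ := by group
    rcases eq_u_or_neg_of_commute ha _ hX with ⟨t, ht⟩ | ⟨t, ht⟩
    · exact Subgroup.mem_sup_right (mem_Uhat.2 ⟨t, ht⟩)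
    · -- `x ^ p = -1`
      have hodd : Odd p := hp.out.odd_of_ne_two hp2
      have hxp : (x : SL(2, F)) ^ p = negOneSL := by
        have h1 : (s * (x : SL(2, F)) * s⁻¹) ^ p = negOneSL := by
          rw [ht]
          have hcm : Commute (negOneSL : SL(2, F)) (u t) :=
            (Subgroup.mem_center_iff.1 negOne_mem_center (u t)).symm
          rw [hcm.mul_pow, u_pow_p, mul_one, negOne_pow_odd hodd]
        rw [conj_pow] at h1
        have h2 : (x : SL(2, F)) ^ p = s⁻¹ * (s * (x : SL(2, F)) ^ p * s⁻¹) * s := by group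
        rw [h2, h1]
        have := Subgroup.mem_center_iff.1 (negOne_mem_center (F := F)) s
        rw [mul_assoc, ← this, ← mul_assoc, inv_mul_cancel, one_mul]
      set ζ : ↥Hs := x ^ p with hζ
      have hζc : (ζ : SL(2, F)) = negOneSL := by rw [hζ, Subgroup.coe_pow, hxp]
      have hζZ : ζ ∈ ZZ Hs := by rw [mem_ZZ, hζc]; exact negOne_mem_center
      have hU : ζ⁻¹ * x ∈ Uhat Hs s := by
        rw [mem_Uhat]
        refine ⟨t, ?_⟩
        rw [Subgroup.coe_mul, Subgroup.coe_inv, hζc]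
        have hinv : (negOneSL : SL(2, F))⁻¹ = negOneSL := inv_eq_of_mul_eq_one_left negOneSL_mul_self
        rw [hinv]
        have hc2 := Subgroup.mem_center_iff.1 (negOne_mem_center (F := F)) s
        calc s * (negOneSL * (x : SL(2, F))) * s⁻¹
            = (s * negOneSL) * (x : SL(2, F)) * s⁻¹ := by group
          _ = (negOneSL * s) * (x : SL(2, F)) * s⁻¹ := by rw [hc2]
          _ = negOneSL * (s * (x : SL(2, F)) * s⁻¹) := by group
          _ = negOneSL * (negOneSL * u t) := by rw [ht]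
          _ = u t := by rw [← mul_assoc, negOneSL_mul_self, one_mul]
      have : x = ζ * (ζ⁻¹ * x) := by group
      rw [this]
      exact Subgroup.mul_mem _ (Subgroup.mem_sup_left hζZ) (Subgroup.mem_sup_right hU)
  · apply sup_le
    · exact ca_ZZ.le_Cen c
    · rintro x ⟨t, ht⟩
      rw [mem_Cen_iff]
      rw [coe_conj_eq ht, coe_conj_eq hs]
      calc s⁻¹ * u a * s * (s⁻¹ * u t * s) = s⁻¹ * (u a * u t) * s := by group
        _ = s⁻¹ * (u t * u a) * s := by rw [← u_add, ← u_add, add_comm]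
        _ = _ := by group

theorem coe_ne_one {x : ↥Hs} (h : x ≠ 1) : (x : SL(2, F)) ≠ 1 := by
  intro h1
  apply h
  apply Subtype.ext
  simpa using h1

theorem not_mem_ZZ_of_conj_u {c : ↥Hs} {s : SL(2, F)} {a : F} (ha : a ≠ 0)
    (hs : s * (c : SL(2, F)) * s⁻¹ = u a) : c ∉ ZZ Hs := by
  rw [mem_ZZ_iff, ← isScalar2_conj_iff s, hs, u_coe]
  rintro ⟨h1, -, -⟩
  apply ha
  simpa using h1

theorem ax_pT (hp2 : p ≠ 2) (g : ↥Hs) (hg : g ∉ ZZ Hs) (hdvd : p ∣ Nat.card (Cen g)) :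
    ∃ Pg : Subgroup ↥Hs, IsPGroup p Pg ∧ Cen g = ZZ Hs ⊔ Pg := by
  obtain ⟨c, hc⟩ := exists_prime_orderOf_dvd_card' p hdvd
  have hc1 : (c : ↥Hs) ≠ 1 := by
    intro h
    have : c = 1 := Subtype.ext h
    rw [this, orderOf_one] at hc
    exact hp.out.one_lt.ne hc
  have hcp : ((c : ↥Hs) : SL(2, F)) ^ p = 1 := by
    have h1 : c ^ p = 1 := by rw [← hc]; exact pow_orderOf_eq_one c
    have h2 : ((c : ↥Hs)) ^ p = 1 := by
      have := congrArg (fun y : ↥(Cen g) => (y : ↥Hs)) h1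
      simpa using this
    have := congrArg (fun y : ↥Hs => (y : SL(2, F))) h2
    simpa using this
  obtain ⟨s, a, ha, hs⟩ := exists_conj_u p _ hcp (coe_ne_one hc1)
  refine ⟨Uhat Hs s, isPGroup_Uhat p s, ?_⟩
  rw [← cen_eq_sup p hp2 (c : ↥Hs) s a ha hs]
  exact (ca_ZZ.cen_eq hg (not_mem_ZZ_of_conj_u ha hs) c.2).symm

/-- torus-type elements have `tr² ≠ 4` -/
theorem trace_sq_ne_four (hp2 : p ≠ 2) (g : ↥Hs) (hg : g ∉ ZZ Hs)
    (hdvd : ¬ p ∣ Nat.card (Cen g)) :
    ((g : SL(2, F)) : Matrix (Fin 2) (Fin 2) F).trace ^ 2 ≠ 4 := by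
  intro ht
  have h2 := two_ne_zero_of_odd (F := F) p hp2
  have h1 := sq_pow_p_of_trace p (g : SL(2, F)) h2 ht
  by_cases hgg : g * g = 1
  · have : (g : SL(2, F)) * g = 1 := by
      have := congrArg (fun y : ↥Hs => (y : SL(2, F))) hgg
      simpa using this
    apply hg
    rw [mem_ZZ]
    rcases SL2_sq_eq_one h2 _ this with h | h
    · rw [h]; exact Subgroup.one_mem _
    · rw [h]; exact negOne_mem_center
  · apply hdvd
    have hmem : g * g ∈ Cen g := Subgroup.mul_mem _ (self_mem_Cen g) (self_mem_Cen g)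
    have hord : orderOf (⟨g * g, hmem⟩ : ↥(Cen g)) = p := by
      apply orderOf_eq_prime
      · apply Subtype.ext
        apply Subtype.ext
        simpa using h1
      · intro h
        apply hgg
        have := congrArg Subtype.val h
        simpa using this
    rw [← hord]
    exact orderOf_dvd_natCard _

theorem ax_tT (hp2 : p ≠ 2) (g : ↥Hs) (hg : g ∉ ZZ Hs) (hdvd : ¬ p ∣ Nat.card (Cen g)) :
    Nat.card (Subgroup.normalizer ((Cen g : Subgroup ↥Hs) : Set ↥Hs)) ≤ 2 * Nat.card (Cen g) := by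
  have h2 := two_ne_zero_of_odd (F := F) p hp2
  have hreg := isRegularSL_of_trace h2 (g : SL(2, F)) (trace_sq_ne_four p hp2 g hg hdvd)
  have key : ∀ n ∈ Subgroup.normalizer ((Cen g : Subgroup ↥Hs) : Set ↥Hs),
      n * g * n⁻¹ = g ∨ n * g * n⁻¹ = g⁻¹ := by
    intro n hn
    have h1 : n * g * n⁻¹ ∈ Cen g := (Subgroup.mem_normalizer_iff.1 hn g).1 (self_mem_Cen g)
    rw [mem_Cen_iff] at h1
    have h3 := hreg.reg ((n * g * n⁻¹ : ↥Hs) : SL(2, F)) ((mem_torus_iff _ _).2 h1) (by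
      simp only [Subgroup.coe_mul, Subgroup.coe_inv]
      exact trace_conj _ _)
    rcases h3 with h3 | h3
    · left; exact Subtype.ext h3
    · right; apply Subtype.ext; rw [h3]; simp
  by_cases hall : ∀ n ∈ Subgroup.normalizer ((Cen g : Subgroup ↥Hs) : Set ↥Hs), n * g * n⁻¹ = g
  · have hle : Subgroup.normalizer ((Cen g : Subgroup ↥Hs) : Set ↥Hs) ≤ Cen g := by
      intro n hn
      rw [mem_Cen]
      have := hall n hn
      calc g * n = (n * g * n⁻¹) * n := by rw [this]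
        _ = n * g := by group
    calc Nat.card (Subgroup.normalizer ((Cen g : Subgroup ↥Hs) : Set ↥Hs))
        ≤ Nat.card (Cen g) := Subgroup.card_le_of_le hle
      _ ≤ 2 * Nat.card (Cen g) := by omega
  · push Not at hall
    obtain ⟨n₁, hn₁, hn₁g⟩ := hall
    have hn₁' : n₁ * g * n₁⁻¹ = g⁻¹ := (key n₁ hn₁).resolve_left hn₁g
    have hsub : ((Subgroup.normalizer ((Cen g : Subgroup ↥Hs) : Set ↥Hs) : Subgroup ↥Hs) : Set ↥Hs) ⊆
        ((Cen g : Subgroup ↥Hs) : Set ↥Hs) ∪ (fun x => n₁ * x) '' ((Cen g : Subgroup ↥Hs) : Set ↥Hs) := by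
      intro n hn
      rcases key n hn with h | h
      · left
        rw [SetLike.mem_coe, mem_Cen]
        calc g * n = (n * g * n⁻¹) * n := by rw [h]
          _ = n * g := by group
      · right
        refine ⟨n₁⁻¹ * n, ?_, by group⟩
        rw [SetLike.mem_coe, mem_Cen]
        have e : n * g * n⁻¹ = n₁ * g * n₁⁻¹ := by rw [h, hn₁']
        calc g * (n₁⁻¹ * n) = n₁⁻¹ * (n₁ * g * n₁⁻¹) * n := by group
          _ = n₁⁻¹ * (n * g * n⁻¹) * n := by rw [e]
          _ = n₁⁻¹ * n * g := by group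
    have hfin : (((Cen g : Subgroup ↥Hs) : Set ↥Hs) ∪
        (fun x => n₁ * x) '' ((Cen g : Subgroup ↥Hs) : Set ↥Hs)).Finite := Set.toFinite _
    calc Nat.card (Subgroup.normalizer ((Cen g : Subgroup ↥Hs) : Set ↥Hs))
        = Set.ncard ((Subgroup.normalizer ((Cen g : Subgroup ↥Hs) : Set ↥Hs) : Subgroup ↥Hs) : Set ↥Hs) := rfl
      _ ≤ Set.ncard (((Cen g : Subgroup ↥Hs) : Set ↥Hs) ∪
          (fun x => n₁ * x) '' ((Cen g : Subgroup ↥Hs) : Set ↥Hs)) := Set.ncard_le_ncard hsub hfin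
      _ ≤ Set.ncard ((Cen g : Subgroup ↥Hs) : Set ↥Hs) +
          Set.ncard ((fun x => n₁ * x) '' ((Cen g : Subgroup ↥Hs) : Set ↥Hs)) := Set.ncard_union_le _ _
      _ ≤ Set.ncard ((Cen g : Subgroup ↥Hs) : Set ↥Hs) + Set.ncard ((Cen g : Subgroup ↥Hs) : Set ↥Hs) :=
          Nat.add_le_add_left (Set.ncard_image_le (Set.toFinite _)) _
      _ = 2 * Nat.card (Cen g) := by
          rw [two_mul]; rfl

/-- a frame for a nontrivial Sylow subgroup -/
theorem exists_frame (P : Sylow p ↥Hs) (hP : (P : Subgroup ↥Hs) ≠ ⊥) :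
    ∃ (c : ↥Hs) (s : SL(2, F)) (a : F), c ∈ P ∧ a ≠ 0 ∧ s * (c : SL(2, F)) * s⁻¹ = u a := by
  obtain ⟨c, hc1⟩ := (Subgroup.ne_bot_iff_exists_ne_one).1 hP
  have hcP : (c : ↥Hs) ∈ P := c.2
  obtain ⟨k, hk⟩ := P.2 c
  have hk' : (c : ↥Hs) ^ p ^ k = 1 := by simpa using congrArg Subtype.val hk
  have hcp := sub_pow_p p (c : ↥Hs) k hk'
  have hc1' : (c : ↥Hs) ≠ 1 := by
    intro h
    apply hc1
    exact Subtype.ext h
  obtain ⟨s, a, ha, hs⟩ := exists_conj_u p _ hcp (coe_ne_one hc1')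
  exact ⟨c, s, a, hcP, ha, hs⟩

theorem ax_norm_ab (hp2 : p ≠ 2) (P : Sylow p ↥Hs) (hP : (P : Subgroup ↥Hs) ≠ ⊥)
    (x : ↥Hs) (hx : x ∈ Subgroup.normalizer ((P : Subgroup ↥Hs) : Set ↥Hs))
    (y : ↥Hs) (hy : y ∈ Subgroup.normalizer ((P : Subgroup ↥Hs) : Set ↥Hs)) :
    x * y * x⁻¹ * y⁻¹ ∈ P := by
  obtain ⟨c, s, a, hc, ha, hs⟩ := exists_frame p P hP
  rw [normalizer_eq_Bhat p hp2 P c hc s a ha hs, mem_Bhat] at hx hy
  have hmem : x * y * x⁻¹ * y⁻¹ ∈ (P : Subgroup ↥Hs) := by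
    rw [sylow_eq_Uhat p hp2 P c hc s a ha hs, mem_Uhat]
    obtain ⟨t, ht⟩ := comm_upper _ _ hx hy
    refine ⟨t, ?_⟩
    rw [← ht]
    simp only [Subgroup.coe_mul, Subgroup.coe_inv]
    group
  exact hmem

theorem ax_norm_cen (hp2 : p ≠ 2) (P : Sylow p ↥Hs) (hP : (P : Subgroup ↥Hs) ≠ ⊥)
    (y : ↥Hs) (hy : y ∈ Subgroup.normalizer ((P : Subgroup ↥Hs) : Set ↥Hs))
    (hyZ : y ∉ ZZ Hs) (hdvd : ¬ p ∣ Nat.card (Cen y)) :
    Cen y ≤ Subgroup.normalizer ((P : Subgroup ↥Hs) : Set ↥Hs) := by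
  obtain ⟨c, s, a, hc, ha, hs⟩ := exists_frame p P hP
  rw [normalizer_eq_Bhat p hp2 P c hc s a ha hs] at hy ⊢
  rw [mem_Bhat] at hy
  have htr := trace_sq_ne_four p hp2 y hyZ hdvd
  rw [← trace_conj s, Matrix.trace_fin_two] at htr
  have hdet := upper_det _ hy
  set Y := s * (y : SL(2, F)) * s⁻¹ with hY
  have hne : Y.1 0 0 ≠ Y.1 1 1 := by
    intro h
    apply htr
    rw [← h]
    rw [← h] at hdet
    linear_combination 4 * hdet
  intro x hx
  rw [mem_Cen_iff] at hx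
  rw [mem_Bhat]
  set X := s * (x : SL(2, F)) * s⁻¹ with hX
  have hcomm : X * Y = Y * X := by
    rw [hX, hY]
    calc s * (x : SL(2, F)) * s⁻¹ * (s * (y : SL(2, F)) * s⁻¹)
        = s * ((x : SL(2, F)) * y) * s⁻¹ := by group
      _ = s * ((y : SL(2, F)) * x) * s⁻¹ := by rw [hx]
      _ = _ := by group
  have h10 := congrArg (fun m : SL(2, F) => m.1 1 0) hcomm
  simp only [mul_10, hy] at h10
  have : X.1 1 0 * (Y.1 0 0 - Y.1 1 1) = 0 := by linear_combination h10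
  rcases mul_eq_zero.1 this with h | h
  · exact h
  · exact absurd (sub_eq_zero.1 h) hne

/-- **the axioms hold for subgroups of `SL₂(F)`** -/
theorem ax_of_subgroup (hp2 : p ≠ 2) : Ax p (ZZ Hs) where
  toCA := ca_ZZ
  hp3 := three_le_of_odd p hp2
  cop := ZZ_coprime p hp2
  pT := ax_pT p hp2
  tT := ax_tT p hp2
  pab := sub_pGroup_comm p
  norm_cen := ax_norm_cen p hp2
  norm_ab := ax_norm_ab p hp2

end verify

end Cfsg.Agent.Helper4.DSL
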