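import Mathlib
import Cfsg.Agent.Lib.Helper4.DicksonMain
import Cfsg.Agent.Lib.Helper4.DicksonArith

set_option autoImplicit false
set_option linter.unusedSectionVars false
set_option linter.style.haveILetI false
set_option linter.unusedVariables false

/-! Dickson's theorem, final assembly. -/

namespace Cfsg.Agent.Helper4.DC

open scoped Pointwise

variable {H : Type*} [Group H] [Finite H] {p : ℕ} [hp : Fact p.Prime] {Z : Subgroup H}

theorem sylow_ne_bot_of_card (P : Sylow p H) (hn : 1 < Nat.card (Sylow p H)) :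
    (P : Subgroup H) ≠ ⊥ := by
  intro hbot
  have hall : ∀ Q : Sylow p H, Q = P := by
    intro Q
    obtain ⟨g, rfl⟩ := MulAction.exists_smul_eq H P Q
    apply Sylow.ext
    rw [hbot, eq_bot_iff]
    intro x hx
    have hx' : x ∈ g • P := hx
    rw [mem_sylow_smul_iff] at hx'
    have h1 : g⁻¹ * x * g ∈ (⊥ : Subgroup H) := hbot ▸ hx'
    rw [Subgroup.mem_bot] at h1 ⊢
    have : x = g * (g⁻¹ * x * g) * g⁻¹ := by group
    rw [this, h1]; group
  have : Subsingleton (Sylow p H) := ⟨fun a b => (hall a).trans (hall b).symm⟩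
  have := Finite.card_le_one_iff_subsingleton.2 this
  omega

theorem pow_eq_one_of_mem_sylow (P : Sylow p H) {a : H} (ha : a ∈ P) : ∃ k : ℕ, a ^ p ^ k = 1 := by
  obtain ⟨k, hk⟩ := P.2 ⟨a, ha⟩
  exact ⟨k, by simpa using congrArg Subtype.val hk⟩

/-- a nontrivial element of `P` moves every other Sylow subgroup -/
theorem Ax.smul_ne_of_mem (ax : Ax p Z) (P Q : Sylow p H) (hne : Q ≠ P) {a : H} (ha : a ∈ P)
    (ha1 : a ≠ 1) : a • Q ≠ Q := by
  intro h
  rw [Sylow.smul_eq_iff_mem_normalizer] at h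
  obtain ⟨k, hk⟩ := pow_eq_one_of_mem_sylow P ha
  have haQ := mem_sylow_of_mem_normalizer Q h k hk
  exact hne (ax.sylow_eq_of_mem P Q ha haQ ha1).symm

theorem smul_self_of_mem (P : Sylow p H) {a : H} (ha : a ∈ P) : a • P = P := by
  rw [Sylow.smul_eq_iff_mem_normalizer]
  exact Subgroup.le_normalizer ha

/-- `P` is regular on the other Sylow subgroups when there are `|P| + 1` of them -/
theorem Ax.exists_smul_eq (ax : Ax p Z) (P : Sylow p H)
    (hn : Nat.card (Sylow p H) = Nat.card (P : Subgroup H) + 1) (Q R : Sylow p H) (hQ : Q ≠ P)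
    (hR : R ≠ P) : ∃ a ∈ P, a • Q = R := by
  let f : ↥(P : Subgroup H) → {R : Sylow p H // R ≠ P} := fun a =>
    ⟨(a : H) • Q, by
      intro h
      apply hQ
      have h2 : (a : H) • Q = (a : H) • P := by rw [h, smul_self_of_mem P a.2]
      exact smul_left_cancel _ h2⟩
  have hinj : Function.Injective f := by
    intro a b hab
    have h1 : (a : H) • Q = (b : H) • Q := congrArg Subtype.val hab
    have h2 : ((b : H)⁻¹ * (a : H)) • Q = Q := by
      rw [mul_smul, h1, inv_smul_smul]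
    by_contra hne
    have h3 : (b : H)⁻¹ * (a : H) ≠ 1 := by
      intro h
      apply hne
      apply Subtype.ext
      have : (a : H) = (b : H) * ((b : H)⁻¹ * (a : H)) := by group
      rw [this, h, mul_one]
    exact ax.smul_ne_of_mem P Q hQ (Subgroup.mul_mem _ (Subgroup.inv_mem _ b.2) a.2) h3 h2
  have hcard : Nat.card {R : Sylow p H // R ≠ P} ≤ Nat.card ↥(P : Subgroup H) := by
    rw [card_ne_sylow, hn]; simp
  have hbij := hinj.bijective_of_nat_card_le hcard
  obtain ⟨a, ha⟩ := hbij.2 ⟨R, hR⟩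
  exact ⟨a, a.2, congrArg Subtype.val ha⟩

/-- an element interchanging `P` and `Q` -/
theorem Ax.exists_swap (ax : Ax p Z) (P : Sylow p H)
    (hn : Nat.card (Sylow p H) = Nat.card (P : Subgroup H) + 1) (Q : Sylow p H) (hQ : Q ≠ P) :
    ∃ w : H, w • P = Q ∧ w • Q = P := by
  obtain ⟨g, hg⟩ := MulAction.exists_smul_eq H P Q
  have hR : g⁻¹ • P ≠ P := by
    intro h
    apply hQ
    rw [← hg]
    nth_rewrite 1 [← h]
    rw [smul_inv_smul]
  obtain ⟨a, ha, haQ⟩ := ax.exists_smul_eq P hn Q (g⁻¹ • P) hQ hR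
  refine ⟨g * a, ?_, ?_⟩
  · rw [mul_smul, smul_self_of_mem P ha, hg]
  · rw [mul_smul, haQ, smul_inv_smul]

end Cfsg.Agent.Helper4.DC

namespace Cfsg.Agent.Helper4.DSL

open Matrix Matrix.SpecialLinearGroup
open scoped MatrixGroups
open Cfsg.Agent.Helper2.SL2S
open Cfsg.Agent.Helper12
open Cfsg.Agent.Helper4.DC

variable {F : Type*} [Field F] [Fintype F] (p : ℕ) [hp : Fact p.Prime] [CharP F p]
  {Hs : Subgroup SL(2, F)}

/-- elements whose centraliser has order divisible by `p` have `tr² = 4` -/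
theorem trace_sq_eq_four_of_dvd (hp2 : p ≠ 2) (g : ↥Hs)
    (hdvd : p ∣ Nat.card (Cen g)) :
    ((g : SL(2, F)) : Matrix (Fin 2) (Fin 2) F).trace ^ 2 = 4 := by
  obtain ⟨c, hc⟩ := exists_prime_orderOf_dvd_card' p hdvd
  have hc1 : (c : ↥Hs) ≠ 1 := by
    intro h
    have : c = 1 := Subtype.ext h
    rw [this, orderOf_one] at hc
    exact hp.out.one_lt.ne hc
  have hcp : ((c : ↥Hs) : SL(2, F)) ^ p = 1 := by
    have h1 : c ^ p = 1 := by rw [← hc]; exact pow_orderOf_eq_one c
    have h2 : ((c : ↥Hs)) ^ p = 1 := by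
      have := congrArg (fun y : ↥(Cen g) => (y : ↥Hs)) h1
      simpa using this
    have := congrArg (fun y : ↥Hs => (y : SL(2, F))) h2
    simpa using this
  obtain ⟨s, a, ha, hs⟩ := exists_conj_u p _ hcp (coe_ne_one hc1)
  have hcg : (g : SL(2, F)) * (c : ↥Hs) = (c : ↥Hs) * g := mem_Cen_iff.1 c.2
  have hX : (s * (g : SL(2, F)) * s⁻¹) * u a = u a * (s * (g : SL(2, F)) * s⁻¹) := by
    rw [← hs]
    calc s * (g : SL(2, F)) * s⁻¹ * (s * ((c : ↥Hs) : SL(2, F)) * s⁻¹)
        = s * ((g : SL(2, F)) * (c : ↥Hs)) * s⁻¹ := by group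
      _ = s * (((c : ↥Hs) : SL(2, F)) * g) * s⁻¹ := by rw [hcg]
      _ = _ := by group
  rw [← trace_conj s]
  rcases eq_u_or_neg_of_commute ha _ hX with ⟨t, ht⟩ | ⟨t, ht⟩
  · rw [ht, u_coe, Matrix.trace_fin_two]; simp; norm_num
  · rw [ht, coe_mul, negOneSL_coe, u_coe, Matrix.trace_fin_two]; simp; norm_num

theorem card_ZZ_le : Nat.card (ZZ Hs) ≤ 2 := by
  classical
  let f : ↥(ZZ Hs) → Bool := fun ζ => decide (((ζ : ↥Hs) : SL(2, F)) = 1)
  have hcases : ∀ ζ : ↥(ZZ Hs), ((ζ : ↥Hs) : SL(2, F)) = 1 ∨ ((ζ : ↥Hs) : SL(2, F)) = negOneSL := by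
    intro ζ
    have hs : IsScalar2 (((ζ : ↥Hs) : SL(2, F)) : Matrix (Fin 2) (Fin 2) F) := mem_ZZ_iff.1 ζ.2
    rcases scalar_SL2_entry _ hs with h | h
    · left
      apply Subtype.ext
      rw [(isScalar2_iff _).1 hs, h]; simp
    · right
      apply Subtype.ext
      rw [(isScalar2_iff _).1 hs, h, negOneSL_coe]
      ext i j
      fin_cases i <;> fin_cases j <;> simp
  have hinj : Function.Injective f := by
    intro ζ ζ' h
    apply Subtype.ext
    apply Subtype.ext
    simp only [f, decide_eq_decide] at h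
    rcases hcases ζ with h1 | h1
    · rw [h1, h.1 h1]
    · rcases hcases ζ' with h2 | h2
      · rw [h.2 h2, h2]
      · rw [h1, h2]
  have := Nat.card_le_card_of_injective f hinj
  simpa using this


theorem coe_eq_of_eq {a b : ↥Hs} (h : a = b) : (a : SL(2, F)) = b := congrArg _ h

/-- **Dickson's theorem**: a subgroup of `SL₂(F)`, `F` finite of odd characteristic `p`, with more
than one Sylow `p`-subgroup contains a copy of `SL₂(p)`. -/
theorem dickson_std (hp2 : p ≠ 2) (Hs : Subgroup SL(2, F)) (hn : 1 < Nat.card (Sylow p ↥Hs)) :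
    HasStd p Hs := by
  have ax : Ax p (ZZ Hs) := ax_of_subgroup p hp2
  obtain ⟨P⟩ : Nonempty (Sylow p ↥Hs) := inferInstance
  have hPne := sylow_ne_bot_of_card P hn
  obtain ⟨⟨x, hx⟩, hxne⟩ := (Subgroup.ne_bot_iff_exists_ne_one).1 hPne
  have hx1 : x ≠ 1 := fun h => hxne (Subtype.ext h)
  obtain ⟨Q, hQ⟩ : ∃ Q : Sylow p ↥Hs, Q ≠ P := by
    by_contra hall
    push Not at hall
    have : Subsingleton (Sylow p ↥Hs) := ⟨fun a b => (hall a).trans (hall b).symm⟩
    have := Finite.card_le_one_iff_subsingleton.2 this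
    omega
  obtain ⟨k, hk⟩ := pow_eq_one_of_mem_sylow P hx
  have hxp : (x : SL(2, F)) ^ p = 1 := sub_pow_p p x k hk
  -- noncommuting with nontrivial elements of `Q`
  have hnc : ∀ y₀ : ↥Hs, y₀ ∈ Q → y₀ ≠ 1 → x * y₀ ≠ y₀ * x := by
    intro y₀ hy₀ hy₀1 hc
    have h1 : x ∈ Cen y₀ := by rw [mem_Cen]; exact hc.symm
    rw [ax.cen_of_mem_sylow Q hy₀ hy₀1] at h1
    have hxQ := ax.mem_of_mem_sup Q.2 h1 k hk
    exact hQ (ax.sylow_eq_of_mem P Q hx hxQ hx1).symm
  rcases ax.main P hn with hcase | ⟨hP3, hcen⟩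
  · -- case A : `2`-transitive
    obtain ⟨w, hwP, hwQ⟩ := ax.exists_swap P hcase Q hQ
    have hxQ : x • Q ≠ Q := ax.smul_ne_of_mem P Q hQ hx hx1
    have hR : w • (x • Q) ≠ P := by
      intro h
      apply hxQ
      rw [← hwQ] at h
      exact smul_left_cancel _ h
    obtain ⟨x', hx', hx'Q⟩ := ax.exists_smul_eq P hcase Q (w • (x • Q)) hQ hR
    obtain ⟨k', hk'⟩ := pow_eq_one_of_mem_sylow P hx'
    have hx'p : (x' : SL(2, F)) ^ p = 1 := sub_pow_p p x' k' hk'
    have hy₀ : w * x * w⁻¹ ∈ Q := by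
      rw [← hwP, mem_sylow_smul_iff]
      have : w⁻¹ * (w * x * w⁻¹) * w = x := by group
      rw [this]; exact hx
    have hy₀1 : w * x * w⁻¹ ≠ 1 := by
      intro h
      apply hx1
      have : x = w⁻¹ * (w * x * w⁻¹) * w := by group
      rw [this, h]; group
    have hz : w⁻¹ * x * w ∈ Q := by
      have : x ∈ w • Q := by rw [hwQ]; exact hx
      rw [mem_sylow_smul_iff] at this; exact this
    have hmQ : (x'⁻¹ * w * x) • Q = Q := by
      rw [mul_smul, mul_smul, ← hx'Q, inv_smul_smul]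
    have hm : (x'⁻¹ * w * x) * (w * x * w⁻¹) * (x'⁻¹ * w * x)⁻¹ ∈ Q := by
      have : (x'⁻¹ * w * x) * (w * x * w⁻¹) * (x'⁻¹ * w * x)⁻¹ ∈ (x'⁻¹ * w * x) • Q := by
        rw [mem_sylow_smul_iff]
        have e : (x'⁻¹ * w * x)⁻¹ * ((x'⁻¹ * w * x) * (w * x * w⁻¹) * (x'⁻¹ * w * x)⁻¹) *
            (x'⁻¹ * w * x) = w * x * w⁻¹ := by group
        rw [e]; exact hy₀
      rw [hmQ] at this; exact this
    have h2 := hnc _ hy₀ hy₀1
    have h3 := ax.pab Q Q.2 _ hz _ hy₀
    have h4 := ax.pab Q Q.2 _ hm _ hy₀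
    have hxx' := ax.pab P P.2 _ hx _ hx'
    have htr := lemmaA p hp2 (x : SL(2, F)) x' w hxp (coe_ne_one hx1) hx'p
      (by simpa only [Subgroup.coe_mul, Subgroup.coe_inv] using coe_eq_of_eq hxx')
      (by
        intro h
        apply h2
        apply Subtype.ext
        simpa only [Subgroup.coe_mul, Subgroup.coe_inv] using h)
      (by simpa only [Subgroup.coe_mul, Subgroup.coe_inv] using coe_eq_of_eq h3)
      (by simpa only [Subgroup.coe_mul, Subgroup.coe_inv] using coe_eq_of_eq h4)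
    refine hasStd_of_trace p Hs (x : SL(2, F)) ((w : SL(2, F)) * x' * (w : SL(2, F))⁻¹) x.2 ?_ hxp
      (coe_ne_one hx1) ?_ 1 one_ne_zero ?_
    · have := (w * x' * w⁻¹ : ↥Hs).2
      simpa only [Subgroup.coe_mul, Subgroup.coe_inv] using this
    · rw [conj_pow, hx'p]; group
    · rw [htr, map_one]; norm_num
  · -- case B : `|P| = 3`
    obtain rfl : p = 3 := by
      obtain ⟨n, hn'⟩ := IsPGroup.iff_card.1 P.2
      rw [hP3] at hn'
      have : p ∣ 3 := by
        rcases Nat.eq_zero_or_pos n with h0 | h0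
        · rw [h0, pow_zero] at hn'; omega
        · rw [hn']; exact dvd_pow_self p h0.ne'
      exact (Nat.prime_dvd_prime_iff_eq hp.out Nat.prime_three).1 this
    obtain ⟨g, hg⟩ := MulAction.exists_smul_eq ↥Hs P Q
    have hyQ : g * x * g⁻¹ ∈ Q := by
      rw [← hg, mem_sylow_smul_iff]
      have : g⁻¹ * (g * x * g⁻¹) * g = x := by group
      rw [this]; exact hx
    have hy1 : g * x * g⁻¹ ≠ 1 := by
      intro h
      apply hx1
      have : x = g⁻¹ * (g * x * g⁻¹) * g := by group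
      rw [this, h]; group
    have hxy := hnc _ hyQ hy1
    set y := g * x * g⁻¹ with hy
    have hyp : (y : SL(2, F)) ^ 3 = 1 := by
      rw [hy]
      simp only [Subgroup.coe_mul, Subgroup.coe_inv]
      rw [conj_pow, hxp]; group
    have hcl : (((x : SL(2, F)) * y : SL(2, F)) : Matrix (Fin 2) (Fin 2) F).trace ^ 2 = 4 ∨
        ((x : SL(2, F)) * y) ^ 4 = 1 ∨ ((x : SL(2, F)) * y) ^ 10 = 1 := by
      by_cases hZ : x * y ∈ ZZ Hs
      · left
        have hs : IsScalar2 (((x * y : ↥Hs) : SL(2, F)) : Matrix (Fin 2) (Fin 2) F) := mem_ZZ_iff.1 hZ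
        rw [Subgroup.coe_mul] at hs
        rcases scalar_SL2_entry _ hs with h | h
        · rw [Matrix.trace_fin_two, ← hs.2.2, h]; norm_num
        · rw [Matrix.trace_fin_two, ← hs.2.2, h]; norm_num
      · by_cases hd : 3 ∣ Nat.card (Cen (x * y))
        · left
          have := trace_sq_eq_four_of_dvd 3 hp2 (x * y) hd
          rwa [Subgroup.coe_mul] at this
        · right
          have hpow : (x * y) ^ Nat.card (Cen (x * y)) = 1 := by
            have h0 := pow_card_eq_one' (G := ↥(Cen (x * y))) (x := ⟨x * y, self_mem_Cen _⟩)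
            have h1 := congrArg (fun t : ↥(Cen (x * y)) => (t : ↥Hs)) h0
            simp only [Subgroup.coe_pow, Subgroup.coe_one] at h1
            exact h1
          have hz2 : Nat.card (ZZ Hs) ≤ 2 := card_ZZ_le
          have hz0 : 0 < Nat.card (ZZ Hs) := Nat.card_pos
          have hcoe : ∀ n : ℕ, (x * y) ^ n = 1 → ((x : SL(2, F)) * y) ^ n = 1 := by
            intro n h
            have := coe_eq_of_eq h
            simpa only [Subgroup.coe_mul, Subgroup.coe_pow, Subgroup.coe_one] using this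
          rcases hcen (x * y) hZ hd with h | h
          · left
            apply hcoe
            rw [h] at hpow
            have : Nat.card (ZZ Hs) = 1 ∨ Nat.card (ZZ Hs) = 2 := by omega
            rcases this with h1 | h1
            · rw [h1] at hpow
              have : (x * y) ^ 4 = ((x * y) ^ (1 * 2)) ^ 2 := by rw [← pow_mul]
              rw [this, hpow, one_pow]
            · rw [h1] at hpow; exact hpow
          · right
            apply hcoe
            rw [h] at hpow
            have : Nat.card (ZZ Hs) = 1 ∨ Nat.card (ZZ Hs) = 2 := by omega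
            rcases this with h1 | h1
            · rw [h1] at hpow
              have : (x * y) ^ 10 = ((x * y) ^ (1 * 5)) ^ 2 := by rw [← pow_mul]
              rw [this, hpow, one_pow]
            · rw [h1] at hpow; exact hpow
    exact lemmaB_std Hs (x : SL(2, F)) y x.2 y.2 hxp (coe_ne_one hx1) hyp
      (by
        intro h
        apply hxy
        apply Subtype.ext
        simpa only [Subgroup.coe_mul] using h) hcl

theorem dickson (hp2 : p ≠ 2) (Hs : Subgroup SL(2, F)) (hn : 1 < Nat.card (Sylow p ↥Hs)) :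
    ∃ K : Subgroup SL(2, F), K ≤ Hs ∧ Nonempty (K ≃* SL(2, ZMod p)) :=
  (dickson_std p hp2 Hs hn).exists_equiv

end Cfsg.Agent.Helper4.DSL
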