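import Mathlib
import Cfsg.Prelude.Def_Blocks
import Cfsg.Agent.Lib.Helper24.CharLinear
import Cfsg.Agent.Lib.Helper7.TLDABS1

/-!
# S4503 piece THANUM (helper4): the numerics of Theorem A on a group of prime order

`tha_const` and `tha_numerics` with the exact signatures of `plans/S4503_Skel.lean.txt`.
-/

set_option autoImplicit false
set_option linter.unusedSectionVars false
set_option linter.unusedVariables false

namespace Cfsg.Agent.Helper14.BRB

open scoped ComplexConjugate
open Cfsg Cfsg.Agent.Helper24 Cfsg.Agent.Helper5.TLD Cfsg.Agent.Helper7.Homo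

universe u

section Aux

variable {A : Type u} [Group A] [Fintype A] [Fintype (IrrCharacter A)] [DecidableEq A]
  {p : ℕ} [Fact p.Prime]

/-- multiplicities of irreducible constituents, in summed form -/
theorem thanum_mult (hA : Nat.card A = p) {π : A → ℂ} (hπ : IsCharacter A π) (l : IrrCharacter A) :
    ∃ m : ℕ, ∑ a : A, π a * conj ((l : A → ℂ) a) = (p : ℂ) * m := by
  obtain ⟨m, hm⟩ := (isCharacter_decomp hπ).1 l
  refine ⟨m, ?_⟩
  unfold classInner at hm
  have hc : (Nat.card A : ℂ) ≠ 0 := card_ne_zero'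
  rw [← hA, ← hm, ← mul_assoc, mul_inv_cancel₀ hc, one_mul]

/-- orthogonality of linear characters with the term at the identity removed -/
theorem thanum_sum_erase (hA : Nat.card A = p) (μ l : IrrCharacter A) :
    ∑ a ∈ Finset.univ.erase (1 : A), (μ : A → ℂ) a * conj ((l : A → ℂ) a) =
      (if μ = l then (p : ℂ) else 0) - 1 := by
  have hcomm := abs_comm hA
  have h := sum_lin_conj μ l
  rw [← Finset.add_sum_erase Finset.univ _ (Finset.mem_univ (1 : A)), lin_one hcomm, lin_one hcomm,
    map_one, mul_one, hA] at h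
  rw [← h]
  ring

theorem thanum_sum_erase_one (hA : Nat.card A = p) (l : IrrCharacter A) :
    ∑ a ∈ Finset.univ.erase (1 : A), conj ((l : A → ℂ) a) =
      (if principalChar A = l then (p : ℂ) else 0) - 1 := by
  have := thanum_sum_erase hA (principalChar A) l
  simpa only [principalChar_apply, one_mul] using this

/-- the multiplicity formula for a function with the values of Theorem A -/
theorem thanum_formula (hA : Nat.card A = p) (ν : MulAut A) (e : ℕ) (π : A → ℂ)
    (ψ : IrrCharacter A) (dd δ z : ℤ)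
    (hval : ∀ a : A, a ≠ 1 →
      π a = (dd : ℂ) + (δ : ℂ) * ∑ k ∈ Finset.range e, (ψ : A → ℂ) ((ν ^ k) a))
    (hz : π 1 = (z : ℂ)) (l : IrrCharacter A) :
    ∑ a : A, π a * conj ((l : A → ℂ) a) =
      (z : ℂ) + (dd : ℂ) * ((if principalChar A = l then (p : ℂ) else 0) - 1) +
        (δ : ℂ) * ∑ k ∈ Finset.range e, ((if compIrr (ν ^ k) ψ = l then (p : ℂ) else 0) - 1) := by
  have hcomm := abs_comm hA
  rw [← Finset.add_sum_erase Finset.univ _ (Finset.mem_univ (1 : A)), hz, lin_one hcomm, map_one,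
    mul_one]
  have h1 : ∑ a ∈ Finset.univ.erase (1 : A), π a * conj ((l : A → ℂ) a) =
      ∑ a ∈ Finset.univ.erase (1 : A), ((dd : ℂ) * conj ((l : A → ℂ) a) +
        (δ : ℂ) * ∑ k ∈ Finset.range e,
          (compIrr (ν ^ k) ψ : A → ℂ) a * conj ((l : A → ℂ) a)) := by
    refine Finset.sum_congr rfl fun a ha => ?_
    rw [hval a (Finset.ne_of_mem_erase ha), add_mul, mul_assoc, Finset.sum_mul]
    rfl
  rw [h1, Finset.sum_add_distrib, ← Finset.mul_sum, ← Finset.mul_sum, Finset.sum_comm,
    thanum_sum_erase_one hA]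
  have h2 : ∀ k ∈ Finset.range e, ∑ a ∈ Finset.univ.erase (1 : A),
      (compIrr (ν ^ k) ψ : A → ℂ) a * conj ((l : A → ℂ) a) =
        (if compIrr (ν ^ k) ψ = l then (p : ℂ) else 0) - 1 :=
    fun k _ => thanum_sum_erase hA _ l
  rw [Finset.sum_congr rfl h2]
  ring

end Aux

variable (p : ℕ) [Fact p.Prime]

/-- PIECE THANUM (1): a character of small degree of a group of order `p` which is constant off the
identity is constant. -/
theorem tha_const {A : Type u} [Group A] [Finite A] (hA : Nat.card A = p) (π : A → ℂ)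
    (hπ : IsCharacter A π) (c : ℂ) (hc : ∀ a : A, a ≠ 1 → π a = c)
    (hdeg : charDegree π + 1 < p) : ∀ a : A, π a = π 1 := by
  classical
  haveI : Fintype A := Fintype.ofFinite A
  haveI : Fintype (IrrCharacter A) := irrFintype
  have hcomm := abs_comm hA
  have hp : (Fact.out : p.Prime).two_le = (Fact.out : p.Prime).two_le := rfl
  have hp2 : 2 ≤ p := (Fact.out : p.Prime).two_le
  -- a nonprincipal character
  have hcard : Fintype.card (IrrCharacter A) = p := by rw [card_irr_abelian hcomm, hA]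
  obtain ⟨l, hl⟩ : ∃ l : IrrCharacter A, l ≠ principalChar A := by
    by_contra hcon
    push Not at hcon
    have : Fintype.card (IrrCharacter A) ≤ 1 :=
      Fintype.card_le_one_iff.mpr fun a b => by rw [hcon a, hcon b]
    omega
  obtain ⟨m1, hm1⟩ := thanum_mult hA hπ (principalChar A)
  obtain ⟨ml, hml⟩ := thanum_mult hA hπ l
  -- the two sums
  have hsum : ∀ l' : IrrCharacter A, ∑ a : A, π a * conj ((l' : A → ℂ) a) =
      π 1 + c * ((if principalChar A = l' then (p : ℂ) else 0) - 1) := by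
    intro l'
    rw [← Finset.add_sum_erase Finset.univ _ (Finset.mem_univ (1 : A)), lin_one hcomm, map_one,
      mul_one]
    have h1 : ∑ a ∈ Finset.univ.erase (1 : A), π a * conj ((l' : A → ℂ) a) =
        ∑ a ∈ Finset.univ.erase (1 : A), c * conj ((l' : A → ℂ) a) :=
      Finset.sum_congr rfl fun a ha => by rw [hc a (Finset.ne_of_mem_erase ha)]
    rw [h1, ← Finset.mul_sum, thanum_sum_erase_one hA]
  have e1 := hsum (principalChar A)
  rw [if_pos rfl, hm1] at e1
  have e2 := hsum l
  rw [if_neg (fun h => hl h.symm), hml] at e2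
  have hdegc := char_one_eq_charDegree hπ
  -- `c = m1 - ml`, `π 1 = m1 + (p-1) ml`
  have hpc : (p : ℂ) ≠ 0 := by exact_mod_cast (Fact.out : p.Prime).ne_zero
  have hceq : c = (m1 : ℂ) - ml := by
    have : (p : ℂ) * ((m1 : ℂ) - ml) = (p : ℂ) * c := by
      rw [mul_sub, e1, e2]; ring
    exact (mul_left_cancel₀ hpc this).symm
  have hπ1 : π 1 = (m1 : ℂ) + ((p : ℂ) - 1) * ml := by
    have : π 1 = (p : ℂ) * ml + c := by rw [e2]; ring
    rw [this, hceq]; ring
  -- `ml = 0`
  have hml0 : ml = 0 := by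
    by_contra hne
    have h1 : (charDegree π : ℂ) = ((m1 + (p - 1) * ml : ℕ) : ℂ) := by
      rw [← hdegc, hπ1]
      push_cast [Nat.cast_sub (by omega : 1 ≤ p)]
      ring
    have h2 : charDegree π = m1 + (p - 1) * ml := by exact_mod_cast h1
    have h3 : p - 1 ≤ (p - 1) * ml := Nat.le_mul_of_pos_right _ (Nat.pos_of_ne_zero hne)
    omega
  intro a
  by_cases ha : a = 1
  · rw [ha]
  · rw [hc a ha, hceq, hπ1, hml0]
    simp

/-- PIECE THANUM (2): the numerics `c' = 0, δ = 1, dd = 0, ε = -1` of Theorem A. -/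
theorem tha_numerics {A : Type u} [Group A] [Finite A] (hA : Nat.card A = p)
    (ν : MulAut A) (e : ℕ) (he0 : 0 < e) (he : 2 * e ≤ p - 1) (hνe : ν ^ e = 1)
    (hfpf : ∀ k : ℕ, 0 < k → k < e → ∀ a : A, (ν ^ k) a = a → a = 1)
    (π : A → ℂ) (hπ : IsCharacter A π)
    (ψ : IrrCharacter A) (hψ : ψ ≠ principalChar A)
    (dd δ ε z : ℤ) (hδ : δ = 1 ∨ δ = -1) (hε : ε = 1 ∨ ε = -1)
    (hval : ∀ a : A, a ≠ 1 →
      π a = (dd : ℂ) + (δ : ℂ) * ∑ k ∈ Finset.range e, (ψ : A → ℂ) ((ν ^ k) a))
    (hz : π 1 = (z : ℂ)) (hzc : z ≡ -ε * (e : ℤ) [ZMOD p]) (hzs : 2 * z + 1 < p) :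
    dd = 0 ∧ δ = 1 ∧ z = e := by
  classical
  haveI : Fintype A := Fintype.ofFinite A
  haveI : Fintype (IrrCharacter A) := irrFintype
  have hcomm := abs_comm hA
  have hp2 : 2 ≤ p := (Fact.out : p.Prime).two_le
  have hcard : Fintype.card (IrrCharacter A) = p := by rw [card_irr_abelian hcomm, hA]
  -- the conjugates of `ψ`
  set Ψ : ℕ → IrrCharacter A := fun k => compIrr (ν ^ k) ψ with hΨ
  have hΨ0 : Ψ 0 = ψ := by
    apply Subtype.ext
    funext a
    show (ψ : A → ℂ) ((ν ^ 0) a) = (ψ : A → ℂ) a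
    rw [pow_zero]; rfl
  have hΨne : ∀ k, Ψ k ≠ principalChar A := fun k => compIrr_ne_principal (ν ^ k) hψ
  have hΨψ : ∀ k, 0 < k → k < e → Ψ k ≠ ψ := by
    intro k hk0 hke h
    exact hψ (compIrr_fpf hcomm (ν ^ k) (hfpf k hk0 hke) ψ h)
  -- a generic character
  obtain ⟨l, hl1, hlΨ⟩ : ∃ l : IrrCharacter A, l ≠ principalChar A ∧ ∀ k, k < e → Ψ k ≠ l := by
    by_contra hcon
    push Not at hcon
    have hsub : (Finset.univ : Finset (IrrCharacter A)) ⊆
        insert (principalChar A) ((Finset.range e).image Ψ) := by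
      intro l _
      by_cases h1 : l = principalChar A
      · rw [h1]; exact Finset.mem_insert_self _ _
      · obtain ⟨k, hk, hkl⟩ := hcon l h1
        exact Finset.mem_insert_of_mem (Finset.mem_image.mpr ⟨k, Finset.mem_range.mpr hk, hkl⟩)
    have h1 := Finset.card_le_card hsub
    have h2 := Finset.card_insert_le (principalChar A) ((Finset.range e).image Ψ)
    have h3 := Finset.card_image_le (s := Finset.range e) (f := Ψ)
    rw [Finset.card_univ, hcard] at h1
    rw [Finset.card_range] at h3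
    omega
  -- the three multiplicities
  obtain ⟨c', hc'⟩ := thanum_mult hA hπ l
  obtain ⟨mψ, hmψ⟩ := thanum_mult hA hπ ψ
  obtain ⟨m1, hm1⟩ := thanum_mult hA hπ (principalChar A)
  have F := thanum_formula hA ν e π ψ dd δ z hval hz
  -- generic
  have E1 : (p : ℤ) * c' = z - dd - δ * e := by
    have h := F l
    rw [hc', if_neg (fun h => hl1 h.symm)] at h
    have h2 : ∑ k ∈ Finset.range e, ((if compIrr (ν ^ k) ψ = l then (p : ℂ) else 0) - 1) =
        ∑ k ∈ Finset.range e, ((0 : ℂ) - 1) :=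
      Finset.sum_congr rfl fun k hk => by rw [if_neg (hlΨ k (Finset.mem_range.mp hk))]
    rw [h2, Finset.sum_const, Finset.card_range] at h
    have h3 : ((p : ℤ) : ℂ) * ((c' : ℤ) : ℂ) = ((z - dd - δ * e : ℤ) : ℂ) := by
      push_cast
      rw [h]
      simp only [nsmul_eq_mul]
      ring
    exact_mod_cast h3
  -- `λ = 1`
  have E2 : (p : ℤ) * m1 = z - dd - δ * e + p * dd := by
    have h := F (principalChar A)
    rw [hm1, if_pos rfl] at h
    have h2 : ∑ k ∈ Finset.range e,
        ((if compIrr (ν ^ k) ψ = principalChar A then (p : ℂ) else 0) - 1) =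
        ∑ k ∈ Finset.range e, ((0 : ℂ) - 1) :=
      Finset.sum_congr rfl fun k _ => by rw [if_neg (hΨne k)]
    rw [h2, Finset.sum_const, Finset.card_range] at h
    have h3 : ((p : ℤ) : ℂ) * ((m1 : ℤ) : ℂ) = ((z - dd - δ * e + p * dd : ℤ) : ℂ) := by
      push_cast
      rw [h]
      simp only [nsmul_eq_mul]
      ring
    exact_mod_cast h3
  -- `λ = ψ`
  have E3 : (p : ℤ) * mψ = z - dd - δ * e + p * δ := by
    have h := F ψ
    rw [hmψ, if_neg (fun h => hψ h.symm)] at h
    have h2 : ∑ k ∈ Finset.range e, ((if compIrr (ν ^ k) ψ = ψ then (p : ℂ) else 0) - 1) =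
        (p : ℂ) - e := by
      rw [Finset.sum_sub_distrib, Finset.sum_const, Finset.card_range]
      rw [Finset.sum_eq_single_of_mem 0 (Finset.mem_range.mpr he0)]
      · rw [if_pos hΨ0]
        simp
      · intro k hk hk0
        rw [if_neg (hΨψ k (Nat.pos_of_ne_zero hk0) (Finset.mem_range.mp hk))]
    rw [h2] at h
    have h3 : ((p : ℤ) : ℂ) * ((mψ : ℤ) : ℂ) = ((z - dd - δ * e + p * δ : ℤ) : ℂ) := by
      push_cast
      rw [h]
      ring
    exact_mod_cast h3
  -- arithmetic
  have hpz : (0 : ℤ) < p := by exact_mod_cast (Fact.out : p.Prime).pos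
  have hc'0 : (0 : ℤ) ≤ c' := Int.natCast_nonneg _
  have hm10 : (0 : ℤ) ≤ m1 := Int.natCast_nonneg _
  have hmψ0 : (0 : ℤ) ≤ mψ := Int.natCast_nonneg _
  have he' : (2 : ℤ) * e ≤ p - 1 := by
    have : ((2 * e : ℕ) : ℤ) ≤ ((p - 1 : ℕ) : ℤ) := by exact_mod_cast he
    rw [Nat.cast_sub (by omega : 1 ≤ p)] at this
    push_cast at this
    linarith
  have he0' : (0 : ℤ) < e := by exact_mod_cast he0
  -- `m1 = c' + dd`, `mψ = c' + δ`
  have hm1' : (m1 : ℤ) = c' + dd := by
    have : (p : ℤ) * m1 = p * (c' + dd) := by rw [E2, mul_add, E1]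
    exact mul_left_cancel₀ hpz.ne' this
  have hmψ' : (mψ : ℤ) = c' + δ := by
    have : (p : ℤ) * mψ = p * (c' + δ) := by rw [E3, mul_add, E1]
    exact mul_left_cancel₀ hpz.ne' this
  have hδ1 : -1 ≤ δ := by rcases hδ with h | h <;> rw [h] <;> norm_num
  -- `c' = 0`
  have hc'z : (c' : ℤ) = 0 := by
    by_contra hne
    have h1 : (1 : ℤ) ≤ c' := by omega
    -- z = p c' + dd + δ e ≥ (p-1) c' - e
    have h2 : z = p * c' + dd + δ * e := by linarith
    have h3 : dd ≥ -c' := by linarith
    have h4 : δ * e ≥ -e := by nlinarith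
    have h5 : (p : ℤ) * c' ≥ p + (c' - 1) := by nlinarith
    nlinarith
  rw [hc'z] at hm1' hmψ' E1
  have hδ' : δ = 1 := by
    rcases hδ with h | h
    · exact h
    · rw [h] at hmψ'; omega
  have hdd0 : 0 ≤ dd := by omega
  have hz' : z = dd + e := by rw [hδ'] at E1; linarith
  -- `ε`
  have hdd : dd = 0 := by
    rcases hε with h | h
    · -- `p ∣ z + e`
      exfalso
      rw [h] at hzc
      have h1 : (p : ℤ) ∣ z + e := by
        have := hzc.dvd
        have h2 : (p : ℤ) ∣ z - (-1 * (e : ℤ)) := by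
          have := (Int.modEq_iff_dvd.mp hzc.symm)
          simpa using this
        have h3 : z - (-1 * (e : ℤ)) = z + e := by ring
        rwa [h3] at h2
      have h2 : 0 < z + e := by linarith
      have h3 : z + e < p := by linarith
      exact absurd (Int.le_of_dvd h2 h1) (by linarith)
    · rw [h] at hzc
      have h1 : (p : ℤ) ∣ z - e := by
        have h2 := (Int.modEq_iff_dvd.mp hzc.symm)
        have h3 : z - -(-1) * (e : ℤ) = z - e := by ring
        rwa [h3] at h2
      have h2 : z - e = dd := by linarith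
      rw [h2] at h1
      by_contra hne
      have h3 : 0 < dd := by omega
      have h4 : dd < p := by linarith
      exact absurd (Int.le_of_dvd h3 h1) (by linarith)
  exact ⟨hdd, hδ', by rw [hz', hdd, zero_add]⟩

end Cfsg.Agent.Helper14.BRB
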