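import Mathlib
import Cfsg.Agent.Lib.Helper21.BTDefs

/-!
# S0997, piece NUMB2B: `Num.caseB2_deg` (section 5 (B2), second half of `plans/S0997_proof.md`)
-/

set_option autoImplicit false
set_option linter.unusedSectionVars false
set_option linter.unusedVariables false

namespace Cfsg.Agent.Helper21.BT

namespace NUMB2B

/-- the arithmetic obstruction to a character of degree `3p + 1`. -/
theorem no_three (y b : ℕ) (hy : 1 ≤ y)
    (h : 24 * y + 4 ∣ (8 * y + 1) * 2 ^ b * (4 * y + 1)) : False := by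
  have hD : 6 * y + 1 ∣ (8 * y + 1) * 2 ^ b * (4 * y + 1) :=
    dvd_trans ⟨4, by ring⟩ h
  have c1 : Nat.Coprime (6 * y + 1) (4 * y + 1) :=
    Nat.isCoprime_iff_coprime.mp ⟨-2, 3, by push_cast; ring⟩
  have c2 : Nat.Coprime (6 * y + 1) (8 * y + 1) :=
    Nat.isCoprime_iff_coprime.mp ⟨4, -3, by push_cast; ring⟩
  have c3 : Nat.Coprime (6 * y + 1) (2 ^ b) := by
    apply Nat.Coprime.pow_right
    exact Nat.isCoprime_iff_coprime.mp ⟨1, -(3 * y), by push_cast; ring⟩
  have h1 : 6 * y + 1 ∣ (8 * y + 1) * 2 ^ b := c1.dvd_of_dvd_mul_right hD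
  have h2 : 6 * y + 1 ∣ 8 * y + 1 := c3.dvd_of_dvd_mul_right h1
  have h3 : 6 * y + 1 ∣ 1 := by
    have := (Nat.Coprime.dvd_of_dvd_mul_right c2 (by simpa using h2 : 6 * y + 1 ∣ 1 * (8 * y + 1)))
    exact this
  have := Nat.le_of_dvd one_pos h3
  omega

theorem arith1 (f w T : ℕ) (hw : 0 < w) (h1 : f * (2 * w) ≤ T) (h2 : T + 1 = (w + 1) ^ 2) :
    2 * f ≤ w + 2 := by
  have : (2 * f) * w ≤ (w + 2) * w := by nlinarith
  exact Nat.le_of_mul_le_mul_right this hw

theorem arith2 (s w T : ℕ) (hw : 0 < w) (h1 : (2 * w) * s ≤ T)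
    (h2 : T + (w + 1) = (w + 1) ^ 2) : 2 * s ≤ w + 1 := by
  have : (2 * s) * w ≤ (w + 1) * w := by nlinarith
  exact Nat.le_of_mul_le_mul_right this hw

theorem plus_arith (w a d : ℕ)
    (h : ((2 * w + 1 : ℕ) : ℤ) * a = d + 1 * (((2 * w + 1 : ℕ) : ℤ) - 1))
    (h2 : 2 ∣ d) (hd1 : d ≠ 1) (hpos : 0 < d) :
    2 ≤ a ∧ Even a ∧ d = (2 * w + 1) * (a - 1) + 1 := by
  have hN : (2 * w + 1) * a = d + 2 * w := by
    have : (((2 * w + 1) * a : ℕ) : ℤ) = ((d + 2 * w : ℕ) : ℤ) := by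
      push_cast; push_cast at h; linarith
    exact_mod_cast this
  have hN' : 2 * (w * a) + a = d + 2 * w := by
    have : (2 * w + 1) * a = 2 * (w * a) + a := by ring
    omega
  have ha0 : a ≠ 0 := by
    intro h0; rw [h0] at hN'; omega
  have ha1' : a ≠ 1 := by
    intro h0; rw [h0] at hN'; omega
  refine ⟨by omega, ?_, ?_⟩
  · rw [Nat.even_iff]; omega
  · obtain ⟨a', rfl⟩ : ∃ a', a = a' + 1 := ⟨a - 1, by omega⟩
    simp only [Nat.add_sub_cancel]
    have : (2 * w + 1) * (a' + 1) = (2 * w + 1) * a' + (2 * w + 1) := by ring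
    omega

theorem minus_arith (w a d : ℕ)
    (h : ((2 * w + 1 : ℕ) : ℤ) * a = d + (-1) * (((2 * w + 1 : ℕ) : ℤ) - 1))
    (h2 : 2 ∣ d) :
    Even a ∧ d + 1 = (2 * w + 1) * (a + 1) := by
  have hN : (2 * w + 1) * a + 2 * w = d := by
    have : (((2 * w + 1) * a + 2 * w : ℕ) : ℤ) = ((d : ℕ) : ℤ) := by
      push_cast; push_cast at h; linarith
    exact_mod_cast this
  have hN' : 2 * (w * a) + a + 2 * w = d := by
    have : (2 * w + 1) * a = 2 * (w * a) + a := by ring
    omega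
  refine ⟨?_, ?_⟩
  · rw [Nat.even_iff]; omega
  · have : (2 * w + 1) * (a + 1) = (2 * w + 1) * a + (2 * w + 1) := by ring
    omega

variable {ι : Type*} [Fintype ι] [DecidableEq ι] (N : Num ι)

theorem w_le : N.w + 1 ≤ N.p := by
  have h := N.hwt
  have hp := N.hp.two_le
  have hw := N.hw
  rcases Nat.eq_zero_or_pos N.t with h0 | h0
  · rw [h0] at h; omega
  · have : N.w ≤ N.w * N.t := Nat.le_mul_of_pos_right _ h0
    omega

/-- `A(χ) ≤ χ(1)` (own copy, so that this piece does not depend on NUMU). -/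
theorem a_le_deg' (i : ι) : N.a i ≤ N.deg i := by
  have hp2 : 2 ≤ N.p := N.hp.two_le
  have hdeg := N.deg_pos i
  have hwp := w_le N
  by_cases hX : i ∈ N.X
  · have h := N.hwX i hX
    have hpz : (2 : ℤ) ≤ N.p := by exact_mod_cast hp2
    have hdz : (1 : ℤ) ≤ N.deg i := by exact_mod_cast hdeg
    have : (N.a i : ℤ) ≤ N.deg i := by
      rcases N.sg_pm i hX with hs | hs
      · rw [hs] at h; nlinarith
      · rw [hs] at h; nlinarith
    exact_mod_cast this
  · by_cases hY : i ∈ N.Y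
    · have h := N.hwY i hY
      have hpz : (2 : ℤ) ≤ N.p := by exact_mod_cast hp2
      have hdz : (1 : ℤ) ≤ N.deg i := by exact_mod_cast hdeg
      have hwz : (N.w : ℤ) + 1 ≤ N.p := by exact_mod_cast hwp
      have hw0 : (0 : ℤ) ≤ N.w := by positivity
      have : (N.a i : ℤ) ≤ N.deg i := by
        rcases N.d0_pm with hs | hs
        · rw [hs] at h; nlinarith
        · rw [hs] at h; nlinarith
      exact_mod_cast this
    · have h := N.hwD i hX hY
      calc N.a i ≤ N.p * N.a i := Nat.le_mul_of_pos_left _ (by omega)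
        _ = N.deg i := h

end NUMB2B

namespace Num

variable {ι : Type*} [Fintype ι] [DecidableEq ι] (N : Num ι)

open NUMB2B in
/-- PIECE NUMB2B (section 5 (B2), second half: the Delta trick gives all the degrees). -/
theorem caseB2_deg {x0 : ℕ} (hS : N.Struct x0) (hd0 : N.d0 = 1) (hxw : x0 + N.w = N.p)
    (haY : ∀ j ∈ N.Y, N.a j = 1) (hq2 : N.q = 2) (c : ℕ) (hc : 2 ≤ c) (hwc : N.w = 2 ^ c)
    (ht : N.t = 2) (hΔ : N.HasDelta x0) :
    (∀ i ∈ N.X, i ≠ N.one → (N.sg i = 1 ∧ N.deg i = N.p + 1) ∨ (N.sg i = -1 ∧ N.deg i + 1 = N.p)) ∧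
      2 * ((N.X.filter (fun i => i ≠ N.one ∧ N.sg i = 1)).card + 1) = N.w := by
  obtain ⟨m1, m2, hm, hd1, hd2, hw1, hw2⟩ := hΔ
  -- basic numerics
  have hpw : N.p = 2 * N.w + 1 := by have := N.hwt; rw [ht] at this; omega
  have hx0 : x0 = N.w + 1 := by omega
  obtain ⟨k, rfl⟩ : ∃ k, c = k + 2 := ⟨c - 2, by omega⟩
  obtain ⟨y, hy1, hwy⟩ : ∃ y : ℕ, 1 ≤ y ∧ N.w = 4 * y :=
    ⟨2 ^ k, Nat.one_le_two_pow, by rw [hwc]; ring⟩
  have hwpos : 0 < N.w := by omega
  -- the principal character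
  have h1X : N.one ∈ N.X := N.one_memX (by omega)
  have hsg1 : N.sg N.one = 1 := N.sg_one h1X
  have hdeg1 : N.deg N.one = 1 := N.deg_one
  have ha1 : N.a N.one = 1 := by
    have h := N.hwX _ h1X
    rw [hsg1, hdeg1] at h
    have hp0 : (N.p : ℤ) ≠ 0 := by
      have := N.hp.pos; exact_mod_cast this.ne'
    have : (N.p : ℤ) * N.a N.one = N.p * 1 := by rw [h]; push_cast; ring
    have := mul_left_cancel₀ hp0 this
    exact_mod_cast this
  -- plus / minus members of X other than the principal character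
  have hplus : ∀ i ∈ N.X, i ≠ N.one → N.sg i = 1 →
      2 ≤ N.a i ∧ Even (N.a i) ∧ N.deg i = (2 * N.w + 1) * (N.a i - 1) + 1 := by
    intro i hi hne hs
    have h := N.hwX i hi
    rw [hs, hpw] at h
    have h2 : 2 ∣ N.deg i := by have := hS.hqX i hi hne; rwa [hq2] at this
    have hd1' : N.deg i ≠ 1 := fun h' => hne (N.eq_one i h')
    exact plus_arith N.w (N.a i) (N.deg i) h h2 hd1' (N.deg_pos i)
  have hminus : ∀ i ∈ N.X, i ≠ N.one → N.sg i = -1 →
      Even (N.a i) ∧ N.deg i + 1 = (2 * N.w + 1) * (N.a i + 1) := by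
    intro i hi hne hs
    have h := N.hwX i hi
    rw [hs, hpw] at h
    have h2 : 2 ∣ N.deg i := by have := hS.hqX i hi hne; rwa [hq2] at this
    exact minus_arith N.w (N.a i) (N.deg i) h h2
  -- the weights of Ξ and Ξ'
  have hS2 : ∑ i, m2 i * N.a i = 1 := by
    rw [hpw, hx0] at hw2
    have : (2 * N.w + 1) * ∑ i, m2 i * N.a i = (2 * N.w + 1) * 1 := by nlinarith
    exact Nat.eq_of_mul_eq_mul_left (by omega) this
  have hS1 : ∑ i, m1 i * N.a i = N.w + 1 := by
    rw [hpw, hx0] at hw1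
    have : (2 * N.w + 1) * ∑ i, m1 i * N.a i = (2 * N.w + 1) * (N.w + 1) := by nlinarith
    exact Nat.eq_of_mul_eq_mul_left (by omega) this
  have hsplit : ∀ m : ι → ℕ, ∑ i, m i * (N.deg i - N.a i) + ∑ i, m i * N.a i =
      ∑ i, m i * N.deg i := by
    intro m
    rw [← Finset.sum_add_distrib]
    apply Finset.sum_congr rfl
    intro i _
    rw [← Nat.mul_add, Nat.sub_add_cancel (a_le_deg' N i)]
  have hT2 : ∑ i, m2 i * (N.deg i - N.a i) + 1 = (N.w + 1) ^ 2 := by
    have := hsplit m2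
    rw [hS2, hd2, hx0] at this
    exact this
  have hT1 : ∑ i, m1 i * (N.deg i - N.a i) + (N.w + 1) = (N.w + 1) ^ 2 := by
    have := hsplit m1
    rw [hS1, hd1, hx0] at this
    exact this
  -- the two families
  set Ep := N.X.filter (fun i => i ≠ N.one ∧ N.sg i = 1) with hEp
  set Em := N.X.filter (fun i => i ≠ N.one ∧ ¬ N.sg i = 1) with hEm
  have hEp_mem : ∀ i ∈ Ep, i ∈ N.X ∧ i ≠ N.one ∧ N.sg i = 1 := by
    intro i hi; rw [hEp, Finset.mem_filter] at hi; exact hi
  have hEm_mem : ∀ i ∈ Em, i ∈ N.X ∧ i ≠ N.one ∧ N.sg i = -1 := by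
    intro i hi; rw [hEm, Finset.mem_filter] at hi
    refine ⟨hi.1, hi.2.1, ?_⟩
    rcases N.sg_pm i hi.1 with h | h
    · exact absurd h hi.2.2
    · exact h
  -- E-: weight 0, degree p - 1
  have hEm_a : ∀ i ∈ Em, N.a i = 0 := by
    intro i hi
    obtain ⟨hiX, hne, hs⟩ := hEm_mem i hi
    have hm2 : 1 ≤ m2 i := by
      have := hm i hiX; rw [hs] at this; omega
    have hle : m2 i * N.a i ≤ ∑ j, m2 j * N.a j :=
      Finset.single_le_sum (f := fun j => m2 j * N.a j) (fun j _ => Nat.zero_le _)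
        (Finset.mem_univ i)
    rw [hS2] at hle
    have hev := (hminus i hiX hne hs).1
    rw [Nat.even_iff] at hev
    have : N.a i ≤ m2 i * N.a i := Nat.le_mul_of_pos_left _ hm2
    omega
  have hEm_deg : ∀ i ∈ Em, N.deg i = 2 * N.w := by
    intro i hi
    obtain ⟨hiX, hne, hs⟩ := hEm_mem i hi
    have := (hminus i hiX hne hs).2
    rw [hEm_a i hi] at this
    omega
  -- counting E-
  have hEm_card : 2 * Em.card ≤ N.w + 2 := by
    have h1 : Em.card • (2 * N.w) ≤ ∑ i ∈ Em, m2 i * (N.deg i - N.a i) := by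
      apply Finset.card_nsmul_le_sum
      intro i hi
      obtain ⟨hiX, hne, hs⟩ := hEm_mem i hi
      have hm2 : 1 ≤ m2 i := by
        have := hm i hiX; rw [hs] at this; omega
      rw [hEm_a i hi, hEm_deg i hi, Nat.sub_zero]
      exact Nat.le_mul_of_pos_left _ hm2
    have h2 : ∑ i ∈ Em, m2 i * (N.deg i - N.a i) ≤ ∑ i, m2 i * (N.deg i - N.a i) :=
      Finset.sum_le_sum_of_subset (Finset.subset_univ _)
    rw [smul_eq_mul] at h1
    exact arith1 Em.card N.w _ hwpos (le_trans h1 h2) hT2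
  -- counting E+
  have hEp_sum : 2 * ∑ i ∈ Ep, (N.a i - 1) ≤ N.w + 1 := by
    have h1 : ∑ i ∈ Ep, (2 * N.w) * (N.a i - 1) ≤ ∑ i ∈ Ep, m1 i * (N.deg i - N.a i) := by
      apply Finset.sum_le_sum
      intro i hi
      obtain ⟨hiX, hne, hs⟩ := hEp_mem i hi
      obtain ⟨ha2, _, hdeg⟩ := hplus i hiX hne hs
      have hm1 : 1 ≤ m1 i := by
        have := hm i hiX; rw [hs] at this; omega
      have : N.deg i - N.a i = (2 * N.w) * (N.a i - 1) := by
        obtain ⟨a', ha'⟩ : ∃ a', N.a i = a' + 1 := ⟨N.a i - 1, by omega⟩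
        rw [hdeg, ha']
        simp only [Nat.add_sub_cancel]
        have : (2 * N.w + 1) * a' + 1 = 2 * N.w * a' + (a' + 1) := by ring
        rw [this, Nat.add_sub_cancel]
      rw [this]
      exact Nat.le_mul_of_pos_left _ hm1
    have h2 : ∑ i ∈ Ep, m1 i * (N.deg i - N.a i) ≤ ∑ i, m1 i * (N.deg i - N.a i) :=
      Finset.sum_le_sum_of_subset (Finset.subset_univ _)
    rw [← Finset.mul_sum] at h1
    exact arith2 _ N.w _ hwpos (le_trans h1 h2) hT1
  -- (WT)
  have hY : N.Y.Nonempty := by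
    rw [← Finset.card_pos, N.cardY, ht]; norm_num
  obtain ⟨j, hj⟩ := hY
  have hWT : ∑ i ∈ N.X, N.sg i * (N.a i : ℤ) = (N.w : ℤ) - 1 := by
    have hX : ∀ i ∈ N.X, N.sg i * ((N.p : ℤ) * N.a i) = N.sg i * N.deg i + ((N.p : ℤ) - 1) := by
      intro i hi
      rw [N.hwX i hi]
      rcases N.sg_pm i hi with h | h <;> rw [h] <;> ring
    have hsum : (N.p : ℤ) * ∑ i ∈ N.X, N.sg i * (N.a i : ℤ) =
        ∑ i ∈ N.X, N.sg i * (N.deg i : ℤ) + (N.w : ℤ) * ((N.p : ℤ) - 1) := by
      rw [Finset.mul_sum]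
      have : ∀ i ∈ N.X, (N.p : ℤ) * (N.sg i * (N.a i : ℤ)) =
          N.sg i * N.deg i + ((N.p : ℤ) - 1) := by
        intro i hi; rw [← hX i hi]; ring
      rw [Finset.sum_congr rfl this, Finset.sum_add_distrib, Finset.sum_const, N.cardX]
      simp
    have hYj := N.hwY j hj
    have hde := N.degeq j hj
    rw [hd0] at hYj hde
    rw [haY j hj] at hYj
    have hp0 : (N.p : ℤ) ≠ 0 := by
      have := N.hp.pos; exact_mod_cast this.ne'
    have : (N.p : ℤ) * ∑ i ∈ N.X, N.sg i * (N.a i : ℤ) = (N.p : ℤ) * ((N.w : ℤ) - 1) := by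
      rw [hsum]; push_cast at hYj; linarith
    exact mul_left_cancel₀ hp0 this
  have hEp_a : (∑ i ∈ Ep, N.a i) + 2 = N.w := by
    have hpt : ∀ i ∈ N.X, N.sg i * (N.a i : ℤ) =
        (if i = N.one then (1 : ℤ) else 0) +
          (if (i ≠ N.one ∧ N.sg i = 1) then (N.a i : ℤ) else 0) := by
      intro i hi
      by_cases h1 : i = N.one
      · subst h1
        rw [hsg1, ha1]; simp
      · rcases N.sg_pm i hi with hs | hs
        · rw [hs]; simp [h1]
        · have hiEm : i ∈ Em := by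
            rw [hEm, Finset.mem_filter]; refine ⟨hi, h1, ?_⟩; rw [hs]; norm_num
          rw [hs, hEm_a i hiEm]; simp [h1]
    rw [Finset.sum_congr rfl hpt, Finset.sum_add_distrib, Finset.sum_ite_eq' N.X N.one,
      if_pos h1X, ← Finset.sum_filter] at hWT
    have : ((∑ i ∈ Ep, N.a i : ℕ) : ℤ) + 2 = N.w := by
      push_cast; linarith
    exact_mod_cast this
  -- cardinalities
  have hcard : 1 + Ep.card + Em.card = N.w := by
    have h1 := Finset.card_filter_add_card_filter_not (s := N.X) (fun i => i = N.one)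
    have h2 : (N.X.filter (fun i => i = N.one)) = {N.one} := by
      ext i; simp only [Finset.mem_filter, Finset.mem_singleton]
      constructor
      · exact fun h => h.2
      · intro h; subst h; exact ⟨h1X, rfl⟩
    rw [h2, Finset.card_singleton] at h1
    have h3 := Finset.card_filter_add_card_filter_not
      (s := N.X.filter (fun i => ¬ i = N.one)) (fun i => N.sg i = 1)
    rw [Finset.filter_filter, Finset.filter_filter] at h3
    rw [N.cardX] at h1
    have e1 : (N.X.filter (fun a => ¬ a = N.one ∧ N.sg a = 1)) = Ep := by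
      rw [hEp]
    have e2 : (N.X.filter (fun a => ¬ a = N.one ∧ ¬ N.sg a = 1)) = Em := by
      rw [hEm]
    rw [e1, e2] at h3
    omega
  -- sums over E+
  have hEp_ge : ∀ i ∈ Ep, 2 ≤ N.a i := by
    intro i hi
    obtain ⟨hiX, hne, hs⟩ := hEp_mem i hi
    exact (hplus i hiX hne hs).1
  have hs1 : ∑ i ∈ Ep, (N.a i - 1) + Ep.card = ∑ i ∈ Ep, N.a i := by
    rw [Finset.card_eq_sum_ones, ← Finset.sum_add_distrib]
    apply Finset.sum_congr rfl
    intro i hi; have := hEp_ge i hi; omega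
  have hs2 : ∑ i ∈ Ep, (N.a i - 2) + 2 * Ep.card = ∑ i ∈ Ep, N.a i := by
    rw [Finset.card_eq_sum_ones, Finset.mul_sum, ← Finset.sum_add_distrib]
    apply Finset.sum_congr rfl
    intro i hi; have := hEp_ge i hi; omega
  -- the dichotomy
  have hdich : ∑ i ∈ Ep, (N.a i - 2) = 0 ∨ ∑ i ∈ Ep, (N.a i - 2) = 2 := by
    omega
  have hzero : ∑ i ∈ Ep, (N.a i - 2) = 0 := by
    rcases hdich with h | h
    · exact h
    · exfalso
      -- some member of E+ has weight 4, hence degree 3p + 1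
      have hex : ∃ i ∈ Ep, N.a i - 2 ≠ 0 := by
        by_contra hcon
        push Not at hcon
        rw [Finset.sum_eq_zero hcon] at h
        omega
      obtain ⟨i, hi, hne0⟩ := hex
      obtain ⟨hiX, hne, hs⟩ := hEp_mem i hi
      obtain ⟨ha2, hev, hdeg⟩ := hplus i hiX hne hs
      have hle : N.a i - 2 ≤ ∑ j ∈ Ep, (N.a j - 2) :=
        Finset.single_le_sum (f := fun j => N.a j - 2) (fun j _ => Nat.zero_le _) hi
      rw [h] at hle
      rw [Nat.even_iff] at hev
      have ha4 : N.a i = 4 := by omega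
      have hdvd := N.hdvd i
      rw [hdeg, ha4, hS.hg, hx0, hpw, hq2, hwy] at hdvd
      apply no_three y N.b hy1
      have e1 : (2 * (4 * y) + 1) * (4 - 1) + 1 = 24 * y + 4 := by ring
      have e2 : (2 * (4 * y) + 1) * 2 ^ N.b * (4 * y + 1) = (8 * y + 1) * 2 ^ N.b * (4 * y + 1) := by
        ring
      rw [e1, e2] at hdvd
      exact hdvd
  constructor
  · intro i hi hne
    rcases N.sg_pm i hi with hs | hs
    · left
      refine ⟨hs, ?_⟩
      have hiEp : i ∈ Ep := by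
        rw [hEp, Finset.mem_filter]; exact ⟨hi, hne, hs⟩
      obtain ⟨ha2, hev, hdeg⟩ := hplus i hi hne hs
      have := (Finset.sum_eq_zero_iff.mp hzero) i hiEp
      have ha : N.a i = 2 := by omega
      rw [hdeg, ha, hpw]; simp
    · right
      refine ⟨hs, ?_⟩
      have hiEm : i ∈ Em := by
        rw [hEm, Finset.mem_filter]; refine ⟨hi, hne, ?_⟩; rw [hs]; norm_num
      rw [hEm_deg i hiEm, hpw]
  · omega

end Num

end Cfsg.Agent.Helper21.BT
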