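import Mathlib
import Cfsg.Agent.Lib.Helper21.BTDefs

/-!
# S0997, piece NUMB2C: `Num.caseB2_r` (section 6, case B2 of `plans/S0997_proof.md`)
-/

set_option autoImplicit false
set_option linter.unusedSectionVars false
set_option linter.unusedVariables false

namespace Cfsg.Agent.Helper21.BT

namespace NUMB2C

/-- `2^s (w+1) = 1 (mod 2w+1)` and `1 ≤ 2^s ≤ w` force `2^s = 2`. -/
theorem two_of_mod (z w r : ℕ) (hz1 : 1 ≤ z) (hzw : z ≤ w) (hr : r = z * (w + 1))
    (hmod : r % (2 * w + 1) = 1) : z = 2 := by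
  have h1 : r = (2 * w + 1) * (r / (2 * w + 1)) + 1 := by
    have := Nat.div_add_mod r (2 * w + 1)
    rw [hmod] at this; exact this.symm
  set m := r / (2 * w + 1) with hm
  have hdvd : ((2 * w + 1 : ℕ) : ℤ) ∣ (z : ℤ) - 2 := by
    refine ⟨2 * (m : ℤ) - z, ?_⟩
    have : ((z * (w + 1) : ℕ) : ℤ) = (((2 * w + 1) * m + 1 : ℕ) : ℤ) := by
      rw [← hr, ← h1]
    push_cast at this ⊢
    linarith
  have habs : |(z : ℤ) - 2| < ((2 * w + 1 : ℕ) : ℤ) := by
    rw [abs_lt]; push_cast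
    constructor <;> omega
  have := Int.eq_zero_of_abs_lt_dvd hdvd habs
  omega

/-- the bound on the value of the block part. -/
theorem val_le (e w : ℕ) (he : 2 * e + 2 ≤ w) : w + 2 + e * (2 * w + 2) ≤ w ^ 2 := by
  obtain ⟨d, rfl⟩ : ∃ d, w = 2 * e + 2 + d := ⟨w - (2 * e + 2), by omega⟩
  nlinarith [Nat.zero_le (e * d), Nat.zero_le (d * d), Nat.zero_le (e * e)]

end NUMB2C

namespace Num

variable {ι : Type*} [Fintype ι] [DecidableEq ι] (N : Num ι)

open NUMB2C in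
/-- PIECE NUMB2C (section 6, case B2). -/
theorem caseB2_r {x0 : ℕ} (hS : N.Struct x0) (hd0 : N.d0 = 1) (hxw : x0 + N.w = N.p)
    (hq2 : N.q = 2) (c : ℕ) (hc : 2 ≤ c) (hwc : N.w = 2 ^ c) (ht : N.t = 2)
    (hdeg : ∀ i ∈ N.X, i ≠ N.one →
      (N.sg i = 1 ∧ N.deg i = N.p + 1) ∨ (N.sg i = -1 ∧ N.deg i + 1 = N.p))
    (hE : 2 * ((N.X.filter (fun i => i ≠ N.one ∧ N.sg i = 1)).card + 1) = N.w)
    (hB : N.HasBlk x0) : N.r = N.p + 1 := by
  obtain ⟨S, c', hSX, hc', h1S, hpow, hdiv⟩ := hB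
  have hpw : N.p = 2 * N.w + 1 := by have := N.hwt; rw [ht] at this; omega
  have hx0 : x0 = N.w + 1 := by omega
  have hwpos : 0 < N.w := by rw [hwc]; positivity
  have h1X : N.one ∈ N.X := N.one_memX (by omega)
  have h1S' : N.one ∈ S := h1S h1X
  have hsg1 : N.sg N.one = 1 := N.sg_one h1X
  have hdeg1 : N.deg N.one = 1 := N.deg_one
  -- the members of S other than the principal character have sign + and degree p + 1
  have hSmem : ∀ i ∈ S, i ≠ N.one → N.sg i = 1 ∧ N.deg i = N.p + 1 := by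
    intro i hi hne
    rcases hdeg i (hSX hi) hne with h | h
    · exact h
    · exfalso
      apply hpow i hi hne (c + 1)
      have := h.2
      rw [hpw] at this
      rw [pow_succ, ← hwc]; omega
  -- the value of the block part
  set S' := S.erase N.one with hS'
  have hsum : ∑ i ∈ S, N.sg i * (N.deg i : ℤ) = 1 + (S'.card : ℤ) * ((N.p : ℤ) + 1) := by
    rw [← Finset.add_sum_erase S _ h1S', hsg1, hdeg1]
    have : ∀ i ∈ S', N.sg i * (N.deg i : ℤ) = (N.p : ℤ) + 1 := by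
      intro i hi
      rw [hS', Finset.mem_erase] at hi
      obtain ⟨h1, h2⟩ := hSmem i hi.2 hi.1
      rw [h1, h2]; push_cast; ring
    rw [Finset.sum_congr rfl this, Finset.sum_const]
    simp
  have hS'card : 2 * S'.card + 2 ≤ N.w := by
    have hsub : S' ⊆ N.X.filter (fun i => i ≠ N.one ∧ N.sg i = 1) := by
      intro i hi
      rw [hS', Finset.mem_erase] at hi
      rw [Finset.mem_filter]
      exact ⟨hSX hi.2, hi.1, (hSmem i hi.2 hi.1).1⟩
    have := Finset.card_le_card hsub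
    omega
  -- the power of 2
  have hb1 : 1 ≤ N.b := hS.hb
  have h2b : (2 : ℤ) ^ N.b ∣ 1 + (S'.card : ℤ) * ((N.p : ℤ) + 1) + c' * 1 * (x0 : ℤ) := by
    have := hdiv N.b (by rw [hq2]; exact ⟨N.p * N.g0, by ring⟩)
    rw [hsum, hd0] at this
    exact this
  have h2 : (2 : ℤ) ∣ 1 + (S'.card : ℤ) * ((N.p : ℤ) + 1) + c' * 1 * (x0 : ℤ) :=
    dvd_trans (dvd_pow_self 2 (by omega)) h2b
  have hc1 : c' = 1 := by
    rcases hc' with h | h
    · exfalso
      rw [h, hpw] at h2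
      have e : (1 : ℤ) + (S'.card : ℤ) * (((2 * N.w + 1 : ℕ) : ℤ) + 1) + 0 * 1 * (x0 : ℤ) =
          2 * ((S'.card : ℤ) * ((N.w : ℤ) + 1)) + 1 := by push_cast; ring
      rw [e] at h2
      generalize (S'.card : ℤ) * ((N.w : ℤ) + 1) = z at h2
      omega
    · exact h
  rw [hc1, hpw, hx0] at h2b
  have h2bN : 2 ^ N.b ∣ N.w + 2 + S'.card * (2 * N.w + 2) := by
    have : ((2 ^ N.b : ℕ) : ℤ) ∣ ((N.w + 2 + S'.card * (2 * N.w + 2) : ℕ) : ℤ) := by
      push_cast
      push_cast at h2b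
      convert h2b using 1
      ring
    exact_mod_cast this
  have hle : 2 ^ N.b ≤ N.w ^ 2 :=
    le_trans (Nat.le_of_dvd (by omega) h2bN) (val_le _ _ hS'card)
  -- w r = 2^b x0
  have hcard := N.hcard
  rw [hq2, hS.hg, hx0] at hcard
  have hcb : c ≤ N.b := by
    have hcop : Nat.Coprime (2 ^ c) (N.w + 1) := by
      rw [hwc]
      exact Nat.isCoprime_iff_coprime.mp ⟨-1, 1, by push_cast; ring⟩
    have hd : 2 ^ c ∣ 2 ^ N.b * (N.w + 1) := by
      rw [← hcard, hwc]; exact dvd_mul_right _ _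
    have := hcop.dvd_of_dvd_mul_right hd
    exact (Nat.pow_dvd_pow_iff_le_right (by norm_num : 1 < 2)).mp this
  obtain ⟨s, hs⟩ : ∃ s, N.b = c + s := ⟨N.b - c, by omega⟩
  have hpow2 : 2 ^ N.b = N.w * 2 ^ s := by rw [hs, pow_add, hwc]
  have hr : N.r = 2 ^ s * (N.w + 1) := by
    rw [hpow2, mul_assoc] at hcard
    exact Nat.eq_of_mul_eq_mul_left hwpos hcard
  have hsw : 2 ^ s ≤ N.w := by
    rw [hpow2, pow_two] at hle
    exact Nat.le_of_mul_le_mul_left hle hwpos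
  have hmod := N.hr
  rw [hpw] at hmod
  have hz := two_of_mod (2 ^ s) N.w N.r Nat.one_le_two_pow hsw hr hmod
  rw [hr, hz, hpw]; ring

end Num

end Cfsg.Agent.Helper21.BT
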