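import Mathlib

/-!
# Generic kernel-cardinality lemma (S2373, piece KERCARD)

For a finite cyclic group `G` and an integer matrix `X` with `|det X| ∣ #G`, the number of
`c : Fin n → G` with `∏ i, c i ^ X i j = 1` for all `j` is `|det X|`.
-/

set_option autoImplicit false

namespace Cfsg.Agent.Helper4.KerCard

open Matrix

variable {n : ℕ}

theorem kercard_injective (A : Matrix (Fin n) (Fin n) ℤ) (hA : A.det ≠ 0) :
    Function.Injective (Matrix.mulVecLin A) := by
  intro x y hxy
  exact Matrix.mulVec_injective_of_det_ne_zero hA hxy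

/-- `#(ℤⁿ / A ℤⁿ) = |det A|`. -/
theorem kercard_index_det (A : Matrix (Fin n) (Fin n) ℤ) (hA : A.det ≠ 0) :
    Nat.card ((Fin n → ℤ) ⧸ (LinearMap.range (Matrix.mulVecLin A)).toAddSubgroup) =
      A.det.natAbs := by
  set N : Submodule ℤ (Fin n → ℤ) := LinearMap.range (Matrix.mulVecLin A) with hN
  let e : (Fin n → ℤ) ≃ₗ[ℤ] N := LinearEquiv.ofInjective (Matrix.mulVecLin A)
    (kercard_injective A hA)
  have h1 := Submodule.natAbs_det_equiv N e
  have h2 : N.subtype ∘ₗ AddMonoidHom.toIntLinearMap ((e : (Fin n → ℤ) →+ N)) =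
      Matrix.mulVecLin A := by
    apply LinearMap.ext
    intro x
    rfl
  rw [h2] at h1
  have h3 : LinearMap.det (Matrix.mulVecLin A) = A.det := by
    have : Matrix.mulVecLin A = Matrix.toLin' A := rfl
    rw [this, LinearMap.det_toLin']
  rw [h3] at h1
  rw [h1]
  rfl

/-- `det A • v` lies in the image of `A`. -/
theorem kercard_det_smul_mem (A : Matrix (Fin n) (Fin n) ℤ) (v : Fin n → ℤ) :
    ∃ z : Fin n → ℤ, A.mulVec z = A.det • v := by
  refine ⟨(Matrix.adjugate A).mulVec v, ?_⟩
  rw [Matrix.mulVec_mulVec, Matrix.mul_adjugate, Matrix.smul_mulVec, Matrix.one_mulVec]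

/-- the multiplicative endomorphism `c ↦ (∏ i, c i ^ X i j)_j` of `Gⁿ`. -/
def kercard_hom (G : Type*) [CommGroup G] (X : Matrix (Fin n) (Fin n) ℤ) :
    (Fin n → G) →* (Fin n → G) where
  toFun c := fun j => ∏ i, c i ^ X i j
  map_one' := by
    funext j
    simp
  map_mul' c d := by
    funext j
    simp [mul_zpow, Finset.prod_mul_distrib]

theorem kercard_hom_apply (G : Type*) [CommGroup G] (X : Matrix (Fin n) (Fin n) ℤ)
    (c : Fin n → G) (j : Fin n) : kercard_hom G X c j = ∏ i, c i ^ X i j := rfl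

theorem kercard_ker_eq_coker (G : Type*) [CommGroup G] [Finite G]
    (f : (Fin n → G) →* (Fin n → G)) :
    Nat.card f.ker = Nat.card ((Fin n → G) ⧸ f.range) := by
  have h1 : Nat.card (Fin n → G) = Nat.card ((Fin n → G) ⧸ f.ker) * Nat.card f.ker :=
    Subgroup.card_eq_card_quotient_mul_card_subgroup f.ker
  have h2 : Nat.card ((Fin n → G) ⧸ f.ker) = Nat.card f.range :=
    Nat.card_congr (QuotientGroup.quotientKerEquivRange f).toEquiv
  have h3 : Nat.card (Fin n → G) = Nat.card ((Fin n → G) ⧸ f.range) * Nat.card f.range :=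
    Subgroup.card_eq_card_quotient_mul_card_subgroup f.range
  have hpos : 0 < Nat.card f.range := Nat.card_pos
  rw [h2] at h1
  rw [h1] at h3
  have : Nat.card f.range * Nat.card f.ker = Nat.card f.range * Nat.card ((Fin n → G) ⧸ f.range) := by
    rw [h3, mul_comm]
  exact Nat.eq_of_mul_eq_mul_left hpos this

theorem kercard_prod_zpow {ι G : Type*} [CommGroup G] (s : Finset ι) (γ : G) (g : ι → ℤ) :
    ∏ i ∈ s, γ ^ g i = γ ^ ∑ i ∈ s, g i := by
  classical
  induction s using Finset.induction_on with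
  | empty => simp
  | insert a s ha ih => rw [Finset.prod_insert ha, Finset.sum_insert ha, _root_.zpow_add, ih]

theorem kercard_cyclic (G : Type*) [CommGroup G] [Finite G] [IsCyclic G]
    (X : Matrix (Fin n) (Fin n) ℤ) (h0 : X.det ≠ 0) (hN : X.det.natAbs ∣ Nat.card G) :
    Nat.card {c : Fin n → G // ∀ j, ∏ i, c i ^ X i j = 1} = X.det.natAbs := by
  classical
  set f := kercard_hom G X with hf
  -- step 1: the set is the kernel
  have hker : Nat.card {c : Fin n → G // ∀ j, ∏ i, c i ^ X i j = 1} = Nat.card f.ker := by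
    apply Nat.card_congr
    apply Equiv.subtypeEquivRight
    intro c
    rw [MonoidHom.mem_ker]
    constructor
    · intro h
      funext j
      exact h j
    · intro h j
      have := congrFun h j
      simpa [hf, kercard_hom_apply] using this
  rw [hker, kercard_ker_eq_coker G f]
  -- generator
  obtain ⟨γ, hγ⟩ := IsCyclic.exists_generator (α := G)
  have hord : orderOf γ = Nat.card G := orderOf_eq_card_of_forall_mem_zpowers hγ
  set S : AddSubgroup (Fin n → ℤ) :=
    (LinearMap.range (Matrix.mulVecLin Xᵀ)).toAddSubgroup with hS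
  have hmemS : ∀ y : Fin n → ℤ, y ∈ S ↔ ∃ z : Fin n → ℤ, y = Xᵀ.mulVec z := by
    intro y
    rw [hS, Submodule.mem_toAddSubgroup, LinearMap.mem_range]
    constructor
    · rintro ⟨z, hz⟩
      exact ⟨z, by rw [← hz, Matrix.mulVecLin_apply]⟩
    · rintro ⟨z, hz⟩
      exact ⟨z, by rw [hz, Matrix.mulVecLin_apply]⟩
  let p : (Fin n → ℤ) → (Fin n → G) := fun a i => γ ^ a i
  have hp_apply : ∀ (a : Fin n → ℤ) (i : Fin n), p a i = γ ^ a i := fun _ _ => rfl
  -- every element of Gⁿ is some `p z`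
  have hp_surj : ∀ c : Fin n → G, ∃ z : Fin n → ℤ, p z = c := by
    intro c
    have : ∀ i, ∃ k : ℤ, γ ^ k = c i := fun i => Subgroup.mem_zpowers_iff.1 (hγ (c i))
    choose z hz using this
    exact ⟨z, funext hz⟩
  -- f (p z) = p (Xᵀ z)
  have hfp : ∀ z : Fin n → ℤ, f (p z) = p (Xᵀ.mulVec z) := by
    intro z
    funext j
    show ∏ i, (γ ^ z i) ^ X i j = γ ^ (Xᵀ.mulVec z j)
    rw [Matrix.mulVec, dotProduct, ← kercard_prod_zpow]
    apply Finset.prod_congr rfl
    intro i _
    rw [Matrix.transpose_apply, ← _root_.zpow_mul, mul_comm]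
  -- multiples of `Nat.card G` lie in S
  have hmS : ∀ k : Fin n → ℤ, ((Nat.card G : ℤ) • k) ∈ S := by
    intro k
    obtain ⟨t, ht⟩ := hN
    have hdT : Xᵀ.det = X.det := Matrix.det_transpose X
    have hNk : (Nat.card G : ℤ) = (X.det.natAbs : ℤ) * (t : ℤ) := by exact_mod_cast ht
    rcases Int.natAbs_eq X.det with h | h
    · obtain ⟨z, hz⟩ := kercard_det_smul_mem Xᵀ ((t : ℤ) • k)
      rw [hmemS]
      refine ⟨z, ?_⟩
      rw [hz, hdT, hNk, ← h, smul_smul]
    · obtain ⟨z, hz⟩ := kercard_det_smul_mem Xᵀ ((-(t : ℤ)) • k)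
      rw [hmemS]
      refine ⟨z, ?_⟩
      rw [hz, hdT, hNk, smul_smul]
      congr 1
      have h' : (X.det.natAbs : ℤ) = - X.det := by omega
      rw [h']
      ring
  -- p d ∈ range f ↔ d ∈ S
  have hkey : ∀ d : Fin n → ℤ, p d ∈ f.range ↔ d ∈ S := by
    intro d
    constructor
    · rintro ⟨c, hc⟩
      obtain ⟨z, rfl⟩ := hp_surj c
      rw [hfp] at hc
      -- γ ^ (Xᵀ z) j = γ ^ d j
      have hmod : ∀ j, ∃ k : ℤ, d j = Xᵀ.mulVec z j + (Nat.card G : ℤ) * k := by
        intro j
        have h1 : γ ^ (Xᵀ.mulVec z j) = γ ^ d j := congrFun hc j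
        rw [zpow_eq_zpow_iff_modEq, hord] at h1
        have h2 := h1.symm.dvd
        obtain ⟨k, hk⟩ := h2
        exact ⟨-k, by linarith⟩
      choose k hk using hmod
      have hd : d = Xᵀ.mulVec z + (Nat.card G : ℤ) • k := by
        funext j
        rw [Pi.add_apply, Pi.smul_apply, smul_eq_mul]
        exact hk j
      rw [hd]
      exact S.add_mem ((hmemS _).2 ⟨z, rfl⟩) (hmS k)
    · intro hd
      obtain ⟨z, rfl⟩ := (hmemS d).1 hd
      exact ⟨p z, hfp z⟩
  -- the map ℤⁿ → coker
  let ψ : (Fin n → ℤ) → (Fin n → G) ⧸ f.range := fun a => QuotientGroup.mk (p a)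
  have hp_neg_add : ∀ a b : Fin n → ℤ, (p a)⁻¹ * p b = p (-a + b) := by
    intro a b
    funext i
    show (γ ^ a i)⁻¹ * γ ^ b i = γ ^ (-a i + b i)
    rw [_root_.zpow_add, _root_.zpow_neg]
  have hψ : ∀ a b : Fin n → ℤ, ψ a = ψ b ↔ -a + b ∈ S := by
    intro a b
    show (QuotientGroup.mk (p a) : (Fin n → G) ⧸ f.range) = QuotientGroup.mk (p b) ↔ _
    rw [QuotientGroup.eq, hp_neg_add, hkey]
  have hψ_surj : Function.Surjective ψ := by
    intro x
    induction x using QuotientGroup.induction_on with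
    | H c =>
      obtain ⟨z, hz⟩ := hp_surj c
      exact ⟨z, by show (QuotientGroup.mk (p z) : (Fin n → G) ⧸ f.range) = _; rw [hz]⟩
  have hcard : Nat.card ((Fin n → ℤ) ⧸ S) = Nat.card ((Fin n → G) ⧸ f.range) := by
    let Ψ : (Fin n → ℤ) ⧸ S → (Fin n → G) ⧸ f.range :=
      Quotient.lift ψ (by
        intro a b hab
        rw [hψ]
        exact QuotientAddGroup.leftRel_apply.1 hab)
    apply Nat.card_congr
    apply Equiv.ofBijective Ψ
    constructor
    · intro x y hxy
      induction x using QuotientAddGroup.induction_on with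
      | H a =>
        induction y using QuotientAddGroup.induction_on with
        | H b =>
          have : ψ a = ψ b := hxy
          rw [hψ] at this
          exact QuotientAddGroup.eq.2 this
    · intro x
      obtain ⟨a, ha⟩ := hψ_surj x
      exact ⟨QuotientAddGroup.mk a, ha⟩
  rw [← hcard]
  have h0' : Xᵀ.det ≠ 0 := by rw [Matrix.det_transpose]; exact h0
  rw [hS, kercard_index_det Xᵀ h0', Matrix.det_transpose]

/-- the version for the unit group of a finite field. -/
theorem kercard (K : Type*) [Field K] [Fintype K] (X : Matrix (Fin n) (Fin n) ℤ)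
    (h0 : X.det ≠ 0) (hN : X.det.natAbs ∣ Fintype.card K - 1) :
    Nat.card {c : Fin n → Kˣ // ∀ j, ∏ i, c i ^ X i j = 1} = X.det.natAbs := by
  apply kercard_cyclic Kˣ X h0
  rw [Nat.card_units, Nat.card_eq_fintype_card]
  exact hN

end Cfsg.Agent.Helper4.KerCard
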