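import Mathlib

/-!
# Characteristic `p` identities for `(a - 1) ^ (p ^ n)` in algebras (helper4)
-/

set_option autoImplicit false

namespace Cfsg.Agent.Helper4.ThB

open Polynomial

variable {K : Type*} [Field K] {p : ℕ} [hp : Fact p.Prime] [CharP K p]

theorem poly_sub_one_pow (n : ℕ) : ((X : K[X]) - 1) ^ (p ^ n) = X ^ (p ^ n) - 1 := by
  have h := sub_pow_char_pow (X : K[X]) (1 : K[X]) n (p := p)
  rw [one_pow] at h
  exact h

theorem poly_geom_sum (n : ℕ) :
    ∑ i ∈ Finset.range (p ^ n), (X : K[X]) ^ i = ((X : K[X]) - 1) ^ (p ^ n - 1) := by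
  have hpos : 0 < p ^ n := pos_of_ne_zero (pow_ne_zero _ hp.out.ne_zero)
  have h1 : ((X : K[X]) - 1) * ∑ i ∈ Finset.range (p ^ n), (X : K[X]) ^ i = X ^ (p ^ n) - 1 :=
    mul_geom_sum _ _
  have h2 : ((X : K[X]) - 1) * ((X : K[X]) - 1) ^ (p ^ n - 1) = X ^ (p ^ n) - 1 := by
    rw [← pow_succ', Nat.sub_add_cancel hpos, poly_sub_one_pow]
  have h3 : ((X : K[X]) - 1) ≠ 0 := by
    have := X_sub_C_ne_zero (1 : K)
    simpa using this
  exact mul_left_cancel₀ h3 (h1.trans h2.symm)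

variable (K) {A : Type*} [Ring A] [Algebra K A]

include K in
theorem sub_one_pow_char_pow (a : A) (n : ℕ) : (a - 1) ^ (p ^ n) = a ^ (p ^ n) - 1 := by
  have h := congrArg (aeval a) (poly_sub_one_pow (K := K) (p := p) n)
  simpa using h

include K in
theorem geom_sum_eq (a : A) (n : ℕ) :
    ∑ i ∈ Finset.range (p ^ n), a ^ i = (a - 1) ^ (p ^ n - 1) := by
  have h := congrArg (aeval a) (poly_geom_sum (K := K) (p := p) n)
  simpa using h

end Cfsg.Agent.Helper4.ThB
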