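import Mathlib
import Cfsg.Agent.Lib.Helper4.ThBPoly

/-!
# The linear algebra of the Hall–Higman critical case (helper4)

`a` is an invertible operator with `a ^ (p ^ n) = 1` on a space over a field of characteristic `p`.
If every operator commuting with `a` is a scalar plus a "trace" `∑ a ^ i * T * a ^ (-i)`, then
the nilpotency index of `a - 1` is `p ^ n`, or the space is cyclic of dimension `1` or `p ^ n - 1`.
-/

set_option autoImplicit false
set_option linter.unusedSectionVars false

namespace Cfsg.Agent.Helper4.ThB

open Module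

variable {K : Type*} [Field K] {p : ℕ} [hp : Fact p.Prime] [CharP K p]
variable {W : Type*} [AddCommGroup W] [Module K W]

/-- the trace map `T ↦ ∑_{i < P} a ^ i * T * b ^ i` (with `b = a⁻¹`) -/
def trc (a b : Module.End K W) (P : ℕ) (T : Module.End K W) : Module.End K W :=
  ∑ i ∈ Finset.range P, a ^ i * T * b ^ i

theorem trc_mul_left (a b : Module.End K W) (P : ℕ) (S T : Module.End K W)
    (hSa : Commute S a) : S * trc a b P T = trc a b P (S * T) := by
  unfold trc
  rw [Finset.mul_sum]
  refine Finset.sum_congr rfl fun i _ => ?_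
  have h := (hSa.pow_right i).eq
  rw [← mul_assoc, ← mul_assoc, h, mul_assoc (a ^ i) S T]

/-- on fixed vectors of `a`, a trace acts as `(a - 1) ^ (P - 1)` after `T` -/
theorem trc_apply_fixed (a b : Module.End K W) (n : ℕ) (hba : b * a = 1)
    (T : Module.End K W) (u : W) (hu : a u = u) :
    trc a b (p ^ n) T u = ((a - 1) ^ (p ^ n - 1)) (T u) := by
  have hbu : b u = u := by
    have h : (b * a) u = u := by rw [hba]; rfl
    rw [Module.End.mul_apply, hu] at h
    exact h
  have hbi : ∀ i : ℕ, (b ^ i) u = u := by
    intro i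
    induction i with
    | zero => simp
    | succ i ih => rw [pow_succ, Module.End.mul_apply, hbu, ih]
  rw [← geom_sum_eq K a n]
  unfold trc
  rw [LinearMap.sum_apply, LinearMap.sum_apply]
  refine Finset.sum_congr rfl fun i _ => ?_
  rw [Module.End.mul_apply, Module.End.mul_apply, hbi]

section kerchain

variable [FiniteDimensional K W]

/-- if `ker N` is at most one-dimensional then `ker N ^ k` has dimension at most `k` -/
theorem finrank_ker_pow_le (N : Module.End K W) (h1 : finrank K (LinearMap.ker N) ≤ 1) (k : ℕ) :
    finrank K (LinearMap.ker (N ^ k)) ≤ k := by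
  induction k with
  | zero =>
    rw [pow_zero]
    have : LinearMap.ker (1 : Module.End K W) = ⊥ := LinearMap.ker_id
    rw [this]
    simp
  | succ k ih =>
    -- restrict `N ^ k` to `ker (N ^ (k+1))`, landing in `ker N`
    let f : LinearMap.ker (N ^ (k + 1)) →ₗ[K] LinearMap.ker N :=
      LinearMap.codRestrict (LinearMap.ker N) ((N ^ k).comp (Submodule.subtype _)) (by
        intro v
        rw [LinearMap.mem_ker]
        have key : ∀ x : W, (N ^ (k + 1)) x = N ((N ^ k) x) := fun x => by
          rw [pow_succ', Module.End.mul_apply]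
        have hv : (N ^ (k + 1)) (v : W) = 0 := v.2
        rw [key] at hv
        exact hv)
    have hrn := LinearMap.finrank_range_add_finrank_ker f
    have hker : finrank K (LinearMap.ker f) ≤ finrank K (LinearMap.ker (N ^ k)) := by
      let g : LinearMap.ker f →ₗ[K] LinearMap.ker (N ^ k) :=
        LinearMap.codRestrict (LinearMap.ker (N ^ k))
          ((Submodule.subtype _).comp (Submodule.subtype (LinearMap.ker f))) (by
          intro v
          rw [LinearMap.mem_ker]
          have hv : f (v : LinearMap.ker (N ^ (k + 1))) = 0 := v.2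
          have := congrArg Subtype.val hv
          exact this)
      apply LinearMap.finrank_le_finrank_of_injective (f := g)
      intro v₁ v₂ h
      have := congrArg Subtype.val h
      exact Subtype.ext (Subtype.ext this)
    have hran : finrank K (LinearMap.range f) ≤ finrank K (LinearMap.ker N) :=
      Submodule.finrank_le _
    omega

end kerchain

variable [FiniteDimensional K W] [Nontrivial W]

/-- **The critical case, linear algebra.** -/
theorem crit_lin (a b : Module.End K W) (n : ℕ) (hab : a * b = 1) (hba : b * a = 1)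
    (haP : a ^ (p ^ n) = 1)
    (hI : ∀ S : Module.End K W, Commute S a →
      ∃ (c : K) (T : Module.End K W), S = c • (1 : Module.End K W) + trc a b (p ^ n) T)
    (s : ℕ) (hs : (a - 1) ^ s = 0) (hmin : ∀ k < s, (a - 1) ^ k ≠ 0) :
    s = p ^ n ∨ (finrank K W = s ∧ (s = 1 ∨ s + 1 = p ^ n)) := by
  classical
  set P := p ^ n with hP
  set N : Module.End K W := a - 1 with hN
  have hPpos : 0 < P := pos_of_ne_zero (pow_ne_zero _ hp.out.ne_zero)
  have hNP : N ^ P = 0 := by
    rw [hN, hP, sub_one_pow_char_pow K a n, haP, sub_self]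
  have hsP : s ≤ P := by
    by_contra h
    exact hmin P (not_le.mp h) hNP
  by_cases hsP' : s = P
  · exact Or.inl hsP'
  right
  have hslt : s < P := lt_of_le_of_ne hsP hsP'
  have hNP1 : N ^ (P - 1) = 0 := by
    have : P - 1 = s + (P - 1 - s) := by omega
    rw [this, pow_add, hs, zero_mul]
  have hs1 : 1 ≤ s := by
    by_contra h
    have h0 : s = 0 := by omega
    rw [h0, pow_zero] at hs
    exact one_ne_zero hs
  have hNa : Commute N a := by
    rw [hN]
    exact (Commute.refl a).sub_left (Commute.one_left a)
  have hNb : Commute N b := by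
    have h1 : Commute a b := by
      show a * b = b * a
      rw [hab, hba]
    rw [hN]
    exact h1.sub_left (Commute.one_left b)
  -- a vector of maximal height
  have hne : N ^ (s - 1) ≠ 0 := hmin (s - 1) (by omega)
  obtain ⟨w, hw⟩ : ∃ w, (N ^ (s - 1)) w ≠ 0 := by
    by_contra h
    push_neg at h
    exact hne (LinearMap.ext h)
  set u : W := (N ^ (s - 1)) w with hu
  have hNu : N u = 0 := by
    rw [hu, ← Module.End.mul_apply, ← pow_succ', Nat.sub_add_cancel hs1, hs]
    rfl
  have hau : a u = u := by
    have : N u = a u - u := by rw [hN]; rfl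
    rw [this, sub_eq_zero] at hNu
    exact hNu
  -- a functional with `φ u = 1`
  obtain ⟨φ₀, hφ₀⟩ : ∃ φ : Module.Dual K W, φ u ≠ 0 := by
    by_contra h
    push_neg at h
    exact hw ((Module.forall_dual_apply_eq_zero_iff K u).1 h)
  set φ : Module.Dual K W := (φ₀ u)⁻¹ • φ₀ with hφ
  have hφu : φ u = 1 := by
    rw [hφ, LinearMap.smul_apply, smul_eq_mul, inv_mul_cancel₀ hφ₀]
  -- the operator `S`
  obtain ⟨s', rfl⟩ : ∃ s', s = s' + 1 := ⟨s - 1, by omega⟩
  set S : Module.End K W :=
    ∑ k ∈ Finset.range (s' + 1), LinearMap.smulRight (φ.comp (N ^ k)) ((N ^ (s' - k)) w) with hS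
  have hSapp : ∀ v, S v = ∑ k ∈ Finset.range (s' + 1), φ ((N ^ k) v) • (N ^ (s' - k)) w := by
    intro v
    rw [hS, LinearMap.sum_apply]
    refine Finset.sum_congr rfl fun k _ => ?_
    rw [LinearMap.smulRight_apply, LinearMap.comp_apply]
  have hSN : Commute S N := by
    show S * N = N * S
    apply LinearMap.ext
    intro v
    rw [Module.End.mul_apply, Module.End.mul_apply, hSapp, hSapp, map_sum]
    rw [Finset.sum_range_succ, Finset.sum_range_succ']
    have hlast : φ ((N ^ s') (N v)) • (N ^ (s' - s')) w = 0 := by
      have : (N ^ s') (N v) = (N ^ (s' + 1)) v := by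
        rw [pow_succ, Module.End.mul_apply]
      rw [this, hs]
      simp
    have hfirst : N (φ ((N ^ 0) v) • (N ^ (s' - 0)) w) = 0 := by
      rw [map_smul, Nat.sub_zero]
      have : N ((N ^ s') w) = (N ^ (s' + 1)) w := by
        rw [pow_succ', Module.End.mul_apply]
      rw [this, hs]
      simp
    rw [hlast, hfirst, add_zero, add_zero]
    refine Finset.sum_congr rfl fun k hk => ?_
    rw [Finset.mem_range] at hk
    rw [map_smul]
    have e1 : (N ^ k) (N v) = (N ^ (k + 1)) v := by
      rw [pow_succ, Module.End.mul_apply]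
    have e2 : N ((N ^ (s' - (k + 1))) w) = (N ^ (s' - k)) w := by
      rw [← Module.End.mul_apply, ← pow_succ']
      congr 2
      omega
    rw [e1, e2]
  have hSa : Commute S a := by
    have : a = N + 1 := by rw [hN]; abel
    rw [this]
    exact hSN.add_right (Commute.one_right S)
  obtain ⟨c, T, hST⟩ := hI S hSa
  -- `S` on `ker N`
  have hSker : ∀ u' : W, N u' = 0 → S u' = φ u' • u := by
    intro u' hu'
    rw [hSapp, Finset.sum_range_succ']
    have hz : ∑ k ∈ Finset.range s', φ ((N ^ (k + 1)) u') • (N ^ (s' - (k + 1))) w = 0 := by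
      apply Finset.sum_eq_zero
      intro k _
      have : (N ^ (k + 1)) u' = 0 := by
        rw [pow_succ, Module.End.mul_apply, hu', map_zero]
      rw [this, map_zero, zero_smul]
    rw [hz, zero_add, pow_zero, Nat.sub_zero]
    rfl
  have hfix : ∀ u' : W, N u' = 0 → a u' = u' := by
    intro u' hu'
    have : N u' = a u' - u' := by rw [hN]; rfl
    rw [this, sub_eq_zero] at hu'
    exact hu'
  have htr0 : ∀ (T' : Module.End K W) (u' : W), N u' = 0 → trc a b P T' u' = 0 := by
    intro T' u' hu'
    rw [hP, trc_apply_fixed a b n hba T' u' (hfix u' hu'), ← hP, ← hN, hNP1]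
    rfl
  have hcu : ∀ u' : W, N u' = 0 → φ u' • u = c • u' := by
    intro u' hu'
    rw [← hSker u' hu', hST, LinearMap.add_apply, htr0 T u' hu', add_zero]
    rfl
  have hune : u ≠ 0 := hw
  have hc1 : c = 1 := by
    have h := hcu u hNu
    rw [hφu, one_smul] at h
    have h2 : (1 - c) • u = 0 := by rw [sub_smul, one_smul, ← h, sub_self]
    rcases smul_eq_zero.mp h2 with h3 | h3
    · exact (sub_eq_zero.mp h3).symm
    · exact absurd h3 hune
  -- `ker N` is spanned by `u`
  have hker1 : finrank K (LinearMap.ker N) ≤ 1 := by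
    have hle : LinearMap.ker N ≤ Submodule.span K {u} := by
      intro u' hu'
      rw [LinearMap.mem_ker] at hu'
      have h := hcu u' hu'
      rw [hc1, one_smul] at h
      rw [← h]
      exact Submodule.smul_mem _ _ (Submodule.mem_span_singleton_self u)
    calc finrank K (LinearMap.ker N) ≤ finrank K (Submodule.span K {u}) :=
          Submodule.finrank_mono hle
      _ ≤ 1 := by
          rw [finrank_span_singleton hune]
  -- the dimension of `W`
  have hdim_le : finrank K W ≤ s' + 1 := by
    have h := finrank_ker_pow_le N hker1 (s' + 1)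
    rw [hs, LinearMap.ker_zero, finrank_top] at h
    exact h
  have hdim_ge : s' + 1 ≤ finrank K W := by
    -- strictly increasing chain of kernels
    have hstrict : ∀ k, k ≤ s' + 1 → k ≤ finrank K (LinearMap.ker (N ^ k)) := by
      intro k
      induction k with
      | zero => intro _; exact Nat.zero_le _
      | succ k ih =>
        intro hk
        have hk' := ih (by omega)
        have hle : LinearMap.ker (N ^ k) ≤ LinearMap.ker (N ^ (k + 1)) := by
          intro v hv
          rw [LinearMap.mem_ker] at hv ⊢
          rw [pow_succ', Module.End.mul_apply, hv, map_zero]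
        have hne' : LinearMap.ker (N ^ k) ≠ LinearMap.ker (N ^ (k + 1)) := by
          intro heq
          have hconst := Module.End.ker_pow_constant heq (s' + 1 - k)
          have hk2 : k + (s' + 1 - k) = s' + 1 := by omega
          rw [hk2, hs, LinearMap.ker_zero] at hconst
          have : N ^ k = 0 := by
            apply LinearMap.ext
            intro v
            have hv : v ∈ LinearMap.ker (N ^ k) := by rw [hconst]; trivial
            exact hv
          exact hmin k (by omega) this
        have hlt := Submodule.finrank_lt_finrank_of_lt (lt_of_le_of_ne hle hne')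
        omega
    have h := hstrict (s' + 1) le_rfl
    rw [hs, LinearMap.ker_zero, finrank_top] at h
    exact h
  refine ⟨le_antisymm hdim_le hdim_ge, ?_⟩
  -- the nilpotency index is `1` or `P - 1`
  by_contra hcon
  push_neg at hcon
  obtain ⟨hcon1, hcon2⟩ := hcon
  have hs2 : 1 ≤ s' := by omega
  have hsP2 : s' + 1 + 2 ≤ P := by omega
  -- `N` is a trace
  obtain ⟨c', T', hNT⟩ := hI N hNa
  have hc0 : c' = 0 := by
    have h1 : N u = c' • u + trc a b P T' u := by
      conv_lhs => rw [hNT]
      rfl
    rw [hNu, htr0 T' u hNu, add_zero] at h1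
    rcases smul_eq_zero.mp h1.symm with h | h
    · exact h
    · exact absurd h hune
  rw [hc0, zero_smul, zero_add] at hNT
  -- `N ^ s' = trc (N ^ (s' - 1) * T')`
  have hpow : N ^ s' = trc a b P (N ^ (s' - 1) * T') := by
    have h1 : N ^ s' = N ^ (s' - 1) * N := by
      rw [← pow_succ, Nat.sub_add_cancel hs2]
    rw [h1]
    have h2 : N ^ (s' - 1) * N = N ^ (s' - 1) * trc a b P T' := by rw [← hNT]
    rw [h2]
    exact trc_mul_left a b P _ _ (hNa.pow_left _)
  -- the trace as an operator
  set La : Module.End K (Module.End K W) := LinearMap.mulLeft K a with hLa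
  set Rb : Module.End K (Module.End K W) := LinearMap.mulRight K b with hRb
  set LN : Module.End K (Module.End K W) := LinearMap.mulLeft K N with hLN
  set RN' : Module.End K (Module.End K W) := LinearMap.mulRight K (b - 1) with hRN'
  have hcommLR : ∀ x y : Module.End K W,
      Commute (LinearMap.mulLeft K x) (LinearMap.mulRight K y) :=
    fun x y => LinearMap.commute_mulLeft_right x y
  have htrop : ∀ T₀ : Module.End K W, trc a b P T₀ = ((La * Rb - 1) ^ (P - 1)) T₀ := by
    intro T₀
    rw [hP, ← geom_sum_eq K (La * Rb) n, LinearMap.sum_apply]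
    unfold trc
    refine Finset.sum_congr rfl fun i _ => ?_
    rw [(hcommLR a b).mul_pow, Module.End.mul_apply, LinearMap.pow_mulLeft,
      LinearMap.pow_mulRight, LinearMap.mulRight_apply, LinearMap.mulLeft_apply, mul_assoc]
  set Y : Module.End K (Module.End K W) := RN' * La with hY
  have hXY : La * Rb - 1 = LN + Y := by
    apply LinearMap.ext
    intro z
    simp only [hY, LinearMap.sub_apply, Module.End.mul_apply,
      LinearMap.add_apply, LinearMap.mulLeft_apply, LinearMap.mulRight_apply, Module.End.one_apply,
      La, Rb, LN, RN']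
    rw [hN]
    noncomm_ring
  have hcXY : Commute LN Y := by
    rw [hY]
    have h1 : Commute LN RN' := hcommLR N (b - 1)
    have h2 : Commute LN La := by
      apply LinearMap.ext
      intro z
      simp only [Module.End.mul_apply, LinearMap.mulLeft_apply, La, LN]
      rw [← mul_assoc, ← mul_assoc, hNa.eq]
    exact h1.mul_right h2
  have hXs : ∀ m, s' + 1 ≤ m → LN ^ m = 0 := by
    intro m hm
    have h0 : N ^ m = 0 := by
      have : m = (s' + 1) + (m - (s' + 1)) := by omega
      rw [this, pow_add, hs, zero_mul]
    show (LinearMap.mulLeft K N) ^ m = 0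
    rw [LinearMap.pow_mulLeft, h0]
    exact LinearMap.mulLeft_zero_eq_zero K _
  have hN's : (b - 1) ^ (s' + 1) = 0 := by
    have h1 : b - 1 = -(b * N) := by
      rw [hN, mul_sub, hba, mul_one]
      abel
    have hbN : Commute b N := hNb.symm
    rw [h1, neg_pow, hbN.mul_pow, hs, mul_zero, mul_zero]
  have hYs : ∀ m, s' + 1 ≤ m → Y ^ m = 0 := by
    intro m hm
    have hc : Commute RN' La := (hcommLR a (b - 1)).symm
    have h0 : (b - 1) ^ m = 0 := by
      have : m = (s' + 1) + (m - (s' + 1)) := by omega
      rw [this, pow_add, hN's, zero_mul]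
    rw [hY, hc.mul_pow]
    have : RN' ^ m = 0 := by
      show (LinearMap.mulRight K (b - 1)) ^ m = 0
      rw [LinearMap.pow_mulRight, h0]
      exact LinearMap.mulRight_zero_eq_zero K _
    rw [this, zero_mul]
  have hzero : trc a b P (N ^ (s' - 1) * T') = 0 := by
    rw [htrop, hXY, hcXY.add_pow, LinearMap.sum_apply]
    apply Finset.sum_eq_zero
    intro m hm
    rw [Finset.mem_range] at hm
    have hT : N ^ (s' - 1) * T' = (LN ^ (s' - 1)) T' := by
      show _ = ((LinearMap.mulLeft K N) ^ (s' - 1)) T'
      rw [LinearMap.pow_mulLeft]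
      rfl
    rw [hT]
    by_cases hm2 : 2 ≤ m
    · -- `LN ^ (m + s' - 1) = 0`
      have h1 : (LN ^ m * Y ^ (P - 1 - m) * ((P - 1).choose m : Module.End K (Module.End K W)))
          ((LN ^ (s' - 1)) T')
          = ((Y ^ (P - 1 - m) * ((P - 1).choose m : Module.End K (Module.End K W))) *
              LN ^ (m + (s' - 1))) T' := by
        have hc1 : Commute (LN ^ m) (Y ^ (P - 1 - m) *
            ((P - 1).choose m : Module.End K (Module.End K W))) :=
          ((hcXY.pow_pow _ _).mul_right (Nat.cast_commute _ _).symm)
        rw [mul_assoc, hc1.eq, pow_add]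
        simp only [Module.End.mul_apply]
      rw [h1, hXs _ (by omega), mul_zero]
      rfl
    · have h2 : Y ^ (P - 1 - m) = 0 := hYs _ (by omega)
      rw [h2, mul_zero, zero_mul]
      rfl
  rw [hzero] at hpow
  exact hmin s' (by omega) hpow

end Cfsg.Agent.Helper4.ThB
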