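import Mathlib
import Cfsg.Agent.Lib.Helper4.ThBLin

/-!
# Fourier inversion for an irreducible linear group and the centraliser of a normalising element
(helper4)
-/

set_option autoImplicit false
set_option linter.unusedSectionVars false

namespace Cfsg.Agent.Helper4.ThB

open Module

variable {K : Type*} [Field K] {V : Type*} [AddCommGroup V] [Module K V]

/-- the operator of a linear automorphism -/
abbrev op (g : V ≃ₗ[K] V) : Module.End K V := (g : V →ₗ[K] V)

theorem op_mul (g h : V ≃ₗ[K] V) : op (g * h) = op g * op h := rfl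

theorem op_one : op (1 : V ≃ₗ[K] V) = 1 := rfl

theorem op_pow (g : V ≃ₗ[K] V) (k : ℕ) : op (g ^ k) = op g ^ k :=
  map_pow (LinearEquiv.automorphismGroup.toLinearMapMonoidHom) g k

theorem op_inv_mul (g : V ≃ₗ[K] V) : op g⁻¹ * op g = 1 := by
  rw [← op_mul, inv_mul_cancel, op_one]

theorem op_mul_inv (g : V ≃ₗ[K] V) : op g * op g⁻¹ = 1 := by
  rw [← op_mul, mul_inv_cancel, op_one]

theorem op_apply (g : V ≃ₗ[K] V) (v : V) : op g v = g v := rfl

theorem op_injective : Function.Injective (op : (V ≃ₗ[K] V) → Module.End K V) := by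
  intro g h hgh
  apply LinearEquiv.ext
  intro v
  have := congrArg (fun f : Module.End K V => f v) hgh
  exact this

/-- a set of automorphisms acting irreducibly -/
def Irr (S : Set (V ≃ₗ[K] V)) : Prop :=
  ∀ U : Submodule K V, (∀ g ∈ S, ∀ v ∈ U, g v ∈ U) → U = ⊥ ∨ U = ⊤

section schur

variable [IsAlgClosed K] [FiniteDimensional K V] [Nontrivial V]

/-- Schur's lemma -/
theorem schur {S : Set (V ≃ₗ[K] V)} (hirr : Irr S) (T : Module.End K V)
    (hT : ∀ g ∈ S, T * op g = op g * T) : ∃ c : K, T = c • (1 : Module.End K V) := by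
  obtain ⟨c, hc⟩ := Module.End.exists_eigenvalue T
  refine ⟨c, ?_⟩
  have hU : Module.End.eigenspace T c ≠ ⊥ := hc
  have hinv : ∀ g ∈ S, ∀ v ∈ Module.End.eigenspace T c, g v ∈ Module.End.eigenspace T c := by
    intro g hg v hv
    rw [Module.End.mem_eigenspace_iff] at hv ⊢
    have h1 : T (g v) = (T * op g) v := rfl
    rw [h1, hT g hg, Module.End.mul_apply, hv, map_smul]
    rfl
  rcases hirr _ hinv with h | h
  · exact absurd h hU
  · apply LinearMap.ext
    intro v
    have hv : v ∈ Module.End.eigenspace T c := by rw [h]; trivial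
    rw [Module.End.mem_eigenspace_iff] at hv
    rw [hv]
    rfl

end schur

section fourier

variable [IsAlgClosed K] [FiniteDimensional K V] [Nontrivial V]
variable (Q : Subgroup (V ≃ₗ[K] V)) [Finite Q]

/-- the elements of `Q` as a finset -/
noncomputable def fin : Finset (V ≃ₗ[K] V) := (Set.toFinite (Q : Set (V ≃ₗ[K] V))).toFinset

theorem mem_fin {g : V ≃ₗ[K] V} : g ∈ fin Q ↔ g ∈ Q := by
  unfold fin
  rw [Set.Finite.mem_toFinset]
  rfl

theorem card_fin : (fin Q).card = Nat.card Q := by
  unfold fin
  rw [← Set.ncard_eq_toFinset_card (Q : Set (V ≃ₗ[K] V))]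
  rfl

/-- reindexing by left translation -/
theorem sum_fin_mul_left {M : Type*} [AddCommMonoid M] (f : (V ≃ₗ[K] V) → M) (h : V ≃ₗ[K] V)
    (hh : h ∈ Q) : ∑ g ∈ fin Q, f (h * g) = ∑ g ∈ fin Q, f g := by
  apply Finset.sum_equiv (Equiv.mulLeft h)
  · intro g
    rw [mem_fin, mem_fin]
    exact ⟨fun hg => Q.mul_mem hh hg, fun hg => by
      have := Q.mul_mem (Q.inv_mem hh) hg
      simpa using this⟩
  · intro g _
    rfl

/-- the average of the conjugates -/
noncomputable def avg (S : Module.End K V) : Module.End K V :=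
  ∑ g ∈ fin Q, op g * S * op g⁻¹

theorem avg_comm (S : Module.End K V) (h : V ≃ₗ[K] V) (hh : h ∈ Q) :
    avg Q S * op h = op h * avg Q S := by
  unfold avg
  rw [Finset.sum_mul, Finset.mul_sum]
  rw [← sum_fin_mul_left Q (fun g => op g * S * op g⁻¹ * op h) h hh]
  refine Finset.sum_congr rfl fun g _ => ?_
  have e1 : op (h * g)⁻¹ * op h = op g⁻¹ := by
    rw [← op_mul]
    congr 1
    group
  rw [mul_assoc (op (h * g) * S), e1, op_mul]
  simp only [mul_assoc]

theorem trace_avg (S : Module.End K V) :
    LinearMap.trace K V (avg Q S) = (Nat.card Q : K) * LinearMap.trace K V S := by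
  unfold avg
  rw [map_sum]
  have : ∀ g ∈ fin Q, LinearMap.trace K V (op g * S * op g⁻¹) = LinearMap.trace K V S := by
    intro g _
    rw [LinearMap.trace_mul_comm, ← mul_assoc, op_inv_mul, one_mul]
  rw [Finset.sum_congr rfl this, Finset.sum_const, card_fin, nsmul_eq_mul]

variable (hirr : Irr (Q : Set (V ≃ₗ[K] V)))

include hirr in
theorem avg_eq (S : Module.End K V) :
    (finrank K V : K) • avg Q S = ((Nat.card Q : K) * LinearMap.trace K V S) • (1 : Module.End K V) := by
  obtain ⟨c, hc⟩ := schur hirr (avg Q S) (fun g hg => avg_comm Q S g hg)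
  have h1 := trace_avg Q S
  rw [hc, map_smul, LinearMap.trace_one, smul_eq_mul] at h1
  rw [hc, smul_smul, mul_comm, h1]

include hirr in
theorem finrank_ne_zero (hQ : (Nat.card Q : K) ≠ 0) : (finrank K V : K) ≠ 0 := by
  intro hd
  obtain ⟨v, hv⟩ := exists_ne (0 : V)
  obtain ⟨φ₀, hφ₀⟩ : ∃ φ : Module.Dual K V, φ v ≠ 0 := by
    by_contra h
    push_neg at h
    exact hv ((Module.forall_dual_apply_eq_zero_iff K v).1 h)
  have h := avg_eq Q hirr (φ₀.smulRight v)
  rw [hd, zero_smul, LinearMap.trace_smulRight] at h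
  have h2 := congrArg (fun f : Module.End K V => f v) h
  simp only [LinearMap.zero_apply, LinearMap.smul_apply, Module.End.one_apply] at h2
  rcases smul_eq_zero.mp h2.symm with h3 | h3
  · rcases mul_eq_zero.mp h3 with h4 | h4
    · exact hQ h4
    · exact hφ₀ h4
  · exact hv h3

/-- the Fourier transform -/
noncomputable def four (T : Module.End K V) : Module.End K V :=
  ∑ g ∈ fin Q, (LinearMap.trace K V (T * op g⁻¹)) • op g

theorem four_add (T₁ T₂ : Module.End K V) : four Q (T₁ + T₂) = four Q T₁ + four Q T₂ := by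
  unfold four
  rw [← Finset.sum_add_distrib]
  refine Finset.sum_congr rfl fun g _ => ?_
  rw [add_mul, map_add, add_smul]

theorem four_sum {ι : Type*} (s : Finset ι) (T : ι → Module.End K V) :
    four Q (∑ i ∈ s, T i) = ∑ i ∈ s, four Q (T i) := by
  classical
  induction s using Finset.induction_on with
  | empty =>
    simp only [Finset.sum_empty]
    unfold four
    simp
  | insert i s hi ih =>
    rw [Finset.sum_insert hi, Finset.sum_insert hi, four_add, ih]

include hirr in
theorem four_rank_one (φ : Module.Dual K V) (v : V) :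
    (finrank K V : K) • four Q (φ.smulRight v) = (Nat.card Q : K) • φ.smulRight v := by
  apply LinearMap.ext
  intro w
  have h := avg_eq Q hirr (φ.smulRight w)
  rw [LinearMap.trace_smulRight] at h
  have h2 := congrArg (fun f : Module.End K V => f v) h
  simp only [LinearMap.smul_apply, Module.End.one_apply] at h2
  rw [LinearMap.smul_apply, LinearMap.smul_apply, LinearMap.smulRight_apply]
  have e : four Q (φ.smulRight v) w = avg Q (φ.smulRight w) v := by
    unfold four avg
    rw [LinearMap.sum_apply, LinearMap.sum_apply]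
    refine Finset.sum_congr rfl fun g _ => ?_
    have e1 : (φ.smulRight v : Module.End K V) * op g⁻¹ = (φ.comp (op g⁻¹)).smulRight v := by
      apply LinearMap.ext
      intro z
      rfl
    rw [e1, LinearMap.trace_smulRight, LinearMap.smul_apply, Module.End.mul_apply,
      Module.End.mul_apply, LinearMap.smulRight_apply, map_smul]
    rfl
  rw [e, h2, mul_smul]

include hirr in
/-- **Fourier inversion.** -/
theorem fourier (hQ : (Nat.card Q : K) ≠ 0) (T : Module.End K V) :
    T = ((finrank K V : K) / (Nat.card Q : K)) • four Q T := by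
  classical
  have hd := finrank_ne_zero Q hirr hQ
  set b := Module.finBasis K V with hb
  have hT : T = ∑ i, (b.coord i).smulRight (T (b i)) := by
    apply LinearMap.ext
    intro v
    rw [LinearMap.sum_apply]
    conv_lhs => rw [← b.sum_repr v, map_sum]
    refine Finset.sum_congr rfl fun i _ => ?_
    rw [map_smul, LinearMap.smulRight_apply]
    rfl
  have key : ∀ (φ : Module.Dual K V) (v : V),
      φ.smulRight v = ((finrank K V : K) / (Nat.card Q : K)) • four Q (φ.smulRight v) := by
    intro φ v
    have h := four_rank_one Q hirr φ v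
    rw [div_eq_inv_mul, mul_smul, h, smul_smul, inv_mul_cancel₀ hQ, one_smul]
  conv_lhs => rw [hT]
  conv_rhs => rw [hT, four_sum, Finset.smul_sum]
  exact Finset.sum_congr rfl fun i _ => key _ _

end fourier

end Cfsg.Agent.Helper4.ThB
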