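import Mathlib
import Cfsg.Agent.Lib.Helper4.ThBFourier

/-!
# Base change of linear automorphisms along a field extension (helper4)
-/

set_option autoImplicit false
set_option linter.unusedSectionVars false

namespace Cfsg.Agent.Helper4.ThB

open Module TensorProduct

variable {F : Type*} [Field F] (K : Type*) [Field K] [Algebra F K]
variable {V : Type*} [AddCommGroup V] [Module F V]

/-- base change of linear automorphisms -/
noncomputable def bcHom : (V ≃ₗ[F] V) →* ((K ⊗[F] V) ≃ₗ[K] (K ⊗[F] V)) :=
  (LinearMap.GeneralLinearGroup.generalLinearEquiv K (K ⊗[F] V)).toMonoidHom.comp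
    ((Units.map (Module.End.baseChangeHom F K V).toMonoidHom).comp
      (LinearMap.GeneralLinearGroup.generalLinearEquiv F V).symm.toMonoidHom)

theorem op_bcHom (g : V ≃ₗ[F] V) :
    op (bcHom K g) = Module.End.baseChangeHom F K V (op g) := rfl

theorem baseChangeHom_injective : Function.Injective (Module.End.baseChangeHom F K V) := by
  rw [injective_iff_map_eq_zero]
  intro f hf
  apply LinearMap.ext
  intro v
  have h1 : (Module.End.baseChangeHom F K V f) ((1 : K) ⊗ₜ[F] v) = 0 := by rw [hf]; rfl
  have h2 : (Module.End.baseChangeHom F K V f) ((1 : K) ⊗ₜ[F] v) = (1 : K) ⊗ₜ[F] f v :=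
    LinearMap.baseChange_tmul f 1 v
  rw [h2, Module.FaithfullyFlat.one_tmul_eq_zero_iff] at h1
  exact h1

theorem bcHom_injective : Function.Injective (bcHom K : (V ≃ₗ[F] V) → _) := by
  intro g h hgh
  apply op_injective
  apply baseChangeHom_injective K
  rw [← op_bcHom, ← op_bcHom, hgh]

theorem op_bcHom_sub_one_pow (g : V ≃ₗ[F] V) (r : ℕ) :
    (op (bcHom K g) - 1) ^ r = Module.End.baseChangeHom F K V ((op g - 1) ^ r) := by
  rw [op_bcHom, map_pow, map_sub, map_one]

end Cfsg.Agent.Helper4.ThB
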