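import Mathlib

/-!
# Group theory of the minimal configuration in Hall–Higman's Theorem B (helper4)
-/

set_option autoImplicit false
set_option linter.unusedSectionVars false
set_option linter.style.haveILetI false

namespace Cfsg.Agent.Helper4.ThB

open scoped commutatorElement

variable {Γ : Type*} [Group Γ]

theorem conj_pow_mem (Q : Subgroup Γ) (a : Γ) (ha : ∀ g ∈ Q, a * g * a⁻¹ ∈ Q) (i : ℕ) :
    ∀ g ∈ Q, a ^ i * g * (a ^ i)⁻¹ ∈ Q := by
  induction i with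
  | zero => intro g hg; simpa using hg
  | succ i ih =>
    intro g hg
    have := ha _ (ih g hg)
    have e : a * (a ^ i * g * (a ^ i)⁻¹) * a⁻¹ = a ^ (i + 1) * g * (a ^ (i + 1))⁻¹ := by
      rw [pow_succ']
      group
    rw [e] at this
    exact this

theorem conj_inv_mem (Q : Subgroup Γ) (a : Γ) (ha : ∀ g ∈ Q, a * g * a⁻¹ ∈ Q) (P : ℕ)
    (hP : 0 < P) (haP : a ^ P = 1) : ∀ g ∈ Q, a⁻¹ * g * a ∈ Q := by
  intro g hg
  have h := conj_pow_mem Q a ha (P - 1) g hg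
  have e : a ^ (P - 1) = a⁻¹ := by
    have : a ^ (P - 1) * a = 1 := by
      rw [← pow_succ, Nat.sub_add_cancel hP, haP]
    exact eq_inv_of_mul_eq_one_left this
  rw [e, inv_inv] at h
  exact h

/-- if `g` commutes with `a ^ i`, `0 < i < p ^ n`, and `a ^ (p ^ n) = 1`, then `g` commutes with
`a ^ (p ^ (n - 1))` -/
theorem commute_top_power {p : ℕ} [hp : Fact p.Prime] (a g : Γ) (n : ℕ) (haP : a ^ (p ^ n) = 1)
    (i : ℕ) (hi0 : 0 < i) (hiP : i < p ^ n) (hc : Commute (a ^ i) g) :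
    Commute (a ^ (p ^ (n - 1))) g := by
  set d := Nat.gcd i (p ^ n) with hd
  have hdd : d ∣ p ^ n := Nat.gcd_dvd_right _ _
  obtain ⟨l, hln, hdl⟩ := (Nat.dvd_prime_pow hp.out).mp hdd
  have hdi : d ≤ i := Nat.le_of_dvd hi0 (Nat.gcd_dvd_left _ _)
  have hl : l < n := by
    by_contra h
    have : l = n := by omega
    rw [this] at hdl
    omega
  -- `a ^ d` commutes with `g`
  have hcd : Commute (a ^ d) g := by
    have hb := Nat.gcd_eq_gcd_ab i (p ^ n)
    have h1 : a ^ (d : ℤ) = (a ^ i) ^ (Nat.gcdA i (p ^ n)) := by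
      rw [hd, hb, zpow_add, zpow_mul, zpow_mul, zpow_natCast, zpow_natCast, haP, one_zpow, mul_one]
    rw [← zpow_natCast, h1]
    exact hc.zpow_left _
  have e : a ^ (p ^ (n - 1)) = (a ^ d) ^ (p ^ (n - 1 - l)) := by
    rw [← pow_mul, hdl, ← pow_add]
    congr 2
    omega
  rw [e]
  exact hcd.pow_left _

/-- quadratic coprime action is trivial (elementwise form) -/
theorem commute_of_quad {p q : ℕ} [hp : Fact p.Prime] [hq : Fact q.Prime] (hpq : p ≠ q)
    (Q : Subgroup Γ) (hQ : IsPGroup q Q) (y : Γ) (e : ℕ) (hy : y ^ (p ^ e) = 1)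
    (g : Γ) (hc : g * y * g⁻¹ * y⁻¹ ∈ Q) (hcomm : Commute (g * y * g⁻¹ * y⁻¹) y) :
    Commute y g := by
  set c := g * y * g⁻¹ * y⁻¹ with hcdef
  have hconj : g * y * g⁻¹ = c * y := by rw [hcdef]; group
  have h1 : (g * y * g⁻¹) ^ (p ^ e) = 1 := by
    rw [conj_pow, hy]; group
  rw [hconj, hcomm.mul_pow, hy, mul_one] at h1
  obtain ⟨m, hm⟩ := hQ ⟨c, hc⟩
  have hm' : c ^ (q ^ m) = 1 := by
    have := congrArg Subtype.val hm
    simpa using this
  have h2 : orderOf c ∣ p ^ e := orderOf_dvd_of_pow_eq_one h1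
  have h3 : orderOf c ∣ q ^ m := orderOf_dvd_of_pow_eq_one hm'
  have hcop : Nat.Coprime (p ^ e) (q ^ m) :=
    Nat.Coprime.pow _ _ ((Nat.coprime_primes hp.out hq.out).mpr hpq)
  have h4 : orderOf c = 1 := Nat.eq_one_of_dvd_coprimes hcop h2 h3
  have h5 : c = 1 := orderOf_eq_one_iff.mp h4
  have h6 : g * y * g⁻¹ = y := by rw [hconj, h5, one_mul]
  show y * g = g * y
  calc y * g = (g * y * g⁻¹) * g := by rw [h6]
    _ = g * y := by group

/-- **The minimal configuration is critical.** -/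
theorem critical_of_minimal {p q : ℕ} [hp : Fact p.Prime] [hq : Fact q.Prime] (hpq : p ≠ q)
    (Q : Subgroup Γ) [Finite Q] (hQ : IsPGroup q Q) (a : Γ) (ha : ∀ g ∈ Q, a * g * a⁻¹ ∈ Q)
    (n : ℕ) (hn : 1 ≤ n) (haP : a ^ (p ^ n) = 1)
    (hy : ∃ g ∈ Q, a ^ (p ^ (n - 1)) * g ≠ g * a ^ (p ^ (n - 1)))
    (hmin : ∀ Q₀ : Subgroup Γ, Q₀ ≤ Q → Q₀ ≠ Q → (∀ g ∈ Q₀, a * g * a⁻¹ ∈ Q₀) →
      ∀ g ∈ Q₀, a ^ (p ^ (n - 1)) * g = g * a ^ (p ^ (n - 1))) :
    ∀ g ∈ Q, ∀ i, 0 < i → i < p ^ n → a ^ i * g * (a ^ i)⁻¹ = g → ∀ h ∈ Q, g * h = h * g := by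
  set y := a ^ (p ^ (n - 1)) with hydef
  have hPpos : 0 < p ^ n := pos_of_ne_zero (pow_ne_zero _ hp.out.ne_zero)
  have ha' := conj_inv_mem Q a ha (p ^ n) hPpos haP
  have hay : Commute a y := (Commute.refl a).pow_right _
  have hyP : y ^ (p ^ 1) = 1 := by
    rw [hydef, ← pow_mul, pow_one, ← pow_succ, Nat.sub_add_cancel hn, haP]
  have hyQ : ∀ g ∈ Q, y * g * y⁻¹ ∈ Q := conj_pow_mem Q a ha _
  have hyQ' : ∀ g ∈ Q, y⁻¹ * g * y ∈ Q := conj_inv_mem Q y hyQ (p ^ 1)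
    (pos_of_ne_zero (pow_ne_zero _ hp.out.ne_zero)) hyP
  -- conjugation by `a` as a homomorphism
  set κ : Γ →* Γ := (MulAut.conj a).toMonoidHom with hκ
  have hκapp : ∀ g, κ g = a * g * a⁻¹ := fun g => rfl
  have hκQ : Q.map κ ≤ Q := by
    rintro _ ⟨g, hg, rfl⟩
    exact ha g hg
  have hκy : (Subgroup.zpowers y).map κ = Subgroup.zpowers y := by
    rw [MonoidHom.map_zpowers, hκapp]
    congr 1
    calc a * y * a⁻¹ = y * a * a⁻¹ := by rw [hay.eq]
      _ = y := by group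
  -- the derived subgroup
  have hQne : Q ≠ ⊥ := by
    rintro rfl
    obtain ⟨g, hg, hne⟩ := hy
    rw [Subgroup.mem_bot] at hg
    subst hg
    exact hne (by simp)
  have hder_le : ⁅Q, Q⁆ ≤ Q := by
    rw [Subgroup.commutator_le]
    intro g₁ h₁ g₂ h₂
    exact Q.mul_mem (Q.mul_mem (Q.mul_mem h₁ h₂) (Q.inv_mem h₁)) (Q.inv_mem h₂)
  have hder_ne : ⁅Q, Q⁆ ≠ Q := by
    intro h
    haveI : Nontrivial Q := (Subgroup.nontrivial_iff_ne_bot Q).mpr hQne
    haveI : Group.IsNilpotent Q := hQ.isNilpotent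
    have h1 := Group.IsSolvable.commutator_lt_top_of_nontrivial Q
    have h2 : (commutator Q).map Q.subtype = (⊤ : Subgroup Q).map Q.subtype := by
      rw [Subgroup.map_subtype_commutator, h]
      ext z
      constructor
      · intro hz; exact ⟨⟨z, hz⟩, trivial, rfl⟩
      · rintro ⟨w, _, rfl⟩; exact w.2
    have h3 := Subgroup.map_injective Q.subtype_injective h2
    exact h1.ne h3
  have hder_inv : ∀ g ∈ ⁅Q, Q⁆, a * g * a⁻¹ ∈ ⁅Q, Q⁆ := by
    intro g hg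
    have h1 : κ g ∈ (⁅Q, Q⁆).map κ := ⟨g, hg, rfl⟩
    rw [Subgroup.map_commutator] at h1
    exact Subgroup.commutator_mono hκQ hκQ h1
  have hder_y : ∀ g ∈ ⁅Q, Q⁆, y * g = g * y := hmin _ hder_le hder_ne hder_inv
  -- `[Q, y] = Q`
  have hD_le : ⁅Q, Subgroup.zpowers y⁆ ≤ Q := by
    rw [Subgroup.commutator_le]
    intro g₁ h₁ g₂ h₂
    obtain ⟨k, rfl⟩ := Subgroup.mem_zpowers_iff.mp h₂
    rw [commutatorElement_def]
    have h3 : y ^ k * g₁⁻¹ * (y ^ k)⁻¹ ∈ Q := by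
      have hz : ∀ k : ℤ, ∀ g ∈ Q, y ^ k * g * (y ^ k)⁻¹ ∈ Q := by
        intro k
        induction k using Int.induction_on with
        | zero => intro g hg; simpa using hg
        | succ k ih =>
          intro g hg
          have := hyQ _ (ih g hg)
          have e : y * (y ^ (k : ℤ) * g * (y ^ (k : ℤ))⁻¹) * y⁻¹
              = y ^ ((k : ℤ) + 1) * g * (y ^ ((k : ℤ) + 1))⁻¹ := by
            rw [zpow_add_one]; group
          rw [e] at this
          exact this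
        | pred k ih =>
          intro g hg
          have := hyQ' _ (ih g hg)
          have e : y⁻¹ * (y ^ (-(k : ℤ)) * g * (y ^ (-(k : ℤ)))⁻¹) * y
              = y ^ (-(k : ℤ) - 1) * g * (y ^ (-(k : ℤ) - 1))⁻¹ := by
            rw [zpow_sub_one]; group
          rw [e] at this
          exact this
      exact hz k _ (Q.inv_mem h₁)
    have e : g₁ * y ^ k * g₁⁻¹ * (y ^ k)⁻¹ = g₁ * (y ^ k * g₁⁻¹ * (y ^ k)⁻¹) := by group
    rw [e]
    exact Q.mul_mem h₁ h3
  have hD_inv : ∀ g ∈ ⁅Q, Subgroup.zpowers y⁆, a * g * a⁻¹ ∈ ⁅Q, Subgroup.zpowers y⁆ := by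
    intro g hg
    have h1 : κ g ∈ (⁅Q, Subgroup.zpowers y⁆).map κ := ⟨g, hg, rfl⟩
    rw [Subgroup.map_commutator, hκy] at h1
    exact Subgroup.commutator_mono hκQ le_rfl h1
  have hD_eq : ⁅Q, Subgroup.zpowers y⁆ = Q := by
    by_contra hne
    have hDy := hmin _ hD_le hne hD_inv
    obtain ⟨g, hg, hgy⟩ := hy
    apply hgy
    have hc : g * y * g⁻¹ * y⁻¹ ∈ ⁅Q, Subgroup.zpowers y⁆ := by
      have := Subgroup.commutator_mem_commutator hg (Subgroup.mem_zpowers y)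
      rw [commutatorElement_def] at this
      exact this
    have hcomm : Commute (g * y * g⁻¹ * y⁻¹) y := (hDy _ hc).symm
    exact (commute_of_quad hpq Q hQ y 1 hyP g (hD_le hc) hcomm).eq
  -- the centraliser of `y` in `Q`
  set R : Subgroup Γ := Q ⊓ Subgroup.centralizer (Subgroup.zpowers y : Set Γ) with hR
  have h1 : ⁅⁅Subgroup.zpowers y, R⁆, Q⁆ = ⊥ := by
    have : ⁅Subgroup.zpowers y, R⁆ = ⊥ := by
      rw [Subgroup.commutator_comm, Subgroup.commutator_eq_bot_iff_le_centralizer]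
      exact inf_le_right
    rw [this, Subgroup.commutator_bot_left]
  have h2 : ⁅⁅R, Q⁆, Subgroup.zpowers y⁆ = ⊥ := by
    rw [Subgroup.commutator_eq_bot_iff_le_centralizer]
    intro g hg
    have hg' : g ∈ ⁅Q, Q⁆ := Subgroup.commutator_mono inf_le_left le_rfl hg
    show g ∈ Subgroup.centralizer (Subgroup.zpowers y : Set Γ)
    rw [Subgroup.mem_centralizer_iff]
    intro z hz
    obtain ⟨k, rfl⟩ := Subgroup.mem_zpowers_iff.mp hz
    have : Commute y g := hder_y g hg'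
    exact (this.zpow_left k).eq
  have h3 := Subgroup.commutator_commutator_eq_bot_of_rotate h1 h2
  rw [hD_eq, Subgroup.commutator_eq_bot_iff_le_centralizer] at h3
  -- conclusion
  intro g hg i hi0 hiP hcomm h hh
  have hci : Commute (a ^ i) g := by
    show a ^ i * g = g * a ^ i
    calc a ^ i * g = (a ^ i * g * (a ^ i)⁻¹) * a ^ i := by group
      _ = g * a ^ i := by rw [hcomm]
  have hyg : Commute y g := commute_top_power a g n haP i hi0 hiP hci
  have hgR : g ∈ R := by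
    refine ⟨hg, ?_⟩
    show g ∈ Subgroup.centralizer (Subgroup.zpowers y : Set Γ)
    rw [Subgroup.mem_centralizer_iff]
    intro z hz
    obtain ⟨k, rfl⟩ := Subgroup.mem_zpowers_iff.mp hz
    exact (hyg.zpow_left k).eq
  have := Subgroup.mem_centralizer_iff.mp (h3 hh) g hgR
  exact this

end Cfsg.Agent.Helper4.ThB
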