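import Mathlib
import Cfsg.Agent.Lib.Helper4.ThBFourier

/-!
# The Hall–Higman critical case for linear groups (helper4)
-/

set_option autoImplicit false
set_option linter.unusedSectionVars false

namespace Cfsg.Agent.Helper4.ThB

open Module

/-- sums over a finite set carrying a free action of a cyclic group of order `P` are traces -/
theorem orbit_sum_aux {α M : Type*} [DecidableEq α] [AddCommMonoid M] (κ : α → α)
    (hκ : Function.Injective κ) (τ : M →+ M) (F : α → M) (hF : ∀ g, F (κ g) = τ (F g))
    (P : ℕ) (hP : 0 < P) :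
    ∀ (m : ℕ) (R : Finset α), R.card = m → (∀ g ∈ R, κ g ∈ R) → (∀ g ∈ R, κ^[P] g = g) →
      (∀ g ∈ R, ∀ i, 0 < i → i < P → κ^[i] g ≠ g) →
      ∃ T : M, ∑ g ∈ R, F g = ∑ i ∈ Finset.range P, τ^[i] T := by
  intro m
  induction m using Nat.strong_induction_on with
  | _ m ih =>
    intro R hcard hcl hper hfree
    by_cases hR : R = ∅
    · refine ⟨0, ?_⟩
      rw [hR, Finset.sum_empty]
      symm
      have hz : ∀ i : ℕ, τ^[i] (0 : M) = 0 := by
        intro i
        induction i with
        | zero => rfl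
        | succ i ihi => rw [Function.iterate_succ_apply', ihi, map_zero]
      exact Finset.sum_eq_zero fun i _ => hz i
    obtain ⟨g, hg⟩ := Finset.nonempty_iff_ne_empty.mpr hR
    have hmemR : ∀ i : ℕ, κ^[i] g ∈ R := by
      intro i
      induction i with
      | zero => exact hg
      | succ i ihi => rw [Function.iterate_succ_apply']; exact hcl _ ihi
    set O : Finset α := (Finset.range P).image (fun i => κ^[i] g) with hO
    have hOR : O ⊆ R := by
      intro h hh
      rw [hO, Finset.mem_image] at hh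
      obtain ⟨i, _, rfl⟩ := hh
      exact hmemR i
    have hinj : Set.InjOn (fun i => κ^[i] g) (Finset.range P : Set ℕ) := by
      have key : ∀ i j : ℕ, i < j → j < P → κ^[i] g ≠ κ^[j] g := by
        intro i j hij hj heq
        have h1 : κ^[j] g = κ^[i] (κ^[j - i] g) := by
          rw [← Function.iterate_add_apply]
          congr 1
          omega
        rw [h1] at heq
        have h2 := (hκ.iterate i) heq
        exact hfree g hg (j - i) (by omega) (by omega) h2.symm
      intro i hi j hj heq
      simp only [Finset.coe_range, Set.mem_Iio] at hi hj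
      by_contra hne
      rcases lt_or_gt_of_ne hne with h | h
      · exact key i j h hj heq
      · exact key j i h hi heq.symm
    have hFi : ∀ i : ℕ, F (κ^[i] g) = τ^[i] (F g) := by
      intro i
      induction i with
      | zero => rfl
      | succ i ihi => rw [Function.iterate_succ_apply', Function.iterate_succ_apply', hF, ihi]
    have hsumO : ∑ h ∈ O, F h = ∑ i ∈ Finset.range P, τ^[i] (F g) := by
      rw [hO, Finset.sum_image hinj]
      exact Finset.sum_congr rfl fun i _ => hFi i
    -- the rest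
    have hcl' : ∀ h ∈ R \ O, κ h ∈ R \ O := by
      intro h hh
      rw [Finset.mem_sdiff] at hh ⊢
      refine ⟨hcl h hh.1, ?_⟩
      intro hmem
      apply hh.2
      rw [hO, Finset.mem_image] at hmem ⊢
      obtain ⟨i, hi, hik⟩ := hmem
      rw [Finset.mem_range] at hi
      rcases Nat.eq_zero_or_pos i with h0 | h0
      · subst h0
        refine ⟨P - 1, Finset.mem_range.mpr (by omega), ?_⟩
        apply hκ
        show κ (κ^[P - 1] g) = κ h
        rw [← Function.iterate_succ_apply' κ (P - 1) g, ← hik]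
        have : (P - 1).succ = P := by omega
        rw [this, hper g hg]
        rfl
      · refine ⟨i - 1, Finset.mem_range.mpr (by omega), ?_⟩
        apply hκ
        show κ (κ^[i - 1] g) = κ h
        rw [← Function.iterate_succ_apply' κ (i - 1) g, ← hik]
        have : (i - 1).succ = i := by omega
        rw [this]
    have hgO : g ∈ O := by
      rw [hO, Finset.mem_image]
      exact ⟨0, Finset.mem_range.mpr hP, rfl⟩
    have hlt : (R \ O).card < m := by
      rw [← hcard]
      apply Finset.card_lt_card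
      refine ⟨Finset.sdiff_subset, ?_⟩
      intro hsub
      have := hsub hg
      rw [Finset.mem_sdiff] at this
      exact this.2 hgO
    obtain ⟨T', hT'⟩ := ih _ hlt (R \ O) rfl hcl' (fun h hh => hper h (Finset.mem_sdiff.mp hh).1)
      (fun h hh => hfree h (Finset.mem_sdiff.mp hh).1)
    refine ⟨T' + F g, ?_⟩
    rw [← Finset.sum_sdiff hOR, hT', hsumO, ← Finset.sum_add_distrib]
    refine Finset.sum_congr rfl fun i _ => ?_
    have : ∀ (i : ℕ) (x y : M), τ^[i] (x + y) = τ^[i] x + τ^[i] y := by
      intro i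
      induction i with
      | zero => intro x y; rfl
      | succ i ihi =>
        intro x y
        rw [Function.iterate_succ_apply', Function.iterate_succ_apply', Function.iterate_succ_apply',
          ihi, map_add]
    rw [this]

variable {K : Type*} [Field K] {V : Type*} [AddCommGroup V] [Module K V]

/-- conjugation of operators by `a` as an additive map -/
def conjOp (a : V ≃ₗ[K] V) : Module.End K V →+ Module.End K V where
  toFun S := op a * S * op a⁻¹
  map_zero' := by simp
  map_add' S T := by rw [mul_add, add_mul]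

theorem conjOp_iterate (a : V ≃ₗ[K] V) (i : ℕ) (T : Module.End K V) :
    (conjOp a)^[i] T = op a ^ i * T * op a⁻¹ ^ i := by
  induction i with
  | zero => simp
  | succ i ih =>
    rw [Function.iterate_succ_apply', ih]
    show op a * (op a ^ i * T * op a⁻¹ ^ i) * op a⁻¹ = _
    rw [pow_succ', pow_succ]
    simp only [mul_assoc]

theorem conj_iterate (a g : V ≃ₗ[K] V) (i : ℕ) :
    (fun h => a * h * a⁻¹)^[i] g = a ^ i * g * (a ^ i)⁻¹ := by
  induction i with
  | zero => simp
  | succ i ih =>
    rw [Function.iterate_succ_apply', ih, pow_succ']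
    group

theorem trc_smul (a b : Module.End K V) (P : ℕ) (c : K) (T : Module.End K V) :
    trc a b P (c • T) = c • trc a b P T := by
  unfold trc
  rw [Finset.smul_sum]
  refine Finset.sum_congr rfl fun i _ => ?_
  rw [mul_smul_comm, smul_mul_assoc]

section main

variable [IsAlgClosed K] [FiniteDimensional K V] [Nontrivial V]
variable (Q : Subgroup (V ≃ₗ[K] V)) [Finite Q]

/-- the centraliser of a normalising element `a` in `End V`: scalars plus traces -/
theorem centralizer_eq (hirr : Irr (Q : Set (V ≃ₗ[K] V))) (hQ : (Nat.card Q : K) ≠ 0)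
    (a : V ≃ₗ[K] V) (ha : ∀ g ∈ Q, a * g * a⁻¹ ∈ Q) (P : ℕ) (hP : 0 < P) (haP : a ^ P = 1)
    (hfix : ∀ g ∈ Q, ∀ i, 0 < i → i < P → a ^ i * g * (a ^ i)⁻¹ = g →
      ∃ c : K, op g = c • (1 : Module.End K V))
    (S : Module.End K V) (hS : Commute S (op a)) :
    ∃ (c : K) (T : Module.End K V), S = c • (1 : Module.End K V) + trc (op a) (op a⁻¹) P T := by
  classical
  set κ : (V ≃ₗ[K] V) → (V ≃ₗ[K] V) := fun h => a * h * a⁻¹ with hκ
  have hκinj : Function.Injective κ := by
    intro g h hgh
    have : a * g * a⁻¹ = a * h * a⁻¹ := hgh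
    simpa using this
  set t : (V ≃ₗ[K] V) → K := fun g => LinearMap.trace K V (S * op g⁻¹) with ht
  set F : (V ≃ₗ[K] V) → Module.End K V := fun g => t g • op g with hF
  have htκ : ∀ g, t (κ g) = t g := by
    intro g
    show LinearMap.trace K V (S * op (a * g * a⁻¹)⁻¹) = LinearMap.trace K V (S * op g⁻¹)
    have e1 : (a * g * a⁻¹)⁻¹ = a * g⁻¹ * a⁻¹ := by group
    rw [e1, op_mul, op_mul, ← mul_assoc, ← mul_assoc, hS.eq, LinearMap.trace_mul_comm,
      ← mul_assoc, ← mul_assoc, op_inv_mul, one_mul]
  have hFκ : ∀ g, F (κ g) = conjOp a (F g) := by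
    intro g
    show t (κ g) • op (a * g * a⁻¹) = op a * (t g • op g) * op a⁻¹
    rw [htκ, op_mul, op_mul, mul_smul_comm, smul_mul_assoc]
  have hfour := fourier Q hirr hQ S
  have hsum : four Q S = ∑ g ∈ fin Q, F g := rfl
  set isFix : (V ≃ₗ[K] V) → Prop := fun g => ∃ i, 0 < i ∧ i < P ∧ κ^[i] g = g with hisFix
  rw [hsum, ← Finset.sum_filter_add_sum_filter_not (fin Q) isFix] at hfour
  -- the fixed part is a scalar
  have hscal : ∀ s : Finset (V ≃ₗ[K] V), (∀ g ∈ s, ∃ c : K, F g = c • (1 : Module.End K V)) →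
      ∃ c : K, ∑ g ∈ s, F g = c • (1 : Module.End K V) := by
    intro s
    induction s using Finset.induction_on with
    | empty => intro _; exact ⟨0, by simp⟩
    | insert g s hg ih =>
      intro h
      obtain ⟨c₁, hc₁⟩ := h g (Finset.mem_insert_self g s)
      obtain ⟨c₂, hc₂⟩ := ih (fun g' hg' => h g' (Finset.mem_insert_of_mem hg'))
      exact ⟨c₁ + c₂, by rw [Finset.sum_insert hg, hc₁, hc₂, add_smul]⟩
  obtain ⟨c₁, hc₁⟩ := hscal ((fin Q).filter isFix) (by
    intro g hg
    rw [Finset.mem_filter, mem_fin] at hg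
    obtain ⟨hgQ, i, hi0, hiP, hig⟩ := hg
    rw [hκ, conj_iterate] at hig
    obtain ⟨c, hc⟩ := hfix g hgQ i hi0 hiP hig
    exact ⟨t g * c, by show t g • op g = _; rw [hc, smul_smul]⟩)
  -- the regular part is a trace
  obtain ⟨T, hT⟩ := orbit_sum_aux κ hκinj (conjOp a) F hFκ P hP _ ((fin Q).filter (fun g => ¬ isFix g))
    rfl (by
      intro g hg
      rw [Finset.mem_filter, mem_fin] at hg ⊢
      refine ⟨ha g hg.1, ?_⟩
      rintro ⟨i, hi0, hiP, hig⟩
      apply hg.2
      refine ⟨i, hi0, hiP, ?_⟩
      apply hκinj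
      exact ((Function.iterate_succ_apply' κ i g).symm.trans
        (Function.iterate_succ_apply κ i g)).trans hig)
    (by
      intro g _
      rw [hκ, conj_iterate, haP]
      simp)
    (by
      intro g hg i hi0 hiP hig
      rw [Finset.mem_filter] at hg
      exact hg.2 ⟨i, hi0, hiP, hig⟩)
  have hT' : ∑ i ∈ Finset.range P, (conjOp a)^[i] T = trc (op a) (op a⁻¹) P T := by
    unfold trc
    exact Finset.sum_congr rfl fun i _ => conjOp_iterate a i T
  rw [hc₁, hT, hT'] at hfour
  refine ⟨((finrank K V : K) / (Nat.card Q : K)) * c₁, ((finrank K V : K) / (Nat.card Q : K)) • T, ?_⟩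
  rw [trc_smul, mul_smul, ← smul_add]
  exact hfour

variable {p : ℕ} [hp : Fact p.Prime] [CharP K p]

/-- **The critical case** for a linear group `Q` normalised by `a`. -/
theorem crit_main (hirr : Irr (Q : Set (V ≃ₗ[K] V))) (hQ : (Nat.card Q).Coprime p)
    (a : V ≃ₗ[K] V) (ha : ∀ g ∈ Q, a * g * a⁻¹ ∈ Q) (n : ℕ) (haP : a ^ (p ^ n) = 1)
    (hfix : ∀ g ∈ Q, ∀ i, 0 < i → i < p ^ n → a ^ i * g * (a ^ i)⁻¹ = g →
      ∃ c : K, op g = c • (1 : Module.End K V))
    (s : ℕ) (hs : (op a - 1) ^ s = 0) (hmin : ∀ k < s, (op a - 1) ^ k ≠ 0) :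
    s = p ^ n ∨ (finrank K V = s ∧ (s = 1 ∨ s + 1 = p ^ n)) := by
  have hQ' : (Nat.card Q : K) ≠ 0 := by
    intro h
    rw [CharP.cast_eq_zero_iff K p] at h
    have h1 : p ∣ Nat.gcd (Nat.card Q) p := Nat.dvd_gcd h dvd_rfl
    rw [hQ] at h1
    exact hp.out.one_lt.ne' (Nat.dvd_one.mp h1)
  have hPpos : 0 < p ^ n := pos_of_ne_zero (pow_ne_zero _ hp.out.ne_zero)
  apply crit_lin (op a) (op a⁻¹) n (op_mul_inv a) (op_inv_mul a)
    (by rw [← op_pow, haP, op_one]) _ s hs hmin
  intro S hS
  exact centralizer_eq Q hirr hQ' a ha (p ^ n) hPpos haP hfix S hS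

end main

end Cfsg.Agent.Helper4.ThB
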