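import Mathlib
import Cfsg.Agent.Lib.Helper4.ThBFourier

/-!
# Invariant subspaces, simple submodules and isomorphisms for linear groups (helper4)
-/

set_option autoImplicit false
set_option linter.unusedSectionVars false

namespace Cfsg.Agent.Helper4.ThB

open Module

variable {K : Type*} [Field K] {V : Type*} [AddCommGroup V] [Module K V]

/-- invariance of a subspace under a set of automorphisms -/
def Inv (S : Set (V ≃ₗ[K] V)) (U : Submodule K V) : Prop := ∀ g ∈ S, ∀ v ∈ U, g v ∈ U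

/-- the image of a subspace under an automorphism -/
def img (g : V ≃ₗ[K] V) (U : Submodule K V) : Submodule K V := U.map (g : V →ₗ[K] V)

theorem mem_img {g : V ≃ₗ[K] V} {U : Submodule K V} {v : V} : v ∈ img g U ↔ g⁻¹ v ∈ U := by
  unfold img
  constructor
  · rintro ⟨u, hu, rfl⟩
    have : g⁻¹ (g u) = u := by
      show (g⁻¹ * g) u = u
      rw [inv_mul_cancel]; rfl
    show g⁻¹ (g u) ∈ U
    rw [this]; exact hu
  · intro h
    refine ⟨g⁻¹ v, h, ?_⟩
    show (g * g⁻¹) v = v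
    rw [mul_inv_cancel]; rfl

theorem apply_mem_img {g : V ≃ₗ[K] V} {U : Submodule K V} {u : V} (hu : u ∈ U) : g u ∈ img g U :=
  ⟨u, hu, rfl⟩

theorem img_one (U : Submodule K V) : img (1 : V ≃ₗ[K] V) U = U := by
  ext v
  rw [mem_img, inv_one]
  rfl

theorem img_mul (g h : V ≃ₗ[K] V) (U : Submodule K V) : img (g * h) U = img g (img h U) := by
  ext v
  rw [mem_img, mem_img, mem_img, mul_inv_rev]
  rfl

theorem img_mono (g : V ≃ₗ[K] V) {U U' : Submodule K V} (h : U ≤ U') : img g U ≤ img g U' :=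
  Submodule.map_mono h

theorem img_bot (g : V ≃ₗ[K] V) : img g (⊥ : Submodule K V) = ⊥ := Submodule.map_bot _

theorem img_eq_bot {g : V ≃ₗ[K] V} {U : Submodule K V} : img g U = ⊥ ↔ U = ⊥ := by
  constructor
  · intro h
    have := congrArg (img g⁻¹) h
    rw [← img_mul, inv_mul_cancel, img_one, img_bot] at this
    exact this
  · rintro rfl; exact img_bot g

theorem finrank_img [FiniteDimensional K V] (g : V ≃ₗ[K] V) (U : Submodule K V) :
    finrank K (img g U) = finrank K U :=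
  LinearEquiv.finrank_map_eq g U

theorem img_eq_self [FiniteDimensional K V] {g : V ≃ₗ[K] V} {U : Submodule K V}
    (h : ∀ v ∈ U, g v ∈ U) : img g U = U := by
  apply Submodule.eq_of_le_of_finrank_eq
  · rintro _ ⟨u, hu, rfl⟩
    exact h u hu
  · exact finrank_img g U

/-- invariance under `g` gives invariance under `g⁻¹` in finite dimension -/
theorem inv_apply_mem [FiniteDimensional K V] {g : V ≃ₗ[K] V} {U : Submodule K V}
    (h : ∀ v ∈ U, g v ∈ U) {v : V} (hv : v ∈ U) : g⁻¹ v ∈ U := by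
  have h1 := img_eq_self h
  rw [← h1] at hv
  exact mem_img.mp hv

theorem inv_closure [FiniteDimensional K V] {S : Set (V ≃ₗ[K] V)} {U : Submodule K V}
    (h : Inv S U) : Inv (Subgroup.closure S : Set (V ≃ₗ[K] V)) U := by
  intro g hg
  refine Subgroup.closure_induction (p := fun g _ => ∀ v ∈ U, g v ∈ U) ?_ ?_ ?_ ?_ hg
  · intro x hx; exact h x hx
  · intro v hv; exact hv
  · intro x y _ _ hx hy v hv
    exact hx _ (hy v hv)
  · intro x _ hx v hv
    exact inv_apply_mem hx hv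

/-- a simple submodule -/
def Simp (S : Set (V ≃ₗ[K] V)) (U : Submodule K V) : Prop :=
  U ≠ ⊥ ∧ Inv S U ∧ ∀ U' : Submodule K V, U' ≤ U → Inv S U' → U' = ⊥ ∨ U' = U

theorem exists_simp [FiniteDimensional K V] (S : Set (V ≃ₗ[K] V)) {W : Submodule K V}
    (hW : W ≠ ⊥) (hWinv : Inv S W) : ∃ U : Submodule K V, U ≤ W ∧ Simp S U := by
  classical
  -- minimal dimension among nonzero invariant subspaces of `W`
  have hex : ∃ d : ℕ, ∃ U : Submodule K V, U ≤ W ∧ U ≠ ⊥ ∧ Inv S U ∧ finrank K U = d :=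
    ⟨_, W, le_rfl, hW, hWinv, rfl⟩
  obtain ⟨U, hUW, hU0, hUinv, hUd⟩ := Nat.find_spec hex
  refine ⟨U, hUW, hU0, hUinv, ?_⟩
  intro U' hU' hU'inv
  by_cases h0 : U' = ⊥
  · exact Or.inl h0
  right
  by_contra hne
  have hlt : finrank K U' < finrank K U :=
    Submodule.finrank_lt_finrank_of_lt (lt_of_le_of_ne hU' hne)
  rw [hUd] at hlt
  exact Nat.find_min hex hlt ⟨U', hU'.trans hUW, h0, hU'inv, rfl⟩

section normal

variable (M : Subgroup (V ≃ₗ[K] V)) (a : V ≃ₗ[K] V)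

theorem inv_img (hn2 : ∀ g ∈ M, a⁻¹ * g * a ∈ M) {U : Submodule K V}
    (hU : Inv (M : Set (V ≃ₗ[K] V)) U) : Inv (M : Set (V ≃ₗ[K] V)) (img a U) := by
  intro g hg v hv
  rw [mem_img] at hv ⊢
  have h1 := hU _ (hn2 g hg) _ hv
  have : (a⁻¹ * g * a) (a⁻¹ v) = a⁻¹ (g v) := by
    show (a⁻¹ * g * a * a⁻¹) v = (a⁻¹ * g) v
    congr 1
    group
  rw [this] at h1
  exact h1

theorem simp_img (hn1 : ∀ g ∈ M, a * g * a⁻¹ ∈ M) (hn2 : ∀ g ∈ M, a⁻¹ * g * a ∈ M)
    {U : Submodule K V} (hU : Simp (M : Set (V ≃ₗ[K] V)) U) :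
    Simp (M : Set (V ≃ₗ[K] V)) (img a U) := by
  obtain ⟨h0, hinv, hmin⟩ := hU
  refine ⟨fun h => h0 (img_eq_bot.mp h), inv_img M a hn2 hinv, ?_⟩
  intro U' hU' hU'inv
  have h1 : img a⁻¹ U' ≤ U := by
    have := img_mono a⁻¹ hU'
    rw [← img_mul, inv_mul_cancel, img_one] at this
    exact this
  have h2 : Inv (M : Set (V ≃ₗ[K] V)) (img a⁻¹ U') := by
    apply inv_img M a⁻¹ _ hU'inv
    intro g hg
    rw [inv_inv]
    exact hn1 g hg
  rcases hmin _ h1 h2 with h | h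
  · left
    exact img_eq_bot.mp h
  · right
    have := congrArg (img a) h
    rw [← img_mul, mul_inv_cancel, img_one] at this
    exact this

theorem normalizes_pow (hn1 : ∀ g ∈ M, a * g * a⁻¹ ∈ M) (i : ℕ) :
    ∀ g ∈ M, a ^ i * g * (a ^ i)⁻¹ ∈ M := by
  induction i with
  | zero => intro g hg; simpa using hg
  | succ i ih =>
    intro g hg
    have := hn1 _ (ih g hg)
    have e : a * (a ^ i * g * (a ^ i)⁻¹) * a⁻¹ = a ^ (i + 1) * g * (a ^ (i + 1))⁻¹ := by
      rw [pow_succ']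
      group
    rw [e] at this
    exact this

theorem normalizes_pow' (hn2 : ∀ g ∈ M, a⁻¹ * g * a ∈ M) (i : ℕ) :
    ∀ g ∈ M, (a ^ i)⁻¹ * g * a ^ i ∈ M := by
  induction i with
  | zero => intro g hg; simpa using hg
  | succ i ih =>
    intro g hg
    have := hn2 _ (ih g hg)
    have e : a⁻¹ * ((a ^ i)⁻¹ * g * a ^ i) * a = (a ^ (i + 1))⁻¹ * g * a ^ (i + 1) := by
      rw [pow_succ]
      group
    rw [e] at this
    exact this

end normal

/-- isomorphism of `M`-submodules, witnessed by a global linear map -/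
def IsoM (M : Set (V ≃ₗ[K] V)) (U U' : Submodule K V) : Prop :=
  ∃ f : Module.End K V, (∀ u ∈ U, f u ∈ U') ∧ (∀ u ∈ U, f u = 0 → u = 0) ∧
    (∀ u' ∈ U', ∃ u ∈ U, f u = u') ∧ ∀ g ∈ M, ∀ u ∈ U, f (g u) = g (f u)

theorem IsoM.refl (M : Set (V ≃ₗ[K] V)) (U : Submodule K V) : IsoM M U U :=
  ⟨1, fun u hu => hu, fun u _ h => h, fun u hu => ⟨u, hu, rfl⟩, fun _ _ _ _ => rfl⟩

theorem IsoM.trans {M : Set (V ≃ₗ[K] V)} {U U' U'' : Submodule K V}
    (h1 : IsoM M U U') (h2 : IsoM M U' U'') : IsoM M U U'' := by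
  obtain ⟨f, hf1, hf2, hf3, hf4⟩ := h1
  obtain ⟨f', hf1', hf2', hf3', hf4'⟩ := h2
  refine ⟨f' * f, ?_, ?_, ?_, ?_⟩
  · intro u hu; exact hf1' _ (hf1 u hu)
  · intro u hu h
    exact hf2 u hu (hf2' _ (hf1 u hu) h)
  · intro u'' hu''
    obtain ⟨u', hu', rfl⟩ := hf3' u'' hu''
    obtain ⟨u, hu, rfl⟩ := hf3 u' hu'
    exact ⟨u, hu, rfl⟩
  · intro g hg u hu
    rw [Module.End.mul_apply, Module.End.mul_apply, hf4 g hg u hu, hf4' g hg _ (hf1 u hu)]

theorem IsoM.symm {M : Set (V ≃ₗ[K] V)} {U U' : Submodule K V} (hU : Inv M U)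
    (h : IsoM M U U') : IsoM M U' U := by
  obtain ⟨f, hf1, hf2, hf3, hf4⟩ := h
  -- a left inverse of `f` on `U`
  have hker : LinearMap.ker (f.comp U.subtype) = ⊥ := by
    rw [LinearMap.ker_eq_bot']
    intro u hu
    have := hf2 u u.2 hu
    exact Subtype.ext this
  obtain ⟨e, he⟩ := LinearMap.exists_leftInverse_of_injective _ hker
  have he' : ∀ u ∈ U, e (f u) = u := by
    intro u hu
    have := congrArg (fun φ : U →ₗ[K] U => ((φ ⟨u, hu⟩ : U) : V)) he
    exact this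
  refine ⟨U.subtype.comp e, ?_, ?_, ?_, ?_⟩
  · intro u' _
    exact (e u').2
  · intro u' hu' h
    obtain ⟨u, hu, rfl⟩ := hf3 u' hu'
    have h2 : ((e (f u) : U) : V) = 0 := h
    rw [he' u hu] at h2
    rw [h2, map_zero]
  · intro u hu
    exact ⟨f u, hf1 u hu, he' u hu⟩
  · intro g hg u' hu'
    obtain ⟨u, hu, rfl⟩ := hf3 u' hu'
    show ((e (g (f u)) : U) : V) = g ((e (f u) : U) : V)
    rw [← hf4 g hg u hu, he' _ (hU g hg u hu), he' u hu]

theorem IsoM.img {M : Subgroup (V ≃ₗ[K] V)} (a : V ≃ₗ[K] V)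
    (hn2 : ∀ g ∈ M, a⁻¹ * g * a ∈ M) {U U' : Submodule K V}
    (h : IsoM (M : Set (V ≃ₗ[K] V)) U U') :
    IsoM (M : Set (V ≃ₗ[K] V)) (img a U) (img a U') := by
  obtain ⟨f, hf1, hf2, hf3, hf4⟩ := h
  have haa : ∀ v : V, a (a⁻¹ v) = v := fun v => by
    show (a * a⁻¹) v = v
    rw [mul_inv_cancel]; rfl
  have haa' : ∀ v : V, a⁻¹ (a v) = v := fun v => by
    show (a⁻¹ * a) v = v
    rw [inv_mul_cancel]; rfl
  refine ⟨op a * f * op a⁻¹, ?_, ?_, ?_, ?_⟩
  · intro v hv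
    rw [mem_img] at hv
    exact apply_mem_img (hf1 _ hv)
  · intro v hv h
    rw [mem_img] at hv
    have h1 : a (f (a⁻¹ v)) = 0 := h
    have h2 : f (a⁻¹ v) = 0 := by
      have := congrArg (fun z => (a⁻¹ : V ≃ₗ[K] V) z) h1
      simp only [haa', map_zero] at this
      exact this
    have h3 := hf2 _ hv h2
    have := congrArg (fun z => (a : V ≃ₗ[K] V) z) h3
    simp only [haa, map_zero] at this
    exact this
  · intro v' hv'
    rw [mem_img] at hv'
    obtain ⟨u, hu, hfu⟩ := hf3 _ hv'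
    refine ⟨a u, apply_mem_img hu, ?_⟩
    show a (f (a⁻¹ (a u))) = v'
    rw [haa', hfu, haa]
  · intro g hg v hv
    rw [mem_img] at hv
    show a (f (a⁻¹ (g v))) = g (a (f (a⁻¹ v)))
    have e1 : a⁻¹ (g v) = (a⁻¹ * g * a) (a⁻¹ v) := by
      show _ = a⁻¹ (g (a (a⁻¹ v)))
      rw [haa]
    rw [e1, hf4 _ (hn2 g hg) _ hv]
    show a (a⁻¹ (g (a (f (a⁻¹ v))))) = _
    rw [haa]

/-- a nonzero intertwiner on a simple submodule is an isomorphism onto its image,
which is simple -/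
theorem isoM_map {M : Set (V ≃ₗ[K] V)} {U : Submodule K V} (hU : Simp M U)
    (F : Module.End K V) (hF : ∀ g ∈ M, ∀ u ∈ U, F (g u) = g (F u))
    (hne : ∃ u ∈ U, F u ≠ 0) : IsoM M U (U.map F) ∧ Simp M (U.map F) := by
  obtain ⟨h0, hinv, hmin⟩ := hU
  have hinj : ∀ u ∈ U, F u = 0 → u = 0 := by
    intro u hu hFu
    have hK : Inv M (U ⊓ LinearMap.ker F) := by
      intro g hg v hv
      rw [Submodule.mem_inf, LinearMap.mem_ker] at hv ⊢
      exact ⟨hinv g hg v hv.1, by rw [hF g hg v hv.1, hv.2, map_zero]⟩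
    rcases hmin _ inf_le_left hK with h | h
    · have : u ∈ U ⊓ LinearMap.ker F := ⟨hu, hFu⟩
      rw [h] at this
      exact (Submodule.mem_bot K).mp this
    · exfalso
      obtain ⟨u₀, hu₀, hFu₀⟩ := hne
      have : u₀ ∈ U ⊓ LinearMap.ker F := by rw [h]; exact hu₀
      exact hFu₀ this.2
  have hiso : IsoM M U (U.map F) :=
    ⟨F, fun u hu => ⟨u, hu, rfl⟩, hinj, fun u' ⟨u, hu, h⟩ => ⟨u, hu, h⟩, hF⟩
  refine ⟨hiso, ?_, ?_, ?_⟩
  · intro h
    obtain ⟨u₀, hu₀, hFu₀⟩ := hne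
    have : F u₀ ∈ U.map F := ⟨u₀, hu₀, rfl⟩
    rw [h] at this
    exact hFu₀ ((Submodule.mem_bot K).mp this)
  · rintro g hg _ ⟨u, hu, rfl⟩
    exact ⟨g u, hinv g hg u hu, hF g hg u hu⟩
  · intro U'' hU'' hU''inv
    have hK : Inv M (U ⊓ U''.comap F) := by
      intro g hg v hv
      rw [Submodule.mem_inf, Submodule.mem_comap] at hv ⊢
      exact ⟨hinv g hg v hv.1, by rw [hF g hg v hv.1]; exact hU''inv g hg _ hv.2⟩
    rcases hmin _ inf_le_left hK with h | h
    · left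
      rw [eq_bot_iff]
      intro v hv
      obtain ⟨u, hu, rfl⟩ := hU'' hv
      have : u ∈ U ⊓ U''.comap F := ⟨hu, hv⟩
      rw [h] at this
      rw [(Submodule.mem_bot K).mp this, map_zero]
      exact Submodule.zero_mem _
    · right
      apply le_antisymm hU''
      rintro _ ⟨u, hu, rfl⟩
      have : u ∈ U ⊓ U''.comap F := by rw [h]; exact hu
      exact this.2

end Cfsg.Agent.Helper4.ThB
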