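import Mathlib
import Cfsg.Agent.Lib.Helper4.ThBCliffA

/-!
# Pairwise non-isomorphic simple submodules are independent (helper4)
-/

set_option autoImplicit false
set_option linter.unusedSectionVars false

namespace Cfsg.Agent.Helper4.ThB

open Module

variable {K : Type*} [Field K] {V : Type*} [AddCommGroup V] [Module K V]

/-- the module of relations supported on `I` -/
def relMod {t : ℕ} (U : Fin t → Submodule K V) (I : Finset (Fin t)) :
    Submodule K (Fin t → V) where
  carrier := {r | (∀ i, r i ∈ U i) ∧ (∀ i, i ∉ I → r i = 0) ∧ ∑ i, r i = 0}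
  add_mem' := by
    rintro r r' ⟨h1, h2, h3⟩ ⟨h1', h2', h3'⟩
    refine ⟨fun i => (U i).add_mem (h1 i) (h1' i), fun i hi => ?_, ?_⟩
    · show r i + r' i = 0
      rw [h2 i hi, h2' i hi, add_zero]
    · show ∑ i, (r i + r' i) = 0
      rw [Finset.sum_add_distrib, h3, h3', add_zero]
  zero_mem' := ⟨fun i => (U i).zero_mem, fun _ _ => rfl, by simp⟩
  smul_mem' := by
    rintro c r ⟨h1, h2, h3⟩
    refine ⟨fun i => (U i).smul_mem c (h1 i), fun i hi => ?_, ?_⟩
    · show c • r i = 0
      rw [h2 i hi, smul_zero]
    · show ∑ i, c • r i = 0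
      rw [← Finset.smul_sum, h3, smul_zero]

open Classical in
theorem indep_of_noniso (M : Set (V ≃ₗ[K] V)) {t : ℕ} (U : Fin t → Submodule K V)
    (hU : ∀ i, Simp M (U i)) (hni : ∀ i j, i ≠ j → ¬ IsoM M (U i) (U j)) :
    ∀ (n : ℕ) (w : Fin t → V), (∀ i, w i ∈ U i) → ∑ i, w i = 0 →
      (Finset.univ.filter (fun i => w i ≠ 0)).card = n → ∀ i, w i = 0 := by
  classical
  intro n
  induction n using Nat.strong_induction_on with
  | _ n ih =>
    intro w hw hsum hcard i
    by_contra hwi
    set I : Finset (Fin t) := Finset.univ.filter (fun i => w i ≠ 0) with hI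
    have hiI : i ∈ I := by rw [hI, Finset.mem_filter]; exact ⟨Finset.mem_univ _, hwi⟩
    -- a second index in the support
    obtain ⟨j, hjI, hji⟩ : ∃ j ∈ I, j ≠ i := by
      by_contra h
      push_neg at h
      have h1 : ∑ k, w k = w i := by
        apply Finset.sum_eq_single i
        · intro k _ hk
          by_contra hwk
          have : k ∈ I := by rw [hI, Finset.mem_filter]; exact ⟨Finset.mem_univ _, hwk⟩
          exact hk (h k this)
        · intro h'; exact absurd (Finset.mem_univ i) h'
      rw [h1] at hsum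
      exact hwi hsum
    set R := relMod U I with hR
    have hwR : w ∈ R := by
      refine ⟨hw, fun k hk => ?_, hsum⟩
      by_contra hwk
      exact hk (by rw [hI, Finset.mem_filter]; exact ⟨Finset.mem_univ _, hwk⟩)
    -- relations vanishing at a point of `I` vanish
    have key : ∀ r ∈ R, ∀ k ∈ I, r k = 0 → r = 0 := by
      intro r hr k hk hrk
      obtain ⟨h1, h2, h3⟩ := hr
      have hsub : Finset.univ.filter (fun i => r i ≠ 0) ⊆ I.erase k := by
        intro l hl
        rw [Finset.mem_filter] at hl
        rw [Finset.mem_erase]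
        refine ⟨fun hlk => hl.2 (hlk ▸ hrk), ?_⟩
        by_contra hlI
        exact hl.2 (h2 l hlI)
      have hlt : (Finset.univ.filter (fun i => r i ≠ 0)).card < n := by
        calc (Finset.univ.filter (fun i => r i ≠ 0)).card ≤ (I.erase k).card :=
              Finset.card_le_card hsub
          _ < I.card := Finset.card_erase_lt_of_mem hk
          _ = n := hcard
      funext l
      exact ih _ hlt r h1 h3 rfl l
    -- `M` acts on the relations
    have hact : ∀ g ∈ M, ∀ r ∈ R, (fun k => g (r k)) ∈ R := by
      intro g hg r hr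
      obtain ⟨h1, h2, h3⟩ := hr
      refine ⟨fun k => (hU k).2.1 g hg _ (h1 k), fun k hk => ?_, ?_⟩
      · show g (r k) = 0
        rw [h2 k hk, map_zero]
      · show ∑ k, g (r k) = 0
        rw [← map_sum, h3, map_zero]
    -- the projections are onto
    have honto : ∀ k ∈ I, ∀ u ∈ U k, ∃ r ∈ R, r k = u := by
      intro k hk u hu
      set Pk : Submodule K V := R.map (LinearMap.proj k) with hPk
      have hPle : Pk ≤ U k := by
        rintro _ ⟨r, hr, rfl⟩
        exact hr.1 k
      have hPinv : Inv M Pk := by
        rintro g hg _ ⟨r, hr, rfl⟩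
        exact ⟨fun l => g (r l), hact g hg r hr, rfl⟩
      have hPne : Pk ≠ ⊥ := by
        intro h
        have : w k ∈ Pk := ⟨w, hwR, rfl⟩
        rw [h] at this
        have hk' := hk
        rw [hI, Finset.mem_filter] at hk'
        exact hk'.2 ((Submodule.mem_bot K).mp this)
      rcases (hU k).2.2 Pk hPle hPinv with h | h
      · exact absurd h hPne
      · rw [← h] at hu
        obtain ⟨r, hr, hrk⟩ := hu
        exact ⟨r, hr, hrk⟩
    -- the isomorphism
    set πi : R →ₗ[K] V := (LinearMap.proj i).comp R.subtype with hπi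
    have hker : LinearMap.ker πi = ⊥ := by
      rw [LinearMap.ker_eq_bot']
      intro r hr
      exact Subtype.ext (key r.1 r.2 i hiI hr)
    obtain ⟨e, he⟩ := LinearMap.exists_leftInverse_of_injective πi hker
    have he' : ∀ r : R, e ((r : Fin t → V) i) = r := by
      intro r
      have := congrArg (fun φ : R →ₗ[K] R => φ r) he
      exact this
    set f : Module.End K V := ((LinearMap.proj j).comp R.subtype).comp e with hf
    have hfr : ∀ r ∈ R, f (r i) = r j := by
      intro r hr
      show ((e (r i) : R) : Fin t → V) j = r j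
      rw [he' ⟨r, hr⟩]
    apply hni i j hji.symm
    refine ⟨f, ?_, ?_, ?_, ?_⟩
    · intro u hu
      obtain ⟨r, hr, rfl⟩ := honto i hiI u hu
      rw [hfr r hr]
      exact hr.1 j
    · intro u hu hfu
      obtain ⟨r, hr, rfl⟩ := honto i hiI u hu
      rw [hfr r hr] at hfu
      rw [key r hr j hjI hfu]
      rfl
    · intro u' hu'
      obtain ⟨r, hr, rfl⟩ := honto j hjI u' hu'
      exact ⟨r i, hr.1 i, hfr r hr⟩
    · intro g hg u hu
      obtain ⟨r, hr, rfl⟩ := honto i hiI u hu
      have h1 := hfr _ (hact g hg r hr)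
      rw [hfr r hr]
      exact h1

end Cfsg.Agent.Helper4.ThB
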