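import Mathlib
import Cfsg.Agent.Lib.Helper4.ThBCliffB

/-!
# Clifford theory for a cyclic extension of a linear group (helper4)
-/

set_option autoImplicit false
set_option linter.unusedSectionVars false

namespace Cfsg.Agent.Helper4.ThB

open Module

variable {K : Type*} [Field K] {V : Type*} [AddCommGroup V] [Module K V]

theorem apply_inv_apply (a : V ≃ₗ[K] V) (v : V) : a (a⁻¹ v) = v := by
  show (a * a⁻¹) v = v
  rw [mul_inv_cancel]; rfl

theorem inv_apply_apply (a : V ≃ₗ[K] V) (v : V) : a⁻¹ (a v) = v := by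
  show (a⁻¹ * a) v = v
  rw [inv_mul_cancel]; rfl

section stable

variable [IsAlgClosed K] [FiniteDimensional K V]

/-- a simple submodule isomorphic to its image under a normalising element `b` can be replaced by
a `b`-stable one -/
theorem exists_stable_simple (M : Subgroup (V ≃ₗ[K] V)) (b : V ≃ₗ[K] V)
    (hn2 : ∀ g ∈ M, b⁻¹ * g * b ∈ M) {U : Submodule K V}
    (hU : Simp (M : Set (V ≃ₗ[K] V)) U) (hiso : IsoM (M : Set (V ≃ₗ[K] V)) U (img b U)) :
    ∃ U₁ : Submodule K V, Simp (M : Set (V ≃ₗ[K] V)) U₁ ∧ IsoM (M : Set (V ≃ₗ[K] V)) U U₁ ∧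
      img b U₁ = U₁ := by
  classical
  obtain ⟨hU0, hUinv, hUmin⟩ := hU
  obtain ⟨f, hf1, hf2, hf3, hf4⟩ := hiso
  set θ : Module.End K V := op b⁻¹ * f with hθ
  have hθU : ∀ u ∈ U, θ u ∈ U := by
    intro u hu
    exact mem_img.mp (hf1 u hu)
  have hθinj : ∀ u ∈ U, θ u = 0 → u = 0 := by
    intro u hu h
    have h1 : b⁻¹ (f u) = 0 := h
    have h2 := congrArg (fun z => (b : V ≃ₗ[K] V) z) h1
    simp only [apply_inv_apply, map_zero] at h2
    exact hf2 u hu h2
  have hθsurj : ∀ u' ∈ U, ∃ u ∈ U, θ u = u' := by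
    intro u' hu'
    obtain ⟨u, hu, hfu⟩ := hf3 (b u') (apply_mem_img hu')
    refine ⟨u, hu, ?_⟩
    show b⁻¹ (f u) = u'
    rw [hfu, inv_apply_apply]
  have hθM : ∀ g ∈ M, ∀ u ∈ U, θ (g u) = (b⁻¹ * g * b) (θ u) := by
    intro g hg u hu
    show b⁻¹ (f (g u)) = b⁻¹ (g (b (b⁻¹ (f u))))
    rw [hf4 g hg u hu, apply_inv_apply]
  set θU : U →ₗ[K] U := θ.restrict hθU with hθU'
  -- the space of intertwiners
  let H : Submodule K (U →ₗ[K] V) :=
    { carrier := {F | ∀ g ∈ M, ∀ u : U, ∀ h : g (u : V) ∈ U, F ⟨g u, h⟩ = g (F u)}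
      add_mem' := by
        intro F F' hF hF' g hg u h
        rw [LinearMap.add_apply, LinearMap.add_apply, hF g hg u h, hF' g hg u h, map_add]
      zero_mem' := by
        intro g hg u h
        simp
      smul_mem' := by
        intro c F hF g hg u h
        rw [LinearMap.smul_apply, LinearMap.smul_apply, hF g hg u h, map_smul] }
  let T₀ : (U →ₗ[K] V) →ₗ[K] (U →ₗ[K] V) :=
    { toFun := fun F => (op b).comp (F.comp θU)
      map_add' := by
        intro F F'
        apply LinearMap.ext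
        intro u
        simp
      map_smul' := by
        intro c F
        apply LinearMap.ext
        intro u
        simp }
  have hT₀ : ∀ F ∈ H, T₀ F ∈ H := by
    intro F hF g hg u h
    show b (F (θU ⟨g u, h⟩)) = g (b (F (θU u)))
    have hmem : (b⁻¹ * g * b) ((θU u : U) : V) ∈ U := hUinv _ (hn2 g hg) _ (θU u).2
    have h1 : (θU ⟨g u, h⟩ : U) = ⟨(b⁻¹ * g * b) ((θU u : U) : V), hmem⟩ :=
      Subtype.ext (hθM g hg u u.2)
    rw [h1, hF _ (hn2 g hg) (θU u) hmem]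
    show b (b⁻¹ (g (b (F (θU u))))) = _
    rw [apply_inv_apply]
  set T : H →ₗ[K] H := T₀.restrict hT₀ with hT
  have : Nontrivial H := by
    have hsub : U.subtype ∈ H := by
      intro g hg u h
      rfl
    refine ⟨⟨⟨U.subtype, hsub⟩, 0, ?_⟩⟩
    intro h
    have h1 : U.subtype = 0 := congrArg Subtype.val h
    apply hU0
    rw [eq_bot_iff]
    intro u hu
    have := congrArg (fun φ : U →ₗ[K] V => φ ⟨u, hu⟩) h1
    exact (Submodule.mem_bot K).mpr this
  obtain ⟨ζ, hζ⟩ := Module.End.exists_eigenvalue T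
  obtain ⟨F, hF⟩ := hζ.exists_hasEigenvector
  have hFne : F ≠ 0 := hF.2
  have hFeig : ∀ u : U, b ((F : U →ₗ[K] V) (θU u)) = ζ • (F : U →ₗ[K] V) u := by
    intro u
    have h1 := hF.apply_eq_smul
    have h2 := congrArg (fun φ : H => (φ : U →ₗ[K] V) u) h1
    exact h2
  have hFH := F.2
  -- extend `F` to `V`
  obtain ⟨F', hF'⟩ := LinearMap.exists_extend (F : U →ₗ[K] V)
  have hF'u : ∀ (u : V) (hu : u ∈ U), F' u = (F : U →ₗ[K] V) ⟨u, hu⟩ := by
    intro u hu
    have := congrArg (fun φ : U →ₗ[K] V => φ ⟨u, hu⟩) hF'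
    exact this
  have hF'M : ∀ g ∈ (M : Set (V ≃ₗ[K] V)), ∀ u ∈ U, F' (g u) = g (F' u) := by
    intro g hg u hu
    rw [hF'u _ (hUinv g hg u hu), hF'u u hu]
    exact hFH g hg ⟨u, hu⟩ _
  have hF'ne : ∃ u ∈ U, F' u ≠ 0 := by
    by_contra h
    push_neg at h
    apply hFne
    apply Subtype.ext
    apply LinearMap.ext
    intro u
    have := h u u.2
    rw [hF'u u u.2] at this
    exact this
  obtain ⟨hiso', hsimp'⟩ := isoM_map ⟨hU0, hUinv, hUmin⟩ F' hF'M hF'ne
  refine ⟨U.map F', hsimp', hiso', ?_⟩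
  apply img_eq_self
  rintro _ ⟨u, hu, rfl⟩
  obtain ⟨u', hu', hθu'⟩ := hθsurj u hu
  have h1 := hFeig ⟨u', hu'⟩
  have h2 : ((θU ⟨u', hu'⟩ : U) : V) = u := hθu'
  have h3 : (F : U →ₗ[K] V) (θU ⟨u', hu'⟩) = F' u := by
    rw [hF'u u hu]
    congr 1
    exact Subtype.ext h2
  rw [h3] at h1
  rw [h1]
  refine ⟨ζ • u', U.smul_mem ζ hu', ?_⟩
  rw [map_smul, hF'u u' hu']

end stable

section main

variable [IsAlgClosed K] [FiniteDimensional K V] [Nontrivial V]

/-- **Clifford's theorem for a cyclic extension.** -/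
theorem cyclic_clifford (M : Subgroup (V ≃ₗ[K] V)) (a : V ≃ₗ[K] V)
    (hn1 : ∀ g ∈ M, a * g * a⁻¹ ∈ M) (hn2 : ∀ g ∈ M, a⁻¹ * g * a ∈ M)
    (k : ℕ) (hk : 0 < k) (hak : a ^ k ∈ M)
    (hirr : Irr ((M : Set (V ≃ₗ[K] V)) ∪ {a})) :
    ∃ (t : ℕ) (U₁ : Submodule K V), 0 < t ∧ t ∣ k ∧ Simp (M : Set (V ≃ₗ[K] V)) U₁ ∧
      img (a ^ t) U₁ = U₁ ∧
      ∃ e : (Fin t → U₁) ≃ₗ[K] V,
        ∀ u : Fin t → U₁, e u = ∑ i : Fin t, (a ^ (i : ℕ)) ((u i : U₁) : V) := by
  classical
  have hpn1 := normalizes_pow M a hn1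
  have hpn2 := normalizes_pow' M a hn2
  obtain ⟨U₀, -, hU₀⟩ := exists_simp (M : Set (V ≃ₗ[K] V)) (W := (⊤ : Submodule K V))
    (by exact top_ne_bot) (fun _ _ _ _ => trivial)
  have hex : ∃ i : ℕ, 0 < i ∧ IsoM (M : Set (V ≃ₗ[K] V)) U₀ (img (a ^ i) U₀) := by
    refine ⟨k, hk, ?_⟩
    have : img (a ^ k) U₀ = U₀ := img_eq_self (fun v hv => hU₀.2.1 _ hak v hv)
    rw [this]
    exact IsoM.refl _ _
  set t := Nat.find hex with ht
  obtain ⟨htpos, hiso₀⟩ := Nat.find_spec hex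
  have htmin : ∀ i, 0 < i → i < t → ¬ IsoM (M : Set (V ≃ₗ[K] V)) U₀ (img (a ^ i) U₀) := by
    intro i hi hit h
    exact Nat.find_min hex hit ⟨hi, h⟩
  have hn2t : ∀ g ∈ M, (a ^ t)⁻¹ * g * a ^ t ∈ M := hpn2 t
  obtain ⟨U₁, hU₁, h01, hstab⟩ := exists_stable_simple M (a ^ t) hn2t hU₀ hiso₀
  -- powers of `a` on `U₁` versus `U₀`
  have hpow_iso : ∀ i : ℕ, IsoM (M : Set (V ≃ₗ[K] V)) U₁ (img (a ^ i) U₁) →
      IsoM (M : Set (V ≃ₗ[K] V)) U₀ (img (a ^ i) U₀) := by
    intro i h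
    have h10 : IsoM (M : Set (V ≃ₗ[K] V)) U₁ U₀ := h01.symm hU₀.2.1
    exact (h01.trans h).trans (h10.img (a ^ i) (hpn2 i))
  have hsimp : ∀ i : ℕ, Simp (M : Set (V ≃ₗ[K] V)) (img (a ^ i) U₁) :=
    fun i => simp_img M (a ^ i) (hpn1 i) (hpn2 i) hU₁
  -- pairwise non-isomorphic
  have hni_aux : ∀ i j : ℕ, i < j → j < t →
      ¬ IsoM (M : Set (V ≃ₗ[K] V)) (img (a ^ i) U₁) (img (a ^ j) U₁) := by
    intro i j hij hjt h
    have h1 := h.img (a ^ i)⁻¹ (by
      intro g hg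
      rw [inv_inv]
      exact hpn1 i g hg)
    rw [← img_mul, ← img_mul, inv_mul_cancel, img_one] at h1
    have e : (a ^ i)⁻¹ * a ^ j = a ^ (j - i) := by
      have : a ^ j = a ^ i * a ^ (j - i) := by
        rw [← pow_add]; congr 1; omega
      rw [this]; group
    rw [e] at h1
    exact htmin (j - i) (by omega) (by omega) (hpow_iso _ h1)
  have hni : ∀ i j : Fin t, i ≠ j →
      ¬ IsoM (M : Set (V ≃ₗ[K] V)) (img (a ^ (i : ℕ)) U₁) (img (a ^ (j : ℕ)) U₁) := by
    intro i j hij h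
    have hne : (i : ℕ) ≠ (j : ℕ) := fun h' => hij (Fin.ext h')
    rcases lt_or_gt_of_ne hne with hlt | hlt
    · exact hni_aux i j hlt j.2 h
    · exact hni_aux j i hlt i.2 (h.symm (hsimp i).2.1)
  -- `t` divides `k`
  have htk : t ∣ k := by
    have hstab_mul : ∀ m : ℕ, img (a ^ (t * m)) U₁ = U₁ := by
      intro m
      induction m with
      | zero => simp [img_one]
      | succ m ih =>
        have : a ^ (t * (m + 1)) = a ^ (t * m) * a ^ t := by
          rw [← pow_add]; congr 1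
        rw [this, img_mul, hstab, ih]
    have hk' : img (a ^ k) U₁ = U₁ := img_eq_self (fun v hv => hU₁.2.1 _ hak v hv)
    by_contra hdvd
    have hr : 0 < k % t := Nat.pos_of_ne_zero (fun h => hdvd (Nat.dvd_of_mod_eq_zero h))
    have hrt : k % t < t := Nat.mod_lt _ htpos
    have e : a ^ k = a ^ (k % t) * a ^ (t * (k / t)) := by
      rw [← pow_add]; congr 1
      exact (Nat.mod_add_div k t).symm
    rw [e, img_mul, hstab_mul] at hk'
    have h1 : IsoM (M : Set (V ≃ₗ[K] V)) U₁ (img (a ^ (k % t)) U₁) := by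
      rw [hk']; exact IsoM.refl _ _
    exact htmin _ hr hrt (hpow_iso _ h1)
  refine ⟨t, U₁, htpos, htk, hU₁, hstab, ?_⟩
  -- the map `Φ`
  set Φ : (Fin t → U₁) →ₗ[K] V :=
    ∑ i : Fin t, (op (a ^ (i : ℕ))).comp (U₁.subtype.comp (LinearMap.proj i)) with hΦ
  have hΦapp : ∀ u : Fin t → U₁, Φ u = ∑ i : Fin t, (a ^ (i : ℕ)) ((u i : U₁) : V) := by
    intro u
    rw [hΦ, LinearMap.sum_apply]
    rfl
  suffices hbij : Function.Bijective Φ from
    ⟨LinearEquiv.ofBijective Φ hbij, fun u => hΦapp u⟩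
  constructor
  · -- injective
    rw [← LinearMap.ker_eq_bot, LinearMap.ker_eq_bot']
    intro u hu
    rw [hΦapp] at hu
    have hw : ∀ i : Fin t, (a ^ (i : ℕ)) (u i : V) ∈ img (a ^ (i : ℕ)) U₁ :=
      fun i => apply_mem_img (u i).2
    have h0 := indep_of_noniso (M : Set (V ≃ₗ[K] V)) (fun i : Fin t => img (a ^ (i : ℕ)) U₁)
      (fun i => hsimp i) hni _ (fun i => (a ^ (i : ℕ)) (u i : V)) hw hu rfl
    funext i
    apply Subtype.ext
    have h1 := h0 i
    have h2 := congrArg (fun z => ((a ^ (i : ℕ))⁻¹ : V ≃ₗ[K] V) z) h1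
    simp only [inv_apply_apply, map_zero] at h2
    exact h2
  · -- surjective
    rw [← LinearMap.range_eq_top]
    set W : Submodule K V := ⨆ i : Fin t, img (a ^ (i : ℕ)) U₁ with hW
    have hWle : W ≤ LinearMap.range Φ := by
      apply iSup_le
      intro i v hv
      rw [mem_img] at hv
      refine ⟨Pi.single i ⟨_, hv⟩, ?_⟩
      rw [hΦapp, Finset.sum_eq_single i]
      · rw [Pi.single_eq_same]
        exact apply_inv_apply _ _
      · intro j _ hji
        rw [Pi.single_eq_of_ne hji]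
        simp
      · intro h; exact absurd (Finset.mem_univ i) h
    have hWinv : ∀ g ∈ (M : Set (V ≃ₗ[K] V)) ∪ {a}, ∀ v ∈ W, g v ∈ W := by
      intro g hg v hv
      refine Submodule.iSup_induction (fun i : Fin t => img (a ^ (i : ℕ)) U₁)
        (motive := fun v => g v ∈ W) hv ?_ ?_ ?_
      · intro i v hv
        rcases hg with hg | hg
        · exact (le_iSup (fun i : Fin t => img (a ^ (i : ℕ)) U₁) i) ((hsimp i).2.1 g hg v hv)
        · rw [Set.mem_singleton_iff] at hg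
          subst hg
          have h1 : g v ∈ img (g ^ ((i : ℕ) + 1)) U₁ := by
            rw [pow_succ', img_mul]
            exact apply_mem_img hv
          by_cases hi : (i : ℕ) + 1 < t
          · exact (le_iSup (fun i : Fin t => img (g ^ (i : ℕ)) U₁) ⟨(i : ℕ) + 1, hi⟩) h1
          · have hi' : (i : ℕ) + 1 = t := by have := i.2; omega
            rw [hi', hstab] at h1
            have h2 := (le_iSup (fun i : Fin t => img (g ^ (i : ℕ)) U₁) ⟨0, htpos⟩)
            apply h2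
            show g v ∈ img (g ^ 0) U₁
            rw [pow_zero, img_one]
            exact h1
      · rw [map_zero]; exact W.zero_mem
      · intro x y hx hy
        rw [map_add]; exact W.add_mem hx hy
    have hWne : W ≠ ⊥ := by
      intro h
      have h1 : img (a ^ ((⟨0, htpos⟩ : Fin t) : ℕ)) U₁ ≤ W :=
        le_iSup (fun i : Fin t => img (a ^ (i : ℕ)) U₁) ⟨0, htpos⟩
      rw [h, le_bot_iff, img_eq_bot] at h1
      exact hU₁.1 h1
    rcases hirr W hWinv with h | h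
    · exact absurd h hWne
    · rw [h] at hWle
      exact top_le_iff.mp hWle

end main

end Cfsg.Agent.Helper4.ThB
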