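import Mathlib
import Cfsg.Agent.Lib.Helper4.ThBCliffC

/-!
# Restriction of linear groups to invariant subspaces and quotients (helper4)
-/

set_option autoImplicit false
set_option linter.unusedSectionVars false

namespace Cfsg.Agent.Helper4.ThB

open Module

variable {K : Type*} [Field K] {V : Type*} [AddCommGroup V] [Module K V]

section res

variable (S : Subgroup (V ≃ₗ[K] V)) (U : Submodule K V) (h : Inv (S : Set (V ≃ₗ[K] V)) U)

/-- restriction to an invariant subspace, as endomorphisms -/
noncomputable def resEnd : S →* Module.End K U where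
  toFun g := (g.1 : V →ₗ[K] V).restrict (h g.1 g.2)
  map_one' := by
    apply LinearMap.ext
    intro u
    rfl
  map_mul' g g' := by
    apply LinearMap.ext
    intro u
    rfl

/-- restriction to an invariant subspace -/
noncomputable def resHom : S →* (U ≃ₗ[K] U) :=
  (LinearMap.GeneralLinearGroup.generalLinearEquiv K U).toMonoidHom.comp (resEnd S U h).toHomUnits

theorem resHom_apply (g : S) (u : U) : ((resHom S U h g) u : V) = g.1 (u : V) := rfl

theorem op_resHom_apply (g : S) (u : U) : ((op (resHom S U h g)) u : V) = op g.1 (u : V) := rfl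

/-- action on the quotient by an invariant subspace, as endomorphisms -/
noncomputable def quotEnd : S →* Module.End K (V ⧸ U) where
  toFun g := U.mapQ U (g.1 : V →ₗ[K] V) (fun v hv => h g.1 g.2 v hv)
  map_one' := by
    apply LinearMap.ext
    intro x
    induction x using Submodule.Quotient.induction_on with
    | _ v => rfl
  map_mul' g g' := by
    apply LinearMap.ext
    intro x
    induction x using Submodule.Quotient.induction_on with
    | _ v => rfl

/-- action on the quotient by an invariant subspace -/
noncomputable def quotHom : S →* ((V ⧸ U) ≃ₗ[K] (V ⧸ U)) :=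
  (LinearMap.GeneralLinearGroup.generalLinearEquiv K (V ⧸ U)).toMonoidHom.comp
    (quotEnd S U h).toHomUnits

theorem quotHom_mk (g : S) (v : V) :
    (quotHom S U h g) (Submodule.Quotient.mk v) = Submodule.Quotient.mk (g.1 v) := rfl

theorem op_quotHom_mk (g : S) (v : V) :
    (op (quotHom S U h g)) (Submodule.Quotient.mk v) = Submodule.Quotient.mk (op g.1 v) := rfl

end res

/-- powers of a restricted operator -/
theorem restrict_pow_apply {U : Submodule K V} (A : Module.End K V) (B : Module.End K U)
    (hAB : ∀ u : U, ((B u : U) : V) = A (u : V)) (r : ℕ) (u : U) :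
    (((B ^ r) u : U) : V) = (A ^ r) (u : V) := by
  induction r generalizing u with
  | zero => rfl
  | succ r ih =>
    rw [pow_succ, pow_succ, Module.End.mul_apply, Module.End.mul_apply, ih, hAB]

theorem restrict_sub_one {U : Submodule K V} (A : Module.End K V) (B : Module.End K U)
    (hAB : ∀ u : U, ((B u : U) : V) = A (u : V)) (u : U) :
    (((B - 1) u : U) : V) = (A - 1) (u : V) := by
  rw [LinearMap.sub_apply, LinearMap.sub_apply, Submodule.coe_sub, hAB]
  rfl

/-- powers of an operator induced on a quotient -/
theorem quot_pow_apply {U : Submodule K V} (A : Module.End K V) (B : Module.End K (V ⧸ U))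
    (hAB : ∀ v : V, B (Submodule.Quotient.mk v) = Submodule.Quotient.mk (A v)) (r : ℕ) (v : V) :
    (B ^ r) (Submodule.Quotient.mk v) = Submodule.Quotient.mk ((A ^ r) v) := by
  induction r generalizing v with
  | zero => rfl
  | succ r ih =>
    rw [pow_succ, pow_succ, Module.End.mul_apply, Module.End.mul_apply, hAB, ih]

theorem quot_sub_one {U : Submodule K V} (A : Module.End K V) (B : Module.End K (V ⧸ U))
    (hAB : ∀ v : V, B (Submodule.Quotient.mk v) = Submodule.Quotient.mk (A v)) (v : V) :
    (B - 1) (Submodule.Quotient.mk v) = Submodule.Quotient.mk ((A - 1) v) := by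
  rw [LinearMap.sub_apply, LinearMap.sub_apply, hAB]
  rfl

/-- a simple submodule gives an irreducible restricted group -/
theorem irr_res (S : Subgroup (V ≃ₗ[K] V)) (U : Submodule K V)
    (hU : Simp (S : Set (V ≃ₗ[K] V)) U) :
    Irr (((resHom S U hU.2.1).range : Subgroup (U ≃ₗ[K] U)) : Set (U ≃ₗ[K] U)) := by
  intro U' hU'
  have h1 : Inv (S : Set (V ≃ₗ[K] V)) (U'.map U.subtype) := by
    rintro g hg _ ⟨u, hu, rfl⟩
    refine ⟨resHom S U hU.2.1 ⟨g, hg⟩ u, hU' _ ⟨⟨g, hg⟩, rfl⟩ u hu, rfl⟩
  have h2 : U'.map U.subtype ≤ U := by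
    rintro _ ⟨u, _, rfl⟩
    exact u.2
  rcases hU.2.2 _ h2 h1 with h | h
  · left
    rw [eq_bot_iff]
    intro u hu
    have : (u : V) ∈ U'.map U.subtype := ⟨u, hu, rfl⟩
    rw [h] at this
    rw [Submodule.mem_bot]
    exact Subtype.ext ((Submodule.mem_bot K).mp this)
  · right
    rw [eq_top_iff]
    intro u _
    have : (u : V) ∈ U'.map U.subtype := by rw [h]; exact u.2
    obtain ⟨u', hu', hu'u⟩ := this
    have : u' = u := Subtype.ext hu'u
    rw [← this]
    exact hu'

end Cfsg.Agent.Helper4.ThB
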