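import Mathlib
import Cfsg.Agent.Lib.Helper4.ThBRes

/-!
# Irreducible modules of `q`-groups over an algebraically closed field have `q`-power dimension
(helper4)
-/

set_option autoImplicit false
set_option linter.unusedSectionVars false
set_option linter.style.haveILetI false

namespace Cfsg.Agent.Helper4.ThB

open Module

universe u v

variable {K : Type u} [Field K] [IsAlgClosed K]

/-- a maximal normal subgroup of a nontrivial `q`-subgroup `Q`, with an element outside generating
`Q` over it -/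
theorem exists_maximal_normal {G : Type*} [Group G] (q : ℕ) [Fact q.Prime] (Q : Subgroup G)
    [Finite Q] (hQ : IsPGroup q Q) (hbot : Q ≠ ⊥) :
    ∃ (M : Subgroup G) (a : G) (j : ℕ), M ≤ Q ∧ a ∈ Q ∧ a ∉ M ∧ (∀ g ∈ M, ∀ b ∈ Q, b * g * b⁻¹ ∈ M) ∧
      a ^ (q ^ j) ∈ M ∧ Nat.card M < Nat.card Q ∧
      (Q : Set G) ⊆ (Subgroup.closure ((M : Set G) ∪ {a}) : Set G) := by
  haveI : Nontrivial Q := (Subgroup.nontrivial_iff_ne_bot Q).mpr hbot
  obtain ⟨M', hM'⟩ : ∃ M' : Subgroup Q, IsCoatom M' := by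
    rcases eq_top_or_exists_le_coatom (⊥ : Subgroup Q) with h | ⟨M', hM', -⟩
    · exact absurd h bot_ne_top
    · exact ⟨M', hM'⟩
  haveI : Group.IsNilpotent Q := hQ.isNilpotent
  haveI hM'n : M'.Normal :=
    Subgroup.NormalizerCondition.normal_of_coatom M' Group.normalizerCondition_of_isNilpotent hM'
  obtain ⟨a', ha'⟩ : ∃ a' : Q, a' ∉ M' := by
    by_contra h
    push_neg at h
    exact hM'.1 (eq_top_iff.mpr fun x _ => h x)
  obtain ⟨j, hj⟩ := hQ.index M'
  have hmemM : ∀ {g : G}, g ∈ M'.map Q.subtype ↔ ∃ hg : g ∈ Q, (⟨g, hg⟩ : Q) ∈ M' := by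
    intro g
    constructor
    · rintro ⟨m, hm, rfl⟩
      exact ⟨m.2, hm⟩
    · rintro ⟨hg, hm⟩
      exact ⟨⟨g, hg⟩, hm, rfl⟩
  refine ⟨M'.map Q.subtype, a'.1, j, ?_, a'.2, ?_, ?_, ?_, ?_, ?_⟩
  · rintro _ ⟨m, _, rfl⟩
    exact m.2
  · intro h
    obtain ⟨_, h2⟩ := hmemM.mp h
    exact ha' h2
  · intro g hg b hb
    obtain ⟨hgQ, hgM⟩ := hmemM.mp hg
    rw [hmemM]
    refine ⟨Q.mul_mem (Q.mul_mem hb hgQ) (Q.inv_mem hb), ?_⟩
    exact hM'n.conj_mem ⟨g, hgQ⟩ hgM ⟨b, hb⟩
  · rw [hmemM]
    refine ⟨Q.pow_mem a'.2 _, ?_⟩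
    have := Subgroup.pow_index_mem M' a'
    rw [hj] at this
    exact this
  · rw [Subgroup.card_map_of_injective Q.subtype_injective]
    have h1 : Nat.card M' ≤ Nat.card Q := Subgroup.card_le_card_group M'
    have h2 : Nat.card M' ≠ Nat.card Q := fun h => hM'.1 (Subgroup.eq_top_of_card_eq M' h)
    omega
  · intro g hg
    have hb : Subgroup.closure ((M' : Set Q) ∪ {a'}) = ⊤ := by
      apply hM'.2
      apply lt_of_le_of_ne
      · intro x hx
        exact Subgroup.subset_closure (Or.inl hx)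
      · intro h
        apply ha'
        rw [h]
        exact Subgroup.subset_closure (Or.inr rfl)
    have h1 : (⟨g, hg⟩ : Q) ∈ Subgroup.closure ((M' : Set Q) ∪ {a'}) := by rw [hb]; trivial
    have h2 : g ∈ (Subgroup.closure ((M' : Set Q) ∪ {a'})).map Q.subtype := ⟨⟨g, hg⟩, h1, rfl⟩
    rw [MonoidHom.map_closure] at h2
    have h3 : (Q.subtype '' ((M' : Set Q) ∪ {a'})) ⊆ ((M'.map Q.subtype : Subgroup G) : Set G) ∪ {a'.1} := by
      rintro _ ⟨x, hx | hx, rfl⟩
      · exact Or.inl ⟨x, hx, rfl⟩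
      · right
        rw [Set.mem_singleton_iff] at hx
        rw [hx]
        rfl
    exact Subgroup.closure_mono h3 h2

theorem finrank_pi_const (K : Type*) [Field K] (U : Type*) [AddCommGroup U] [Module K U]
    [FiniteDimensional K U] (t : ℕ) : finrank K (Fin t → U) = t * finrank K U := by
  rw [Module.finrank_pi_fintype]
  simp

/-- **Irreducible modules of `q`-groups have `q`-power dimension.** -/
theorem finrank_eq_prime_pow (q : ℕ) [Fact q.Prime] :
    ∀ (n : ℕ) (V : Type v) [AddCommGroup V] [Module K V] [FiniteDimensional K V] [Nontrivial V]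
      (Q : Subgroup (V ≃ₗ[K] V)) [Finite Q], Nat.card Q = n → IsPGroup q Q →
      Irr (Q : Set (V ≃ₗ[K] V)) → ∃ b : ℕ, finrank K V = q ^ b := by
  intro n
  induction n using Nat.strong_induction_on with
  | _ n ih =>
    intro V _ _ _ _ Q _ hcard hQ hirr
    by_cases hbot : Q = ⊥
    · obtain ⟨v, hv⟩ := exists_ne (0 : V)
      have h := hirr (Submodule.span K {v}) (by
        intro g hg w hw
        rw [hbot] at hg
        have : g = 1 := hg
        subst this
        exact hw)
      rcases h with h | h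
      · exfalso
        exact hv (Submodule.span_singleton_eq_bot.mp h)
      · refine ⟨0, ?_⟩
        rw [pow_zero, ← finrank_top K V, ← h, finrank_span_singleton hv]
    · obtain ⟨M, a, j, hMQ, haQ, haM, hnorm, hak, hlt, hgen⟩ := exists_maximal_normal q Q hQ hbot
      have hn1 : ∀ g ∈ M, a * g * a⁻¹ ∈ M := fun g hg => hnorm g hg a haQ
      have hn2 : ∀ g ∈ M, a⁻¹ * g * a ∈ M := fun g hg => by
        have := hnorm g hg a⁻¹ (Q.inv_mem haQ)
        rwa [inv_inv] at this
      have hqpos : 0 < q ^ j := pos_of_ne_zero (pow_ne_zero _ (Fact.out : q.Prime).ne_zero)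
      have hirr' : Irr ((M : Set (V ≃ₗ[K] V)) ∪ {a}) := by
        intro U hU
        apply hirr U
        intro g hg
        exact inv_closure hU g (hgen hg)
      obtain ⟨t, U₁, htpos, htk, hU₁, hstab, e, he⟩ :=
        cyclic_clifford M a hn1 hn2 (q ^ j) hqpos hak hirr'
      obtain ⟨i, -, hti⟩ := (Nat.dvd_prime_pow (Fact.out : q.Prime)).mp htk
      haveI : Finite M :=
        Finite.of_injective (Subgroup.inclusion hMQ) (Subgroup.inclusion_injective hMQ)
      haveI : Nontrivial U₁ := (Submodule.nontrivial_iff_ne_bot).mpr hU₁.1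
      set f := resHom M U₁ hU₁.2.1 with hf
      haveI : Finite f.range := Finite.of_surjective f.rangeRestrict f.rangeRestrict_surjective
      have hcard₁ : Nat.card f.range < n := by
        have h1 : Nat.card f.range ≤ Nat.card M :=
          Nat.le_of_dvd Nat.card_pos (Subgroup.card_range_dvd f)
        omega
      have hp₁ : IsPGroup q f.range :=
        (hQ.to_le hMQ).of_surjective f.rangeRestrict f.rangeRestrict_surjective
      obtain ⟨b₁, hb₁⟩ := ih _ hcard₁ U₁ f.range rfl hp₁ (irr_res M U₁ hU₁)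
      refine ⟨i + b₁, ?_⟩
      rw [← e.finrank_eq, finrank_pi_const, hb₁, hti, pow_add]

end Cfsg.Agent.Helper4.ThB
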