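import Mathlib
import Cfsg.Agent.Lib.Helper4.ThBCrit
import Cfsg.Agent.Lib.Helper4.ThBDim

/-!
# From representations to linear groups (helper4)
-/

set_option autoImplicit false
set_option linter.unusedSectionVars false

namespace Cfsg.Agent.Helper4.ThB

open Module

variable {K : Type*} [Field K] {V : Type*} [AddCommGroup V] [Module K V] {G : Type*} [Group G]

/-- a representation as a homomorphism to the group of linear automorphisms -/
noncomputable def repEquiv (ρ : Representation K G V) : G →* (V ≃ₗ[K] V) :=
  (LinearMap.GeneralLinearGroup.generalLinearEquiv K V).toMonoidHom.comp ρ.toHomUnits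

theorem op_repEquiv (ρ : Representation K G V) (g : G) : op (repEquiv ρ g) = ρ g := rfl

theorem repEquiv_apply (ρ : Representation K G V) (g : G) (v : V) : repEquiv ρ g v = ρ g v := rfl

theorem repEquiv_injective (ρ : Representation K G V) (h : Function.Injective ρ) :
    Function.Injective (repEquiv ρ) := by
  intro g g' hgg
  apply h
  rw [← op_repEquiv, ← op_repEquiv, hgg]

/-- an element whose operator commutes with an irreducible set is a scalar; if all elements of an
irreducible group are scalars, the dimension is one -/
theorem finrank_eq_one_of_scalar [FiniteDimensional K V] [Nontrivial V]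
    {S : Set (V ≃ₗ[K] V)} (hirr : Irr S)
    (hsc : ∀ g ∈ S, ∃ c : K, op g = c • (1 : Module.End K V)) : finrank K V = 1 := by
  obtain ⟨v, hv⟩ := exists_ne (0 : V)
  have h := hirr (Submodule.span K {v}) (by
    intro g hg w hw
    obtain ⟨c, hc⟩ := hsc g hg
    have : g w = c • w := by
      have := congrArg (fun f : Module.End K V => f w) hc
      exact this
    rw [this]
    exact Submodule.smul_mem _ _ hw)
  rcases h with h | h
  · exfalso
    exact hv (Submodule.span_singleton_eq_bot.mp h)
  · rw [← finrank_top K V, ← h, finrank_span_singleton hv]

end Cfsg.Agent.Helper4.ThB
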