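import Mathlib
import Cfsg.Agent.Lib.Helper4.ThBRep
import Cfsg.Agent.Lib.Helper4.ThBMin

/-!
# Hall–Higman Theorem B for linear groups: set-up of the induction (helper4)
-/

set_option autoImplicit false
set_option linter.unusedSectionVars false
set_option linter.style.haveILetI false

namespace Cfsg.Agent.Helper4.ThB

open Module

universe u v

/-- the conclusion of Theorem B -/
def Concl (p q : ℕ) {Γ : Type*} [Group Γ] (Q : Subgroup Γ) (n r : ℕ) : Prop :=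
  p ^ n ≤ r ∨ ∃ n₀ m : ℕ, 1 ≤ n₀ ∧ n₀ ≤ n ∧ 1 ≤ m ∧ p ^ n₀ - 1 = q ^ m ∧
    (∃ g ∈ Q, ∃ h ∈ Q, g * h ≠ h * g) ∧ p ^ (n - n₀) * (p ^ n₀ - 1) ≤ r

theorem Concl.lift {p q : ℕ} {Γ Γ' : Type*} [Group Γ] [Group Γ'] {Q : Subgroup Γ}
    {Q' : Subgroup Γ'} {n r : ℕ}
    (hl : (∃ g ∈ Q', ∃ h ∈ Q', g * h ≠ h * g) → ∃ g ∈ Q, ∃ h ∈ Q, g * h ≠ h * g)
    (h : Concl p q Q' n r) : Concl p q Q n r := by
  rcases h with h | ⟨n₀, m, h1, h2, h3, h4, h5, h6⟩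
  · exact Or.inl h
  · exact Or.inr ⟨n₀, m, h1, h2, h3, h4, hl h5, h6⟩

theorem Concl.scale {p q : ℕ} {Γ : Type*} [Group Γ] {Q : Subgroup Γ} {n₁ r₁ n r t j : ℕ}
    (ht : t = p ^ j) (hn : n = n₁ + j) (hr : t * r₁ ≤ r) (h : Concl p q Q n₁ r₁) :
    Concl p q Q n r := by
  rcases h with h | ⟨n₀, m, h1, h2, h3, h4, h5, h6⟩
  · left
    calc p ^ n = p ^ j * p ^ n₁ := by rw [hn, pow_add, mul_comm]
      _ ≤ t * r₁ := by rw [ht]; exact Nat.mul_le_mul_left _ h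
      _ ≤ r := hr
  · right
    refine ⟨n₀, m, h1, by omega, h3, h4, h5, ?_⟩
    have e : n - n₀ = (n₁ - n₀) + j := by omega
    calc p ^ (n - n₀) * (p ^ n₀ - 1) = p ^ j * (p ^ (n₁ - n₀) * (p ^ n₀ - 1)) := by
          rw [e, pow_add]; ring
      _ ≤ t * r₁ := by rw [ht]; exact Nat.mul_le_mul_left _ h6
      _ ≤ r := hr

variable {K : Type u} [Field K]

/-- the hypotheses of Theorem B for a linear `q`-group `Q` normalised by `a` -/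
structure Hyp (p q : ℕ) {V : Type v} [AddCommGroup V] [Module K V] (Q : Subgroup (V ≃ₗ[K] V))
    (a : V ≃ₗ[K] V) (n : ℕ) : Prop where
  fin : Finite Q
  pgrp : IsPGroup q Q
  norm : ∀ g ∈ Q, a * g * a⁻¹ ∈ Q
  npos : 1 ≤ n
  pow : a ^ (p ^ n) = 1
  act : ∃ g ∈ Q, a ^ (p ^ (n - 1)) * g ≠ g * a ^ (p ^ (n - 1))

/-- the statement proved by induction on `N = |Q| + dim V` -/
def Stmt (p q : ℕ) (K : Type u) [Field K] (N : ℕ) : Prop :=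
  ∀ (V : Type v) [AddCommGroup V] [Module K V] [FiniteDimensional K V]
    (Q : Subgroup (V ≃ₗ[K] V)) (a : V ≃ₗ[K] V) (n : ℕ),
    Nat.card Q + finrank K V = N → Hyp p q Q a n → ∀ r, (op a - 1) ^ r = 0 → Concl p q Q n r

section img

variable {Γ Γ' : Type*} [Group Γ] [Group Γ'] {Q S : Subgroup Γ} (φ : S →* Γ') (hQS : Q ≤ S)

/-- the image of `Q` under a homomorphism defined on a larger subgroup -/
def imgGrp : Subgroup Γ' := (φ.comp (Subgroup.inclusion hQS)).range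

theorem mem_imgGrp {x : Γ'} : x ∈ imgGrp φ hQS ↔ ∃ g, ∃ hg : g ∈ Q, φ ⟨g, hQS hg⟩ = x := by
  constructor
  · rintro ⟨g, rfl⟩
    exact ⟨g.1, g.2, rfl⟩
  · rintro ⟨g, hg, rfl⟩
    exact ⟨⟨g, hg⟩, rfl⟩

theorem imgGrp_finite [Finite Q] : Finite (imgGrp φ hQS) :=
  Finite.of_surjective (φ.comp (Subgroup.inclusion hQS)).rangeRestrict
    (MonoidHom.rangeRestrict_surjective _)

theorem card_imgGrp_le [Finite Q] : Nat.card (imgGrp φ hQS) ≤ Nat.card Q :=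
  Nat.le_of_dvd Nat.card_pos (Subgroup.card_range_dvd _)

theorem imgGrp_isPGroup {q : ℕ} (hQ : IsPGroup q Q) : IsPGroup q (imgGrp φ hQS) :=
  hQ.of_surjective (φ.comp (Subgroup.inclusion hQS)).rangeRestrict
    (MonoidHom.rangeRestrict_surjective _)

theorem imgGrp_lift (h : ∃ g ∈ imgGrp φ hQS, ∃ h ∈ imgGrp φ hQS, g * h ≠ h * g) :
    ∃ g ∈ Q, ∃ h ∈ Q, g * h ≠ h * g := by
  obtain ⟨x, hx, y, hy, hxy⟩ := h
  obtain ⟨g, hg, rfl⟩ := (mem_imgGrp φ hQS).mp hx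
  obtain ⟨h, hh, rfl⟩ := (mem_imgGrp φ hQS).mp hy
  refine ⟨g, hg, h, hh, ?_⟩
  intro hc
  apply hxy
  rw [← map_mul, ← map_mul]
  congr 1
  exact Subtype.ext hc

end img

/-- descent to a smaller configuration -/
theorem descend {p q : ℕ} {N : ℕ} (ih : ∀ N' < N, Stmt.{u, v} p q K N')
    {V : Type v} [AddCommGroup V] [Module K V] [FiniteDimensional K V]
    (Q : Subgroup (V ≃ₗ[K] V)) [Finite Q] (hQ : IsPGroup q Q)
    (hN : Nat.card Q + finrank K V = N)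
    (S : Subgroup (V ≃ₗ[K] V)) (hQS : Q ≤ S) (b : V ≃ₗ[K] V) (hbS : b ∈ S)
    (hbQ : ∀ g ∈ Q, b * g * b⁻¹ ∈ Q)
    (V' : Type v) [AddCommGroup V'] [Module K V'] [FiniteDimensional K V']
    (φ : S →* (V' ≃ₗ[K] V')) (hdim : finrank K V' < finrank K V)
    (n₁ : ℕ) (hn₁ : 1 ≤ n₁) (hbP : b ^ (p ^ n₁) = 1)
    (hact : ∃ g, ∃ hg : g ∈ Q, φ ⟨b, hbS⟩ ^ (p ^ (n₁ - 1)) * φ ⟨g, hQS hg⟩
      ≠ φ ⟨g, hQS hg⟩ * φ ⟨b, hbS⟩ ^ (p ^ (n₁ - 1)))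
    (r₁ : ℕ) (hr₁ : (op (φ ⟨b, hbS⟩) - 1) ^ r₁ = 0) : Concl p q Q n₁ r₁ := by
  have hyp' : Hyp p q (imgGrp φ hQS) (φ ⟨b, hbS⟩) n₁ := by
    refine ⟨imgGrp_finite φ hQS, imgGrp_isPGroup φ hQS hQ, ?_, hn₁, ?_, ?_⟩
    · intro x hx
      obtain ⟨g, hg, rfl⟩ := (mem_imgGrp φ hQS).mp hx
      rw [mem_imgGrp]
      refine ⟨b * g * b⁻¹, hbQ g hg, ?_⟩
      rw [← map_inv, ← map_mul, ← map_mul]
      rfl
    · rw [← map_pow]
      have : (⟨b, hbS⟩ : S) ^ (p ^ n₁) = 1 := Subtype.ext (by simpa using hbP)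
      rw [this, map_one]
    · obtain ⟨g, hg, hne⟩ := hact
      exact ⟨φ ⟨g, hQS hg⟩, (mem_imgGrp φ hQS).mpr ⟨g, hg, rfl⟩, hne⟩
  have hlt : Nat.card (imgGrp φ hQS) + finrank K V' < N := by
    have := card_imgGrp_le φ hQS
    omega
  exact Concl.lift (imgGrp_lift φ hQS) (ih _ hlt V' (imgGrp φ hQS) (φ ⟨b, hbS⟩) n₁ rfl hyp' r₁ hr₁)

end Cfsg.Agent.Helper4.ThB
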