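import Mathlib
import Cfsg.Agent.Lib.Helper4.ThBIndA

/-!
# Hall–Higman Theorem B for linear groups: the reduction steps (helper4)
-/

set_option autoImplicit false
set_option linter.unusedSectionVars false
set_option linter.style.haveILetI false

namespace Cfsg.Agent.Helper4.ThB

open Module

universe u v

variable {K : Type u} [Field K] {V : Type v} [AddCommGroup V] [Module K V]

/-- a `q`-element which is unipotent in characteristic `p ≠ q` is trivial -/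
theorem eq_one_of_unipotent {p q : ℕ} [hp : Fact p.Prime] [hq : Fact q.Prime] (hpq : p ≠ q)
    [CharP K p] [Nontrivial V] (Q : Subgroup (V ≃ₗ[K] V)) (hQ : IsPGroup q Q) (c : V ≃ₗ[K] V)
    (hc : c ∈ Q) (hu : (op c - 1) ^ 2 = 0) : c = 1 := by
  have h1 : (op c - 1) ^ (p ^ 1) = 0 := by
    have h2 : 2 ≤ p ^ 1 := by rw [pow_one]; exact hp.out.two_le
    have : p ^ 1 = 2 + (p ^ 1 - 2) := by omega
    rw [this, pow_add, hu, zero_mul]
  rw [sub_one_pow_char_pow K (op c) 1, sub_eq_zero, ← op_pow, ← op_one] at h1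
  have h3 : c ^ (p ^ 1) = 1 := op_injective h1
  obtain ⟨m, hm⟩ := hQ ⟨c, hc⟩
  have hm' : c ^ (q ^ m) = 1 := by
    have := congrArg Subtype.val hm
    simpa using this
  have hcop : Nat.Coprime (p ^ 1) (q ^ m) :=
    Nat.Coprime.pow _ _ ((Nat.coprime_primes hp.out hq.out).mpr hpq)
  have h4 : orderOf c = 1 := Nat.eq_one_of_dvd_coprimes hcop
    (orderOf_dvd_of_pow_eq_one h3) (orderOf_dvd_of_pow_eq_one hm')
  exact orderOf_eq_one_iff.mp h4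

/-- the reducible case -/
theorem stepA {p q : ℕ} [hp : Fact p.Prime] [hq : Fact q.Prime] (hpq : p ≠ q) [CharP K p]
    {N : ℕ} (ih : ∀ N' < N, Stmt.{u, v} p q K N') [FiniteDimensional K V] [Nontrivial V]
    (Q : Subgroup (V ≃ₗ[K] V)) (a : V ≃ₗ[K] V) (n : ℕ)
    (hN : Nat.card Q + finrank K V = N) (hyp : Hyp p q Q a n)
    (U : Submodule K V) (hUinv : Inv ((Q : Set (V ≃ₗ[K] V)) ∪ {a}) U) (hU0 : U ≠ ⊥) (hU1 : U ≠ ⊤)
    (r : ℕ) (hr : (op a - 1) ^ r = 0) : Concl p q Q n r := by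
  classical
  haveI := hyp.fin
  set S : Subgroup (V ≃ₗ[K] V) := Subgroup.closure ((Q : Set (V ≃ₗ[K] V)) ∪ {a}) with hS
  have hSU : Inv (S : Set (V ≃ₗ[K] V)) U := inv_closure hUinv
  have hQS : Q ≤ S := fun g hg => Subgroup.subset_closure (Or.inl hg)
  have haS : a ∈ S := Subgroup.subset_closure (Or.inr rfl)
  set φ₁ := resHom S U hSU with hφ₁
  set φ₂ := quotHom S U hSU with hφ₂
  have hdim₁ : finrank K U < finrank K V := Submodule.finrank_lt hU1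
  have hdim₂ : finrank K (V ⧸ U) < finrank K V := by
    have h1 := Submodule.finrank_quotient_add_finrank U
    have h2 : finrank K U ≠ 0 := fun h => hU0 (Submodule.finrank_eq_zero.mp h)
    omega
  have hr₁ : (op (φ₁ ⟨a, haS⟩) - 1) ^ r = 0 := by
    apply LinearMap.ext
    intro u
    apply Subtype.ext
    rw [restrict_pow_apply (op a - 1) (op (φ₁ ⟨a, haS⟩) - 1)
      (fun u => restrict_sub_one (op a) (op (φ₁ ⟨a, haS⟩)) (fun _ => rfl) u) r u, hr]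
    rfl
  have hr₂ : (op (φ₂ ⟨a, haS⟩) - 1) ^ r = 0 := by
    apply LinearMap.ext
    intro x
    induction x using Submodule.Quotient.induction_on with
    | _ v =>
      rw [quot_pow_apply (op a - 1) (op (φ₂ ⟨a, haS⟩) - 1)
        (fun v => quot_sub_one (op a) (op (φ₂ ⟨a, haS⟩)) (fun _ => rfl) v) r v, hr]
      rfl
  by_cases h1 : ∃ g, ∃ hg : g ∈ Q, φ₁ ⟨a, haS⟩ ^ (p ^ (n - 1)) * φ₁ ⟨g, hQS hg⟩
      ≠ φ₁ ⟨g, hQS hg⟩ * φ₁ ⟨a, haS⟩ ^ (p ^ (n - 1))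
  · exact descend ih Q hyp.pgrp hN S hQS a haS hyp.norm U φ₁ hdim₁ n hyp.npos hyp.pow h1 r hr₁
  by_cases h2 : ∃ g, ∃ hg : g ∈ Q, φ₂ ⟨a, haS⟩ ^ (p ^ (n - 1)) * φ₂ ⟨g, hQS hg⟩
      ≠ φ₂ ⟨g, hQS hg⟩ * φ₂ ⟨a, haS⟩ ^ (p ^ (n - 1))
  · exact descend ih Q hyp.pgrp hN S hQS a haS hyp.norm (V ⧸ U) φ₂ hdim₂ n hyp.npos hyp.pow h2 r hr₂
  exfalso
  push_neg at h1 h2
  obtain ⟨g, hg, hne⟩ := hyp.act
  obtain ⟨y', hy'⟩ : ∃ y' : S, y' = ⟨a, haS⟩ ^ (p ^ (n - 1)) := ⟨_, rfl⟩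
  obtain ⟨g', hg'⟩ : ∃ g' : S, g' = ⟨g, hQS hg⟩ := ⟨_, rfl⟩
  obtain ⟨c', hc'⟩ : ∃ c' : S, c' = y' * g' * y'⁻¹ * g'⁻¹ := ⟨_, rfl⟩
  have hcval : (c' : V ≃ₗ[K] V) = a ^ (p ^ (n - 1)) * g * (a ^ (p ^ (n - 1)))⁻¹ * g⁻¹ := by
    rw [hc', hy', hg']
    rfl
  have hcQ : (c' : V ≃ₗ[K] V) ∈ Q := by
    rw [hcval]
    exact Q.mul_mem (conj_pow_mem Q a hyp.norm _ g hg) (Q.inv_mem hg)
  have hφ₁c : φ₁ c' = 1 := by
    have hcm : φ₁ y' * φ₁ g' = φ₁ g' * φ₁ y' := by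
      rw [hy', hg', map_pow]
      exact h1 g hg
    rw [hc', map_mul, map_mul, map_mul, map_inv, map_inv, hcm]
    group
  have hφ₂c : φ₂ c' = 1 := by
    have hcm : φ₂ y' * φ₂ g' = φ₂ g' * φ₂ y' := by
      rw [hy', hg', map_pow]
      exact h2 g hg
    rw [hc', map_mul, map_mul, map_mul, map_inv, map_inv, hcm]
    group
  have hcU : ∀ u ∈ U, (c' : V ≃ₗ[K] V) u = u := by
    intro u hu
    have := congrArg (fun f : U ≃ₗ[K] U => ((f ⟨u, hu⟩ : U) : V)) hφ₁c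
    exact this
  have hcV : ∀ v : V, (c' : V ≃ₗ[K] V) v - v ∈ U := by
    intro v
    have := congrArg (fun f : (V ⧸ U) ≃ₗ[K] (V ⧸ U) => f (Submodule.Quotient.mk v)) hφ₂c
    have h3 : (Submodule.Quotient.mk ((c' : V ≃ₗ[K] V) v) : V ⧸ U) = Submodule.Quotient.mk v := this
    rw [Submodule.Quotient.eq] at h3
    exact h3
  have hc1 : (c' : V ≃ₗ[K] V) = 1 := by
    apply eq_one_of_unipotent (K := K) hpq Q hyp.pgrp _ hcQ
    apply LinearMap.ext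
    intro v
    rw [pow_two, Module.End.mul_apply]
    have h3 : (op (c' : V ≃ₗ[K] V) - 1) v = (c' : V ≃ₗ[K] V) v - v := rfl
    rw [h3]
    have h4 := hcU _ (hcV v)
    show (c' : V ≃ₗ[K] V) ((c' : V ≃ₗ[K] V) v - v) - ((c' : V ≃ₗ[K] V) v - v) = 0
    rw [h4, sub_self]
  apply hne
  rw [hcval] at hc1
  calc a ^ (p ^ (n - 1)) * g
      = (a ^ (p ^ (n - 1)) * g * (a ^ (p ^ (n - 1)))⁻¹ * g⁻¹) * (g * a ^ (p ^ (n - 1))) := by group
    _ = g * a ^ (p ^ (n - 1)) := by rw [hc1, one_mul]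

/-- in an induced module, nilpotency of `a - 1` of index `r` gives nilpotency of `a ^ t - 1` of
index `r / t` on the stable summand -/
theorem floor_nilpotent {p : ℕ} [hp : Fact p.Prime] [CharP K p] (a : V ≃ₗ[K] V) (j : ℕ)
    (U₁ : Submodule K V) (e : (Fin (p ^ j) → U₁) ≃ₗ[K] V)
    (he : ∀ u : Fin (p ^ j) → U₁, e u = ∑ i : Fin (p ^ j), (a ^ (i : ℕ)) ((u i : U₁) : V))
    (hstab : ∀ u ∈ U₁, (a ^ (p ^ j)) u ∈ U₁) (r : ℕ) (hr : (op a - 1) ^ r = 0) :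
    ∀ u ∈ U₁, ((op (a ^ (p ^ j)) - 1) ^ (r / p ^ j)) u = 0 := by
  have htpos : 0 < p ^ j := pos_of_ne_zero (pow_ne_zero _ hp.out.ne_zero)
  intro u hu
  have hB : ∀ k : ℕ, ∀ w ∈ U₁, ((op (a ^ (p ^ j)) - 1) ^ k) w ∈ U₁ := by
    intro k
    induction k with
    | zero => intro w hw; exact hw
    | succ k ih =>
      intro w hw
      rw [pow_succ', Module.End.mul_apply]
      have h1 := ih w hw
      exact U₁.sub_mem (hstab _ h1) h1
  obtain ⟨u', hu'⟩ : ∃ u' : V, u' = ((op (a ^ (p ^ j)) - 1) ^ (r / p ^ j)) u := ⟨_, rfl⟩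
  have hu'U : u' ∈ U₁ := by rw [hu']; exact hB _ u hu
  have hge : r ≤ p ^ j * (r / p ^ j) + (p ^ j - 1) := by
    have h1 := Nat.div_add_mod r (p ^ j)
    have h2 := Nat.mod_lt r htpos
    omega
  have hz : (op a - 1) ^ (p ^ j * (r / p ^ j) + (p ^ j - 1)) = 0 := by
    have : p ^ j * (r / p ^ j) + (p ^ j - 1)
        = r + (p ^ j * (r / p ^ j) + (p ^ j - 1) - r) := by omega
    rw [this, pow_add, hr, zero_mul]
  have h1 : ((op a - 1) ^ (p ^ j * (r / p ^ j) + (p ^ j - 1))) u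
      = ∑ i ∈ Finset.range (p ^ j), (op a ^ i) u' := by
    rw [add_comm, pow_add, Module.End.mul_apply, pow_mul,
      sub_one_pow_char_pow K (op a) j, ← geom_sum_eq K (op a) j, ← op_pow,
      LinearMap.sum_apply, hu']
  rw [hz, LinearMap.zero_apply] at h1
  have h2 : e (fun _ => ⟨u', hu'U⟩) = 0 := by
    rw [he, h1, Fin.sum_univ_eq_sum_range (fun i => (a ^ i) u') (p ^ j)]
    refine Finset.sum_congr rfl fun i _ => ?_
    rw [← op_pow]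
    rfl
  have h3 : (fun _ : Fin (p ^ j) => (⟨u', hu'U⟩ : U₁)) = 0 := by
    apply e.injective
    rw [h2, map_zero]
  have h4 := congrFun h3 ⟨0, htpos⟩
  have h5 : u' = 0 := congrArg Subtype.val h4
  rw [← hu', h5]

/-- commutation on the stable summand of an induced module gives commutation everywhere -/
theorem commute_of_commute_on_summand (Q : Subgroup (V ≃ₗ[K] V)) (a : V ≃ₗ[K] V)
    (hn' : ∀ i : ℕ, ∀ g ∈ Q, (a ^ i)⁻¹ * g * a ^ i ∈ Q) (t : ℕ) (U₁ : Submodule K V)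
    (e : (Fin t → U₁) ≃ₗ[K] V)
    (he : ∀ u : Fin t → U₁, e u = ∑ i : Fin t, (a ^ (i : ℕ)) ((u i : U₁) : V))
    (y : V ≃ₗ[K] V) (hya : Commute a y)
    (h : ∀ g ∈ Q, ∀ u ∈ U₁, y (g u) = g (y u)) : ∀ g ∈ Q, y * g = g * y := by
  intro g hg
  apply LinearEquiv.ext
  intro v
  obtain ⟨w, rfl⟩ := e.surjective v
  rw [he]
  show y (g (∑ i : Fin t, (a ^ (i : ℕ)) ((w i : U₁) : V)))
    = g (y (∑ i : Fin t, (a ^ (i : ℕ)) ((w i : U₁) : V)))
  rw [map_sum, map_sum, map_sum, map_sum]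
  refine Finset.sum_congr rfl fun i _ => ?_
  set u : V := ((w i : U₁) : V) with hu
  have huU : u ∈ U₁ := (w i).2
  set gi : V ≃ₗ[K] V := (a ^ (i : ℕ))⁻¹ * g * a ^ (i : ℕ) with hgi
  have hgiQ : gi ∈ Q := hn' i g hg
  have key : ∀ z : V, g ((a ^ (i : ℕ)) z) = (a ^ (i : ℕ)) (gi z) := by
    intro z
    show _ = (a ^ (i : ℕ) * ((a ^ (i : ℕ))⁻¹ * g * a ^ (i : ℕ))) z
    have : a ^ (i : ℕ) * ((a ^ (i : ℕ))⁻¹ * g * a ^ (i : ℕ)) = g * a ^ (i : ℕ) := by group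
    rw [this]
    rfl
  have hyai : ∀ z : V, y ((a ^ (i : ℕ)) z) = (a ^ (i : ℕ)) (y z) := by
    intro z
    have : y * a ^ (i : ℕ) = a ^ (i : ℕ) * y := ((hya.pow_left _).eq).symm
    exact congrArg (fun f : V ≃ₗ[K] V => f z) this
  rw [key, hyai, h gi hgiQ u huU, ← key, hyai]

end Cfsg.Agent.Helper4.ThB
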