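import Mathlib
import Cfsg.Agent.Lib.Helper4.ThBIndB

/-!
# Hall–Higman Theorem B for linear groups over an algebraically closed field (helper4)
-/

set_option autoImplicit false
set_option linter.unusedSectionVars false
set_option linter.style.haveILetI false
set_option maxHeartbeats 1000000

namespace Cfsg.Agent.Helper4.ThB

open Module

universe u v

variable {K : Type u} [Field K]

theorem commute_of_finrank_one {V : Type v} [AddCommGroup V] [Module K V]
    (h : finrank K V = 1) (g g' : V ≃ₗ[K] V) : g * g' = g' * g := by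
  obtain ⟨v, -, hv⟩ := finrank_eq_one_iff'.mp h
  obtain ⟨c, hc⟩ := hv (g v)
  obtain ⟨c', hc'⟩ := hv (g' v)
  apply LinearEquiv.ext
  intro w
  obtain ⟨d, rfl⟩ := hv w
  show g (g' (d • v)) = g' (g (d • v))
  have e1 : g v = c • v := hc.symm
  have e2 : g' v = c' • v := hc'.symm
  have h1 : g (g' (d • v)) = (d * c' * c) • v := by
    rw [g'.map_smul d v, e2, g.map_smul d (c' • v), g.map_smul c' v, e1, smul_smul, smul_smul]
  have h2 : g' (g (d • v)) = (d * c * c') • v := by
    rw [g.map_smul d v, e1, g'.map_smul d (c • v), g'.map_smul c v, e2, smul_smul, smul_smul]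
  rw [h1, h2, mul_assoc, mul_comm c' c, ← mul_assoc]

theorem card_coprime_of_isPGroup {p q : ℕ} [hp : Fact p.Prime] [hq : Fact q.Prime] (hpq : p ≠ q)
    {G : Type*} [Group G] [Finite G] (hG : IsPGroup q G) : (Nat.card G).Coprime p := by
  obtain ⟨m, hm⟩ := (IsPGroup.iff_card (p := q)).mp hG
  rw [hm]
  exact Nat.Coprime.pow_left _ ((Nat.coprime_primes hq.out hp.out).mpr (Ne.symm hpq))

/-- **Hall–Higman Theorem B** for a `q`-group of linear automorphisms normalised by a `p`-element,
over an algebraically closed field of characteristic `p`. -/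
theorem thmB_stmt (p q : ℕ) [hp : Fact p.Prime] [hq : Fact q.Prime] (hpq : p ≠ q)
    [IsAlgClosed K] [CharP K p] : ∀ N : ℕ, Stmt.{u, v} p q K N := by
  intro N
  induction N using Nat.strong_induction_on with
  | _ N ih =>
    intro V _ _ _ Q a n hN hyp r hr
    classical
    haveI := hyp.fin
    have hpp : p.Prime := hp.out
    haveI : Nontrivial V := by
      by_contra h
      rw [not_nontrivial_iff_subsingleton] at h
      obtain ⟨g, _, hne⟩ := hyp.act
      apply hne
      apply LinearEquiv.ext
      intro v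
      exact Subsingleton.elim _ _
    have hPpos : 0 < p ^ n := pos_of_ne_zero (pow_ne_zero _ hpp.ne_zero)
    have hn' := conj_inv_mem Q a hyp.norm (p ^ n) hPpos hyp.pow
    by_cases hirr : Irr ((Q : Set (V ≃ₗ[K] V)) ∪ {a})
    swap
    · unfold Irr at hirr
      push_neg at hirr
      obtain ⟨U, hUinv, hU0, hU1⟩ := hirr
      exact stepA hpq ih Q a n hN hyp U hUinv hU0 hU1 r hr
    obtain ⟨t, U₁, htpos, htk, hU₁, hstab, e, he⟩ :=
      cyclic_clifford Q a hyp.norm hn' (p ^ n) hPpos (by rw [hyp.pow]; exact Q.one_mem) hirr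
    obtain ⟨j, hjn, rfl⟩ := (Nat.dvd_prime_pow hpp).mp htk
    have hstab' : ∀ u ∈ U₁, (a ^ (p ^ j)) u ∈ U₁ := by
      intro u hu
      have := apply_mem_img (g := a ^ (p ^ j)) hu
      rwa [hstab] at this
    have hfloor := floor_nilpotent a j U₁ e he hstab' r hr
    have hdimV : finrank K V = p ^ j * finrank K U₁ := by
      rw [← e.finrank_eq, finrank_pi_const]
    have hU₁pos : 0 < finrank K U₁ := by
      rw [Nat.pos_iff_ne_zero]
      exact fun h => hU₁.1 (Submodule.finrank_eq_zero.mp h)
    rcases Nat.eq_zero_or_pos j with hj0 | hjpos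
    · -- the homogeneous case
      subst hj0
      have hU₁top : U₁ = ⊤ := by
        rw [eq_top_iff]
        intro v _
        obtain ⟨w, rfl⟩ := e.surjective v
        rw [he]
        apply Submodule.sum_mem
        intro i _
        have hi : (i : ℕ) = 0 := by
          have := i.2
          simp only [pow_zero] at this
          omega
        rw [hi, pow_zero]
        exact (w i).2
      have hirrQ : Irr (Q : Set (V ≃ₗ[K] V)) := by
        intro U hU
        rcases hU₁.2.2 U (by rw [hU₁top]; exact le_top) hU with h | h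
        · exact Or.inl h
        · exact Or.inr (h.trans hU₁top)
      by_cases hex : ∃ Q₀ : Subgroup (V ≃ₗ[K] V), Q₀ ≤ Q ∧ Q₀ ≠ Q ∧
          (∀ g ∈ Q₀, a * g * a⁻¹ ∈ Q₀) ∧
          ∃ g ∈ Q₀, a ^ (p ^ (n - 1)) * g ≠ g * a ^ (p ^ (n - 1))
      · obtain ⟨Q₀, hle, hne, hinv, hact⟩ := hex
        haveI : Finite Q₀ :=
          Finite.of_injective (Subgroup.inclusion hle) (Subgroup.inclusion_injective hle)
        have hyp₀ : Hyp p q Q₀ a n :=
          ⟨inferInstance, hyp.pgrp.to_le hle, hinv, hyp.npos, hyp.pow, hact⟩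
        have hcard : Nat.card Q₀ < Nat.card Q := by
          have h1 := Subgroup.card_le_of_le hle
          have h2 : Nat.card Q₀ ≠ Nat.card Q :=
            fun h => hne (Subgroup.eq_of_le_of_card_ge hle h.ge)
          omega
        have hC := ih (Nat.card Q₀ + finrank K V) (by omega) V Q₀ a n rfl hyp₀ r hr
        exact Concl.lift (fun ⟨g, hg, h, hh, hgh⟩ => ⟨g, hle hg, h, hle hh, hgh⟩) hC
      · push_neg at hex
        have hcrit := critical_of_minimal hpq Q hyp.pgrp a hyp.norm n hyp.npos hyp.pow hyp.act
          (fun Q₀ h1 h2 h3 g hg => hex Q₀ h1 h2 h3 g hg)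
        have hfix : ∀ g ∈ Q, ∀ i, 0 < i → i < p ^ n → a ^ i * g * (a ^ i)⁻¹ = g →
            ∃ c : K, op g = c • (1 : Module.End K V) := by
          intro g hg i hi0 hiP hc
          apply schur hirrQ
          intro h hh
          rw [← op_mul, ← op_mul, hcrit g hg i hi0 hiP hc h hh]
        have hexs : ∃ s, (op a - 1) ^ s = 0 := ⟨r, hr⟩
        have hs := Nat.find_spec hexs
        have hmins : ∀ k < Nat.find hexs, (op a - 1) ^ k ≠ 0 := fun k hk => Nat.find_min hexs hk
        have hsr : Nat.find hexs ≤ r := Nat.find_min' hexs hr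
        have hcop : (Nat.card Q).Coprime p := card_coprime_of_isPGroup hpq hyp.pgrp
        rcases crit_main Q hirrQ hcop a hyp.norm n hyp.pow hfix _ hs hmins with h | ⟨hdim, h | h⟩
        · left
          omega
        · exfalso
          rw [h, pow_one, sub_eq_zero] at hs
          have ha1 : a = 1 := op_injective (hs.trans op_one.symm)
          obtain ⟨g, _, hne⟩ := hyp.act
          apply hne
          rw [ha1]
          simp
        · right
          obtain ⟨m, hm⟩ := finrank_eq_prime_pow (K := K) q _ V Q rfl hyp.pgrp hirrQ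
          have hnc : ∃ g ∈ Q, ∃ h ∈ Q, g * h ≠ h * g := by
            by_contra hall
            push_neg at hall
            have hsc : ∀ g ∈ (Q : Set (V ≃ₗ[K] V)), ∃ c : K, op g = c • (1 : Module.End K V) :=
              fun g hg => schur hirrQ (op g) (fun h hh => by
                rw [← op_mul, ← op_mul, hall g hg h hh])
            have h1 := finrank_eq_one_of_scalar hirrQ hsc
            obtain ⟨g, _, hne⟩ := hyp.act
            exact hne (commute_of_finrank_one h1 _ _)
          have hm1 : 1 ≤ m := by
            by_contra h0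
            have hm0 : m = 0 := by omega
            rw [hm0, pow_zero] at hm
            obtain ⟨g, _, hne⟩ := hyp.act
            exact hne (commute_of_finrank_one hm _ _)
          refine ⟨n, m, hyp.npos, le_rfl, hm1, by omega, hnc, ?_⟩
          rw [Nat.sub_self, pow_zero, one_mul]
          omega
    · -- the induced case
      by_cases hn₁ : n - j = 0
      · left
        have hjn' : j = n := by omega
        by_contra hlt
        push_neg at hlt
        have hdiv : r / p ^ j = 0 := Nat.div_eq_of_lt (by rw [hjn']; exact hlt)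
        obtain ⟨u, hu, hu0⟩ := Submodule.exists_mem_ne_zero_of_ne_bot hU₁.1
        have := hfloor u hu
        rw [hdiv, pow_zero] at this
        exact hu0 this
      · set b : V ≃ₗ[K] V := a ^ (p ^ j) with hb
        set S₁ : Subgroup (V ≃ₗ[K] V) := Subgroup.closure ((Q : Set (V ≃ₗ[K] V)) ∪ {b}) with hS₁
        have hS₁U : Inv (S₁ : Set (V ≃ₗ[K] V)) U₁ := by
          apply inv_closure
          rintro g (hg | hg) u hu
          · exact hU₁.2.1 g hg u hu
          · rw [Set.mem_singleton_iff] at hg
            rw [hg]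
            exact hstab' u hu
        have hQS₁ : Q ≤ S₁ := fun g hg => Subgroup.subset_closure (Or.inl hg)
        have hbS : b ∈ S₁ := Subgroup.subset_closure (Or.inr rfl)
        have hbQ : ∀ g ∈ Q, b * g * b⁻¹ ∈ Q := conj_pow_mem Q a hyp.norm (p ^ j)
        have hbP : b ^ (p ^ (n - j)) = 1 := by
          rw [hb, ← pow_mul, ← pow_add]
          have : j + (n - j) = n := by omega
          rw [this, hyp.pow]
        have hpj2 : 2 ≤ p ^ j := by
          calc 2 ≤ p := hpp.two_le
            _ = p ^ 1 := (pow_one p).symm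
            _ ≤ p ^ j := Nat.pow_le_pow_right hpp.pos hjpos
        have hdim : finrank K U₁ < finrank K V := by
          rw [hdimV]
          nlinarith
        set φ := resHom S₁ U₁ hS₁U with hφ
        have hr₁ : (op (φ ⟨b, hbS⟩) - 1) ^ (r / p ^ j) = 0 := by
          apply LinearMap.ext
          intro u
          apply Subtype.ext
          rw [restrict_pow_apply (op b - 1) (op (φ ⟨b, hbS⟩) - 1)
            (fun u => restrict_sub_one (op b) (op (φ ⟨b, hbS⟩)) (fun _ => rfl) u) _ u]
          exact hfloor u.1 u.2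
        have hyb : b ^ (p ^ (n - j - 1)) = a ^ (p ^ (n - 1)) := by
          rw [hb, ← pow_mul, ← pow_add]
          congr 2
          omega
        have hact : ∃ g, ∃ hg : g ∈ Q, φ ⟨b, hbS⟩ ^ (p ^ (n - j - 1)) * φ ⟨g, hQS₁ hg⟩
            ≠ φ ⟨g, hQS₁ hg⟩ * φ ⟨b, hbS⟩ ^ (p ^ (n - j - 1)) := by
          by_contra hall
          push_neg at hall
          have hn'pow : ∀ i : ℕ, ∀ g ∈ Q, (a ^ i)⁻¹ * g * a ^ i ∈ Q := by
            intro i g hg
            have h1 : ∀ g ∈ Q, (a ^ i) * g * (a ^ i)⁻¹ ∈ Q := conj_pow_mem Q a hyp.norm i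
            have h2 : (a ^ i) ^ (p ^ n) = 1 := by
              rw [← pow_mul, mul_comm, pow_mul, hyp.pow, one_pow]
            exact conj_inv_mem Q (a ^ i) h1 (p ^ n) hPpos h2 g hg
          have hcomm := commute_of_commute_on_summand Q a hn'pow (p ^ j) U₁ e he
            (a ^ (p ^ (n - 1))) ((Commute.refl a).pow_right _) (by
              intro g hg u hu
              have h1 := hall g hg
              rw [← map_pow] at h1
              have h2 := congrArg (fun f : U₁ ≃ₗ[K] U₁ => ((f ⟨u, hu⟩ : U₁) : V)) h1
              have h3 : (((⟨b, hbS⟩ : S₁) ^ (p ^ (n - j - 1)) : S₁) : V ≃ₗ[K] V)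
                  = a ^ (p ^ (n - 1)) := by
                rw [Subgroup.coe_pow]
                exact hyb
              have h4 : (a ^ (p ^ (n - 1))) (g u)
                  = (((⟨b, hbS⟩ : S₁) ^ (p ^ (n - j - 1)) : S₁) : V ≃ₗ[K] V) (g u) := by rw [h3]
              have h5 : g ((a ^ (p ^ (n - 1))) u)
                  = g ((((⟨b, hbS⟩ : S₁) ^ (p ^ (n - j - 1)) : S₁) : V ≃ₗ[K] V) u) := by rw [h3]
              rw [h4, h5]
              exact h2)
          obtain ⟨g, hg, hne⟩ := hyp.act
          exact hne (hcomm g hg)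
        have hC₁ := descend ih Q hyp.pgrp hN S₁ hQS₁ b hbS hbQ U₁ φ hdim (n - j) (by omega) hbP
          hact (r / p ^ j) hr₁
        exact hC₁.scale (t := p ^ j) (j := j) rfl (by omega) (Nat.mul_div_le r (p ^ j))

end Cfsg.Agent.Helper4.ThB
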