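import Mathlib
import Cfsg.Agent.Lib.Helper4.ThBIndC
import Cfsg.Agent.Lib.Helper4.ThBBase

/-!
# Hall–Higman Theorem B for linear groups over an arbitrary field of characteristic `p` (helper4)
-/

set_option autoImplicit false
set_option linter.unusedSectionVars false
set_option linter.style.haveILetI false

namespace Cfsg.Agent.Helper4.ThB

open Module TensorProduct

theorem thmB_field {F : Type*} [Field F] {p q : ℕ} [hp : Fact p.Prime] [hq : Fact q.Prime]
    (hpq : p ≠ q) [CharP F p] {V : Type*} [AddCommGroup V] [Module F V] [FiniteDimensional F V]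
    (Q : Subgroup (V ≃ₗ[F] V)) (a : V ≃ₗ[F] V) (n : ℕ) (hyp : Hyp p q Q a n) (r : ℕ)
    (hr : (op a - 1) ^ r = 0) : Concl p q Q n r := by
  haveI := hyp.fin
  set K := AlgebraicClosure F with hK
  haveI : CharP K p := charP_of_injective_algebraMap (algebraMap F K).injective p
  set β := bcHom K (F := F) (V := V) with hβ
  have hβinj : Function.Injective β := bcHom_injective K
  have hyp' : Hyp p q (Q.map β) (β a) n := by
    refine ⟨?_, hyp.pgrp.map β, ?_, hyp.npos, ?_, ?_⟩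
    · exact Finite.of_surjective (fun g : Q => (⟨β g, ⟨g, g.2, rfl⟩⟩ : Q.map β))
        (by rintro ⟨_, g, hg, rfl⟩; exact ⟨⟨g, hg⟩, rfl⟩)
    · rintro _ ⟨g, hg, rfl⟩
      refine ⟨a * g * a⁻¹, hyp.norm g hg, ?_⟩
      rw [map_mul, map_mul, map_inv]
    · rw [← map_pow, hyp.pow, map_one]
    · obtain ⟨g, hg, hne⟩ := hyp.act
      refine ⟨β g, ⟨g, hg, rfl⟩, ?_⟩
      rw [← map_pow, ← map_mul, ← map_mul]
      exact fun h => hne (hβinj h)
  have hr' : (op (β a) - 1) ^ r = 0 := by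
    rw [hβ, op_bcHom_sub_one_pow, hr, map_zero]
  have hC := thmB_stmt p q hpq (K := K) _ (K ⊗[F] V) (Q.map β) (β a) n rfl hyp' r hr'
  refine Concl.lift ?_ hC
  rintro ⟨_, ⟨g, hg, rfl⟩, _, ⟨h, hh, rfl⟩, hne⟩
  refine ⟨g, hg, h, hh, ?_⟩
  intro hc
  apply hne
  rw [← map_mul, ← map_mul, hc]

end Cfsg.Agent.Helper4.ThB
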