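import Mathlib
import Cfsg.Prelude.Def_Local
import Cfsg.Agent.Lib.Helper23.PSolvable
import Cfsg.Agent.Lib.Helper23.PConstrained

/-!
# The dual Hall--Higman lemma: `O_p(G) = 1` and `p`-solvable imply
`C_G(O_{p'}(G)) ≤ O_{p'}(G)` (helper4)
-/

set_option autoImplicit false
set_option linter.unusedSectionVars false
set_option linter.unusedVariables false
set_option linter.style.haveILetI false

namespace Cfsg.Agent.Helper4.HHD

open Subgroup Cfsg
open Cfsg.Agent.Helper23.PSolv

variable {G : Type*} [Group G]

/-- The inductive step. -/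
theorem centralizer_pPrimeCore_step [Finite G] {p : ℕ} [hp : Fact p.Prime]
    (hO : pCore p G = ⊥) (A B : Subgroup G) [A.Normal] [B.Normal] (hAB : A ≤ B)
    (hfac : PNum p (A.relIndex B))
    (ih : A ⊓ centralizer (pPrimeCore p G : Set G) ≤ pPrimeCore p G) :
    B ⊓ centralizer (pPrimeCore p G : Set G) ≤ pPrimeCore p G := by
  haveI hPn : (pPrimeCore p G).Normal := Helper22.pPrimeCore_normal p
  set C : Subgroup G := centralizer (pPrimeCore p G : Set G) with hC
  set Z : Subgroup G := A ⊓ C with hZ
  set M : Subgroup G := B ⊓ C with hM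
  haveI hMn : M.Normal := inferInstance
  have hZM : Z ≤ M := inf_le_inf_right C hAB
  have hZc : (Nat.card Z).Coprime p :=
    Nat.Coprime.coprime_dvd_left (Subgroup.card_dvd_of_le ih) (Helper22.card_pPrimeCore_coprime p)
  have hcard : Nat.card Z * Z.relIndex M = Nat.card M := by
    have := relIndex_mul_relIndex (⊥ : Subgroup G) Z M bot_le hZM
    rwa [relIndex_bot_left, relIndex_bot_left] at this
  have hfac' : PNum p (Z.relIndex M) := PNum.of_dvd (relIndex_inf_inf_dvd A B C hAB) hfac
  rcases hfac' with ⟨m, hm⟩ | hcop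
  · -- Schur--Zassenhaus inside `M`
    set N : Subgroup M := Z.subgroupOf M with hN
    haveI hNn : N.Normal := by
      haveI : Z.Normal := inferInstance
      exact Subgroup.Normal.subgroupOf inferInstance M
    have hNcard : Nat.card N = Nat.card Z :=
      Nat.card_congr (subgroupOfEquivOfLe hZM).toEquiv
    have hNidx : N.index = Z.relIndex M := rfl
    have hcop' : (Nat.card N).Coprime N.index := by
      rw [hNcard, hNidx, hm]
      exact Nat.Coprime.pow_right m hZc
    obtain ⟨L, hL⟩ := exists_right_complement'_of_coprime hcop'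
    -- elements of `N` are central in `M`
    have hcentral : ∀ n ∈ N, ∀ x : M, n * x = x * n := by
      intro n hn x
      have h1 : (n : G) ∈ pPrimeCore p G := ih (mem_subgroupOf.mp hn)
      have h2 : (x : G) ∈ C := x.2.2
      have h3 := (mem_centralizer_iff.mp h2) (n : G) h1
      exact Subtype.ext h3
    haveI hLn : L.Normal := by
      constructor
      intro l hl x
      have hx : x ∈ N ⊔ L := by rw [hL.sup_eq_top]; exact mem_top x
      obtain ⟨n, hn, l', hl', rfl⟩ := mem_sup_of_normal_left.mp hx
      have e : n * l' * l * (n * l')⁻¹ = l' * l * l'⁻¹ := by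
        have c1 := hcentral n hn (l' * l * l'⁻¹)
        calc n * l' * l * (n * l')⁻¹ = n * (l' * l * l'⁻¹) * n⁻¹ := by group
          _ = (l' * l * l'⁻¹) * n * n⁻¹ := by rw [c1]
          _ = l' * l * l'⁻¹ := by group
      rw [e]
      exact L.mul_mem (L.mul_mem hl' hl) (L.inv_mem hl')
    have hLcard : Nat.card L = p ^ m := by
      have : N.index = Nat.card L := hL.symm.index_eq_card.symm ▸ rfl
      rw [← this, hNidx, hm]
    have hLp : IsPGroup p L := IsPGroup.of_card hLcard
    have hL1 : L ≤ pCore p M := le_sSup ⟨hLn, hLp⟩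
    have hL2 : L.map M.subtype ≤ pCore p G :=
      (Subgroup.map_mono hL1).trans (pCore_subgroup_le p M)
    rw [hO, le_bot_iff, Subgroup.map_eq_bot_iff_of_injective _ M.subtype_injective] at hL2
    rw [hL2, isComplement'_bot_right, hN, subgroupOf_eq_top] at hL
    exact hL.trans ih
  · -- `M` is a normal `p'`-subgroup
    apply Helper22.le_pPrimeCore p M hMn
    rw [← hcard]
    exact Nat.Coprime.mul_left hZc hcop

/-- in a finite `p`-solvable group `G` with `O_p(G) = 1`, the centralizer of `O_{p'}(G)` is
contained in `O_{p'}(G)`. -/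
theorem centralizer_pPrimeCore_le [Finite G] {p : ℕ} [hp : Fact p.Prime] (hsolv : IsPSolvable p G)
    (hO : pCore p G = ⊥) : centralizer (pPrimeCore p G : Set G) ≤ pPrimeCore p G := by
  obtain ⟨n, H, h0, hn, hmono, hnorm, hfac⟩ := hsolv
  have key : ∀ i : Fin (n + 1), H i ⊓ centralizer (pPrimeCore p G : Set G) ≤ pPrimeCore p G := by
    intro i
    induction i using Fin.induction with
    | zero => rw [h0]; simp
    | succ j ih =>
      haveI := hnorm j.castSucc
      haveI := hnorm j.succ
      exact centralizer_pPrimeCore_step hO (H j.castSucc) (H j.succ)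
        (hmono (Fin.castSucc_le_succ j)) (hfac j) ih
  have := key (Fin.last n)
  rwa [hn, top_inf_eq] at this

/-- transfer along an isomorphism -/
theorem centralizer_pPrimeCore_le_of_mulEquiv [Finite G] {G' : Type*} [Group G'] {p : ℕ}
    (e : G ≃* G') (h : centralizer (pPrimeCore p G : Set G) ≤ pPrimeCore p G) :
    centralizer (pPrimeCore p G' : Set G') ≤ pPrimeCore p G' := by
  haveI : Finite G' := Finite.of_equiv G e.toEquiv
  intro y hy
  have h1 : e.symm y ∈ centralizer (pPrimeCore p G : Set G) := by
    rw [mem_centralizer_iff]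
    intro x hx
    have hx' : e x ∈ pPrimeCore p G' := Helper22.pPrimeCore_map_le p e ⟨x, hx, rfl⟩
    have := mem_centralizer_iff.mp hy (e x) hx'
    apply e.injective
    rw [map_mul, map_mul, MulEquiv.apply_symm_apply]
    exact this
  have h2 := h h1
  have h3 : e (e.symm y) ∈ pPrimeCore p G' := Helper22.pPrimeCore_map_le p e ⟨_, h2, rfl⟩
  rwa [MulEquiv.apply_symm_apply] at h3

theorem pCore_eq_bot_of_mulEquiv {G' : Type*} [Group G'] {p : ℕ} [Fact p.Prime]
    (e : G ≃* G') (h : pCore p G = ⊥) : pCore p G' = ⊥ := by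
  have h1 := pCore_map_le p e.symm
  rw [h, le_bot_iff, Subgroup.map_eq_bot_iff_of_injective _ e.symm.injective] at h1
  exact h1

end Cfsg.Agent.Helper4.HHD
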