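import Mathlib
import Cfsg.Agent.Lib.Helper8.HHLin2

/-!
# A cyclic group permuting the weight spaces of an abelian normal subgroup (helper4)

`sum_pow_ne_zero`: `ρ` a representation of the finite group `G` over an algebraically closed field,
`M` an abelian normal subgroup of order invertible in the field, `y` with `y ^ p ^ (n+1) = 1` such
that `y ^ p ^ n` does not commute with `ρ a` for some `a ∈ M`.  Then `∑_{i < p^(n+1)} ρ(y)^i ≠ 0`.
-/

set_option autoImplicit false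
set_option linter.unusedSectionVars false

namespace Cfsg.Agent.Helper4.PLenExp

open Module Cfsg.Agent.Helper8.FrobLin Cfsg.Agent.Helper8.HHLin

section Lin

variable {F : Type*} [Field F] [IsAlgClosed F] {G : Type*} [Group G] [Finite G]
  {V : Type*} [AddCommGroup V] [Module F V]
  (ρ : Representation F G V) (M : Subgroup G) [M.Normal]

attribute [local instance] dualAct

theorem comm_bot (hcomm : ∀ a ∈ M, ∀ b ∈ M, a * b = b * a) :
    ∀ a ∈ M, ∀ b ∈ M, a * b * a⁻¹ * b⁻¹ ∈ (⊥ : Subgroup G) := by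
  intro a ha b hb
  rw [Subgroup.mem_bot, hcomm a ha b hb]
  group

theorem sum_wproj_eq [Fintype ↥M] [Fintype ((↥M ⧸ (⊥ : Subgroup G).subgroupOf M) →* Fˣ)]
    (hcomm : ∀ a ∈ M, ∀ b ∈ M, a * b = b * a) (hchar : (Nat.card ↥M : F) ≠ 0) (v : V) :
    ∑ χ : (↥M ⧸ (⊥ : Subgroup G).subgroupOf M) →* Fˣ, wproj ρ M ⊥ χ v = v := by
  have hk0 := card_ne_zero M hchar
  have hv : v ∈ fixedBy ρ (⊥ : Subgroup G) := by
    rw [mem_fixedBy]
    intro h hh
    rw [Subgroup.mem_bot] at hh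
    rw [hh, map_one]
    rfl
  rw [Finset.sum_congr rfl (fun χ _ => wproj_apply ρ M ⊥ χ v), ← Finset.smul_sum,
    sum_upr_of_fixed ρ M ⊥ bot_le (comm_bot M hcomm) hchar hv, smul_smul,
    inv_mul_cancel₀ hk0, one_smul]

theorem smul_char_apply (g : G) (χ : (↥M ⧸ (⊥ : Subgroup G).subgroupOf M) →* Fˣ) (a : ↥M) :
    (g • χ) (QuotientGroup.mk a) =
      χ (QuotientGroup.mk (⟨g⁻¹ * (a : G) * g, by
        have := ‹M.Normal›.conj_mem _ a.2 g⁻¹
        rwa [inv_inv] at this⟩ : ↥M)) := by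
  show χ (kap M ⊥ g⁻¹ (QuotientGroup.mk a)) = _
  rw [kap_mk]
  congr 2
  apply Subtype.ext
  rw [MulAut.conjNormal_apply]
  simp

/-- some occurring weight is moved -/
theorem exists_weight_moved [Fintype ↥M]
    [Fintype ((↥M ⧸ (⊥ : Subgroup G).subgroupOf M) →* Fˣ)]
    (hcomm : ∀ a ∈ M, ∀ b ∈ M, a * b = b * a) (hchar : (Nat.card ↥M : F) ≠ 0)
    (g a : G) (ha : a ∈ M) (hne : ρ (g * a * g⁻¹ * a⁻¹) ≠ 1) :
    ∃ (χ : (↥M ⧸ (⊥ : Subgroup G).subgroupOf M) →* Fˣ) (u : V),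
      wproj ρ M ⊥ χ u ≠ 0 ∧ g • χ ≠ χ := by
  by_contra hcon
  push_neg at hcon
  apply hne
  have hgag : g * a * g⁻¹ ∈ M := ‹M.Normal›.conj_mem a ha g
  have hc : g * a * g⁻¹ * a⁻¹ ∈ M := M.mul_mem hgag (M.inv_mem ha)
  apply LinearMap.ext
  intro u
  rw [Module.End.one_apply]
  conv_lhs => rw [← sum_wproj_eq ρ M hcomm hchar u]
  conv_rhs => rw [← sum_wproj_eq ρ M hcomm hchar u]
  rw [map_sum]
  apply Finset.sum_congr rfl
  intro χ _
  by_cases hw : wproj ρ M ⊥ χ u = 0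
  · rw [hw, map_zero]
  · have hχ := hcon χ u hw
    -- g⁻¹ also fixes χ
    have hχ' : g⁻¹ • χ = χ := by
      conv_lhs => rw [← hχ]
      rw [← mul_smul, inv_mul_cancel, one_smul]
    have h1 := wproj_act ρ M ⊥ χ ⟨g * a * g⁻¹ * a⁻¹, hc⟩ u
    rw [h1]
    have h2 : χ (QuotientGroup.mk (⟨g * a * g⁻¹ * a⁻¹, hc⟩ : ↥M)) = 1 := by
      have e : (⟨g * a * g⁻¹ * a⁻¹, hc⟩ : ↥M) = ⟨g * a * g⁻¹, hgag⟩ * (⟨a, ha⟩ : ↥M)⁻¹ := by
        apply Subtype.ext
        rfl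
      rw [e, QuotientGroup.mk_mul, QuotientGroup.mk_inv, map_mul, map_inv, mul_inv_eq_one]
      have h3 := smul_char_apply M g⁻¹ χ ⟨a, ha⟩
      rw [hχ'] at h3
      rw [h3]
      congr 2
      apply Subtype.ext
      simp
    rw [h2, Units.val_one, one_smul]

/-- a regular orbit of weights gives a nonzero norm element -/
theorem sum_pow_ne_zero_of_orbit [Fintype ↥M]
    [Fintype ((↥M ⧸ (⊥ : Subgroup G).subgroupOf M) →* Fˣ)]
    (hchar : (Nat.card ↥M : F) ≠ 0) (y : G) (m : ℕ) (hm : 0 < m)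
    (χ : (↥M ⧸ (⊥ : Subgroup G).subgroupOf M) →* Fˣ) (u : V)
    (hw : wproj ρ M ⊥ χ u ≠ 0) (hstab : ∀ i, 0 < i → i < m → (y ^ i) • χ ≠ χ) :
    ∑ i ∈ Finset.range m, ρ y ^ i ≠ 0 := by
  classical
  intro h0
  apply hw
  set w := wproj ρ M ⊥ χ u with hwdef
  have h1 : wproj ρ M ⊥ χ ((∑ i ∈ Finset.range m, ρ y ^ i) w) = 0 := by
    rw [h0, LinearMap.zero_apply, map_zero]
  rw [LinearMap.sum_apply, map_sum] at h1
  have h2 : ∀ i ∈ Finset.range m, wproj ρ M ⊥ χ ((ρ y ^ i) w) = if i = 0 then w else 0 := by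
    intro i hi
    rw [Finset.mem_range] at hi
    rw [← map_pow, hwdef, wproj_equi, wproj_orth ρ M ⊥ hchar]
    by_cases hi0 : i = 0
    · subst hi0
      rw [if_pos rfl, pow_zero, one_smul, if_pos rfl, map_one, Module.End.one_apply]
    · rw [if_neg hi0, if_neg]
      intro e
      exact hstab i (Nat.pos_of_ne_zero hi0) hi e.symm
  rw [Finset.sum_congr rfl h2, Finset.sum_ite_eq' (Finset.range m) 0 (fun _ => w),
    if_pos (Finset.mem_range.mpr hm)] at h1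
  exact h1

/-- the stabiliser of a weight in a cyclic `p`-group -/
theorem pow_smul_ne {p n : ℕ} [hp : Fact p.Prime] (y : G) (hy : y ^ p ^ (n + 1) = 1)
    (χ : (↥M ⧸ (⊥ : Subgroup G).subgroupOf M) →* Fˣ) (h0 : (y ^ p ^ n) • χ ≠ χ) :
    ∀ i, 0 < i → i < p ^ (n + 1) → (y ^ i) • χ ≠ χ := by
  intro i hi0 hilt hfix
  apply h0
  obtain ⟨j, i', hi', rfl⟩ := Nat.exists_eq_pow_mul_and_not_dvd hi0.ne' p hp.out.ne_one
  have hjn : j ≤ n := by
    by_contra hcon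
    push_neg at hcon
    have h1 : p ^ (n + 1) ≤ p ^ j := Nat.pow_le_pow_right hp.out.pos hcon
    have h2 : 0 < i' := Nat.pos_of_ne_zero (by rintro rfl; simp at hi0)
    have h3 : p ^ j ≤ p ^ j * i' := Nat.le_mul_of_pos_right _ h2
    omega
  have hcop : Nat.Coprime i' p := ((Nat.Prime.coprime_iff_not_dvd hp.out).mpr hi').symm
  obtain ⟨s, -, hs⟩ := Nat.exists_mul_mod_eq_one_of_coprime hcop hp.out.one_lt
  -- (y^i)^(p^(n-j) * s) = y^(p^n)
  have hpow : (y ^ (p ^ j * i')) ^ (p ^ (n - j) * s) = y ^ p ^ n := by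
    rw [← pow_mul]
    have e1 : p ^ j * i' * (p ^ (n - j) * s) = p ^ n * (i' * s) := by
      have : p ^ n = p ^ j * p ^ (n - j) := by rw [← pow_add]; congr 1; omega
      rw [this]; ring
    rw [e1]
    have e2 : i' * s = 1 + p * (i' * s / p) := by
      have := Nat.div_add_mod (i' * s) p
      omega
    rw [e2, mul_add, mul_one, pow_add]
    have e3 : p ^ n * (p * (i' * s / p)) = p ^ (n + 1) * (i' * s / p) := by
      rw [pow_succ]; ring
    rw [e3, pow_mul, hy, one_pow, mul_one]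
  rw [← hpow]
  -- powers of a fixing element fix
  have hmem : y ^ (p ^ j * i') ∈ MulAction.stabilizer G χ := hfix
  exact (MulAction.stabilizer G χ).pow_mem hmem _

/-- the linear lemma -/
theorem sum_pow_ne_zero (hcomm : ∀ a ∈ M, ∀ b ∈ M, a * b = b * a)
    (hchar : (Nat.card ↥M : F) ≠ 0) {p n : ℕ} [hp : Fact p.Prime] (y : G)
    (hy : y ^ p ^ (n + 1) = 1) (a : G) (ha : a ∈ M)
    (hne : ρ (y ^ p ^ n * a * (y ^ p ^ n)⁻¹ * a⁻¹) ≠ 1) :
    ∑ i ∈ Finset.range (p ^ (n + 1)), ρ y ^ i ≠ 0 := by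
  let _ : Fintype ↥M := Fintype.ofFinite _
  let _ : Fintype ((↥M ⧸ (⊥ : Subgroup G).subgroupOf M) →* Fˣ) := Fintype.ofFinite _
  obtain ⟨χ, u, hw, hmv⟩ := exists_weight_moved ρ M hcomm hchar (y ^ p ^ n) a ha hne
  exact sum_pow_ne_zero_of_orbit ρ M hchar y (p ^ (n + 1)) (pow_pos hp.out.pos _) χ u hw
    (pow_smul_ne M y hy χ hmv)

end Lin

end Cfsg.Agent.Helper4.PLenExp
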