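import Mathlib
import Cfsg.Agent.Lib.Helper4.PLenExpA
import Cfsg.Agent.Lib.Helper8.HHGlue3

/-!
# Elements of large order over a normal `p`-subgroup (helper4)

`exists_pow_ne_one`: `H` a normal `p`-subgroup of the finite group `X`, `Q` an abelian `p'`-subgroup
acting faithfully on `H`, `y` normalising `Q` with `y ^ p ^ (n+1) = 1` and `y ^ p ^ n` not
centralising `Q`.  Then `(y v) ^ p ^ (n+1) ≠ 1` for some `v ∈ H`.
-/

set_option autoImplicit false
set_option linter.unusedSectionVars false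

namespace Cfsg.Agent.Helper4.PLenExp

open Module TensorProduct Cfsg.Agent.Helper8.FrobLin Cfsg.Agent.Helper8.HHLin
  Cfsg.Agent.Helper8.SecRep

section Prod

variable {X : Type*} [Group X]

/-- the product `(y v y⁻¹)(y² v y⁻²)⋯(y^m v y^{-m})` -/
def cprod (y v : X) : ℕ → X
  | 0 => 1
  | m + 1 => cprod y v m * (y ^ (m + 1) * v * (y ^ (m + 1))⁻¹)

theorem mul_pow_eq (y v : X) (m : ℕ) : (y * v) ^ m = cprod y v m * y ^ m := by
  induction m with
  | zero => simp [cprod]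
  | succ m ih =>
    rw [pow_succ, ih]
    show cprod y v m * y ^ m * (y * v) = cprod y v m * (y ^ (m + 1) * v * (y ^ (m + 1))⁻¹) * y ^ (m + 1)
    rw [pow_succ]
    group

theorem cprod_mem (L : Subgroup X) (y v : X) (hy : y ∈ Subgroup.normalizer (L : Set X))
    (hv : v ∈ L) (m : ℕ) : cprod y v m ∈ L := by
  induction m with
  | zero => exact L.one_mem
  | succ m ih =>
    exact L.mul_mem ih (conj_mem_of_mem_normalizer (Subgroup.pow_mem _ hy _) hv)

end Prod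

section Sec

variable {X : Type*} [Group X] [Finite X] {L L₁ : Subgroup X} {ℓ : ℕ} [Fact ℓ.Prime]
  (h : IsSec L L₁ ℓ) (Γ : Subgroup X) (hΓ : Γ ≤ nn L L₁)

theorem secMk_cprod (y : X) (hy : y ∈ Γ) (v : X) (hv : v ∈ L) (m : ℕ) :
    secMk h ⟨cprod y v m, cprod_mem L y v (mem_nn.mp (hΓ hy)).1 hv m⟩ =
      ∑ i ∈ Finset.range m, (secLin₀ h Γ hΓ ⟨y, hy⟩ ^ (i + 1)) (secMk h ⟨v, hv⟩) := by
  induction m with
  | zero =>
    rw [Finset.sum_range_zero]
    exact secMk_one h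
  | succ m ih =>
    rw [Finset.sum_range_succ, ← ih]
    have hc : y ^ (m + 1) * v * (y ^ (m + 1))⁻¹ ∈ L :=
      conj_mem_of_mem_normalizer (Subgroup.pow_mem _ (mem_nn.mp (hΓ hy)).1 _) hv
    have e : (⟨cprod y v (m + 1), cprod_mem L y v (mem_nn.mp (hΓ hy)).1 hv (m + 1)⟩ : ↥L) =
        ⟨cprod y v m, cprod_mem L y v (mem_nn.mp (hΓ hy)).1 hv m⟩ *
          ⟨y ^ (m + 1) * v * (y ^ (m + 1))⁻¹, hc⟩ := by
      apply Subtype.ext
      rfl
    rw [e, secMk_mul]
    congr 1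
    rw [← map_pow, secLin₀_mk]
    congr 1

/-- if `y ^ m = 1` and all `(y v) ^ m`, `v ∈ L`, lie in `L₁`, the norm element vanishes -/
theorem sum_secLin_eq_zero (y : X) (hy : y ∈ Γ) (m : ℕ) (hym : y ^ m = 1)
    (hall : ∀ v ∈ L, (y * v) ^ m ∈ L₁) :
    ∑ i ∈ Finset.range m, secLin h Γ hΓ ⟨y, hy⟩ ^ i = 0 := by
  set ρ₀ := secLin₀ h Γ hΓ with hρ₀
  have hρm : ρ₀ ⟨y, hy⟩ ^ m = 1 := by
    rw [← map_pow]
    have : (⟨y, hy⟩ : ↥Γ) ^ m = 1 := by
      apply Subtype.ext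
      rw [Subgroup.coe_pow]
      exact hym
    rw [this, map_one]
  have h1 : ∑ i ∈ Finset.range m, ρ₀ ⟨y, hy⟩ ^ (i + 1) = 0 := by
    apply LinearMap.ext
    intro w
    obtain ⟨⟨v, hv⟩, rfl⟩ := secMk_surjective h w
    rw [LinearMap.sum_apply, ← secMk_cprod h Γ hΓ y hy v hv m, LinearMap.zero_apply,
      secMk_eq_zero]
    show cprod y v m ∈ L₁
    have := hall v hv
    rwa [mul_pow_eq, hym, mul_one] at this
  have h2 : ∑ i ∈ Finset.range m, ρ₀ ⟨y, hy⟩ ^ i = 0 := by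
    have e1 := Finset.sum_range_succ (fun i => ρ₀ ⟨y, hy⟩ ^ i) m
    have e2 := Finset.sum_range_succ' (fun i => ρ₀ ⟨y, hy⟩ ^ i) m
    rw [e1] at e2
    simp only [pow_zero] at e2
    rw [hρm, h1, zero_add] at e2
    exact add_right_cancel (e2.trans (zero_add 1).symm)
  have h3 : ∀ i : ℕ, secLin h Γ hΓ ⟨y, hy⟩ ^ i =
      Module.End.baseChangeHom (ZMod ℓ) (LK ℓ) (SecW h) (ρ₀ ⟨y, hy⟩ ^ i) := by
    intro i
    rw [map_pow]
    rfl
  rw [Finset.sum_congr rfl (fun i _ => h3 i), ← map_sum, h2, map_zero]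

end Sec

section Main

variable {X : Type*} [Group X] [Finite X]

theorem exists_pow_ne_one {p : ℕ} [hp : Fact p.Prime] (H : Subgroup X) [hHn : H.Normal]
    (hHp : IsPGroup p ↥H) (Q : Subgroup X) (hQab : ∀ a ∈ Q, ∀ b ∈ Q, a * b = b * a)
    (hQcop : (Nat.card ↥Q).Coprime p)
    (hQH : ∀ a ∈ Q, (∀ v ∈ H, a * v * a⁻¹ = v) → a = 1)
    (y : X) (hyQ : y ∈ Subgroup.normalizer (Q : Set X)) (n : ℕ) (hy : y ^ p ^ (n + 1) = 1)
    (a : X) (ha : a ∈ Q) (hne : y ^ p ^ n * a * (y ^ p ^ n)⁻¹ * a⁻¹ ≠ 1) :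
    ∃ v ∈ H, (y * v) ^ p ^ (n + 1) ≠ 1 := by
  classical
  by_contra hcon
  push Not at hcon
  set Φ : Subgroup X := (frattini ↥H).map H.subtype with hΦ
  have hsec : IsSec H Φ p := isSec_frattini p H hHp
  set Γ : Subgroup X := Subgroup.normalizer (Q : Set X) with hΓdef
  have hHtop : Subgroup.normalizer (H : Set X) = ⊤ := Subgroup.normalizer_eq_top_iff.mpr hHn
  have hΓL : Γ ≤ nn H Φ := by
    have := normalizer_le_nn_frattini H
    rw [hHtop] at this
    exact le_top.trans this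
  have hQΓ : Q ≤ Γ := Subgroup.le_normalizer
  set ρ := secLin hsec Γ hΓL with hρ
  have hMn : (Q.subgroupOf Γ).Normal := Subgroup.normal_in_normalizer
  have hMab : ∀ a ∈ Q.subgroupOf Γ, ∀ b ∈ Q.subgroupOf Γ, a * b = b * a := by
    intro a ha b hb
    rw [Subgroup.mem_subgroupOf] at ha hb
    apply Subtype.ext
    exact hQab _ ha _ hb
  have hcardM : Nat.card ↥(Q.subgroupOf Γ) = Nat.card ↥Q := card_subgroupOf_of_le hQΓ
  have hchar : (Nat.card ↥(Q.subgroupOf Γ) : LK p) ≠ 0 := by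
    rw [hcardM]
    apply natCast_ne_zero_of_not_dvd (LK p)
    intro hd
    have := Nat.Coprime.eq_one_of_dvd hQcop.symm hd
    exact hp.out.one_lt.ne' this
  -- the norm element vanishes
  have hzero := sum_secLin_eq_zero hsec Γ hΓL y hyQ (p ^ (n + 1)) hy (fun v hv => by
    rw [hcon v hv]; exact Φ.one_mem)
  -- but it does not
  have haΓ : a ∈ Γ := hQΓ ha
  have hnz := sum_pow_ne_zero ρ (Q.subgroupOf Γ) hMab hchar (p := p) (n := n) (⟨y, hyQ⟩ : ↥Γ)
    (by apply Subtype.ext; rw [Subgroup.coe_pow]; exact hy) ⟨a, haΓ⟩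
    (by rw [Subgroup.mem_subgroupOf]; exact ha) ?_
  · exact hnz hzero
  · -- faithfulness
    intro h1
    rw [hρ, secLin_eq_one_iff] at h1
    apply hne
    set c : X := y ^ p ^ n * a * (y ^ p ^ n)⁻¹ * a⁻¹ with hc
    have hcQ : c ∈ Q := by
      rw [hc]
      exact Q.mul_mem (conj_mem_of_mem_normalizer (Subgroup.pow_mem _ hyQ _) ha) (Q.inv_mem ha)
    have h2 : ∀ b ∈ H, c * b * c⁻¹ * b⁻¹ ∈ Φ := by
      intro b hb
      exact h1 b hb
    -- Burnside: c centralises H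
    have hzc : IsPGroup p ↥H := hHp
    have hcc : (Nat.card ↥(Subgroup.zpowers c)).Coprime p := by
      have hd : Nat.card ↥(Subgroup.zpowers c) ∣ Nat.card ↥Q :=
        Subgroup.card_dvd_of_le (Subgroup.zpowers_le.mpr hcQ)
      exact Nat.Coprime.coprime_dvd_left hd hQcop
    have hsolv : Group.IsSolvable ↥(Subgroup.zpowers c) := by
      apply Group.isSolvable_of_comm
      rintro ⟨a, ha⟩ ⟨b, hb⟩
      apply Subtype.ext
      exact hQab a (Subgroup.zpowers_le.mpr hcQ ha) b (Subgroup.zpowers_le.mpr hcQ hb)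
    have hΦn : Subgroup.zpowers c ≤ Subgroup.normalizer (Φ : Set X) := by
      rw [Subgroup.zpowers_le]
      exact (mem_nn.mp (hΓL (hQΓ hcQ))).2
    have hact : ∀ z ∈ Subgroup.zpowers c, ∀ r ∈ H, z * r * z⁻¹ * r⁻¹ ∈ Φ := by
      intro z hz
      have hzk : z ∈ actKer H Φ := by
        have hle : Subgroup.zpowers c ≤ actKer H Φ := by
          rw [Subgroup.zpowers_le, mem_actKer]
          exact ⟨hΓL (hQΓ hcQ), h2⟩
        exact hle hz
      exact (mem_actKer.mp hzk).2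
    have key := Cfsg.Agent.Helper23.centralizes_of_frattini H hHp (Subgroup.zpowers c) hcc hsolv
      hΦn hact
    apply hQH c hcQ
    intro v hv
    have := Subgroup.mem_centralizer_iff.mp (key hv) c (Subgroup.mem_zpowers c)
    rw [this]
    group

end Main

end Cfsg.Agent.Helper4.PLenExp
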