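import Mathlib

set_option autoImplicit false

namespace Cfsg.Agent.Helper4.RedSyl

variable {G : Type*} [Group G]

/-- two Sylow subgroups commuting elementwise coincide -/
theorem sylow_eq_of_commute {p : ℕ} [Fact p.Prime] (P Q : Sylow p G)
    (h : ∀ x ∈ P, ∀ y ∈ Q, x * y = y * x) : P = Q := by
  have hQC : (Q : Subgroup G) ≤ Subgroup.centralizer ((P : Subgroup G) : Set G) := by
    intro y hy
    rw [Subgroup.mem_centralizer_iff]
    intro x hx
    exact h x hx y hy
  have hQN : (Q : Subgroup G) ≤ Subgroup.normalizer ((P : Subgroup G) : Set G) :=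
    hQC.trans (Subgroup.centralizer_le_normalizer _)
  have hsup : IsPGroup p ((P : Subgroup G) ⊔ (Q : Subgroup G) : Subgroup G) :=
    IsPGroup.to_sup_of_normal_left' P.isPGroup' Q.isPGroup' hQN
  have h1 : ((P : Subgroup G) ⊔ (Q : Subgroup G) : Subgroup G) = P := P.is_maximal' hsup le_sup_left
  have h2 : ((P : Subgroup G) ⊔ (Q : Subgroup G) : Subgroup G) = Q := Q.is_maximal' hsup le_sup_right
  exact Sylow.ext (h1.symm.trans h2)

/-- a nontrivial finite `p`-subgroup has a nontrivial central element -/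
theorem exists_central_of_ne_bot [Finite G] {p : ℕ} [Fact p.Prime] (P : Subgroup G)
    (hP : IsPGroup p P) (hne : P ≠ ⊥) :
    ∃ c : G, c ∈ P ∧ c ≠ 1 ∧ (∀ x ∈ P, c * x = x * c) ∧ ∃ k : ℕ, c ^ (p ^ k) = 1 := by
  haveI : Nontrivial P := (Subgroup.nontrivial_iff_ne_bot _).2 hne
  haveI := IsPGroup.center_nontrivial hP
  obtain ⟨z, hz⟩ := exists_ne (1 : Subgroup.center P)
  refine ⟨((z : P) : G), (z : P).2, ?_, ?_, ?_⟩
  · intro h
    apply hz
    apply Subtype.ext
    apply Subtype.ext
    exact h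
  · intro x hx
    have := Subgroup.mem_center_iff.1 z.2 ⟨x, hx⟩
    exact (congrArg Subtype.val this).symm
  · obtain ⟨k, hk⟩ := hP (z : P)
    exact ⟨k, by
      have := congrArg Subtype.val hk
      simpa using this⟩

/-- an element killed by a power of `p` has order a power of `p` -/
theorem exists_orderOf_eq_of_pow {p : ℕ} [hp : Fact p.Prime] (x : G) (k : ℕ)
    (h : x ^ (p ^ k) = 1) : ∃ j : ℕ, orderOf x = p ^ j := by
  have := orderOf_dvd_of_pow_eq_one h
  obtain ⟨j, -, hj⟩ := (Nat.dvd_prime_pow hp.out).1 this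
  exact ⟨j, hj⟩

/-- if one Sylow subgroup is trivial, all are equal -/
theorem sylow_eq_of_bot [Finite G] {p : ℕ} [Fact p.Prime] (P Q : Sylow p G)
    (h : (Q : Subgroup G) = ⊥) : P = Q := by
  obtain ⟨g, hg⟩ := MulAction.exists_smul_eq G Q P
  rw [← hg]
  apply Sylow.ext
  rw [Sylow.coe_subgroup_smul, h, Subgroup.smul_bot]

/-- membership in a conjugate Sylow subgroup -/
theorem mem_smul_sylow_iff {p : ℕ} [Fact p.Prime] (g x : G) (P : Sylow p G) :
    x ∈ g • P ↔ g⁻¹ * x * g ∈ P := by
  change x ∈ ((g • P : Sylow p G) : Subgroup G) ↔ _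
  rw [Sylow.coe_subgroup_smul, Subgroup.mem_pointwise_smul_iff_inv_smul_mem]
  simp only [MulAut.smul_def, MulAut.conj_apply, map_inv, MulAut.inv_apply, MulAut.conj_symm_apply]
  exact Iff.rfl

/-- a subgroup of index two in a finite subgroup is normalised by it -/
theorem le_normalizer_of_card_eq_two_mul (T P : Subgroup G) [Finite P] (hTP : T ≤ P)
    (hcard : Nat.card P = 2 * Nat.card T) :
    P ≤ Subgroup.normalizer (T : Set G) := by
  have h1 := Subgroup.card_mul_index (T.subgroupOf P)
  have h2 : Nat.card (T.subgroupOf P) = Nat.card T :=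
    Nat.card_congr (Subgroup.subgroupOfEquivOfLe hTP).toEquiv
  have hpos : 0 < Nat.card T := by
    have : Finite T := Finite.of_injective (Subgroup.inclusion hTP)
      (Subgroup.inclusion_injective hTP)
    exact Nat.card_pos
  have h3 : (T.subgroupOf P).index = 2 := by
    rw [h2, hcard] at h1
    have : Nat.card T * (T.subgroupOf P).index = Nat.card T * 2 := by rw [h1]; ring
    exact Nat.eq_of_mul_eq_mul_left hpos this
  have h4 : (T.subgroupOf P).Normal := Subgroup.normal_of_index_eq_two h3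
  exact (Subgroup.normal_subgroupOf_iff_le_normalizer hTP).1 h4

end Cfsg.Agent.Helper4.RedSyl
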