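import Mathlib
import Cfsg.Agent.Lib.Helper4.PLenExpB
import Cfsg.Agent.Lib.Helper4.RedSylA
import Cfsg.Agent.Lib.Helper18.PSolvLin2
import Cfsg.Agent.Lib.Helper15.CoprimeGen

/-!
# The exponent of a Sylow `p`-subgroup drops modulo `O_p(G)` (helper4)

`pow_mem_pCore`: `G` `p`-solvable with `O_{p'}(G) = 1` and abelian `q`-subgroups for `q ≠ p`; if
every `p`-element `z` satisfies `z ^ p ^ (n+1) = 1` then `x ^ p ^ n ∈ O_p(G)` for every `p`-element
`x`.
-/

set_option autoImplicit false
set_option linter.unusedSectionVars false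
set_option linter.style.haveILetI false

namespace Cfsg.Agent.Helper4.PLenExp

open Cfsg Subgroup
open scoped Pointwise

variable {G : Type*} [Group G]

/-- a complement `Q` of `O_p(G)` in the preimage of `O_{p'}(G / O_p(G))`, with the Frattini
argument `G = O_p(G) N_G(Q)` (extracted from helper18's `exists_coprime_pair`) -/
theorem exists_complement_pCore [Finite G] (p : ℕ) [hp : Fact p.Prime]
    [hUn : (pCore p G).Normal] :
    ∃ Q : Subgroup G, (Nat.card Q).Coprime p ∧
      Q.map (QuotientGroup.mk' (pCore p G)) = pPrimeCore p (G ⧸ pCore p G) ∧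
      ∀ g : G, ∃ n ∈ pCore p G, n * g ∈ normalizer (Q : Set G) := by
  classical
  have hUp : IsPGroup p (pCore p G) := Helper10.pCore_isPGroup p
  set π := QuotientGroup.mk' (pCore p G) with hπ
  have hπs : Function.Surjective π := QuotientGroup.mk'_surjective _
  have hkerπ : π.ker = pCore p G := QuotientGroup.ker_mk' _
  haveI hKbn : (pPrimeCore p (G ⧸ pCore p G)).Normal := Helper22.pPrimeCore_normal p
  have hKbc : (Nat.card (pPrimeCore p (G ⧸ pCore p G))).Coprime p :=
    Helper22.card_pPrimeCore_coprime p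
  obtain ⟨Kb, hKb⟩ : ∃ Kb : Subgroup (G ⧸ pCore p G), Kb = pPrimeCore p (G ⧸ pCore p G) :=
    ⟨_, rfl⟩
  rw [← hKb] at hKbc ⊢
  haveI hKbn' : Kb.Normal := by rw [hKb]; exact hKbn
  set K : Subgroup G := Kb.comap π with hK
  haveI hKn : K.Normal := Subgroup.Normal.comap hKbn' π
  have hUK : pCore p G ≤ K := by
    intro x hx
    rw [hK, mem_comap]
    have : π x = 1 := (QuotientGroup.eq_one_iff x).mpr hx
    rw [this]
    exact one_mem _
  have hKmap : K.map π = Kb := map_comap_eq_self_of_surjective hπs Kb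
  haveI hU'n : ((pCore p G).subgroupOf K).Normal := Subgroup.Normal.subgroupOf hUn K
  have hidx : ((pCore p G).subgroupOf K).index = Nat.card Kb := by
    have h1 : ((pCore p G).subgroupOf K).index = (pCore p G).relIndex K := rfl
    rw [h1]
    have h2 := relIndex_ker π (K := K)
    rw [hkerπ, hKmap] at h2
    exact h2
  have hU'card : Nat.card ((pCore p G).subgroupOf K) = Nat.card (pCore p G) :=
    Nat.card_congr (subgroupOfEquivOfLe hUK).toEquiv
  obtain ⟨u, hu⟩ := IsPGroup.iff_card.mp hUp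
  have hcop' : (Nat.card ((pCore p G).subgroupOf K)).Coprime ((pCore p G).subgroupOf K).index := by
    rw [hidx, hU'card, hu]
    exact Nat.Coprime.pow_left u hKbc.symm
  obtain ⟨Q₀, hQ₀⟩ := exists_right_complement'_of_coprime hcop'
  set Q : Subgroup G := Q₀.map K.subtype with hQ
  have hQK : Q ≤ K := by
    rw [hQ]
    exact map_subtype_le Q₀
  have hQcard : Nat.card Q = Nat.card Kb := by
    rw [← hidx]
    have h1 : Nat.card Q = Nat.card Q₀ :=
      Nat.card_congr (Q₀.equivMapOfInjective K.subtype K.subtype_injective).symm.toEquiv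
    rw [h1]
    have := hQ₀.symm.index_eq_card
    exact this.symm
  have hQcop : (Nat.card Q).Coprime p := by rw [hQcard]; exact hKbc
  have hUQ : pCore p G ⊔ Q = K := by
    have h1 : ((pCore p G).subgroupOf K ⊔ Q₀).map K.subtype = K := by
      rw [hQ₀.sup_eq_top, ← MonoidHom.range_eq_map, Subgroup.range_subtype]
    rw [Subgroup.map_sup] at h1
    have h2 : ((pCore p G).subgroupOf K).map K.subtype = pCore p G := by
      rw [Subgroup.subgroupOf_map_subtype]
      exact inf_eq_left.mpr hUK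
    rw [h2] at h1
    exact h1
  have hQmap : Q.map π = Kb := by
    have h1 : (pCore p G ⊔ Q).map π = Kb := by rw [hUQ, hKmap]
    rw [Subgroup.map_sup] at h1
    have h2 : (pCore p G).map π = ⊥ := by
      rw [Subgroup.map_eq_bot_iff, hkerπ]
    rw [h2, bot_sup_eq] at h1
    exact h1
  have hQU : Q ≤ normalizer ((pCore p G : Subgroup G) : Set G) := by
    rw [Subgroup.normalizer_eq_top]
    exact le_top
  have hcopQU : (Nat.card Q).Coprime (Nat.card (pCore p G)) := by
    rw [hu]
    exact Nat.Coprime.pow_right u hQcop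
  have hUsolv : Group.IsSolvable (pCore p G) := by
    haveI : Group.IsNilpotent (pCore p G) := hUp.isNilpotent
    infer_instance
  refine ⟨Q, hQcop, hQmap, ?_⟩
  intro g
  have hB : MulAut.conj g • Q ≤ pCore p G ⊔ Q := by
    rw [hUQ]
    intro x hx
    rw [Cfsg.Agent.Helper1.mem_conj_smul_iff] at hx
    have h1 := hKn.conj_mem _ (hQK hx) g
    have h2 : g * (g⁻¹ * x * g) * g⁻¹ = x := by group
    rwa [h2] at h1
  obtain ⟨n, hn, hnB⟩ := Cfsg.Agent.Helper1.sz_internal (pCore p G) Q (MulAut.conj g • Q) hQU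
    hcopQU (Or.inr hUsolv) hB (Cfsg.Agent.Helper1.card_conj_smul _ _)
  refine ⟨n, hn, ?_⟩
  apply Cfsg.Agent.Helper18.PSolvLin.mem_normalizer_of_conj_smul_eq
  rw [map_mul, mul_smul]
  exact hnB

/-- elements of a Sylow subgroup of a quotient are conjugates of images -/
theorem sylow_quotient_elem [Finite G] {q : ℕ} [Fact q.Prime] (N : Subgroup G) [N.Normal]
    (S : Sylow q G) (Q' : Sylow q (G ⧸ N)) (x' : G ⧸ N) (hx' : x' ∈ Q') :
    ∃ g' : G ⧸ N, ∃ s ∈ S, x' = g' * QuotientGroup.mk' N s * g'⁻¹ := by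
  set S' : Sylow q (G ⧸ N) := S.mapSurjective (QuotientGroup.mk'_surjective N) with hS'
  obtain ⟨g', hg'⟩ := MulAction.exists_smul_eq (G ⧸ N) S' Q'
  rw [← hg', Cfsg.Agent.Helper4.RedSyl.mem_smul_sylow_iff] at hx'
  have h1 : g'⁻¹ * x' * g' ∈ (S : Subgroup G).map (QuotientGroup.mk' N) := hx'
  obtain ⟨s, hs, hsx⟩ := h1
  refine ⟨g', s, hs, ?_⟩
  rw [hsx]
  group

end Cfsg.Agent.Helper4.PLenExp
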