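import Mathlib
import Cfsg.Agent.S1399
import Cfsg.Agent.S1400
import Cfsg.Agent.Lib.Helper14.BGUniqO

/-!
# The Uniqueness Theorem (Bender--Glauberman 9.6) from 9.5 (helper4)

`H95 G` is the statement of BG 9.5 (every member of `SCN₃(P)` lies in a unique maximal subgroup).
From it, S1400 (BG 9.4) and S1399 (BG 9.3) we get the Uniqueness Theorem.
-/

set_option autoImplicit false

namespace Cfsg.Agent.Helper4.BG96

open Cfsg Subgroup
open Cfsg.Agent.Helper14.BGUniq

universe u

variable {G : Type u} [Group G] [Finite G]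

/-- the statement of BG 9.5, as a hypothesis -/
def H95 (G : Type u) [Group G] : Prop :=
  ∀ (p : ℕ) [Fact p.Prime] (P : Sylow p G) (A : Subgroup G),
    IsSCN (P : Subgroup G) A → ¬ PRankLE p 2 ↥A → InUniqueMaximal A

/-- a proper overgroup of a uniqueness subgroup is a uniqueness subgroup -/
theorem inUniqueMaximal_of_le {E K : Subgroup G} (hEK : E ≤ K) (hK : K ≠ ⊤)
    (hE : InUniqueMaximal E) : InUniqueMaximal K := by
  obtain ⟨M, hM, hKM⟩ := (eq_top_or_exists_le_coatom K).resolve_left hK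
  obtain ⟨M₀, -, huniq⟩ := hE
  refine ⟨M, ⟨hM, hKM⟩, ?_⟩
  rintro M' ⟨hM', hKM'⟩
  rw [huniq M' ⟨hM', hEK.trans hKM'⟩, huniq M ⟨hM, hEK.trans hKM⟩]

/-- every elementary abelian `q`-subgroup of rank at least `3` is a uniqueness subgroup -/
theorem elemAb_inUniqueMaximal (hG : IsMinSimpleOddOrder G) (h95 : H95 G) (q : ℕ)
    [hq : Fact q.Prime] {E : Subgroup G} (hE : IsElementaryAbelian q E)
    (hcard : q ^ 2 < Nat.card ↥E) : InUniqueMaximal E := by
  have hEp : IsPGroup q ↥E := isPGroup_of_isElementaryAbelian hE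
  obtain ⟨Q, hEQ⟩ := hEp.exists_le_sylow
  have hrk : ¬ PRankLE q 2 ↥(Q : Subgroup G) := not_pRankLE_of_le hEQ hE hcard
  -- `q` is odd
  have hq2 : q ≠ 2 := by
    rintro rfl
    have h1 : 2 ∣ Nat.card ↥E := by
      obtain ⟨k, hk⟩ := hEp.exists_card_eq
      rw [hk] at hcard ⊢
      have : 2 < k := (Nat.pow_lt_pow_iff_right (by norm_num)).mp hcard
      exact dvd_pow_self 2 (by omega)
    have h2 : 2 ∣ Nat.card G := h1.trans (Subgroup.card_subgroup_dvd_card E)
    exact (Nat.not_even_iff_odd.mpr hG.1) (even_iff_two_dvd.mpr h2)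
  obtain ⟨A, hA, hA3⟩ := exists_isSCN_of_not_pRankLE hq2 Q.isPGroup' hrk
  have hAU : InUniqueMaximal A := h95 q Q A hA hA3
  have hAp : IsPGroup q ↥A := Q.isPGroup'.to_le hA.1
  have hAc : IsMulCommutative ↥A := by
    rw [← le_centralizer_iff_isMulCommutative]
    have h := hA.2.2
    exact (le_of_eq h.symm).trans inf_le_right
  have hEnc : ¬ IsCyclic ↥E := by
    refine not_isCyclic_of_le (le_refl E) hE ?_
    calc q < q ^ 2 := by
            have := hq.out.one_lt
            nlinarith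
      _ < Nat.card ↥E := hcard
  have hEcent : E ≤ centralizer (E : Set G) := by
    haveI := hE.1
    exact (le_centralizer_iff_isMulCommutative).mpr hE.1
  have hE3 : ¬ PRankLE q 2 ↥(centralizer (E : Set G)) := not_pRankLE_of_le hEcent hE hcard
  exact Cfsg.Agent.S1400.result hG q A E hAp hAc hA3 hAU hEp hEnc hE3

/-- **The Uniqueness Theorem** (BG 9.6), assuming BG 9.5 -/
theorem uniqueness (hG : IsMinSimpleOddOrder G) (h95 : H95 G) (K : Subgroup G) (hK : K ≠ ⊤)
    (hK2 : ¬ RankLE 1 K)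
    (hK3 : ¬ RankLE 2 K ∨ ¬ RankLE 2 (centralizer (K : Set G))) : InUniqueMaximal K := by
  rcases hK3 with h3 | h3
  · unfold RankLE at h3
    push_neg at h3
    obtain ⟨q, hq, hrk⟩ := h3
    haveI : Fact q.Prime := ⟨hq⟩
    obtain ⟨E, hEK, hE, hcard⟩ := exists_elemAb_of_not_pRankLE hrk
    exact inUniqueMaximal_of_le hEK hK (elemAb_inUniqueMaximal hG h95 q hE hcard)
  · unfold RankLE at h3
    push_neg at h3
    obtain ⟨q, hq, hrk⟩ := h3
    haveI : Fact q.Prime := ⟨hq⟩
    obtain ⟨E, hEC, hE, hcard⟩ := exists_elemAb_of_not_pRankLE hrk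
    have hEU := elemAb_inUniqueMaximal hG h95 q hE hcard
    have hKE : K ≤ centralizer (E : Set G) := by
      rw [Subgroup.le_centralizer_iff]
      exact hEC
    exact Cfsg.Agent.S1399.result hG E K hEU hKE hK2

end Cfsg.Agent.Helper4.BG96
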