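import Mathlib

set_option autoImplicit false

namespace Cfsg.Agent.Helper4

/-- A cyclic subgroup is the `zpowers` of one of its elements. -/
theorem exists_zpowers_eq_of_isCyclic {G : Type*} [Group G] (C : Subgroup G) (hC : IsCyclic C) :
    ∃ a : G, a ∈ C ∧ Subgroup.zpowers a = C := by
  obtain ⟨a', ha'⟩ := hC.exists_generator
  obtain ⟨a, haC⟩ := a'
  refine ⟨a, haC, le_antisymm (Subgroup.zpowers_le.2 haC) ?_⟩
  intro x hx
  have := ha' ⟨x, hx⟩
  rw [Subgroup.mem_zpowers_iff] at this ⊢
  obtain ⟨i, hi⟩ := this
  exact ⟨i, by simpa using congrArg Subtype.val hi⟩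

/-- A subgroup of prime index is maximal: anything containing it and one more element is `⊤`. -/
theorem eq_top_of_index_prime {G : Type*} [Group G] [Finite G] (C D : Subgroup G)
    (hprime : C.index.Prime) (hCD : C ≤ D) {g : G} (hgD : g ∈ D) (hgC : g ∉ C) : D = ⊤ := by
  have h1 : D.index ∣ C.index := Subgroup.index_dvd_of_le hCD
  rcases (Nat.dvd_prime hprime).1 h1 with h | h
  · exact Subgroup.index_eq_one.1 h
  · exfalso
    have h2 : C.relIndex D * D.index = C.index := Subgroup.relIndex_mul_index hCD
    rw [h] at h2
    have h3 : C.relIndex D = 1 := by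
      have hpos : 0 < C.index := hprime.pos
      exact Nat.eq_of_mul_eq_mul_right hpos (by rw [h2, one_mul])
    have h4 : D ≤ C := Subgroup.relIndex_eq_one.1 h3
    exact hgC (h4 hgD)

/-- If `⟨a⟩` has prime index and some `g ∉ ⟨a⟩` commutes with `a`, the group is abelian. -/
theorem comm_of_zpowers_index_prime {G : Type*} [Group G] [Finite G] (a g : G)
    (hprime : (Subgroup.zpowers a).index.Prime) (hg : g ∉ Subgroup.zpowers a)
    (hcomm : g * a = a * g) : ∀ x y : G, x * y = y * x := by
  have hCZ : Subgroup.zpowers a ≤ Subgroup.center G := by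
    rw [Subgroup.zpowers_le]
    have : Subgroup.centralizer {a} = ⊤ := by
      refine eq_top_of_index_prime _ _ hprime ?_ (g := g) ?_ hg
      · rw [Subgroup.zpowers_le, Subgroup.mem_centralizer_iff]
        intro h hh; rw [Set.mem_singleton_iff] at hh; rw [hh]
      · rw [Subgroup.mem_centralizer_iff]
        intro h hh; rw [Set.mem_singleton_iff] at hh; rw [hh]; exact hcomm.symm
    rw [Subgroup.mem_center_iff]
    intro x
    have hx : x ∈ Subgroup.centralizer {a} := by rw [this]; exact Subgroup.mem_top x
    rw [Subgroup.mem_centralizer_iff] at hx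
    exact (hx a rfl).symm
  have hgZ : g ∈ Subgroup.center G := by
    have : Subgroup.centralizer {g} = ⊤ := by
      refine eq_top_of_index_prime _ _ hprime ?_ (g := g) ?_ hg
      · intro x hx
        rw [Subgroup.mem_centralizer_iff]
        intro h hh; rw [Set.mem_singleton_iff] at hh; rw [hh]
        have := Subgroup.mem_center_iff.1 (hCZ hx) g
        exact this
      · rw [Subgroup.mem_centralizer_iff]
        intro h hh; rw [Set.mem_singleton_iff] at hh; rw [hh]
    rw [Subgroup.mem_center_iff]
    intro x
    have hx : x ∈ Subgroup.centralizer {g} := by rw [this]; exact Subgroup.mem_top x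
    rw [Subgroup.mem_centralizer_iff] at hx
    exact (hx g rfl).symm
  have htop : Subgroup.center G = ⊤ := eq_top_of_index_prime _ _ hprime hCZ hgZ hg
  intro x y
  have hx : x ∈ Subgroup.center G := by rw [htop]; exact Subgroup.mem_top x
  exact (Subgroup.mem_center_iff.1 hx y).symm

end Cfsg.Agent.Helper4
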