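import Mathlib
import Cfsg.Prelude.Def_Local
import Cfsg.Agent.Lib.Helper4.HHDual
import Cfsg.Agent.Lib.Helper4.RedSylA
import Cfsg.Agent.Lib.Helper15.CoprimeGen
import Cfsg.Agent.Lib.Helper22.PPrimeCore

/-!
# The group theory of Theorem B: an invariant `q`-subgroup moved by `x ^ (p ^ (n - 1))` (helper4)
-/

set_option autoImplicit false
set_option linter.unusedSectionVars false
set_option linter.style.haveILetI false

namespace Cfsg.Agent.Helper4.ThB

open Cfsg

variable {G : Type*} [Group G] [Finite G]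

/-- In a `p`-solvable group with `O_p(G) = 1`, an element `x` of order `p ^ n`, `n ≥ 1`, normalises
a `q`-subgroup (`q ≠ p`) not centralised by `x ^ (p ^ (n - 1))`. -/
theorem exists_invariant_qsubgroup {p : ℕ} [hp : Fact p.Prime] (hsol : IsPSolvable p G)
    (hO : pCore p G = ⊥) (x : G) (n : ℕ) (hn : 1 ≤ n) (hx : orderOf x = p ^ n) :
    ∃ (q : ℕ) (_ : Fact q.Prime) (Q : Subgroup G), q ≠ p ∧ IsPGroup q Q ∧
      (∀ g ∈ Q, x * g * x⁻¹ ∈ Q) ∧
      ∃ g ∈ Q, x ^ (p ^ (n - 1)) * g ≠ g * x ^ (p ^ (n - 1)) := by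
  classical
  have hpp : p.Prime := hp.out
  set K := pPrimeCore p G with hK
  haveI hKn : K.Normal := Helper22.pPrimeCore_normal p
  have hKcop : (Nat.card K).Coprime p := Helper22.card_pPrimeCore_coprime p
  have hHH := HHD.centralizer_pPrimeCore_le hsol hO
  set y := x ^ (p ^ (n - 1)) with hy
  have hyp : y ^ p = 1 := by
    rw [hy, ← pow_mul, ← pow_succ, Nat.sub_add_cancel hn, ← hx, pow_orderOf_eq_one]
  have hy1 : y ≠ 1 := by
    intro h
    have h1 := orderOf_dvd_of_pow_eq_one h
    rw [hx] at h1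
    have h2 := Nat.le_of_dvd (pos_of_ne_zero (pow_ne_zero _ hpp.ne_zero)) h1
    have h3 : p ^ (n - 1) < p ^ n := Nat.pow_lt_pow_right hpp.one_lt (by omega)
    omega
  have hyK : y ∉ K := by
    intro hmem
    have h3 : orderOf y ∣ Nat.card K := Subgroup.orderOf_dvd_natCard _ hmem
    have h4 : orderOf y ∣ p := orderOf_dvd_of_pow_eq_one hyp
    have h5 : orderOf y = 1 := Nat.eq_one_of_dvd_coprimes hKcop h3 h4
    exact hy1 (orderOf_eq_one_iff.mp h5)
  -- invariant Sylow subgroups of `K`
  have hxp : IsPGroup p (Subgroup.zpowers x) := by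
    rw [IsPGroup.iff_card]
    exact ⟨n, by rw [Nat.card_zpowers, hx]⟩
  have hxN : Subgroup.zpowers x ≤ Subgroup.normalizer (K : Set G) := by
    rw [Subgroup.normalizer_eq_top]
    exact le_top
  have hsyl : ∀ (q : ℕ) [Fact q.Prime], ∃ P : Subgroup G, P ≤ K ∧ IsPGroup q P ∧
      Nat.card P = q ^ (Nat.card K).factorization q ∧
      Subgroup.zpowers x ≤ Subgroup.normalizer (P : Set G) :=
    fun q _ => Helper15.exists_invariant_sylow_of_coprime q hxp hKcop hxN
  by_contra hcon
  push_neg at hcon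
  -- then `y` centralises every invariant Sylow subgroup, hence `K`
  set C : Subgroup G := K ⊓ Subgroup.centralizer ({y} : Set G) with hC
  have hCK : C = K := by
    apply Subgroup.eq_of_le_of_card_ge inf_le_left
    apply Nat.le_of_dvd Nat.card_pos
    rw [← Nat.factorization_le_iff_dvd Nat.card_pos.ne' Nat.card_pos.ne']
    intro q
    by_cases hq : q.Prime
    · haveI : Fact q.Prime := ⟨hq⟩
      obtain ⟨P, hPK, hPq, hPcard, hPN⟩ := hsyl q
      have hPC : P ≤ C := by
        intro g hg
        refine ⟨hPK hg, ?_⟩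
        show g ∈ Subgroup.centralizer ({y} : Set G)
        rw [Subgroup.mem_centralizer_iff]
        intro z hz
        rw [Set.mem_singleton_iff] at hz
        subst hz
        by_contra hne
        by_cases hqp : q = p
        · -- then `P` is trivial
          subst hqp
          have h0 : (Nat.card K).factorization q = 0 :=
            Nat.factorization_eq_zero_of_not_dvd (fun hd => by
              have := Nat.dvd_gcd hd dvd_rfl
              rw [hKcop] at this
              exact hq.one_lt.ne' (Nat.dvd_one.mp this))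
          rw [h0, pow_zero] at hPcard
          have : P = ⊥ := Subgroup.card_eq_one.mp hPcard
          rw [this, Subgroup.mem_bot] at hg
          subst hg
          exact hne (by simp)
        · apply hne
          refine hcon q ⟨hq⟩ P hqp hPq ?_ g hg
          intro g' hg'
          have hxN' := hPN (Subgroup.mem_zpowers x)
          exact (Subgroup.mem_normalizer_iff.mp hxN' g').mp hg'
      have hdvd : q ^ (Nat.card K).factorization q ∣ Nat.card C := by
        rw [← hPcard]
        exact Subgroup.card_dvd_of_le hPC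
      exact (hq.pow_dvd_iff_le_factorization Nat.card_pos.ne').mp hdvd
    · rw [Nat.factorization_eq_zero_of_not_prime _ hq]
      exact Nat.zero_le _
  apply hyK
  apply hHH
  rw [Subgroup.mem_centralizer_iff]
  intro k hk
  have : k ∈ C := by rw [hCK]; exact hk
  have h2 := Subgroup.mem_centralizer_iff.mp this.2 y rfl
  exact h2.symm

/-- a non-abelian `q`-subgroup forces all Sylow `q`-subgroups to be non-abelian -/
theorem sylow_not_comm {q : ℕ} [Fact q.Prime] (Q : Subgroup G) (hQ : IsPGroup q Q) (g h : G)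
    (hg : g ∈ Q) (hh : h ∈ Q) (hne : g * h ≠ h * g) :
    ∀ S : Sylow q G, ¬ IsMulCommutative S := by
  intro S hS
  obtain ⟨S₀, hQS₀⟩ := hQ.exists_le_sylow
  obtain ⟨c, hc⟩ := MulAction.exists_smul_eq G S₀ S
  have h1 : c * g * c⁻¹ ∈ S := by
    rw [← hc, RedSyl.mem_smul_sylow_iff]
    have : c⁻¹ * (c * g * c⁻¹) * c = g := by group
    rw [this]
    exact hQS₀ hg
  have h2 : c * h * c⁻¹ ∈ S := by
    rw [← hc, RedSyl.mem_smul_sylow_iff]
    have : c⁻¹ * (c * h * c⁻¹) * c = h := by group
    rw [this]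
    exact hQS₀ hh
  have h3 := hS.is_comm.comm (⟨c * g * c⁻¹, h1⟩ : S) ⟨c * h * c⁻¹, h2⟩
  have h4 : c * g * c⁻¹ * (c * h * c⁻¹) = c * h * c⁻¹ * (c * g * c⁻¹) := congrArg Subtype.val h3
  apply hne
  have h5 : c⁻¹ * (c * g * c⁻¹ * (c * h * c⁻¹)) * c = c⁻¹ * (c * h * c⁻¹ * (c * g * c⁻¹)) * c := by
    rw [h4]
  have e1 : c⁻¹ * (c * g * c⁻¹ * (c * h * c⁻¹)) * c = g * h := by group
  have e2 : c⁻¹ * (c * h * c⁻¹ * (c * g * c⁻¹)) * c = h * g := by group
  rw [e1, e2] at h5
  exact h5

end Cfsg.Agent.Helper4.ThB
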