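import Mathlib
import Cfsg.Prelude.Def_PLocal
import Cfsg.Agent.Lib.Helper4.ZJAbelian

set_option autoImplicit false
open scoped commutatorElement

/-! Instantiating the ZJ-core with the elementary abelian subgroups of largest order. -/

namespace Cfsg.Agent.Helper4.ZJ

open Cfsg Cfsg.Agent.Helper4.GR

universe u

variable {G : Type u} [Group G]

/-- In a commutative join, `p`-th powers are trivial if they are on both factors. -/
theorem pow_eq_one_of_sup (A Z : Subgroup G) (hc : IsMulCommutative (A ⊔ Z : Subgroup G))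
    (n : ℕ) (hA : ∀ a ∈ A, a ^ n = 1) (hZ : ∀ z ∈ Z, z ^ n = 1) :
    ∀ y ∈ A ⊔ Z, y ^ n = 1 := by
  let K : Subgroup G :=
    { carrier := {y | y ∈ A ⊔ Z ∧ y ^ n = 1}
      one_mem' := ⟨Subgroup.one_mem _, one_pow n⟩
      mul_mem' := by
        rintro x y ⟨hx, hx2⟩ ⟨hy, hy2⟩
        refine ⟨Subgroup.mul_mem _ hx hy, ?_⟩
        have hcomm : Commute x y :=
          congrArg Subtype.val (hc.is_comm.comm ⟨x, hx⟩ ⟨y, hy⟩)
        rw [hcomm.mul_pow, hx2, hy2, one_mul]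
      inv_mem' := by
        rintro x ⟨hx, hx2⟩
        exact ⟨Subgroup.inv_mem _ hx, by rw [inv_pow, hx2, inv_one]⟩ }
  have hle : A ⊔ Z ≤ K := by
    apply sup_le
    · intro a ha; exact ⟨Subgroup.mem_sup_left ha, hA a ha⟩
    · intro z hz; exact ⟨Subgroup.mem_sup_right hz, hZ z hz⟩
  intro y hy
  exact (hle hy).2

section famE

variable [Finite G] (p : ℕ)

/-- The family of elementary abelian subgroups of `P` of largest order, inside `G`. -/
def famE (P : Subgroup G) : Set (Subgroup G) :=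
  Set.image (fun A : Subgroup ↥P => A.map P.subtype) (Cfsg.maxElementaryAbelianSubgroups p ↥P)

variable {p}

theorem mem_famE {P A : Subgroup G} : A ∈ famE p P ↔ A ≤ P ∧ Cfsg.IsElementaryAbelian p A ∧
    ∀ A' : Subgroup G, A' ≤ P → Cfsg.IsElementaryAbelian p A' → Nat.card A' ≤ Nat.card A :=
  mem_maxElementaryAbelian_image_iff p P A

theorem famE_nonempty (P : Subgroup G) : (famE p P).Nonempty := by
  let T : Set (Subgroup G) := {A | A ≤ P ∧ Cfsg.IsElementaryAbelian p A}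
  have hTfin : T.Finite := Set.toFinite _
  have hTne : T.Nonempty := ⟨⊥, bot_le, inferInstance, fun a ha => by
    rw [Subgroup.mem_bot] at ha; rw [ha, one_pow]⟩
  obtain ⟨A, ⟨hAP, hAc⟩, hmax⟩ := Set.exists_max_image T (fun A => Nat.card A) hTfin hTne
  exact ⟨A, mem_famE.2 ⟨hAP, hAc, fun A' h1 h2 => hmax A' ⟨h1, h2⟩⟩⟩

theorem thompsonSubgroupOf_eq (P : Subgroup G) :
    Cfsg.thompsonSubgroupOf p P = sSup (famE p P) := by
  unfold Cfsg.thompsonSubgroupOf Cfsg.thompsonSubgroup famE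
  rw [sSup_eq_iSup, Subgroup.map_iSup, sSup_image]
  congr 1
  ext A
  rw [Subgroup.map_iSup]

theorem le_thompsonSubgroupOf {P A : Subgroup G} (hA : A ∈ famE p P) :
    A ≤ Cfsg.thompsonSubgroupOf p P := by
  rw [thompsonSubgroupOf_eq]; exact le_sSup hA

theorem thompsonSubgroupOf_le {P K : Subgroup G} (h : ∀ A ∈ famE p P, A ≤ K) :
    Cfsg.thompsonSubgroupOf p P ≤ K := by
  rw [thompsonSubgroupOf_eq]; exact sSup_le h

theorem thompsonSubgroupOf_le_self (P : Subgroup G) : Cfsg.thompsonSubgroupOf p P ≤ P :=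
  thompsonSubgroupOf_le fun _ hA => (mem_famE.1 hA).1

theorem comm_of_mem_famE {P A : Subgroup G} (hA : A ∈ famE p P) :
    ∀ x ∈ A, ∀ y ∈ A, x * y = y * x := by
  intro x hx y hy
  have := (mem_famE.1 hA).2.1.1
  exact congrArg Subtype.val (this.is_comm.comm ⟨x, hx⟩ ⟨y, hy⟩)

/-- `Ω₁(Z(J(P)))` inside `G`. -/
def ZE (p : ℕ) (P : Subgroup G) : Subgroup G :=
  Subgroup.closure {x : G | x ∈ Cfsg.thompsonSubgroupOf p P ∧
    x ∈ Subgroup.centralizer (Cfsg.thompsonSubgroupOf p P : Set G) ∧ x ^ p = 1}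

omit [Finite G] in
theorem omegaCenterThompson_map_eq (P : Subgroup G) :
    (Cfsg.omegaCenterThompson p ↥P).map P.subtype = ZE p P := by
  unfold Cfsg.omegaCenterThompson Cfsg.omegaOne ZE
  rw [MonoidHom.map_closure]
  congr 1
  ext y
  constructor
  · rintro ⟨x, ⟨hx1, hx2⟩, rfl⟩
    obtain ⟨hxJ, hxC⟩ := Subgroup.mem_inf.1 hx1
    refine ⟨⟨x, hxJ, rfl⟩, ?_, ?_⟩
    · rw [Subgroup.mem_centralizer_iff] at hxC ⊢
      rintro _ ⟨j, hj, rfl⟩
      exact congrArg Subtype.val (hxC j hj)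
    · have := congrArg Subtype.val hx2
      simpa using this
  · rintro ⟨⟨x, hxJ, rfl⟩, hyC, hyp⟩
    refine ⟨x, ⟨Subgroup.mem_inf.2 ⟨hxJ, ?_⟩, ?_⟩, rfl⟩
    · rw [Subgroup.mem_centralizer_iff] at hyC ⊢
      intro j hj
      apply Subtype.ext
      exact hyC _ ⟨j, hj, rfl⟩
    · apply Subtype.ext
      simpa using hyp

theorem ZE_le_center (P : Subgroup G) : ZE p P ≤ Cfsg.thompsonSubgroupOf p P ⊓
    Subgroup.centralizer (Cfsg.thompsonSubgroupOf p P : Set G) := by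
  unfold ZE
  rw [Subgroup.closure_le]
  intro x hx
  exact Subgroup.mem_inf.2 ⟨hx.1, hx.2.1⟩

theorem ZE_comm (P : Subgroup G) : ∀ x ∈ ZE p P, ∀ y ∈ ZE p P, x * y = y * x := by
  intro x hx y hy
  have h1 := (Subgroup.mem_inf.1 (ZE_le_center P hy)).2
  rw [Subgroup.mem_centralizer_iff] at h1
  exact h1 x (Subgroup.mem_inf.1 (ZE_le_center P hx)).1

theorem ZE_le {P A : Subgroup G} (hA : A ∈ famE p P) : ZE p P ≤ A := by
  obtain ⟨hAP, ⟨hAc, hAexp⟩, hmax⟩ := mem_famE.1 hA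
  unfold ZE
  rw [Subgroup.closure_le]
  rintro x ⟨hxJ, hxC, hxp⟩
  have hcomm : IsMulCommutative (A ⊔ Subgroup.zpowers x : Subgroup G) := by
    apply sup_comm_of A (Subgroup.zpowers x) (comm_of_mem_famE hA)
    · intro u hu v hv
      rw [Subgroup.mem_zpowers_iff] at hu hv
      obtain ⟨i, rfl⟩ := hu
      obtain ⟨j, rfl⟩ := hv
      exact (((Commute.refl x).zpow_left i).zpow_right j).eq
    · intro a ha v hv
      rw [Subgroup.mem_zpowers_iff] at hv
      obtain ⟨j, rfl⟩ := hv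
      rw [Subgroup.mem_centralizer_iff] at hxC
      have : Commute a x := hxC a (le_thompsonSubgroupOf hA ha)
      exact (this.zpow_right j).eq
  have hexp : ∀ y ∈ A ⊔ Subgroup.zpowers x, y ^ p = 1 := by
    apply pow_eq_one_of_sup A (Subgroup.zpowers x) hcomm p hAexp
    intro z hz
    rw [Subgroup.mem_zpowers_iff] at hz
    obtain ⟨j, rfl⟩ := hz
    rw [← zpow_natCast, ← zpow_mul, mul_comm, zpow_mul, zpow_natCast, hxp, one_zpow]
  have hle : (A ⊔ Subgroup.zpowers x : Subgroup G) ≤ P :=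
    sup_le hAP (Subgroup.zpowers_le.2 (thompsonSubgroupOf_le_self P hxJ))
  have hcard := hmax _ hle ⟨hcomm, hexp⟩
  have heq : A = A ⊔ Subgroup.zpowers x := Subgroup.eq_of_le_of_card_ge le_sup_left hcard
  rw [SetLike.mem_coe, heq]
  exact Subgroup.mem_sup_right (Subgroup.mem_zpowers x)

theorem le_ZE {P B : Subgroup G} (_hBP : B ≤ P) (h : ∀ A ∈ famE p P, B ≤ A) :
    B ≤ ZE p P := by
  obtain ⟨A₀, hA₀⟩ := famE_nonempty (p := p) P
  intro b hb
  apply Subgroup.subset_closure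
  refine ⟨le_thompsonSubgroupOf hA₀ (h A₀ hA₀ hb), ?_, (mem_famE.1 hA₀).2.1.2 b (h A₀ hA₀ hb)⟩
  rw [Subgroup.mem_centralizer_iff]
  have hle : Cfsg.thompsonSubgroupOf p P ≤ Subgroup.centralizer {b} := by
    apply thompsonSubgroupOf_le
    intro A hA x hx
    rw [Subgroup.mem_centralizer_iff]
    intro y hy
    rw [Set.mem_singleton_iff] at hy
    subst hy
    exact comm_of_mem_famE hA _ (h A hA hb) x hx
  intro x hx
  have := hle hx
  rw [Subgroup.mem_centralizer_iff] at this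
  exact (this b rfl).symm

theorem famE_mono {P P₂ A : Subgroup G} (hP₂ : P₂ ≤ P) (hA : A ∈ famE p P) (hAP₂ : A ≤ P₂) :
    A ∈ famE p P₂ ∧ ZE p P ≤ ZE p P₂ := by
  obtain ⟨hAP, hAc, hmax⟩ := mem_famE.1 hA
  have hA₂ : A ∈ famE p P₂ :=
    mem_famE.2 ⟨hAP₂, hAc, fun A' h1 h2 => hmax A' (h1.trans hP₂) h2⟩
  refine ⟨hA₂, ?_⟩
  have hsub : famE p P₂ ⊆ famE p P := by
    intro A' hA'
    obtain ⟨h1, h2, h3⟩ := mem_famE.1 hA'
    refine mem_famE.2 ⟨h1.trans hP₂, h2, fun A'' h4 h5 => ?_⟩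
    exact (hmax A'' h4 h5).trans (h3 A hAP₂ hAc)
  have hJ : Cfsg.thompsonSubgroupOf p P₂ ≤ Cfsg.thompsonSubgroupOf p P :=
    thompsonSubgroupOf_le fun A' hA' => le_thompsonSubgroupOf (hsub hA')
  have hZA := ZE_le hA
  unfold ZE at hZA ⊢
  rw [Subgroup.closure_le]
  intro x hx
  apply Subgroup.subset_closure
  refine ⟨le_thompsonSubgroupOf hA₂ (hZA (Subgroup.subset_closure hx)), ?_, hx.2.2⟩
  exact Subgroup.centralizer_le hJ hx.2.1

theorem famE_map (φ : G ≃* G) {P A : Subgroup G} (hA : A ∈ famE p P) :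
    A.map φ.toMonoidHom ∈ famE p (P.map φ.toMonoidHom) := by
  obtain ⟨hAP, ⟨hAc, hAexp⟩, hmax⟩ := mem_famE.1 hA
  refine mem_famE.2 ⟨Subgroup.map_mono hAP, ⟨Subgroup.map_isMulCommutative A _, ?_⟩, ?_⟩
  · rintro _ ⟨a, ha, rfl⟩
    rw [← map_pow, hAexp a ha, map_one]
  intro A' hA'P hA'e
  obtain ⟨hA'c, hA'exp⟩ := hA'e
  have h1 : A'.map φ.symm.toMonoidHom ≤ P := by
    have := Subgroup.map_mono (f := φ.symm.toMonoidHom) hA'P
    rwa [Subgroup.map_map, show φ.symm.toMonoidHom.comp φ.toMonoidHom = MonoidHom.id G from by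
      ext x; simp, Subgroup.map_id] at this
  have h2 := hmax _ h1 ⟨Subgroup.map_isMulCommutative A' _, by
    rintro _ ⟨a, ha, rfl⟩
    rw [← map_pow, hA'exp a ha, map_one]⟩
  rw [Subgroup.card_map_of_injective φ.symm.injective] at h2
  rw [Subgroup.card_map_of_injective φ.injective]
  exact h2

theorem thompsonSubgroupOf_map (φ : G ≃* G) (P : Subgroup G) :
    Cfsg.thompsonSubgroupOf p (P.map φ.toMonoidHom) =
      (Cfsg.thompsonSubgroupOf p P).map φ.toMonoidHom := by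
  have key : ∀ (ψ : G ≃* G) (Q : Subgroup G),
      (Cfsg.thompsonSubgroupOf p Q).map ψ.toMonoidHom ≤
      Cfsg.thompsonSubgroupOf p (Q.map ψ.toMonoidHom) := by
    intro ψ Q
    rw [Subgroup.map_le_iff_le_comap]
    apply thompsonSubgroupOf_le
    intro A hA
    rw [← Subgroup.map_le_iff_le_comap]
    exact le_thompsonSubgroupOf (famE_map ψ hA)
  apply le_antisymm _ (key φ P)
  have h1 := key φ.symm (P.map φ.toMonoidHom)
  have hid : (P.map φ.toMonoidHom).map φ.symm.toMonoidHom = P := by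
    rw [Subgroup.map_map, show φ.symm.toMonoidHom.comp φ.toMonoidHom = MonoidHom.id G from by
      ext x; simp, Subgroup.map_id]
  rw [hid] at h1
  have h2 := Subgroup.map_mono (f := φ.toMonoidHom) h1
  rwa [Subgroup.map_map, show φ.toMonoidHom.comp φ.symm.toMonoidHom = MonoidHom.id G from by
      ext x; simp, Subgroup.map_id] at h2

theorem ZE_map (φ : G ≃* G) (P : Subgroup G) :
    ZE p (P.map φ.toMonoidHom) = (ZE p P).map φ.toMonoidHom := by
  unfold ZE
  rw [MonoidHom.map_closure, thompsonSubgroupOf_map]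
  congr 1
  ext x
  constructor
  · rintro ⟨⟨z, hz, rfl⟩, hx2, hx3⟩
    refine ⟨z, ⟨hz, ?_, ?_⟩, rfl⟩
    · rw [Subgroup.mem_centralizer_iff] at hx2 ⊢
      intro y hy
      have := hx2 (φ y) ⟨y, hy, rfl⟩
      apply φ.injective
      simpa using this
    · apply φ.injective
      simpa using hx3
  · rintro ⟨z, ⟨hz1, hz2, hz3⟩, rfl⟩
    refine ⟨⟨z, hz1, rfl⟩, ?_, ?_⟩
    · rw [Subgroup.mem_centralizer_iff] at hz2 ⊢
      rintro _ ⟨y, hy, rfl⟩
      have := hz2 y hy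
      simp only [MulEquiv.coe_toMonoidHom, ← map_mul, this]
    · simp only [MulEquiv.coe_toMonoidHom, ← map_pow, hz3, map_one]

end famE

section dataE

variable [Finite G] {p : ℕ} [Fact p.Prime]

/-- The ZJ-data of the elementary abelian subgroups of largest order. -/
def dataE (hp : p ≠ 2) : Data G p where
  𝒜 := famE p
  Z := ZE p
  Z_le_self P := ((ZE_le_center P).trans inf_le_left).trans (thompsonSubgroupOf_le_self P)
  Z_comm P := ZE_comm P
  mem_le hA := (mem_famE.1 hA).1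
  mem_comm hA := comm_of_mem_famE hA
  Z_map := ZE_map
  Z_le := ZE_le
  le_Z := le_ZE
  mono := famE_mono
  repl := fun {P} hP B hBP hPB hU =>
    repl_transport P (Cfsg.maxElementaryAbelianSubgroups p ↥P)
      (fun B₀ _ hU₀ => replacement_maxElementaryAbelian_top hP hp B₀ hU₀) B hBP hPB hU

end dataE

end Cfsg.Agent.Helper4.ZJ
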