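import Mathlib
import Cfsg.Prelude

set_option autoImplicit false

namespace Cfsg.Agent.Helper4

/-- The trivial subgroup is elementary abelian. -/
theorem isElementaryAbelian_bot {S : Type*} [Group S] (p : ℕ) :
    Cfsg.IsElementaryAbelian p (⊥ : Subgroup S) := by
  refine ⟨⟨⟨?_⟩⟩, ?_⟩
  · rintro ⟨a, ha⟩ ⟨b, hb⟩
    rw [Subgroup.mem_bot] at ha hb
    subst ha; subst hb; rfl
  · intro a ha
    rw [Subgroup.mem_bot] at ha
    rw [ha, one_pow]

/-- In a finite group there is an elementary abelian subgroup of largest order. -/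
theorem maxElementaryAbelianSubgroups_nonempty {S : Type*} [Group S] [Finite S] (p : ℕ) :
    (Cfsg.maxElementaryAbelianSubgroups p S).Nonempty := by
  have : Nonempty {A : Subgroup S // Cfsg.IsElementaryAbelian p A} :=
    ⟨⟨⊥, isElementaryAbelian_bot p⟩⟩
  obtain ⟨A, hA⟩ := Finite.exists_max
    (fun A : {A : Subgroup S // Cfsg.IsElementaryAbelian p A} => Nat.card (A : Subgroup S))
  exact ⟨A.1, A.2, fun B hB => hA ⟨B, hB⟩⟩

/-- An element of order dividing `p` centralizing an elementary abelian subgroup of largest order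
lies in it. -/
theorem mem_of_mem_maxElementaryAbelian {S : Type*} [Group S] [Finite S] {p : ℕ} {A : Subgroup S}
    (hA : A ∈ Cfsg.maxElementaryAbelianSubgroups p S) {x : S} (hx : ∀ a ∈ A, a * x = x * a)
    (hxp : x ^ p = 1) : x ∈ A := by
  obtain ⟨⟨hAc, hAp⟩, hAmax⟩ := hA
  have := hAc
  set k : Set S := (A : Set S) ∪ {x} with hk
  have hcomm : ∀ y ∈ k, ∀ z ∈ k, y * z = z * y := by
    rintro y (hy | hy) z (hz | hz)
    · exact setLike_mul_comm hy hz
    · rw [Set.mem_singleton_iff] at hz; subst hz; exact hx y hy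
    · rw [Set.mem_singleton_iff] at hy; subst hy; exact (hx z hz).symm
    · rw [Set.mem_singleton_iff] at hy hz; subst hy; subst hz; rfl
  set B := Subgroup.closure k with hB
  have hBc : IsMulCommutative B := Subgroup.isMulCommutative_closure hcomm
  have hBp : ∀ b ∈ B, b ^ p = 1 := by
    intro b hb
    induction hb using Subgroup.closure_induction with
    | mem y hy =>
      rcases hy with hy | hy
      · exact hAp y hy
      · rw [Set.mem_singleton_iff] at hy; rw [hy]; exact hxp
    | one => exact one_pow p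
    | mul y z hy hz ihy ihz =>
      have : Commute y z := setLike_mul_comm (s := B) hy hz
      rw [this.mul_pow, ihy, ihz, one_mul]
    | inv y _ ihy => rw [inv_pow, ihy, inv_one]
  have hAB : A ≤ B := by
    intro a ha
    exact Subgroup.subset_closure (Or.inl ha)
  have hcard := hAmax B ⟨hBc, hBp⟩
  have hEq : A = B := Subgroup.eq_of_le_of_card_ge hAB hcard
  rw [hEq]
  exact Subgroup.subset_closure (Or.inr rfl)

end Cfsg.Agent.Helper4
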