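import Mathlib
import Cfsg.Agent.Lib.Helper4.DicksonFinal
import Cfsg.Agent.Lib.Helper4.QuadRing
import Cfsg.Agent.Lib.Helper21.BaerSuzuki

set_option autoImplicit false
set_option linter.unusedSectionVars false
set_option linter.style.haveILetI false
set_option linter.unusedVariables false

/-! Quadratic pairs: two elements acting quadratically on an elementary abelian `p`-group and
generating a group that is not a `p`-group involve `SL₂(p)`. -/

namespace Cfsg.Agent.Helper4.QSec

open Module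

section basis

variable {A E S : Type*} [Ring A] [Field E] [AddCommGroup S] [Module A S] [Module E S]
  [SMulCommClass A E S]

/-- the two-dimensional structure of an irreducible module for a quadratic pair -/
theorem exists_basis (a b : A) (ha : a * a = 0) (hb : b * b = 0) (γ : E)
    (hc : ∀ s : S, (a * b + b * a) • s = γ • s)
    (hirr : ∀ W : Submodule E S, W ≠ ⊥ → (∀ w ∈ W, a • w ∈ W) → (∀ w ∈ W, b • w ∈ W) → W = ⊤)
    (hne : ¬ ((∀ s : S, a • s = 0) ∧ (∀ s : S, b • s = 0))) :
    ∃ 𝔟 : Basis (Fin 2) E S, a • 𝔟 0 = 0 ∧ a • 𝔟 1 = γ • 𝔟 0 ∧ b • 𝔟 0 = 𝔟 1 ∧ b • 𝔟 1 = 0 := by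
  have haa : ∀ s : S, a • a • s = 0 := fun s => by rw [← mul_smul, ha, zero_smul]
  have hbb : ∀ s : S, b • b • s = 0 := fun s => by rw [← mul_smul, hb, zero_smul]
  -- a nonzero vector killed by `a`
  obtain ⟨v, hv0, hav⟩ : ∃ v : S, v ≠ 0 ∧ a • v = 0 := by
    by_cases h : ∀ s : S, a • s = 0
    · have : ¬ ∀ s : S, b • s = 0 := fun h' => hne ⟨h, h'⟩
      push Not at this
      obtain ⟨s, hs⟩ := this
      refine ⟨s, ?_, h s⟩
      rintro rfl
      exact hs (smul_zero b)
    · push Not at h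
      obtain ⟨s, hs⟩ := h
      exact ⟨a • s, hs, haa s⟩
  have habv : a • b • v = γ • v := by
    have := hc v
    rw [add_smul, mul_smul, mul_smul, hav, smul_zero, add_zero] at this
    exact this
  set W : Submodule E S := Submodule.span E {v, b • v} with hW
  have hvW : v ∈ W := Submodule.subset_span (by simp)
  have hbvW : b • v ∈ W := Submodule.subset_span (by simp)
  have hWtop : W = ⊤ := by
    apply hirr W
    · intro h
      rw [h, Submodule.mem_bot] at hvW
      exact hv0 hvW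
    · intro w hw
      obtain ⟨s, t, rfl⟩ := Submodule.mem_span_pair.1 hw
      rw [smul_add, smul_comm a s v, smul_comm a t (b • v), hav, smul_zero, zero_add, habv]
      exact W.smul_mem _ (W.smul_mem _ hvW)
    · intro w hw
      obtain ⟨s, t, rfl⟩ := Submodule.mem_span_pair.1 hw
      rw [smul_add, smul_comm b s v, smul_comm b t (b • v), hbb, smul_zero, add_zero]
      exact W.smul_mem _ hbvW
  -- `b v ≠ 0`
  have hbv0 : b • v ≠ 0 := by
    intro h0
    apply hne
    have hall : ∀ s : S, ∃ t : E, s = t • v := by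
      intro s
      have : s ∈ W := by rw [hWtop]; exact Submodule.mem_top
      obtain ⟨t, t', rfl⟩ := Submodule.mem_span_pair.1 this
      exact ⟨t, by rw [h0, smul_zero, add_zero]⟩
    constructor
    · intro s
      obtain ⟨t, rfl⟩ := hall s
      rw [smul_comm, hav, smul_zero]
    · intro s
      obtain ⟨t, rfl⟩ := hall s
      rw [smul_comm, h0, smul_zero]
  have hli : LinearIndependent E ![v, b • v] := by
    rw [LinearIndependent.pair_iff]
    intro s t hst
    have ht : t = 0 := by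
      by_contra ht
      -- apply `b`
      have h1 : b • (s • v + t • b • v) = 0 := by rw [hst, smul_zero]
      rw [smul_add, smul_comm b s v, smul_comm b t (b • v), hbb, smul_zero, add_zero] at h1
      have hs : s = 0 := by
        rcases smul_eq_zero.1 h1 with h | h
        · exact h
        · exact absurd h hbv0
      rw [hs, zero_smul, zero_add] at hst
      rcases smul_eq_zero.1 hst with h | h
      · exact ht h
      · exact hbv0 h
    refine ⟨?_, ht⟩
    rw [ht, zero_smul, add_zero] at hst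
    rcases smul_eq_zero.1 hst with h | h
    · exact h
    · exact absurd h hv0
  have hsp : ⊤ ≤ Submodule.span E (Set.range ![v, b • v]) := by
    rw [← hWtop, hW]
    apply Submodule.span_mono
    intro z hz
    simp only [Set.mem_insert_iff, Set.mem_singleton_iff] at hz
    rcases hz with rfl | rfl
    · exact ⟨0, rfl⟩
    · exact ⟨1, rfl⟩
  refine ⟨Basis.mk hli hsp, ?_, ?_, ?_, ?_⟩
  · rw [Basis.mk_apply]; exact hav
  · rw [Basis.mk_apply, Basis.mk_apply]; exact habv
  · rw [Basis.mk_apply, Basis.mk_apply]; rfl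
  · rw [Basis.mk_apply]; exact hbb v

end basis


section hom

open Matrix Matrix.SpecialLinearGroup
open scoped MatrixGroups
open Cfsg.Agent.Helper2.SL2S

variable {A E S Γ : Type*} [Ring A] [Field E] [AddCommGroup S] [Module A S] [Module E S]
  [SMulCommClass A E S] [Group Γ]

/-- the matrix ring homomorphism attached to a basis -/
noncomputable def matHom (𝔟 : Basis (Fin 2) E S) : A →+* Matrix (Fin 2) (Fin 2) E :=
  (LinearMap.toMatrixAlgEquiv 𝔟).toRingEquiv.toRingHom.comp (Module.toModuleEnd E (S := A) S)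

theorem matHom_apply (𝔟 : Basis (Fin 2) E S) (t : A) (i j : Fin 2) :
    matHom 𝔟 t i j = 𝔟.repr (t • 𝔟 j) i := by
  show (LinearMap.toMatrixAlgEquiv 𝔟) (Module.toModuleEnd E (S := A) S t) i j = _
  rw [LinearMap.toMatrixAlgEquiv_apply]
  rfl

theorem matHom_eq_one_iff (𝔟 : Basis (Fin 2) E S) (t : A) :
    matHom 𝔟 t = 1 ↔ ∀ s : S, t • s = s := by
  have h1 : matHom 𝔟 t = 1 ↔ Module.toModuleEnd E (S := A) S t = 1 := by
    constructor
    · intro h
      apply (LinearMap.toMatrixAlgEquiv 𝔟).injective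
      rw [map_one]
      exact h
    · intro h
      show (LinearMap.toMatrixAlgEquiv 𝔟) (Module.toModuleEnd E (S := A) S t) = 1
      rw [h, map_one]
  rw [h1]
  constructor
  · intro h s
    have := LinearMap.congr_fun h s
    exact this
  · intro h
    ext s
    exact h s

theorem matHom_a (𝔟 : Basis (Fin 2) E S) (a : A) (γ : E) (h0 : a • 𝔟 0 = 0)
    (h1 : a • 𝔟 1 = γ • 𝔟 0) : matHom 𝔟 a = !![0, γ; 0, 0] := by
  ext i j
  rw [matHom_apply]
  fin_cases i <;> fin_cases j <;> simp [h0, h1]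

theorem matHom_b (𝔟 : Basis (Fin 2) E S) (b : A) (h0 : b • 𝔟 0 = 𝔟 1)
    (h1 : b • 𝔟 1 = 0) : matHom 𝔟 b = !![0, 0; 1, 0] := by
  ext i j
  rw [matHom_apply]
  fin_cases i <;> fin_cases j <;> simp [h0, h1]


theorem equivFun_smul (𝔟 : Basis (Fin 2) E S) (t : A) (s : S) :
    𝔟.equivFun (t • s) = (matHom 𝔟 t) *ᵥ 𝔟.equivFun s := by
  have h := LinearMap.toMatrix_mulVec_repr 𝔟 𝔟 (Module.toModuleEnd E (S := A) S t) s
  ext i
  have h2 := congrFun h i
  rw [Basis.equivFun_apply, Basis.equivFun_apply]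
  exact h2.symm

/-- the twisted standard embedding, as a matrix identity -/
theorem embed_mul_diag {p : ℕ} [hp : Fact p.Prime] [CharP E p] (a : E) (ha : a ≠ 0)
    (M : SL(2, ZMod p)) :
    ((Cfsg.Agent.Helper4.DSL.embed p a ha M : SL(2, E)) : Matrix (Fin 2) (Fin 2) E) *
        !![a, 0; 0, 1] =
      !![a, 0; 0, 1] * (M.1.map (Cfsg.Agent.Helper4.DSL.cc (F := E) p)) := by
  rw [Cfsg.Agent.Helper4.DSL.embed_coe]
  ext i j
  fin_cases i <;> fin_cases j <;>
    simp [Matrix.mul_apply, Fin.sum_univ_two, mul_comm, ha]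

/-- a group generated by `p`-elements with at most one Sylow `p`-subgroup is a `p`-group -/
theorem isPGroup_of_gen {G : Type*} [Group G] [Finite G] {p : ℕ} [hp : Fact p.Prime] (T : Set G)
    (hT : Subgroup.closure T = ⊤) (hTp : ∀ t ∈ T, ∃ k : ℕ, t ^ p ^ k = 1)
    (hs : Nat.card (Sylow p G) ≤ 1) : IsPGroup p G := by
  haveI : Subsingleton (Sylow p G) := Finite.card_le_one_iff_subsingleton.1 hs
  obtain ⟨P⟩ : Nonempty (Sylow p G) := inferInstance
  haveI hPn : (P : Subgroup G).Normal := Sylow.normal_of_subsingleton P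
  have hle : Subgroup.closure T ≤ (P : Subgroup G) := by
    rw [Subgroup.closure_le]
    intro t ht
    obtain ⟨k, hk⟩ := hTp t ht
    have hz : IsPGroup p (Subgroup.zpowers t) := by
      have h2 : orderOf t ∣ p ^ k := orderOf_dvd_of_pow_eq_one hk
      obtain ⟨i, -, hi⟩ := (Nat.dvd_prime_pow hp.out).1 h2
      apply IsPGroup.of_card (n := i)
      rw [Nat.card_zpowers, hi]
    obtain ⟨Q, hQ⟩ := hz.exists_le_sylow
    have : Q = P := Subsingleton.elim _ _
    rw [← this]
    exact hQ (Subgroup.mem_zpowers t)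
  rw [hT] at hle
  intro g
  obtain ⟨k, hk⟩ := P.2 ⟨g, hle (Subgroup.mem_top g)⟩
  exact ⟨k, by simpa using congrArg Subtype.val hk⟩

theorem exists_sl2_of_basis_plus {p : ℕ} [hp : Fact p.Prime] (hp2 : p ≠ 2) [Fintype E]
    [CharP E p]
    (𝔟 : Basis (Fin 2) E S) (a b : A) (γ : E)
    (ha0 : a • 𝔟 0 = 0) (ha1 : a • 𝔟 1 = γ • 𝔟 0) (hb0 : b • 𝔟 0 = 𝔟 1) (hb1 : b • 𝔟 1 = 0)
    (ι : Γ →* Aˣ) (x y : Γ) (hgen : Subgroup.closure {x, y} = ⊤)
    (hx : (ι x : A) = 1 + a) (hy : (ι y : A) = 1 + b)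
    (hnp : ∃ g : Γ, ∀ k : ℕ, ∃ s : S, ((ι g ^ p ^ k : Aˣ) : A) • s ≠ s) :
    ∃ (K : Subgroup Γ) (f : K →* SL(2, ZMod p)) (Λ : (Fin 2 → ZMod p) →+ S),
      Function.Surjective f ∧ Function.Injective Λ ∧
      ∀ (k : K) (l : Fin 2 → ZMod p),
        ((ι (k : Γ) : Aˣ) : A) • Λ l = Λ ((f k).1 *ᵥ l) := by
  classical
  set φ : Γ →* Matrix (Fin 2) (Fin 2) E :=
    (matHom 𝔟 : A →+* Matrix (Fin 2) (Fin 2) E).toMonoidHom.comp ((Units.coeHom A).comp ι) with hφ
  have hφa : ∀ g : Γ, φ g = matHom 𝔟 (ι g : A) := fun g => rfl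
  have hφx : φ x = ((u γ : SL(2, E)) : Matrix (Fin 2) (Fin 2) E) := by
    rw [hφa, hx, map_add, map_one, matHom_a 𝔟 a γ ha0 ha1, u_coe]
    ext i j
    fin_cases i <;> fin_cases j <;> simp
  have hφy : φ y = ((v 1 : SL(2, E)) : Matrix (Fin 2) (Fin 2) E) := by
    rw [hφa, hy, map_add, map_one, matHom_b 𝔟 b hb0 hb1, v_coe]
    ext i j
    fin_cases i <;> fin_cases j <;> simp
  -- determinant one
  have hdet : ∀ g : Γ, (φ g).det = 1 := by
    let D : Γ →* E := (Matrix.detMonoidHom).comp φ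
    have hle : Subgroup.closure {x, y} ≤ D.ker := by
      rw [Subgroup.closure_le]
      intro t ht
      simp only [Set.mem_insert_iff, Set.mem_singleton_iff] at ht
      rcases ht with rfl | rfl
      · rw [SetLike.mem_coe, MonoidHom.mem_ker]
        show (φ t).det = 1
        rw [hφx]; exact (u γ).2
      · rw [SetLike.mem_coe, MonoidHom.mem_ker]
        show (φ t).det = 1
        rw [hφy]; exact (v (1 : E)).2
    intro g
    have : g ∈ D.ker := hle (by rw [hgen]; exact Subgroup.mem_top g)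
    exact MonoidHom.mem_ker.1 this
  let ψ : Γ →* SL(2, E) := MonoidHom.mk' (fun g => (⟨φ g, hdet g⟩ : SL(2, E))) (by
    intro g h
    apply Subtype.ext
    change φ (g * h) = φ g * φ h
    exact map_mul φ g h)
  have hψ : ∀ g, ((ψ g : SL(2, E)) : Matrix (Fin 2) (Fin 2) E) = φ g := fun g => rfl
  have hψx : ψ x = u γ := Subtype.ext hφx
  have hψy : ψ y = v 1 := Subtype.ext hφy
  set Hs : Subgroup SL(2, E) := ψ.range with hHs
  -- the generators, inside `Hs`
  have hgenHs : Subgroup.closure ({⟨ψ x, ⟨x, rfl⟩⟩, ⟨ψ y, ⟨y, rfl⟩⟩} : Set ↥Hs) = ⊤ := by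
    have h1 : (Subgroup.closure ({x, y} : Set Γ)).map ψ.rangeRestrict = ⊤ := by
      rw [hgen, ← MonoidHom.range_eq_map, MonoidHom.rangeRestrict_surjective ψ |> MonoidHom.range_eq_top.2]
    rw [MonoidHom.map_closure] at h1
    rw [← h1]
    congr 1
    ext z
    simp only [Set.mem_insert_iff, Set.mem_singleton_iff, Set.mem_image]
    constructor
    · rintro (rfl | rfl)
      · exact ⟨x, Or.inl rfl, rfl⟩
      · exact ⟨y, Or.inr rfl, rfl⟩
    · rintro ⟨t, rfl | rfl, rfl⟩
      · left; rfl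
      · right; rfl
  have hn : 1 < Nat.card (Sylow p ↥Hs) := by
    by_contra hle
    push Not at hle
    have hpg : IsPGroup p ↥Hs := by
      apply isPGroup_of_gen _ hgenHs _ hle
      intro t ht
      simp only [Set.mem_insert_iff, Set.mem_singleton_iff] at ht
      refine ⟨1, ?_⟩
      rw [pow_one]
      rcases ht with rfl | rfl
      · apply Subtype.ext
        rw [Subgroup.coe_pow, Subgroup.coe_one]
        show (ψ x) ^ p = 1
        rw [hψx]; exact Cfsg.Agent.Helper4.DSL.u_pow_p p γ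
      · apply Subtype.ext
        rw [Subgroup.coe_pow, Subgroup.coe_one]
        show (ψ y) ^ p = 1
        rw [hψy, Cfsg.Agent.Helper4.DSL.v_pow, CharP.cast_eq_zero E p, zero_mul,
          Cfsg.Agent.Helper4.DSL.v_zero]
    obtain ⟨g, hg⟩ := hnp
    obtain ⟨k, hk⟩ := hpg ⟨ψ g, ⟨g, rfl⟩⟩
    have h1 : (ψ g) ^ p ^ k = 1 := by simpa using congrArg Subtype.val hk
    have h2 : φ (g ^ p ^ k) = 1 := by
      have := congrArg (fun m : SL(2, E) => (m : Matrix (Fin 2) (Fin 2) E)) h1
      simp only [← map_pow, hψ] at this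
      simpa using this
    rw [hφa, matHom_eq_one_iff, map_pow] at h2
    obtain ⟨s, hs⟩ := hg k
    exact hs (h2 s)
  obtain ⟨s, a₀, ha₀, hstd⟩ := Cfsg.Agent.Helper4.DSL.dickson_std p hp2 Hs hn
  let φ : SL(2, ZMod p) →* SL(2, E) :=
    (MulAut.conj s⁻¹).toMonoidHom.comp (Cfsg.Agent.Helper4.DSL.embed p a₀ ha₀)
  have hφinj : Function.Injective φ := by
    intro M N h
    apply Cfsg.Agent.Helper4.DSL.embed_injective p a₀ ha₀
    exact (MulAut.conj s⁻¹).injective h
  have hφ : ∀ M, φ M = s⁻¹ * Cfsg.Agent.Helper4.DSL.embed p a₀ ha₀ M * s := by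
    intro M
    simp [φ]
  let f : ↥(φ.range.comap ψ) →* SL(2, ZMod p) :=
    (MonoidHom.ofInjective hφinj).symm.toMonoidHom.comp (ψ.subgroupComap φ.range)
  have hf : ∀ k : ↥(φ.range.comap ψ), φ (f k) = ψ (k : Γ) := by
    intro k
    have h1 : (MonoidHom.ofInjective hφinj) (f k) = ψ.subgroupComap φ.range k :=
      MulEquiv.apply_symm_apply _ _
    have h2 := congrArg Subtype.val h1
    rw [MonoidHom.ofInjective_apply] at h2
    exact h2
  have hfs : Function.Surjective f := by
    intro M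
    have hM : φ M ∈ Hs := by rw [hφ]; exact hstd M
    obtain ⟨g, hg⟩ := hM
    have hgK : g ∈ φ.range.comap ψ := by
      rw [Subgroup.mem_comap, hg]; exact ⟨M, rfl⟩
    refine ⟨⟨g, hgK⟩, ?_⟩
    apply hφinj
    rw [hf, hg]
  -- the `F_p`-form
  let D : Matrix (Fin 2) (Fin 2) E := !![a₀, 0; 0, 1]
  let P : Matrix (Fin 2) (Fin 2) E := ((s⁻¹ : SL(2, E)) : Matrix (Fin 2) (Fin 2) E) * D
  have hPdet : P.det = a₀ := by
    show (((s⁻¹ : SL(2, E)) : Matrix (Fin 2) (Fin 2) E) * D).det = a₀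
    rw [Matrix.det_mul, (s⁻¹).2, one_mul]
    simp [D, Matrix.det_fin_two]
  have hPinj : Function.Injective P.mulVec := by
    rw [Matrix.mulVec_injective_iff_isUnit, Matrix.isUnit_iff_isUnit_det, hPdet]
    exact isUnit_iff_ne_zero.2 ha₀
  let ccv : (Fin 2 → ZMod p) →+ (Fin 2 → E) :=
    (Cfsg.Agent.Helper4.DSL.cc (F := E) p).toAddMonoidHom.compLeft (Fin 2)
  have hccv : ∀ l, ccv l = (Cfsg.Agent.Helper4.DSL.cc (F := E) p) ∘ l := fun l => rfl
  let Λ : (Fin 2 → ZMod p) →+ S :=
    (𝔟.equivFun.symm.toLinearMap.comp (Matrix.mulVecLin P)).toAddMonoidHom.comp ccv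
  have hΛ : ∀ l, 𝔟.equivFun (Λ l) = P *ᵥ ccv l := by
    intro l
    show 𝔟.equivFun (𝔟.equivFun.symm (P *ᵥ ccv l)) = _
    rw [LinearEquiv.apply_symm_apply]
  have hΛinj : Function.Injective Λ := by
    intro l l' h
    have h1 : P *ᵥ ccv l = P *ᵥ ccv l' := by rw [← hΛ, ← hΛ, h]
    have h2 := hPinj h1
    have hinj : Function.Injective (Cfsg.Agent.Helper4.DSL.cc (F := E) p) := RingHom.injective _
    ext i
    apply hinj
    exact congrFun h2 i
  refine ⟨φ.range.comap ψ, f, Λ, hfs, hΛinj, ?_⟩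
  intro k l
  apply 𝔟.equivFun.injective
  rw [equivFun_smul, hΛ, hΛ, ← hφa, ← hψ, ← hf, hφ]
  -- matrices
  have hss : ((s : SL(2, E)) : Matrix (Fin 2) (Fin 2) E) *
      ((s⁻¹ : SL(2, E)) : Matrix (Fin 2) (Fin 2) E) = 1 := by
    rw [← Matrix.SpecialLinearGroup.coe_mul, mul_inv_cancel, Matrix.SpecialLinearGroup.coe_one]
  have hkey : ((s⁻¹ * Cfsg.Agent.Helper4.DSL.embed p a₀ ha₀ (f k) * s : SL(2, E)) :
      Matrix (Fin 2) (Fin 2) E) * P =
      P * ((f k).1.map (Cfsg.Agent.Helper4.DSL.cc (F := E) p)) := by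
    show _ * (((s⁻¹ : SL(2, E)) : Matrix (Fin 2) (Fin 2) E) * D) =
      (((s⁻¹ : SL(2, E)) : Matrix (Fin 2) (Fin 2) E) * D) * _
    rw [Matrix.SpecialLinearGroup.coe_mul, Matrix.SpecialLinearGroup.coe_mul]
    calc ((s⁻¹ : SL(2, E)) : Matrix (Fin 2) (Fin 2) E) *
          (Cfsg.Agent.Helper4.DSL.embed p a₀ ha₀ (f k) : SL(2, E)).1 * s.1 *
          (((s⁻¹ : SL(2, E)) : Matrix (Fin 2) (Fin 2) E) * D)
        = ((s⁻¹ : SL(2, E)) : Matrix (Fin 2) (Fin 2) E) *
          (Cfsg.Agent.Helper4.DSL.embed p a₀ ha₀ (f k) : SL(2, E)).1 *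
          (s.1 * ((s⁻¹ : SL(2, E)) : Matrix (Fin 2) (Fin 2) E)) * D := by
            simp only [Matrix.mul_assoc]
      _ = ((s⁻¹ : SL(2, E)) : Matrix (Fin 2) (Fin 2) E) *
          ((Cfsg.Agent.Helper4.DSL.embed p a₀ ha₀ (f k) : SL(2, E)).1 * D) := by
            rw [hss, Matrix.mul_one, Matrix.mul_assoc]
      _ = _ := by
            rw [show D = !![a₀, 0; 0, 1] from rfl, embed_mul_diag a₀ ha₀ (f k)]
            simp only [Matrix.mul_assoc]
  rw [Matrix.mulVec_mulVec, hkey, ← Matrix.mulVec_mulVec]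
  congr 1
  ext i
  rw [hccv, hccv]
  exact (RingHom.map_mulVec _ _ _ i).symm

theorem exists_sl2_of_basis {p : ℕ} [hp : Fact p.Prime] (hp2 : p ≠ 2) [Fintype E] [CharP E p]
    (𝔟 : Basis (Fin 2) E S) (a b : A) (γ : E)
    (ha0 : a • 𝔟 0 = 0) (ha1 : a • 𝔟 1 = γ • 𝔟 0) (hb0 : b • 𝔟 0 = 𝔟 1) (hb1 : b • 𝔟 1 = 0)
    (ι : Γ →* Aˣ) (x y : Γ) (hgen : Subgroup.closure {x, y} = ⊤)
    (hx : (ι x : A) = 1 + a) (hy : (ι y : A) = 1 + b)
    (hnp : ∃ g : Γ, ∀ k : ℕ, ∃ s : S, ((ι g ^ p ^ k : Aˣ) : A) • s ≠ s) :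
    ∃ (K : Subgroup Γ) (f : K →* SL(2, ZMod p)), Function.Surjective f := by
  obtain ⟨K, f, -, hf, -, -⟩ :=
    exists_sl2_of_basis_plus hp2 𝔟 a b γ ha0 ha1 hb0 hb1 ι x y hgen hx hy hnp
  exact ⟨K, f, hf⟩

end hom


section concl

open Matrix Matrix.SpecialLinearGroup
open scoped MatrixGroups

variable {A : Type*} [Ring A] {Γ : Type*} [Group Γ] (ι : Γ →* Aˣ) (p : ℕ)

/-- the conclusion: a subgroup `K` of `Γ` mapping onto `SL₂(p)` and a `K`-invariant section of
the module `N` on which `K` acts through the natural module of `SL₂(p)` -/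
def Concl (N : Type*) [AddCommGroup N] [Module A N] : Prop :=
  ∃ (K : Subgroup Γ) (f : K →* SL(2, ZMod p)) (𝒰 : AddSubgroup N)
    (θ : 𝒰 →+ (Fin 2 → ZMod p)),
    Function.Surjective f ∧ Function.Surjective θ ∧
    ∀ (k : K) (u : 𝒰), ∃ h : ((ι (k : Γ) : Aˣ) : A) • (u : N) ∈ 𝒰,
      θ ⟨_, h⟩ = (f k).1 *ᵥ θ u

variable {ι p}

theorem Concl.exists_hom {N : Type*} [AddCommGroup N] [Module A N] (h : Concl ι p N) :
    ∃ (K : Subgroup Γ) (f : K →* SL(2, ZMod p)), Function.Surjective f := by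
  obtain ⟨K, f, -, -, hf, -, -⟩ := h
  exact ⟨K, f, hf⟩

theorem Concl.of_injective {N : Type*} [AddCommGroup N] [Module A N] (Λ : (Fin 2 → ZMod p) →+ N)
    (hΛ : Function.Injective Λ) (K : Subgroup Γ) (f : K →* SL(2, ZMod p))
    (hf : Function.Surjective f)
    (hk : ∀ (k : K) (l : Fin 2 → ZMod p), ((ι (k : Γ) : Aˣ) : A) • Λ l = Λ ((f k).1 *ᵥ l)) :
    Concl ι p N := by
  let e := AddMonoidHom.ofInjective hΛ
  refine ⟨K, f, Λ.range, e.symm.toAddMonoidHom, hf, e.symm.surjective, ?_⟩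
  intro k u
  obtain ⟨l, rfl⟩ : ∃ l, e l = u := e.surjective u
  have hl' : Λ l = ((e l : ↥Λ.range) : N) := rfl
  have hmem : ((ι (k : Γ) : Aˣ) : A) • ((e l : ↥Λ.range) : N) ∈ Λ.range := by
    rw [← hl', hk]; exact ⟨_, rfl⟩
  refine ⟨hmem, ?_⟩
  show e.symm ⟨_, hmem⟩ = (f k).1 *ᵥ e.symm (e l)
  rw [AddEquiv.symm_apply_apply]
  apply e.injective
  rw [AddEquiv.apply_symm_apply]
  apply Subtype.ext
  show _ = Λ ((f k).1 *ᵥ l)
  rw [← hk]; rfl

theorem Concl.of_sub {N : Type*} [AddCommGroup N] [Module A N] (N' : Submodule A N)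
    (h : Concl ι p ↥N') : Concl ι p N := by
  obtain ⟨K, f, 𝒰, θ, hf, hθ, hk⟩ := h
  have hinj : Function.Injective N'.subtype.toAddMonoidHom := N'.injective_subtype
  let e := 𝒰.equivMapOfInjective N'.subtype.toAddMonoidHom hinj
  refine ⟨K, f, 𝒰.map N'.subtype.toAddMonoidHom, θ.comp e.symm.toAddMonoidHom, hf,
    hθ.comp e.symm.surjective, ?_⟩
  intro k u
  obtain ⟨u', rfl⟩ : ∃ u', e u' = u := e.surjective u
  obtain ⟨h1, h2⟩ := hk k u'
  have hmem : ((ι (k : Γ) : Aˣ) : A) • ((e u' : ↥(𝒰.map N'.subtype.toAddMonoidHom)) : N) ∈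
      𝒰.map N'.subtype.toAddMonoidHom := ⟨_, h1, rfl⟩
  refine ⟨hmem, ?_⟩
  have h3 : e.symm ⟨_, hmem⟩ = ⟨_, h1⟩ := by
    apply e.injective
    rw [AddEquiv.apply_symm_apply]
    apply Subtype.ext
    rfl
  show θ (e.symm ⟨_, hmem⟩) = (f k).1 *ᵥ θ (e.symm (e u'))
  rw [h3, h2, AddEquiv.symm_apply_apply]

theorem Concl.of_quot {N : Type*} [AddCommGroup N] [Module A N] (N' : Submodule A N)
    (h : Concl ι p (N ⧸ N')) : Concl ι p N := by
  obtain ⟨K, f, 𝒰, θ, hf, hθ, hk⟩ := h
  let π : N →+ N ⧸ N' := N'.mkQ.toAddMonoidHom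
  have hπ : Function.Surjective π := Submodule.Quotient.mk_surjective N'
  refine ⟨K, f, 𝒰.comap π, θ.comp (π.addSubgroupComap 𝒰), hf, ?_, ?_⟩
  · intro l
    obtain ⟨⟨ub, hub⟩, rfl⟩ := hθ l
    obtain ⟨n, rfl⟩ := hπ ub
    exact ⟨⟨n, hub⟩, rfl⟩
  · intro k u
    obtain ⟨h1, h2⟩ := hk k ⟨π u, u.2⟩
    have hmem : ((ι (k : Γ) : Aˣ) : A) • (u : N) ∈ 𝒰.comap π := by
      show π (((ι (k : Γ) : Aˣ) : A) • (u : N)) ∈ 𝒰
      exact h1
    exact ⟨hmem, h2⟩

end concl

section simple

open Matrix Matrix.SpecialLinearGroup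
open scoped MatrixGroups

/-- elements of the group act trivially when the generators do -/
theorem smul_eq_of_gen {A S Γ : Type*} [Ring A] [AddCommGroup S] [Module A S] [Group Γ]
    (ι : Γ →* Aˣ) (T : Set Γ) (hgen : Subgroup.closure T = ⊤)
    (hT : ∀ t ∈ T, ∀ s : S, (ι t : A) • s = s) (g : Γ) (s : S) : (ι g : A) • s = s := by
  let D : Subgroup Γ :=
    { carrier := {g | ∀ s : S, (ι g : A) • s = s}
      mul_mem' := by
        intro g h hg hh s
        rw [map_mul, Units.val_mul, mul_smul, hh s, hg s]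
      one_mem' := by
        intro s
        rw [map_one, Units.val_one, one_smul]
      inv_mem' := by
        intro g hg s
        have h1 : (ι g⁻¹ : A) * (ι g : A) = 1 := by
          rw [← Units.val_mul, ← map_mul, inv_mul_cancel, map_one, Units.val_one]
        calc (ι g⁻¹ : A) • s = (ι g⁻¹ : A) • ((ι g : A) • s) := by rw [hg s]
          _ = s := by rw [← mul_smul, h1, one_smul] }
  have hle : Subgroup.closure T ≤ D := (Subgroup.closure_le D).2 hT
  rw [hgen] at hle
  exact hle (Subgroup.mem_top g) s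

theorem concl_of_simple {A : Type*} [Ring A] {S : Type*} [AddCommGroup S] [Module A S]
    [IsSimpleModule A S] [Finite S] {p : ℕ} [hp : Fact p.Prime] (hp2 : p ≠ 2)
    (hS : ∀ s : S, p • s = 0)
    (a b : A) (ha : a * a = 0) (hb : b * b = 0) (hA : Subring.closure {a, b} = ⊤)
    {Γ : Type*} [Group Γ] (ι : Γ →* Aˣ) (x y : Γ) (hgen : Subgroup.closure {x, y} = ⊤)
    (hx : (ι x : A) = 1 + a) (hy : (ι y : A) = 1 + b)
    (hnp : ∃ g : Γ, ∀ k : ℕ, ∃ s : S, ((ι g ^ p ^ k : Aˣ) : A) • s ≠ s) :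
    Concl ι p S := by
  classical
  haveI : Finite (Module.End A S) :=
    Finite.of_injective (fun f => (f : S → S)) DFunLike.coe_injective
  letI : Field (Module.End A S) := littleWedderburn _
  letI : Fintype (Module.End A S) := Fintype.ofFinite _
  have hsmul : ∀ (e : Module.End A S) (s : S), e • s = e s := fun e s => rfl
  haveI : SMulCommClass A (Module.End A S) S :=
    ⟨fun t e s => by rw [hsmul, hsmul, map_smul]⟩
  haveI : Nontrivial S := IsSimpleModule.nontrivial A S
  -- characteristic `p`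
  haveI : CharP (Module.End A S) p := by
    have h0 : ((p : ℕ) : Module.End A S) = 0 := by
      apply LinearMap.ext
      intro s
      have : ((p : ℕ) : Module.End A S) • s = p • s := Nat.cast_smul_eq_nsmul _ p s
      rw [hsmul] at this
      rw [this, hS s]; rfl
    exact ringChar.of_eq (CharP.ringChar_of_prime_eq_zero hp.out h0)
  -- the central element
  obtain ⟨c₀, hc₀⟩ : ∃ c₀ : A, c₀ = a * b + b * a := ⟨_, rfl⟩
  have hca : c₀ * a = a * c₀ := by
    rw [hc₀]
    calc (a * b + b * a) * a = a * b * a + b * (a * a) := by noncomm_ring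
      _ = a * (a * b) * 0 + a * b * a := by rw [ha]; noncomm_ring
      _ = a * a * b + a * b * a := by rw [ha]; noncomm_ring
      _ = a * (a * b + b * a) := by noncomm_ring
  have hcb : c₀ * b = b * c₀ := by
    rw [hc₀]
    calc (a * b + b * a) * b = a * (b * b) + b * a * b := by noncomm_ring
      _ = b * a * b + b * b * a := by rw [hb]; noncomm_ring
      _ = b * (a * b + b * a) := by noncomm_ring
  have hcentral : ∀ t : A, c₀ * t = t * c₀ := by
    intro t
    have ht : t ∈ Subring.closure {a, b} := by rw [hA]; exact Subring.mem_top t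
    induction ht using Subring.closure_induction with
    | mem z hz =>
      simp only [Set.mem_insert_iff, Set.mem_singleton_iff] at hz
      rcases hz with rfl | rfl
      · exact hca
      · exact hcb
    | zero => simp
    | one => simp
    | add z w _ _ hz hw => rw [mul_add, add_mul, hz, hw]
    | neg z _ hz => rw [mul_neg, neg_mul, hz]
    | mul z w _ _ hz hw => rw [← mul_assoc, hz, mul_assoc, hw, mul_assoc]
  let γ : Module.End A S :=
    { toFun := fun s => c₀ • s
      map_add' := smul_add c₀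
      map_smul' := fun t s => by
        simp only [RingHom.id_apply]
        rw [← mul_smul, ← mul_smul, hcentral] }
  have hc : ∀ s : S, (a * b + b * a) • s = γ • s := fun s => by rw [← hc₀]; rfl
  -- irreducibility
  have hirr : ∀ W : Submodule (Module.End A S) S, W ≠ ⊥ → (∀ w ∈ W, a • w ∈ W) →
      (∀ w ∈ W, b • w ∈ W) → W = ⊤ := by
    intro W hW0 hWa hWb
    have hWA : ∀ t : A, ∀ w ∈ W, t • w ∈ W := by
      intro t
      have ht : t ∈ Subring.closure {a, b} := by rw [hA]; exact Subring.mem_top t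
      induction ht using Subring.closure_induction with
      | mem z hz =>
        simp only [Set.mem_insert_iff, Set.mem_singleton_iff] at hz
        rcases hz with rfl | rfl
        · exact hWa
        · exact hWb
      | zero => intro w _; rw [zero_smul]; exact W.zero_mem
      | one => intro w hw; rw [one_smul]; exact hw
      | add z w _ _ hz hw => intro s hs; rw [add_smul]; exact W.add_mem (hz s hs) (hw s hs)
      | neg z _ hz => intro s hs; rw [neg_smul]; exact W.neg_mem (hz s hs)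
      | mul z w _ _ hz hw => intro s hs; rw [mul_smul]; exact hz _ (hw s hs)
    let W' : Submodule A S :=
      { carrier := W
        add_mem' := W.add_mem
        zero_mem' := W.zero_mem
        smul_mem' := fun t w hw => hWA t w hw }
    rcases eq_bot_or_eq_top W' with h | h
    · exfalso
      apply hW0
      rw [eq_bot_iff]
      intro w hw
      have : w ∈ W' := hw
      rw [h] at this
      exact this
    · rw [eq_top_iff]
      intro w _
      have : w ∈ W' := by rw [h]; exact Submodule.mem_top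
      exact this
  -- nontrivial action
  have hne : ¬ ((∀ s : S, a • s = 0) ∧ (∀ s : S, b • s = 0)) := by
    rintro ⟨h1, h2⟩
    obtain ⟨g, hg⟩ := hnp
    obtain ⟨s, hs⟩ := hg 0
    apply hs
    rw [pow_zero, pow_one]
    apply smul_eq_of_gen ι {x, y} hgen
    intro t ht s
    simp only [Set.mem_insert_iff, Set.mem_singleton_iff] at ht
    rcases ht with rfl | rfl
    · rw [hx, add_smul, one_smul, h1, add_zero]
    · rw [hy, add_smul, one_smul, h2, add_zero]
  obtain ⟨𝔟, h1, h2, h3, h4⟩ := exists_basis (E := Module.End A S) a b ha hb γ hc hirr hne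
  obtain ⟨K, f, Λ, hf, hΛ, hk⟩ :=
    exists_sl2_of_basis_plus hp2 𝔟 a b γ h1 h2 h3 h4 ι x y hgen hx hy hnp
  exact Concl.of_injective Λ hΛ K f hf hk

end simple


section extract

open Matrix Matrix.SpecialLinearGroup
open scoped MatrixGroups

universe u v

variable {A : Type u} [Ring A] {Γ : Type v} [Group Γ] (ι : Γ →* Aˣ) (p : ℕ) [hp : Fact p.Prime]

/-- the group does not act as a `p`-group on the module `N` -/
def NP (N : Type u) [AddCommGroup N] [Module A N] : Prop :=
  ∃ g : Γ, ∀ k : ℕ, ∃ m : N, ((ι g ^ p ^ k : Aˣ) : A) • m ≠ m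

theorem one_add_pow_smul {N : Type*} [AddCommGroup N] [Module A N] (t : A)
    (ht : ∀ m : N, t • t • m = 0) (j : ℕ) (m : N) :
    (1 + t) ^ j • m = m + j • (t • m) := by
  induction j generalizing m with
  | zero => simp
  | succ j ih =>
    rw [pow_succ, mul_smul, add_smul, one_smul, smul_add, ih, ih, ht, smul_zero, add_zero,
      succ_nsmul]
    abel

theorem pow_smul_eq {N : Type*} [AddCommGroup N] [Module A N] (w : A)
    (hw : ∀ m : N, w • m = m) (j : ℕ) (m : N) : w ^ j • m = m := by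
  induction j with
  | zero => simp
  | succ j ih => rw [pow_succ, mul_smul, hw, ih]

variable {ι p} in
theorem np_sub_or_quot {N : Type u} [AddCommGroup N] [Module A N] (hN : ∀ m : N, p • m = 0)
    (N' : Submodule A N) (h : NP ι p N) : NP ι p ↥N' ∨ NP ι p (N ⧸ N') := by
  obtain ⟨g, hg⟩ := h
  by_contra hcon
  push Not at hcon
  obtain ⟨h1, h2⟩ := hcon
  unfold NP at h1 h2
  push Not at h1 h2
  obtain ⟨k₁, hk₁⟩ := h1 g
  obtain ⟨k₂, hk₂⟩ := h2 g
  -- the element `w = g ^ (p ^ (k₁ + k₂))`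
  set w : A := ((ι g ^ p ^ (k₁ + k₂) : Aˣ) : A) with hw
  have hw1 : w = (((ι g ^ p ^ k₁ : Aˣ) : A)) ^ p ^ k₂ := by
    rw [hw, pow_add, pow_mul, Units.val_pow_eq_pow_val]
  have hw2 : w = (((ι g ^ p ^ k₂ : Aˣ) : A)) ^ p ^ k₁ := by
    rw [hw, add_comm, pow_add, pow_mul, Units.val_pow_eq_pow_val]
  have hsub : ∀ m ∈ N', w • m = m := by
    intro m hm
    have h3 : ∀ m' : ↥N', ((ι g ^ p ^ k₁ : Aˣ) : A) ^ p ^ k₂ • m' = m' :=
      pow_smul_eq _ hk₁ _
    have := congrArg Subtype.val (h3 ⟨m, hm⟩)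
    rw [hw1]
    simpa using this
  have hquot : ∀ m : N, w • m - m ∈ N' := by
    intro m
    have h3 : ∀ m' : N ⧸ N', ((ι g ^ p ^ k₂ : Aˣ) : A) ^ p ^ k₁ • m' = m' :=
      pow_smul_eq _ hk₂ _
    have := h3 (Submodule.Quotient.mk m)
    rw [← hw2, ← Submodule.Quotient.mk_smul, Submodule.Quotient.eq] at this
    exact this
  set t : A := w - 1 with ht
  have htm : ∀ m : N, t • m = w • m - m := fun m => by rw [ht, sub_smul, one_smul]
  have htt : ∀ m : N, t • t • m = 0 := by
    intro m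
    rw [htm (t • m), hsub _ (by rw [htm m]; exact hquot m), sub_self]
  obtain ⟨m, hm⟩ := hg (k₁ + k₂ + 1)
  apply hm
  have h4 : ((ι g ^ p ^ (k₁ + k₂ + 1) : Aˣ) : A) = (1 + t) ^ p := by
    rw [ht, add_sub_cancel, hw, pow_succ p, pow_mul, Units.val_pow_eq_pow_val]
  rw [h4, one_add_pow_smul t htt, hN, add_zero]

theorem card_submodule_lt {N : Type u} [AddCommGroup N] [Module A N] [Finite N]
    (N' : Submodule A N) (h : N' ≠ ⊤) : Nat.card ↥N' < Nat.card N := by
  have h1 : ((N' : Set N)) ⊂ Set.univ := by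
    rw [Set.ssubset_univ_iff]
    intro h2
    apply h
    rw [eq_top_iff]
    intro m _
    have : m ∈ (N' : Set N) := by rw [h2]; exact Set.mem_univ m
    exact this
  have := Set.ncard_lt_ncard h1 (Set.toFinite _)
  rw [Set.ncard_univ] at this
  exact this

theorem card_quotient_lt {N : Type u} [AddCommGroup N] [Module A N] [Finite N]
    (N' : Submodule A N) (h : N' ≠ ⊥) : Nat.card (N ⧸ N') < Nat.card N := by
  haveI : Finite (N ⧸ N') := Finite.of_surjective _ (Submodule.Quotient.mk_surjective N')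
  have h1 := Submodule.card_eq_card_quotient_mul_card N'
  have h2 : 1 < Nat.card ↥N' := by
    rw [Finite.one_lt_card_iff_nontrivial]
    exact (Submodule.nontrivial_iff_ne_bot).2 h
  have h3 : 0 < Nat.card (N ⧸ N') := Nat.card_pos
  rw [h1]
  nlinarith

theorem exists_sl2_aux (hp2 : p ≠ 2) (a b : A) (ha : a * a = 0) (hb : b * b = 0)
    (hA : Subring.closure {a, b} = ⊤) (x y : Γ) (hgen : Subgroup.closure {x, y} = ⊤)
    (hx : (ι x : A) = 1 + a) (hy : (ι y : A) = 1 + b) :
    ∀ n : ℕ, ∀ (N : Type u) [AddCommGroup N] [Module A N] [Finite N], Nat.card N ≤ n →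
      (∀ m : N, p • m = 0) → NP ι p N → Concl ι p N := by
  intro n
  induction n with
  | zero =>
    intro N _ _ _ hcard
    have : 0 < Nat.card N := Nat.card_pos
    omega
  | succ n ih =>
    intro N _ _ _ hcard hN hnp
    by_cases hs : IsSimpleModule A N
    · exact concl_of_simple hp2 hN a b ha hb hA ι x y hgen hx hy hnp
    · -- a proper nonzero submodule
      have hnt : Nontrivial N := by
        by_contra hnt
        rw [not_nontrivial_iff_subsingleton] at hnt
        obtain ⟨g, hg⟩ := hnp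
        obtain ⟨m, hm⟩ := hg 0
        exact hm (Subsingleton.elim _ _)
      obtain ⟨N', hN'0, hN'1⟩ : ∃ N' : Submodule A N, N' ≠ ⊥ ∧ N' ≠ ⊤ := by
        by_contra hcon
        push Not at hcon
        apply hs
        rw [isSimpleModule_iff]
        exact { exists_pair_ne := ⟨⊥, ⊤, bot_ne_top⟩
                eq_bot_or_eq_top := fun N' => by
                  by_cases h : N' = ⊥
                  · exact Or.inl h
                  · exact Or.inr (hcon N' h) }
      rcases np_sub_or_quot hN N' hnp with h | h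
      · apply Concl.of_sub N'
        apply ih ↥N' _ _ h
        · have := card_submodule_lt N' hN'1
          omega
        · intro m
          apply Subtype.ext
          simpa using hN m
      · haveI : Finite (N ⧸ N') := Finite.of_surjective _ (Submodule.Quotient.mk_surjective N')
        apply Concl.of_quot N'
        apply ih (N ⧸ N') _ _ h
        · have := card_quotient_lt N' hN'0
          omega
        · intro m
          obtain ⟨m, rfl⟩ := Submodule.Quotient.mk_surjective N' m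
          rw [← Submodule.Quotient.mk_smul, hN, Submodule.Quotient.mk_zero]

end extract


section linear

open Matrix Matrix.SpecialLinearGroup
open scoped MatrixGroups

universe u v

theorem closure_subtype_eq_top {R : Type*} [Ring R] (a b : R) :
    Subring.closure ({⟨a, Subring.subset_closure (by simp)⟩,
      ⟨b, Subring.subset_closure (by simp)⟩} : Set ↥(Subring.closure ({a, b} : Set R))) = ⊤ := by
  rw [eq_top_iff]
  rintro ⟨t, ht⟩ -
  induction ht using Subring.closure_induction with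
  | mem z hz =>
    apply Subring.subset_closure
    simp only [Set.mem_insert_iff, Set.mem_singleton_iff] at hz ⊢
    rcases hz with rfl | rfl
    · left; rfl
    · right; rfl
  | zero => exact Subring.zero_mem _
  | one => exact Subring.one_mem _
  | add z w hz hw h1 h2 => exact Subring.add_mem _ h1 h2
  | neg z hz h1 => exact Subring.neg_mem _ h1
  | mul z w hz hw h1 h2 => exact Subring.mul_mem _ h1 h2

/-- **the linear quadratic-pair theorem**, with the natural module as a section -/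
theorem linear_main_plus {M : Type u} [AddCommGroup M] [Finite M] {p : ℕ} [hp : Fact p.Prime]
    (hp2 : p ≠ 2) (hM : ∀ m : M, p • m = 0) {Γ : Type v} [Group Γ] (x y : Γ)
    (hgen : Subgroup.closure {x, y} = ⊤) (ρ : Γ →* AddMonoid.End M)
    (hx : (ρ x - 1) * (ρ x - 1) = 0) (hy : (ρ y - 1) * (ρ y - 1) = 0)
    (hnp : ∃ g : Γ, ∀ k : ℕ, ρ (g ^ p ^ k) ≠ 1) :
    ∃ (K : Subgroup Γ) (f : K →* SL(2, ZMod p)) (𝒰 : AddSubgroup M)
      (θ : 𝒰 →+ (Fin 2 → ZMod p)), Function.Surjective f ∧ Function.Surjective θ ∧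
      ∀ (k : K) (u : 𝒰), ∃ h : ρ (k : Γ) (u : M) ∈ 𝒰, θ ⟨_, h⟩ = (f k).1 *ᵥ θ u := by
  set a : AddMonoid.End M := ρ x - 1 with ha
  set b : AddMonoid.End M := ρ y - 1 with hb
  set A : Subring (AddMonoid.End M) := Subring.closure {a, b} with hA
  have haA : a ∈ A := Subring.subset_closure (by simp)
  have hbA : b ∈ A := Subring.subset_closure (by simp)
  have hinv : ∀ (z : Γ) (c : AddMonoid.End M), ρ z = 1 + c → c * c = 0 → ρ z⁻¹ = 1 - c := by
    intro z c hz hc
    have h1 : ρ z * (1 - c) = 1 := by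
      rw [hz]
      calc (1 + c) * (1 - c) = 1 - c * c := by noncomm_ring
        _ = 1 := by rw [hc, sub_zero]
    calc ρ z⁻¹ = ρ z⁻¹ * (ρ z * (1 - c)) := by rw [h1, mul_one]
      _ = (ρ z⁻¹ * ρ z) * (1 - c) := by rw [mul_assoc]
      _ = 1 - c := by rw [← map_mul, inv_mul_cancel, map_one, one_mul]
  have hmem : ∀ g : Γ, ρ g ∈ A := by
    let D : Subgroup Γ :=
      { carrier := {g | ρ g ∈ A ∧ ρ g⁻¹ ∈ A}
        mul_mem' := by
          rintro g h ⟨h1, h2⟩ ⟨h3, h4⟩
          refine ⟨?_, ?_⟩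
          · rw [map_mul]; exact A.mul_mem h1 h3
          · rw [_root_.mul_inv_rev, map_mul]; exact A.mul_mem h4 h2
        one_mem' := by
          refine ⟨?_, ?_⟩
          · rw [map_one]; exact A.one_mem
          · rw [inv_one, map_one]; exact A.one_mem
        inv_mem' := by
          rintro g ⟨h1, h2⟩
          exact ⟨h2, by rw [inv_inv]; exact h1⟩ }
    have hle : Subgroup.closure {x, y} ≤ D := by
      rw [Subgroup.closure_le]
      intro z hz
      simp only [Set.mem_insert_iff, Set.mem_singleton_iff] at hz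
      rcases hz with rfl | rfl
      · refine ⟨?_, ?_⟩
        · have : ρ z = 1 + a := by rw [ha]; abel
          rw [this]; exact A.add_mem A.one_mem haA
        · rw [hinv z a (by rw [ha]; abel) hx]
          exact A.sub_mem A.one_mem haA
      · refine ⟨?_, ?_⟩
        · have : ρ z = 1 + b := by rw [hb]; abel
          rw [this]; exact A.add_mem A.one_mem hbA
        · rw [hinv z b (by rw [hb]; abel) hy]
          exact A.sub_mem A.one_mem hbA
    intro g
    have : g ∈ D := hle (by rw [hgen]; exact Subgroup.mem_top g)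
    exact this.1
  let f₀ : Γ →* ↥A :=
    { toFun := fun g => ⟨ρ g, hmem g⟩
      map_one' := Subtype.ext (map_one ρ)
      map_mul' := fun g h => Subtype.ext (map_mul ρ g h) }
  let ι : Γ →* (↥A)ˣ := f₀.toHomUnits
  have hι : ∀ g : Γ, ((ι g : ↥A) : AddMonoid.End M) = ρ g := fun g => rfl
  let a' : ↥A := ⟨a, haA⟩
  let b' : ↥A := ⟨b, hbA⟩
  have ha' : a' * a' = 0 := Subtype.ext hx
  have hb' : b' * b' = 0 := Subtype.ext hy
  have hAtop : Subring.closure ({a', b'} : Set ↥A) = ⊤ := closure_subtype_eq_top a b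
  have hxι : (ι x : ↥A) = 1 + a' := by
    apply Subtype.ext
    show ρ x = 1 + a
    rw [ha]; abel
  have hyι : (ι y : ↥A) = 1 + b' := by
    apply Subtype.ext
    show ρ y = 1 + b
    rw [hb]; abel
  have hNP : NP ι p M := by
    obtain ⟨g, hg⟩ := hnp
    refine ⟨g, fun k => ?_⟩
    by_contra hcon
    push Not at hcon
    apply hg k
    ext m
    have := hcon m
    rw [← map_pow] at this
    exact this
  obtain ⟨K, f, 𝒰, θ, hf, hθ, hk⟩ :=
    exists_sl2_aux ι p hp2 a' b' ha' hb' hAtop x y hgen hxι hyι (Nat.card M) M le_rfl hM hNP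
  refine ⟨K, f, 𝒰, θ, hf, hθ, fun k u => ?_⟩
  obtain ⟨h1, h2⟩ := hk k u
  exact ⟨h1, h2⟩

/-- **the linear quadratic-pair theorem** -/
theorem linear_main {M : Type u} [AddCommGroup M] [Finite M] {p : ℕ} [hp : Fact p.Prime]
    (hp2 : p ≠ 2) (hM : ∀ m : M, p • m = 0) {Γ : Type v} [Group Γ] (x y : Γ)
    (hgen : Subgroup.closure {x, y} = ⊤) (ρ : Γ →* AddMonoid.End M)
    (hx : (ρ x - 1) * (ρ x - 1) = 0) (hy : (ρ y - 1) * (ρ y - 1) = 0)
    (hnp : ∃ g : Γ, ∀ k : ℕ, ρ (g ^ p ^ k) ≠ 1) :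
    ∃ (K : Subgroup Γ) (f : K →* SL(2, ZMod p)), Function.Surjective f := by
  obtain ⟨K, f, -, -, hf, -, -⟩ := linear_main_plus hp2 hM x y hgen ρ hx hy hnp
  exact ⟨K, f, hf⟩

end linear


section group

open Matrix Matrix.SpecialLinearGroup
open scoped MatrixGroups
open Cfsg.Agent.Helper4.QR

/-- quadratic action, in the endomorphism ring -/
theorem toEnd_sub_one_sq {F W : Type*} [Group F] [CommGroup W] (act : F →* MulAut W) (b : F)
    (hquad : ∀ w : W, act b (act b w / w) = act b w / w) :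
    ((toEnd W).comp act b - 1) * ((toEnd W).comp act b - 1) = 0 := by
  set B := (toEnd W).comp act b with hB
  ext w'
  obtain ⟨w, rfl⟩ := Additive.ofMul.surjective w'
  show (B - 1) ((B - 1) (Additive.ofMul w)) = 0
  have h1 : (B - 1) (Additive.ofMul w) = Additive.ofMul (act b w / w) := rfl
  rw [h1]
  have h2 : (B - 1) (Additive.ofMul (act b w / w)) =
      Additive.ofMul (act b (act b w / w) / (act b w / w)) := rfl
  rw [h2, hquad, div_self']
  rfl

/-- the conclusion at the level of groups: a subgroup `K` of `Γ` mapping onto `SL₂(p)` and a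
`K`-invariant section of `W` on which `K` acts through the natural module -/
def GConcl {Γ W : Type*} [Group Γ] [CommGroup W] (act : Γ →* MulAut W) (p : ℕ) : Prop :=
  ∃ (K : Subgroup Γ) (f : K →* SL(2, ZMod p)) (U : Subgroup W)
    (θ : U →* Multiplicative (Fin 2 → ZMod p)), Function.Surjective f ∧ Function.Surjective θ ∧
    ∀ (k : K) (u : U), ∃ h : act (k : Γ) (u : W) ∈ U,
      θ ⟨_, h⟩ = Multiplicative.ofAdd ((f k).1 *ᵥ Multiplicative.toAdd (θ u))

theorem GConcl.exists_hom {Γ W : Type*} [Group Γ] [CommGroup W] {act : Γ →* MulAut W} {p : ℕ}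
    (h : GConcl act p) : ∃ (K : Subgroup Γ) (f : K →* SL(2, ZMod p)), Function.Surjective f := by
  obtain ⟨K, f, -, -, hf, -, -⟩ := h
  exact ⟨K, f, hf⟩

theorem GConcl.of_subgroup {Γ W : Type*} [Group Γ] [CommGroup W] {act : Γ →* MulAut W} {p : ℕ}
    (Γ₁ : Subgroup Γ) (h : GConcl (act.comp Γ₁.subtype) p) : GConcl act p := by
  obtain ⟨K₁, f₁, U, θ, hf₁, hθ, hk⟩ := h
  let e := K₁.equivMapOfInjective Γ₁.subtype Γ₁.subtype_injective
  refine ⟨K₁.map Γ₁.subtype, f₁.comp e.symm.toMonoidHom, U, θ,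
    hf₁.comp (MulEquiv.surjective _), hθ, ?_⟩
  intro k u
  obtain ⟨k₁, rfl⟩ : ∃ k₁, e k₁ = k := e.surjective k
  obtain ⟨h1, h2⟩ := hk k₁ u
  refine ⟨h1, ?_⟩
  refine h2.trans ?_
  show _ = Multiplicative.ofAdd ((f₁ (e.symm (e k₁))).1 *ᵥ Multiplicative.toAdd (θ u))
  rw [MulEquiv.symm_apply_apply]

/-- **quadratic pairs**, with the natural module as a section -/
theorem quadratic_pair_section_plus {Γ W : Type*} [Group Γ] [CommGroup W] [Finite W] {p : ℕ}
    [hp : Fact p.Prime] (hp2 : p ≠ 2) (act : Γ →* MulAut W) (hact : Function.Injective act)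
    (hW : ∀ w : W, w ^ p = 1) (x y : Γ) (hgen : Subgroup.closure {x, y} = ⊤)
    (hqx : ∀ w : W, act x (act x w / w) = act x w / w)
    (hqy : ∀ w : W, act y (act y w / w) = act y w / w)
    (hnp : ∃ g : Γ, ∀ k : ℕ, g ^ p ^ k ≠ 1) : GConcl act p := by
  haveI : Finite (Additive W) := inferInstanceAs (Finite W)
  have hM : ∀ m : Additive W, p • m = 0 := by
    intro m
    obtain ⟨w, rfl⟩ := Additive.ofMul.surjective m
    rw [← ofMul_pow, hW, ofMul_one]
  have hnp' : ∃ g : Γ, ∀ k : ℕ, ((toEnd W).comp act) (g ^ p ^ k) ≠ 1 := by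
    obtain ⟨g, hg⟩ := hnp
    refine ⟨g, fun k h => hg k ?_⟩
    apply hact
    rw [map_one]
    ext w
    have := congrArg (fun e : AddMonoid.End (Additive W) => e (Additive.ofMul w)) h
    exact this
  obtain ⟨K, f, 𝒰, θ, hf, hθ, hk⟩ :=
    linear_main_plus (M := Additive W) hp2 hM x y hgen ((toEnd W).comp act)
      (toEnd_sub_one_sq act x hqx) (toEnd_sub_one_sq act y hqy) hnp'
  · let U : Subgroup W :=
      { carrier := {w | Additive.ofMul w ∈ 𝒰}
        mul_mem' := fun {a b} ha hb => by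
          show Additive.ofMul (a * b) ∈ 𝒰
          rw [ofMul_mul]; exact 𝒰.add_mem ha hb
        one_mem' := by
          show Additive.ofMul (1 : W) ∈ 𝒰
          rw [ofMul_one]; exact 𝒰.zero_mem
        inv_mem' := fun {a} ha => by
          show Additive.ofMul a⁻¹ ∈ 𝒰
          rw [ofMul_inv]; exact 𝒰.neg_mem ha }
    let θ' : U →* Multiplicative (Fin 2 → ZMod p) :=
      { toFun := fun u => Multiplicative.ofAdd (θ ⟨Additive.ofMul (u : W), u.2⟩)
        map_one' := by
          have : (⟨Additive.ofMul ((1 : U) : W), (1 : U).2⟩ : 𝒰) = 0 := Subtype.ext rfl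
          rw [this, map_zero]; rfl
        map_mul' := fun a b => by
          have : (⟨Additive.ofMul ((a * b : U) : W), (a * b).2⟩ : 𝒰) =
              ⟨Additive.ofMul (a : W), a.2⟩ + ⟨Additive.ofMul (b : W), b.2⟩ := Subtype.ext rfl
          rw [this, map_add]; rfl }
    refine ⟨K, f, U, θ', hf, ?_, ?_⟩
    · intro l
      obtain ⟨u, hu⟩ := hθ (Multiplicative.toAdd l)
      refine ⟨⟨Additive.toMul (u : Additive W), u.2⟩, ?_⟩
      show Multiplicative.ofAdd (θ ⟨_, _⟩) = l
      have : (⟨Additive.ofMul (Additive.toMul (u : Additive W)), u.2⟩ : 𝒰) = u := Subtype.ext rfl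
      rw [this, hu]; rfl
    · intro k u
      obtain ⟨h1, h2⟩ := hk k ⟨Additive.ofMul (u : W), u.2⟩
      exact ⟨h1, congrArg Multiplicative.ofAdd h2⟩

/-- **quadratic pairs**: two elements acting quadratically on an elementary abelian `p`-group
(`p` odd), generating a group which acts faithfully and is not a `p`-group, involve `SL₂(p)`. -/
theorem quadratic_pair_section {Γ W : Type*} [Group Γ] [CommGroup W] [Finite W] {p : ℕ}
    [hp : Fact p.Prime] (hp2 : p ≠ 2) (act : Γ →* MulAut W) (hact : Function.Injective act)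
    (hW : ∀ w : W, w ^ p = 1) (x y : Γ) (hgen : Subgroup.closure {x, y} = ⊤)
    (hqx : ∀ w : W, act x (act x w / w) = act x w / w)
    (hqy : ∀ w : W, act y (act y w / w) = act y w / w)
    (hnp : ∃ g : Γ, ∀ k : ℕ, g ^ p ^ k ≠ 1) :
    ∃ (K : Subgroup Γ) (f : K →* SL(2, ZMod p)), Function.Surjective f :=
  (quadratic_pair_section_plus hp2 act hact hW x y hgen hqx hqy hnp).exists_hom


/-- conjugates of quadratic elements are quadratic -/
theorem quadratic_conj {Γ W : Type*} [Group Γ] [CommGroup W] (act : Γ →* MulAut W) (x g : Γ)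
    (hqx : ∀ w : W, act x (act x w / w) = act x w / w) (w : W) :
    act (g * x * g⁻¹) (act (g * x * g⁻¹) w / w) = act (g * x * g⁻¹) w / w := by
  set w' := act g⁻¹ w with hw'
  have hw : w = act g w' := by
    rw [hw', ← MulAut.mul_apply, ← map_mul, mul_inv_cancel, map_one, MulAut.one_apply]
  have h1 : ∀ z : W, act (g * x * g⁻¹) (act g z) = act g (act x z) := by
    intro z
    rw [← MulAut.mul_apply, ← map_mul, ← MulAut.mul_apply, ← map_mul]
    congr 2
    group
  have h2 : act (g * x * g⁻¹) w / w = act g (act x w' / w') := by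
    rw [hw, h1, map_div]
  rw [h2, h1, hqx]

/-- **quadratic elements outside `O_p`**: if `Γ` acts faithfully on an elementary abelian
`p`-group (`p` odd), has no nontrivial normal `p`-subgroup and contains a nontrivial `p`-element
acting quadratically, then `Γ` involves `SL₂(p)`. -/
theorem quadratic_section_plus {Γ W : Type*} [Group Γ] [Finite Γ] [CommGroup W] [Finite W]
    {p : ℕ} [hp : Fact p.Prime] (hp2 : p ≠ 2) (act : Γ →* MulAut W)
    (hact : Function.Injective act) (hW : ∀ w : W, w ^ p = 1)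
    (hO : ∀ N : Subgroup Γ, N.Normal → IsPGroup p N → N = ⊥)
    (x : Γ) (hx1 : x ≠ 1)
    (hqx : ∀ w : W, act x (act x w / w) = act x w / w) : GConcl act p := by
  -- Baer–Suzuki
  obtain ⟨g, hg⟩ : ∃ g : Γ, ¬ IsPGroup p
      ↥(Subgroup.zpowers x ⊔ (Subgroup.zpowers x).map (MulAut.conj g).toMonoidHom) := by
    by_contra hcon
    push Not at hcon
    obtain ⟨N, hNn, hNp, hXN⟩ := Cfsg.Agent.Helper21.baer_suzuki (Subgroup.zpowers x) hcon
    have := hO N hNn hNp
    rw [this] at hXN
    exact hx1 ((Subgroup.mem_bot).1 (hXN (Subgroup.mem_zpowers x)))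
  set y := g * x * g⁻¹ with hy
  have hΓ₁ : Subgroup.zpowers x ⊔ (Subgroup.zpowers x).map (MulAut.conj g).toMonoidHom =
      Subgroup.closure {x, y} := by
    rw [Subgroup.zpowers_eq_closure, MonoidHom.map_closure, ← Subgroup.closure_union]
    congr 1
    ext z
    simp only [Set.image_singleton, Set.union_singleton, Set.mem_insert_iff,
      Set.mem_singleton_iff, MulEquiv.coe_toMonoidHom, MulAut.conj_apply]
    rw [or_comm]
  rw [hΓ₁] at hg
  set Γ₁ : Subgroup Γ := Subgroup.closure {x, y} with hΓ₁def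
  have hxΓ : x ∈ Γ₁ := Subgroup.subset_closure (by simp)
  have hyΓ : y ∈ Γ₁ := Subgroup.subset_closure (by simp)
  have hgen : Subgroup.closure ({⟨x, hxΓ⟩, ⟨y, hyΓ⟩} : Set ↥Γ₁) = ⊤ := by
    have h := Subgroup.closure_closure_coe_preimage (k := ({x, y} : Set Γ))
    rw [← h]
    congr 1
    ext z
    simp only [Set.mem_insert_iff, Set.mem_singleton_iff, Set.mem_preimage]
    constructor
    · rintro (rfl | rfl)
      · left; rfl
      · right; rfl
    · rintro (h | h)
      · left; exact Subtype.ext h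
      · right; exact Subtype.ext h
  have hnp : ∃ h : ↥Γ₁, ∀ k : ℕ, h ^ p ^ k ≠ 1 := by
    unfold IsPGroup at hg
    push Not at hg
    exact hg
  exact GConcl.of_subgroup Γ₁ (quadratic_pair_section_plus hp2 (act.comp Γ₁.subtype)
    (hact.comp Γ₁.subtype_injective) hW ⟨x, hxΓ⟩ ⟨y, hyΓ⟩ hgen hqx
    (quadratic_conj act x g hqx) hnp)

/-- **quadratic elements outside `O_p`**: if `Γ` acts faithfully on an elementary abelian
`p`-group (`p` odd), has no nontrivial normal `p`-subgroup and contains a nontrivial `p`-element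
acting quadratically, then `Γ` involves `SL₂(p)`. -/
theorem quadratic_section {Γ W : Type*} [Group Γ] [Finite Γ] [CommGroup W] [Finite W] {p : ℕ}
    [hp : Fact p.Prime] (hp2 : p ≠ 2) (act : Γ →* MulAut W) (hact : Function.Injective act)
    (hW : ∀ w : W, w ^ p = 1)
    (hO : ∀ N : Subgroup Γ, N.Normal → IsPGroup p N → N = ⊥)
    (x : Γ) (hx1 : x ≠ 1)
    (hqx : ∀ w : W, act x (act x w / w) = act x w / w) :
    ∃ (K : Subgroup Γ) (f : K →* SL(2, ZMod p)), Function.Surjective f :=
  (quadratic_section_plus hp2 act hact hW hO x hx1 hqx).exists_hom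

end group

end Cfsg.Agent.Helper4.QSec
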