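import Mathlib
import Cfsg.Agent.Lib.Helper4.QuadSection
import Cfsg.Agent.Lib.Helper4.QuadStab

set_option autoImplicit false
set_option linter.unusedSectionVars false
set_option linter.style.haveILetI false
set_option linter.unusedVariables false

/-! Groups not involving `SL₂(p)` are `p`-stable (`p` odd). -/

namespace Cfsg.Agent.Helper4.SLF

open Cfsg
open Matrix Matrix.SpecialLinearGroup
open scoped MatrixGroups
open scoped commutatorElement

/-- `T` is a homomorphic image of a subgroup of `G` -/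
def Inv (T : Type*) [Group T] (G : Type*) [Group G] : Prop :=
  ∃ (K : Subgroup G) (f : K →* T), Function.Surjective f

section inv

variable {T : Type*} [Group T] {G : Type*} [Group G]

theorem inv_iff : Inv T G ↔ ∃ (K L : Subgroup G) (hL : (L.subgroupOf K).Normal),
    Nonempty ((K ⧸ L.subgroupOf K) ≃* T) := by
  constructor
  · rintro ⟨K, f, hf⟩
    set L : Subgroup G := f.ker.map K.subtype with hL
    have hLK : L.subgroupOf K = f.ker := by
      rw [hL, Subgroup.subgroupOf, Subgroup.comap_map_eq_self_of_injective K.subtype_injective]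
    have hLn : (L.subgroupOf K).Normal := by rw [hLK]; infer_instance
    exact ⟨K, L, hLn, ⟨(QuotientGroup.quotientMulEquivOfEq hLK).trans
      (QuotientGroup.quotientKerEquivOfSurjective f hf)⟩⟩
  · rintro ⟨K, L, hL, ⟨e⟩⟩
    exact ⟨K, e.toMonoidHom.comp (QuotientGroup.mk' (L.subgroupOf K)),
      e.surjective.comp (QuotientGroup.mk'_surjective _)⟩

/-- sections pull back along homomorphisms, inside the range -/
theorem Inv.of_hom {G' : Type*} [Group G'] (φ : G →* G') (K' : Subgroup G') (hK' : K' ≤ φ.range)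
    (f' : K' →* T) (hf' : Function.Surjective f') : Inv T G := by
  refine ⟨K'.comap φ, f'.comp (φ.subgroupComap K'), ?_⟩
  intro t
  obtain ⟨⟨k, hk⟩, rfl⟩ := hf' t
  obtain ⟨g, rfl⟩ := hK' hk
  exact ⟨⟨g, hk⟩, rfl⟩

theorem Inv.of_surjective {G' : Type*} [Group G'] (φ : G →* G') (hφ : Function.Surjective φ)
    (h : Inv T G') : Inv T G := by
  obtain ⟨K', f', hf'⟩ := h
  exact Inv.of_hom φ K' (by rw [MonoidHom.range_eq_top.2 hφ]; exact le_top) f' hf'

theorem Inv.of_injective {G' : Type*} [Group G'] (φ : G →* G') (hφ : Function.Injective φ)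
    (h : Inv T G) : Inv T G' := by
  obtain ⟨K, f, hf⟩ := h
  refine ⟨K.map φ, f.comp (K.equivMapOfInjective φ hφ).symm.toMonoidHom, ?_⟩
  exact hf.comp (MulEquiv.surjective _)

theorem Inv.of_subgroup (H : Subgroup G) (h : Inv T ↥H) : Inv T G :=
  Inv.of_injective H.subtype H.subtype_injective h

theorem Inv.of_quotient (N : Subgroup G) [N.Normal] (h : Inv T (G ⧸ N)) : Inv T G :=
  Inv.of_surjective (QuotientGroup.mk' N) (QuotientGroup.mk'_surjective N) h

theorem Inv.of_equiv {T' : Type*} [Group T'] (e : T ≃* T') (h : Inv T G) : Inv T' G := by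
  obtain ⟨K, f, hf⟩ := h
  exact ⟨K, e.toMonoidHom.comp f, e.surjective.comp hf⟩

end inv

/-- `G` does not involve `SL₂(p)` -/
def SL2Free (p : ℕ) (G : Type*) [Group G] : Prop := ¬ Inv SL(2, ZMod p) G

theorem SL2Free.subgroup {p : ℕ} {G : Type*} [Group G] (h : SL2Free p G) (H : Subgroup G) :
    SL2Free p ↥H := fun h' => h (Inv.of_subgroup H h')

theorem SL2Free.quotient {p : ℕ} {G : Type*} [Group G] (h : SL2Free p G) (N : Subgroup G)
    [N.Normal] : SL2Free p (G ⧸ N) := fun h' => h (Inv.of_quotient N h')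

theorem sl2free_iff {p : ℕ} {G : Type*} [Group G] : SL2Free p G ↔
    ¬ ∃ (K L : Subgroup G) (hL : (L.subgroupOf K).Normal),
      Nonempty ((K ⧸ L.subgroupOf K) ≃* SL(2, ZMod p)) := by
  unfold SL2Free
  rw [inv_iff]

section fixed

/-- a `p`-group acting on a nontrivial `p`-group has nontrivial fixed points -/
theorem exists_fixed_ne_one {Γ W : Type*} [Group Γ] [Group W] [Finite W] {p : ℕ}
    [hp : Fact p.Prime] (act : Γ →* MulAut W) (hΓ : IsPGroup p Γ) (hW : p ∣ Nat.card W) :
    ∃ w : W, w ≠ 1 ∧ ∀ g : Γ, act g w = w := by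
  letI : MulAction Γ W := MulAction.compHom W act
  have h1 : (1 : W) ∈ MulAction.fixedPoints Γ W := by
    intro g
    show act g 1 = 1
    exact map_one _
  obtain ⟨b, hb, hne⟩ := hΓ.exists_fixed_point_of_prime_dvd_card_of_fixed_point W hW h1
  exact ⟨b, fun h => hne h.symm, fun g => hb g⟩

end fixed


section base

variable {G : Type*} [Group G] {p : ℕ} [hpp : Fact p.Prime]

/-- The base case: quadratic elements centralize minimal normal `p`-subgroups. -/
theorem base_sl2free [Finite G] (hp : p ≠ 2) (hfree : SL2Free p G) (V : Subgroup G)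
    [hVn : V.Normal] (hVp : IsPGroup p V)
    (hVmin : ∀ V₁ : Subgroup G, V₁.Normal → V₁ ≤ V → V₁ = ⊥ ∨ V₁ = V)
    (a : G) (hq : ⁅⁅V, Subgroup.zpowers a⁆, Subgroup.zpowers a⁆ = ⊥) :
    (QuotientGroup.mk a : G ⧸ Subgroup.centralizer (V : Set G)) ∈
      pCore p (G ⧸ Subgroup.centralizer (V : Set G)) := by
  set C := Subgroup.centralizer (V : Set G) with hC
  have hmem_of : a ∈ C → (QuotientGroup.mk a : G ⧸ C) ∈ pCore p (G ⧸ C) := by
    intro haC
    have : (QuotientGroup.mk a : G ⧸ C) = 1 := (QuotientGroup.eq_one_iff a).mpr haC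
    rw [this]; exact Subgroup.one_mem _
  by_cases hV0 : V = ⊥
  · apply hmem_of
    rw [hC, hV0, Subgroup.mem_centralizer_iff]
    intro h hh
    have : h = 1 := by simpa using hh
    rw [this]; simp
  -- `V` is abelian
  have hVab : ∀ x ∈ V, ∀ y ∈ V, x * y = y * x := by
    have h1 : ⁅V, V⁆ ≠ V :=
      Cfsg.Agent.S0028.commutator_ne_of_isPGroup p V V hVp hVp Subgroup.le_normalizer hV0
    have h2 : ⁅V, V⁆ = ⊥ := by
      rcases hVmin ⁅V, V⁆ inferInstance (Subgroup.commutator_le_left V V) with h | h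
      · exact h
      · exact absurd h h1
    have h3 := Subgroup.commutator_eq_bot_iff_le_centralizer.mp h2
    intro x hx y hy
    exact (Subgroup.mem_centralizer_iff.mp (h3 hy) x hx)
  -- `V` has exponent `p`
  have hVexp : ∀ v ∈ V, v ^ p = 1 := by
    let V₁ : Subgroup G :=
      { carrier := {v | v ∈ V ∧ v ^ p = 1}
        mul_mem' := by
          rintro v w ⟨hv, hv1⟩ ⟨hw, hw1⟩
          refine ⟨V.mul_mem hv hw, ?_⟩
          rw [(show Commute v w from hVab v hv w hw).mul_pow, hv1, hw1, one_mul]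
        one_mem' := ⟨V.one_mem, one_pow _⟩
        inv_mem' := by
          rintro v ⟨hv, hv1⟩
          exact ⟨V.inv_mem hv, by rw [inv_pow, hv1, inv_one]⟩ }
    have hV₁n : V₁.Normal := by
      refine ⟨fun v hv g => ?_⟩
      obtain ⟨hv, hv1⟩ := hv
      refine ⟨hVn.conj_mem v hv g, ?_⟩
      rw [conj_pow, hv1]; group
    have hV₁V : V₁ ≤ V := fun v hv => hv.1
    have hV₁0 : V₁ ≠ ⊥ := by
      have hdvd : p ∣ Nat.card ↥V := by
        rcases hVp.card_eq_or_dvd with h | h
        · exact absurd (Subgroup.card_eq_one.mp h) hV0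
        · exact h
      obtain ⟨c, hc⟩ := exists_prime_orderOf_dvd_card' p hdvd
      have hc1 : (c : G) ^ p = 1 := by
        have := pow_orderOf_eq_one c
        rw [hc] at this
        simpa using congrArg Subtype.val this
      intro hbot
      have hmem : (c : G) ∈ V₁ := ⟨c.2, hc1⟩
      rw [hbot, Subgroup.mem_bot] at hmem
      have : c = 1 := Subtype.ext hmem
      rw [this, orderOf_one] at hc
      exact hpp.out.one_lt.ne hc
    rcases hVmin V₁ hV₁n hV₁V with h | h
    · exact absurd h hV₁0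
    · intro v hv
      have : v ∈ V₁ := by rw [h]; exact hv
      exact this.2
  let _ : CommGroup ↥V :=
    { (inferInstance : Group ↥V) with mul_comm := fun x y => Subtype.ext (hVab x x.2 y y.2) }
  let act₀ : G →* MulAut ↥V := MulAut.conjNormal
  have hact₀ : ∀ g : G, ∀ v : ↥V, ((act₀ g v : ↥V) : G) = g * v * g⁻¹ :=
    fun g v => MulAut.conjNormal_apply g v
  have hker : ∀ c ∈ C, act₀ c = 1 := by
    intro c hc
    ext v
    rw [hact₀]
    have := Subgroup.mem_centralizer_iff.mp hc v v.2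
    show c * (v : G) * c⁻¹ = v
    rw [← this]; group
  let act : G ⧸ C →* MulAut ↥V := QuotientGroup.lift C act₀ hker
  have hactmk : ∀ g : G, act (QuotientGroup.mk g) = act₀ g := fun g => rfl
  have hmemC : ∀ g : G, (∀ v : ↥V, act₀ g v = v) → g ∈ C := by
    intro g hg
    rw [hC, Subgroup.mem_centralizer_iff]
    intro v hv
    have h2 := congrArg Subtype.val (hg ⟨v, hv⟩)
    rw [hact₀] at h2
    simp only at h2
    calc v * g = (g * v * g⁻¹) * g := by rw [h2]
      _ = g * v := by group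
  have hact : Function.Injective act := by
    rw [injective_iff_map_eq_one]
    intro x hx
    obtain ⟨g, rfl⟩ := QuotientGroup.mk_surjective x
    rw [QuotientGroup.eq_one_iff]
    apply hmemC
    intro v
    rw [← hactmk, hx]; rfl
  have hW : ∀ w : ↥V, w ^ p = 1 := by
    intro w
    apply Subtype.ext
    rw [Subgroup.coe_pow]
    exact hVexp w w.2
  -- `O_p(G / C) = 1`
  have hO : ∀ N : Subgroup (G ⧸ C), N.Normal → IsPGroup p N → N = ⊥ := by
    intro N hNn hNp
    have hdvd : p ∣ Nat.card ↥V := by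
      rcases hVp.card_eq_or_dvd with h | h
      · exact absurd (Subgroup.card_eq_one.mp h) hV0
      · exact h
    obtain ⟨w, hw1, hw⟩ := exists_fixed_ne_one (act.comp N.subtype) hNp hdvd
    let F : Subgroup G :=
      { carrier := {v | v ∈ V ∧ ∀ g : G, (QuotientGroup.mk g : G ⧸ C) ∈ N → g * v * g⁻¹ = v}
        mul_mem' := by
          rintro v v' ⟨hv, hv1⟩ ⟨hv', hv1'⟩
          refine ⟨V.mul_mem hv hv', fun g hg => ?_⟩
          calc g * (v * v') * g⁻¹ = (g * v * g⁻¹) * (g * v' * g⁻¹) := by group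
            _ = v * v' := by rw [hv1 g hg, hv1' g hg]
        one_mem' := ⟨V.one_mem, fun g _ => by group⟩
        inv_mem' := by
          rintro v ⟨hv, hv1⟩
          refine ⟨V.inv_mem hv, fun g hg => ?_⟩
          calc g * v⁻¹ * g⁻¹ = (g * v * g⁻¹)⁻¹ := by group
            _ = v⁻¹ := by rw [hv1 g hg] }
    have hFn : F.Normal := by
      refine ⟨fun v hv h => ?_⟩
      obtain ⟨hv, hv1⟩ := hv
      refine ⟨hVn.conj_mem v hv h, fun g hg => ?_⟩
      have hg' : (QuotientGroup.mk (h⁻¹ * g * h) : G ⧸ C) ∈ N := by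
        have := hNn.conj_mem _ hg (QuotientGroup.mk h⁻¹ : G ⧸ C)
        rw [← QuotientGroup.mk_mul, ← QuotientGroup.mk_inv, ← QuotientGroup.mk_mul, inv_inv] at this
        exact this
      calc g * (h * v * h⁻¹) * g⁻¹ = h * ((h⁻¹ * g * h) * v * (h⁻¹ * g * h)⁻¹) * h⁻¹ := by group
        _ = h * v * h⁻¹ := by rw [hv1 _ hg']
    have hFV : F ≤ V := fun v hv => hv.1
    have hF0 : F ≠ ⊥ := by
      intro hbot
      have hmem : (w : G) ∈ F := by
        refine ⟨w.2, fun g hg => ?_⟩
        have := hw ⟨QuotientGroup.mk g, hg⟩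
        have h2 := congrArg Subtype.val this
        exact h2
      rw [hbot, Subgroup.mem_bot] at hmem
      exact hw1 (Subtype.ext hmem)
    have hFeq : F = V := (hVmin F hFn hFV).resolve_left hF0
    rw [eq_bot_iff]
    intro x hx
    obtain ⟨g, rfl⟩ := QuotientGroup.mk_surjective x
    rw [Subgroup.mem_bot, QuotientGroup.eq_one_iff]
    apply hmemC
    intro v
    have : (v : G) ∈ F := by rw [hFeq]; exact v.2
    apply Subtype.ext
    rw [hact₀]
    exact this.2 g hx
  have hquad : ∀ w : ↥V, act (QuotientGroup.mk a) (act (QuotientGroup.mk a) w / w) =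
      act (QuotientGroup.mk a) w / w := by
    intro w
    rw [hactmk]
    set x : ↥V := act₀ a w / w with hx
    have hxG : (x : G) = a * w * a⁻¹ * (w : G)⁻¹ := by
      rw [hx, div_eq_mul_inv, Subgroup.coe_mul, Subgroup.coe_inv, hact₀]
    have hxmem : (x : G) ∈ ⁅V, Subgroup.zpowers a⁆ := by
      have h1 : ⁅(w : G), a⁆ ∈ ⁅V, Subgroup.zpowers a⁆ :=
        Subgroup.commutator_mem_commutator w.2 (Subgroup.mem_zpowers a)
      have h2 : (x : G) = ⁅(w : G), a⁆⁻¹ := by
        rw [hxG, commutatorElement_def]; group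
      rw [h2]
      exact Subgroup.inv_mem _ h1
    have h1 : ⁅(x : G), a⁆ ∈ ⁅⁅V, Subgroup.zpowers a⁆, Subgroup.zpowers a⁆ :=
      Subgroup.commutator_mem_commutator hxmem (Subgroup.mem_zpowers a)
    rw [hq, Subgroup.mem_bot, commutatorElement_def] at h1
    apply Subtype.ext
    rw [hact₀]
    calc a * (x : G) * a⁻¹ = ((x : G) * a * (x : G)⁻¹ * a⁻¹)⁻¹ * (x : G) := by group
      _ = x := by rw [h1, inv_one, one_mul]
  by_contra hcon
  have ha1 : (QuotientGroup.mk a : G ⧸ C) ≠ 1 := by
    intro h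
    apply hcon
    rw [h]; exact Subgroup.one_mem _
  have hinv : Inv SL(2, ZMod p) (G ⧸ C) :=
    Cfsg.Agent.Helper4.QSec.quadratic_section hp act hact hW hO (QuotientGroup.mk a) ha1 hquad
  exact hfree (Inv.of_quotient C hinv)

end base

/-- **`p`-stability** of groups not involving `SL₂(p)`, `p` odd. -/
theorem stab_aux.{u} {p : ℕ} [hpp : Fact p.Prime] (hp : p ≠ 2) : ∀ n : ℕ, ∀ (G : Type u) [Group G]
    [Finite G], SL2Free p G → ∀ (V : Subgroup G) [V.Normal], IsPGroup p V →
    Nat.card V = n → ∀ a : G,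
    ⁅⁅V, Subgroup.zpowers a⁆, Subgroup.zpowers a⁆ = ⊥ →
    (QuotientGroup.mk a : G ⧸ Subgroup.centralizer (V : Set G)) ∈
      pCore p (G ⧸ Subgroup.centralizer (V : Set G)) := by
  intro n
  induction n using Nat.strong_induction_on with
  | _ n ih =>
  intro G _ _ hfree V hVn hVp hcard a hq
  by_cases hmin : ∀ V₁ : Subgroup G, V₁.Normal → V₁ ≤ V → V₁ = ⊥ ∨ V₁ = V
  · exact base_sl2free hp hfree V hVp hmin a hq
  push Not at hmin
  obtain ⟨V₁, hV₁n, hV₁V, hV₁0, hV₁ne⟩ := hmin
  have hV₁p : IsPGroup p V₁ := hVp.to_le hV₁V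
  have hsurj := QuotientGroup.mk'_surjective V₁
  have hc1 : Nat.card V₁ < Nat.card V := by
    by_contra h
    push Not at h
    exact hV₁ne (Subgroup.eq_of_le_of_card_ge hV₁V h)
  have hc2 : Nat.card (V.map (QuotientGroup.mk' V₁)) < Nat.card V := by
    have h1 : (V.map (QuotientGroup.mk' V₁)).comap (QuotientGroup.mk' V₁) = V := by
      rw [QuotientGroup.comap_map_mk', sup_eq_right.mpr hV₁V]
    have h2 := Cfsg.Agent.Helper1.card_comap_mk' V₁ (V.map (QuotientGroup.mk' V₁))
    rw [h1] at h2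
    have h3 : 1 < Nat.card V₁ := by
      rw [Subgroup.one_lt_card_iff_ne_bot]; exact hV₁0
    have h4 : 0 < Nat.card (V.map (QuotientGroup.mk' V₁)) := Nat.card_pos
    rw [h2]
    nlinarith
  have hq₁ : ⁅⁅V₁, Subgroup.zpowers a⁆, Subgroup.zpowers a⁆ = ⊥ := by
    rw [eq_bot_iff, ← hq]
    exact Subgroup.commutator_mono (Subgroup.commutator_mono hV₁V le_rfl) le_rfl
  have r1 := ih (Nat.card V₁) (hcard ▸ hc1) G hfree V₁ hV₁p rfl a hq₁
  have hVbn : (V.map (QuotientGroup.mk' V₁)).Normal := Subgroup.Normal.map hVn _ hsurj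
  have hq₂ : ⁅⁅V.map (QuotientGroup.mk' V₁), Subgroup.zpowers (QuotientGroup.mk' V₁ a)⁆,
      Subgroup.zpowers (QuotientGroup.mk' V₁ a)⁆ = ⊥ := by
    rw [← MonoidHom.map_zpowers, ← Subgroup.map_commutator, ← Subgroup.map_commutator, hq,
      Subgroup.map_bot]
  have r2 := ih (Nat.card (V.map (QuotientGroup.mk' V₁))) (hcard ▸ hc2) (G ⧸ V₁)
    (hfree.quotient V₁) (V.map (QuotientGroup.mk' V₁)) (hVp.map _) rfl
    (QuotientGroup.mk' V₁ a) hq₂
  exact Cfsg.Agent.Helper4.QS.step V V₁ hV₁p a r1 r2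

/-- quadratic elements on normal `p`-subgroups lie in `O_p` modulo the centralizer -/
theorem mem_pCore_of_sl2free {p : ℕ} [hpp : Fact p.Prime] (hp : p ≠ 2) {G : Type*} [Group G]
    [Finite G] (hfree : SL2Free p G) (V : Subgroup G) [V.Normal] (hVp : IsPGroup p V) (a : G)
    (hq : ⁅⁅V, Subgroup.zpowers a⁆, Subgroup.zpowers a⁆ = ⊥) :
    (QuotientGroup.mk a : G ⧸ Subgroup.centralizer (V : Set G)) ∈
      pCore p (G ⧸ Subgroup.centralizer (V : Set G)) :=
  stab_aux hp _ G hfree V hVp rfl a hq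

theorem stab_of_sl2free {p : ℕ} [hpp : Fact p.Prime] (hp : p ≠ 2) {G : Type*} [Group G]
    [Finite G] (hfree : SL2Free p G) : Cfsg.Agent.Helper4.ZJ.Stab p G :=
  fun V _ hVp a _ hq => mem_pCore_of_sl2free hp hfree V hVp a hq


/-- the defining property of `IsPStable`, for groups not involving `SL₂(p)` -/
theorem pstable_prop {p : ℕ} [hpp : Fact p.Prime] (hp : p ≠ 2) {X : Type*} [Group X] [Finite X]
    (hfree : SL2Free p X) (A P : Subgroup X) (hP : IsPGroup p P)
    (hnorm : ∀ a ∈ A, ∀ x ∈ P, a * x * a⁻¹ ∈ P) (hq : ⁅⁅P, A⁆, A⁆ = ⊥) :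
    (A.subgroupOf (Subgroup.normalizer (P : Set X))).map
        (QuotientGroup.mk' ((Subgroup.centralizer (P : Set X)).subgroupOf
          (Subgroup.normalizer (P : Set X))))
      ≤ pCore p _ := by
  set N := Subgroup.normalizer (P : Set X) with hN
  have hPN : P ≤ N := Subgroup.le_normalizer
  set V : Subgroup ↥N := P.subgroupOf N with hV
  haveI hVn : V.Normal := Subgroup.normal_in_normalizer
  have hVp : IsPGroup p V := hP.comap_subtype
  have hVmap : V.map N.subtype = P := by
    rw [hV, Subgroup.map_subgroupOf_eq_of_le hPN]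
  have hcent : Subgroup.centralizer (V : Set ↥N) =
      (Subgroup.centralizer (P : Set X)).subgroupOf N := by
    ext n
    rw [Subgroup.mem_subgroupOf, Subgroup.mem_centralizer_iff, Subgroup.mem_centralizer_iff]
    constructor
    · intro h x hx
      have := h ⟨x, hPN hx⟩ (by rw [SetLike.mem_coe, hV, Subgroup.mem_subgroupOf]; exact hx)
      exact congrArg Subtype.val this
    · intro h v hv
      apply Subtype.ext
      rw [SetLike.mem_coe, hV, Subgroup.mem_subgroupOf] at hv
      exact h v hv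
  rintro _ ⟨a', ha', rfl⟩
  rw [SetLike.mem_coe, Subgroup.mem_subgroupOf] at ha'
  have hq' : ⁅⁅V, Subgroup.zpowers a'⁆, Subgroup.zpowers a'⁆ = ⊥ := by
    have hinj : Function.Injective N.subtype := N.subtype_injective
    apply (Subgroup.map_injective hinj)
    rw [Subgroup.map_bot, Subgroup.map_commutator, Subgroup.map_commutator, hVmap,
      MonoidHom.map_zpowers, eq_bot_iff, ← hq]
    have hz : Subgroup.zpowers (N.subtype a') ≤ A := by
      rw [Subgroup.zpowers_le]; exact ha'
    exact Subgroup.commutator_mono (Subgroup.commutator_mono le_rfl hz) hz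
  have h1 := mem_pCore_of_sl2free hp (hfree.subgroup N) V hVp a' hq'
  have h2 := (Cfsg.Agent.Helper4.PQ.mem_pCore_equiv_iff p
    (QuotientGroup.quotientMulEquivOfEq hcent) (QuotientGroup.mk a')).2 h1
  exact h2

/-- groups not involving `SL₂(p)` with `O_p ≠ 1` are `p`-stable (`p` odd) -/
theorem isPStable_of_sl2free {p : ℕ} [hpp : Fact p.Prime] (hp : p ≠ 2) {X : Type*} [Group X]
    [Finite X] (hfree : SL2Free p X) (hne : pCore p X ≠ ⊥) : IsPStable p X := by
  refine ⟨hpp.out.odd_of_ne_two hp, hne, ?_⟩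
  intro A P _ hP hnorm _ _ hq
  exact pstable_prop hp hfree A P hP hnorm hq

end Cfsg.Agent.Helper4.SLF
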