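import Mathlib
import Cfsg.Agent.Lib.Helper4.SL2Free
import Cfsg.Agent.Lib.Helper14.QdAff

/-!
# Groups not involving `Qd(p)` are `p`-stable (helper4)
-/

set_option autoImplicit false
set_option linter.unusedSectionVars false
set_option linter.style.haveILetI false
set_option linter.unusedVariables false

namespace Cfsg.Agent.Helper4.QDF

open Matrix Matrix.SpecialLinearGroup
open scoped MatrixGroups
open Cfsg.Agent.Helper4.SLF
open Cfsg.Agent.S2761 Cfsg.Agent.Helper14.Qd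

section glue

variable {G H : Type*} [Group G] [Group H]

/-- gluing homomorphisms on the factors of a product `U X` -/
theorem exists_hom_of_prod (U X L : Subgroup G)
    (hL : ∀ g ∈ L, ∃ u ∈ U, ∃ x ∈ X, g = u * x)
    (hnorm : ∀ x ∈ X, ∀ u ∈ U, x * u * x⁻¹ ∈ U)
    (α : U →* H) (β : X →* H)
    (hαβ : ∀ (z : G) (hzU : z ∈ U) (hzX : z ∈ X), α ⟨z, hzU⟩ = β ⟨z, hzX⟩)
    (hconj : ∀ (x : X) (u : U),
      α ⟨(x : G) * u * (x : G)⁻¹, hnorm x x.2 u u.2⟩ = β x * α u * (β x)⁻¹) :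
    ∃ Φ : L →* H, ∀ (g : L) (u : U) (x : X), (g : G) = u * x → Φ g = α u * β x := by
  classical
  -- independence of the decomposition
  have wd : ∀ (u u' : U) (x x' : X), (u : G) * x = u' * x' → α u * β x = α u' * β x' := by
    intro u u' x x' h
    have hz : ((u' : G))⁻¹ * u = x' * (x : G)⁻¹ := by
      calc ((u' : G))⁻¹ * u = (u' : G)⁻¹ * ((u : G) * x) * (x : G)⁻¹ := by group
        _ = x' * (x : G)⁻¹ := by rw [h]; group
    have hzU : ((u' : G))⁻¹ * u ∈ U := U.mul_mem (U.inv_mem u'.2) u.2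
    have hzX : ((u' : G))⁻¹ * u ∈ X := by rw [hz]; exact X.mul_mem x'.2 (X.inv_mem x.2)
    have h1 := hαβ _ hzU hzX
    have h2 : (⟨((u' : G))⁻¹ * u, hzU⟩ : U) = u'⁻¹ * u := rfl
    have h3 : (⟨((u' : G))⁻¹ * u, hzX⟩ : X) = x' * x⁻¹ := Subtype.ext hz
    rw [h2, h3, map_mul, map_mul, map_inv, map_inv] at h1
    calc α u * β x = α u' * ((α u')⁻¹ * α u) * β x := by group
      _ = α u' * (β x' * (β x)⁻¹) * β x := by rw [h1]
      _ = α u' * β x' := by group
  choose cu hcu cx hcx hdec using hL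
  let Φ₀ : L → H := fun g => α ⟨cu g g.2, hcu g g.2⟩ * β ⟨cx g g.2, hcx g g.2⟩
  have hΦ₀ : ∀ (g : L) (u : U) (x : X), (g : G) = u * x → Φ₀ g = α u * β x := by
    intro g u x h
    apply wd
    show cu g g.2 * cx g g.2 = u * x
    rw [← hdec g g.2, h]
  refine ⟨MonoidHom.mk' Φ₀ ?_, hΦ₀⟩
  intro g g'
  set u : U := ⟨cu g g.2, hcu g g.2⟩ with hu
  set x : X := ⟨cx g g.2, hcx g g.2⟩ with hx
  set u' : U := ⟨cu g' g'.2, hcu g' g'.2⟩ with hu'
  set x' : X := ⟨cx g' g'.2, hcx g' g'.2⟩ with hx'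
  have hg : (g : G) = u * x := hdec g g.2
  have hg' : (g' : G) = u' * x' := hdec g' g'.2
  let w : U := ⟨(x : G) * u' * (x : G)⁻¹, hnorm x x.2 u' u'.2⟩
  have h1 : ((g * g' : L) : G) = ((u * w : U) : G) * ((x * x' : X) : G) := by
    rw [Subgroup.coe_mul, hg, hg']
    show (u : G) * x * (u' * x') = u * (x * u' * (x : G)⁻¹) * (x * x')
    group
  rw [hΦ₀ (g * g') (u * w) (x * x') h1, hΦ₀ g u x hg, hΦ₀ g' u' x' hg', map_mul, map_mul,
    hconj x u']
  group

end glue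

section frattini

variable {p : ℕ} [hpp : Fact p.Prime]

/-- translations, as a homomorphism -/
def transHom (R : Type*) [CommRing R] : Multiplicative (Fin 2 → R) →* ↥(affSubgroup R) where
  toFun v := trans (Multiplicative.toAdd v)
  map_one' := trans_zero
  map_mul' v w := by
    show trans (Multiplicative.toAdd v + Multiplicative.toAdd w) = _
    rw [trans_mul]

theorem transHom_apply {R : Type*} [CommRing R] (v : Multiplicative (Fin 2 → R)) :
    transHom R v = trans (Multiplicative.toAdd v) := rfl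

/-- the subgroup `{1, -1}` of `SL₂` -/
def pmOne (p : ℕ) [Fact p.Prime] : Subgroup SL(2, ZMod p) where
  carrier := {z | z = 1 ∨ z = -1}
  mul_mem' := by
    rintro a b (rfl | rfl) (rfl | rfl)
    · left; rw [mul_one]
    · right; rw [one_mul]
    · right; rw [mul_one]
    · left; rw [neg_mul_neg, mul_one]
  one_mem' := Or.inl rfl
  inv_mem' := by
    rintro a (rfl | rfl)
    · left; rw [inv_one]
    · right
      apply inv_eq_of_mul_eq_one_right
      rw [neg_mul_neg, mul_one]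

instance pmOne_normal : (pmOne p).Normal := by
  refine ⟨fun z hz g => ?_⟩
  rcases hz with rfl | rfl
  · left; group
  · right
    rw [mul_neg, mul_one, neg_mul, mul_inv_cancel]

theorem isPGroup_pmOne : IsPGroup 2 ↥(pmOne p) := by
  intro z
  refine ⟨1, ?_⟩
  apply Subtype.ext
  rw [pow_one, Subgroup.coe_pow, Subgroup.coe_one]
  rcases z.2 with h | h
  · rw [h, one_pow]
  · rw [h, neg_pow_two, one_pow]

/-- **the Frattini argument**: a group mapping onto `SL₂(p)` with a normal `p`-subgroup in the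
kernel having the natural module as an equivariant quotient involves the affine group. -/
theorem inv_aff_of_data {G : Type*} [Group G] [Finite G] (hp2 : p ≠ 2)
    (f : G →* SL(2, ZMod p)) (hf : Function.Surjective f)
    (U : Subgroup G) [hUn : U.Normal] (hUp : IsPGroup p U) (hUf : U ≤ f.ker)
    (θ : U →* Multiplicative (Fin 2 → ZMod p)) (hθ : Function.Surjective θ)
    (hequiv : ∀ (g : G) (u : U), θ ⟨g * u * g⁻¹, hUn.conj_mem u u.2 g⟩ =
      Multiplicative.ofAdd ((f g).1 *ᵥ Multiplicative.toAdd (θ u))) :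
    Inv ↥(affSubgroup (ZMod p)) G := by
  have h2 : (2 : ZMod p) ≠ 0 := by
    intro h
    have h1 : ((2 : ℕ) : ZMod p) = 0 := by exact_mod_cast h
    rw [ZMod.natCast_eq_zero_iff] at h1
    exact hp2 ((Nat.prime_dvd_prime_iff_eq hpp.out Nat.prime_two).1 h1)
  -- a `2`-element mapping to `-1`
  obtain ⟨t₀, ht₀⟩ := hf (-1)
  obtain ⟨k, m, hm, hkm⟩ := Nat.exists_eq_two_pow_mul_odd (orderOf_pos t₀).ne'
  obtain ⟨t₁, ht₁⟩ : ∃ t₁ : G, t₁ = t₀ ^ m := ⟨_, rfl⟩
  have hft₁ : f t₁ = -1 := by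
    rw [ht₁, map_pow, ht₀, hm.neg_one_pow]
  have ht₁2 : t₁ ^ 2 ^ k = 1 := by
    rw [ht₁, ← pow_mul, mul_comm, ← hkm, pow_orderOf_eq_one]
  let T : Subgroup G := (pmOne p).comap f
  haveI hTn : T.Normal := Subgroup.Normal.comap inferInstance f
  have ht₁T : t₁ ∈ T := by
    show f t₁ ∈ pmOne p
    right; exact hft₁
  have hz2 : IsPGroup 2 ↥(Subgroup.zpowers (⟨t₁, ht₁T⟩ : ↥T)) := by
    rintro ⟨z, hz⟩
    obtain ⟨j, rfl⟩ := Subgroup.mem_zpowers_iff.mp hz
    refine ⟨k, ?_⟩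
    apply Subtype.ext
    apply Subtype.ext
    show ((((⟨t₁, ht₁T⟩ : ↥T) ^ j) ^ 2 ^ k : ↥T) : G) = 1
    rw [Subgroup.coe_pow, Subgroup.coe_zpow, ← zpow_natCast, ← _root_.zpow_mul, mul_comm,
      _root_.zpow_mul, zpow_natCast]
    show (t₁ ^ 2 ^ k) ^ j = 1
    rw [ht₁2, _root_.one_zpow]
  have : Fact (Nat.Prime 2) := ⟨Nat.prime_two⟩
  obtain ⟨P, hP⟩ := hz2.exists_le_sylow
  have hfrat := Sylow.normalizer_sup_eq_top P
  obtain ⟨T₁, hT₁⟩ : ∃ T₁ : Subgroup G, T₁ = (P : Subgroup ↥T).map T.subtype := ⟨_, rfl⟩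
  rw [← hT₁] at hfrat
  obtain ⟨X₂, hX₂⟩ : ∃ X₂ : Subgroup G, X₂ = Subgroup.normalizer (T₁ : Set G) := ⟨_, rfl⟩
  rw [← hX₂] at hfrat
  have ht₁T₁ : t₁ ∈ T₁ := by
    rw [hT₁]
    exact ⟨⟨t₁, ht₁T⟩, hP (Subgroup.mem_zpowers _), rfl⟩
  have hT₁2 : IsPGroup 2 T₁ := by
    rw [hT₁]; exact P.2.map _
  have ht₁X : t₁ ∈ X₂ := by
    rw [hX₂]; exact Subgroup.le_normalizer ht₁T₁
  -- `f` maps `X₂` onto `SL₂(p)`
  have hfX : ∀ M : SL(2, ZMod p), ∃ x ∈ X₂, f x = M := by
    intro M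
    obtain ⟨g, rfl⟩ := hf M
    have hg : g ∈ X₂ ⊔ T := by rw [hfrat]; trivial
    obtain ⟨x, hx, t, ht, rfl⟩ := Subgroup.mem_sup_of_normal_right.mp hg
    rcases (show f t ∈ pmOne p from ht) with h | h
    · exact ⟨x, hx, by rw [map_mul, h, mul_one]⟩
    · exact ⟨x * t₁, X₂.mul_mem hx ht₁X, by rw [map_mul, map_mul, h, hft₁]⟩
  -- `U ∩ X₂ ≤ ker θ`
  have hUX : ∀ u : U, (u : G) ∈ X₂ → θ u = 1 := by
    intro u hu
    rw [hX₂] at hu
    have hc1 : (u : G) * t₁ * (u : G)⁻¹ * t₁⁻¹ ∈ T₁ := by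
      have := (Subgroup.mem_normalizer_iff.mp hu t₁).mp ht₁T₁
      exact T₁.mul_mem this (T₁.inv_mem ht₁T₁)
    have hc2 : (u : G) * t₁ * (u : G)⁻¹ * t₁⁻¹ ∈ U := by
      have : (u : G) * t₁ * (u : G)⁻¹ * t₁⁻¹ = u * (t₁ * (u : G)⁻¹ * t₁⁻¹) := by group
      rw [this]
      exact U.mul_mem u.2 (hUn.conj_mem _ (U.inv_mem u.2) t₁)
    have hdisj := IsPGroup.disjoint_of_ne p 2 hp2 U T₁ hUp hT₁2
    have hc : (u : G) * t₁ * (u : G)⁻¹ * t₁⁻¹ = 1 := Subgroup.disjoint_def.mp hdisj hc2 hc1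
    have hfix : t₁ * (u : G) * t₁⁻¹ = u := by
      calc t₁ * (u : G) * t₁⁻¹ = ((u : G) * t₁ * (u : G)⁻¹ * t₁⁻¹)⁻¹ * u := by group
        _ = u := by rw [hc, inv_one, one_mul]
    have h1 := hequiv t₁ u
    have h3 : (⟨t₁ * (u : G) * t₁⁻¹, hUn.conj_mem u u.2 t₁⟩ : U) = u := Subtype.ext hfix
    rw [h3, hft₁] at h1
    obtain ⟨v, hv⟩ : ∃ v : Fin 2 → ZMod p, v = Multiplicative.toAdd (θ u) := ⟨_, rfl⟩
    have h4 : v = -v := by
      have h5 := congrArg Multiplicative.toAdd h1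
      rw [toAdd_ofAdd, ← hv, Matrix.SpecialLinearGroup.coe_neg,
        Matrix.SpecialLinearGroup.coe_one, Matrix.neg_mulVec, Matrix.one_mulVec] at h5
      exact h5
    have h6 : v = 0 := by
      funext i
      have h7 := congrFun h4 i
      rw [Pi.neg_apply] at h7
      have h8 : (2 : ZMod p) * v i = 0 := by
        rw [two_mul]
        nth_rewrite 1 [h7]
        rw [neg_add_cancel]
      rcases mul_eq_zero.mp h8 with h | h
      · exact absurd h h2
      · exact h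
    rw [h6] at hv
    have : θ u = Multiplicative.ofAdd (Multiplicative.toAdd (θ u)) := rfl
    rw [this, ← hv]; rfl
  let α : U →* ↥(affSubgroup (ZMod p)) := (transHom (ZMod p)).comp θ
  let β : X₂ →* ↥(affSubgroup (ZMod p)) := (linHom (ZMod p)).comp (f.comp X₂.subtype)
  obtain ⟨Φ, hΦ⟩ := exists_hom_of_prod U X₂ (U ⊔ X₂)
    (fun g hg => by
      obtain ⟨u, hu, x, hx, h⟩ := Subgroup.mem_sup_of_normal_left.mp hg
      exact ⟨u, hu, x, hx, h.symm⟩)
    (fun x _ u hu => hUn.conj_mem u hu x) α β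
    (by
      intro z hzU hzX
      show transHom (ZMod p) (θ ⟨z, hzU⟩) = linHom (ZMod p) (f z)
      rw [hUX ⟨z, hzU⟩ hzX, map_one, MonoidHom.mem_ker.mp (hUf hzU), map_one])
    (by
      intro x u
      show transHom (ZMod p) (θ ⟨(x : G) * u * (x : G)⁻¹, _⟩) =
        linHom (ZMod p) (f x) * transHom (ZMod p) (θ u) * (linHom (ZMod p) (f x))⁻¹
      rw [hequiv (x : G) u, transHom_apply, transHom_apply, toAdd_ofAdd, conj_trans])
  refine ⟨U ⊔ X₂, Φ, ?_⟩
  intro M
  obtain ⟨B, v, rfl⟩ : ∃ B v, M = aff B v := ⟨_, _, eq_aff M⟩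
  obtain ⟨u, hu⟩ := hθ (Multiplicative.ofAdd v)
  obtain ⟨x, hx, hxB⟩ := hfX B
  refine ⟨⟨(u : G) * x, Subgroup.mul_mem_sup u.2 hx⟩, ?_⟩
  rw [hΦ _ u ⟨x, hx⟩ rfl, aff_eq_trans_mul]
  show transHom (ZMod p) (θ u) * linHom (ZMod p) (f x) = _
  rw [hu, hxB, transHom_apply, toAdd_ofAdd]

/-- the Frattini argument, for a subgroup -/
theorem inv_aff_of_subgroup_data {G : Type*} [Group G] [Finite G] (hp2 : p ≠ 2)
    (K : Subgroup G) (f : K →* SL(2, ZMod p)) (hf : Function.Surjective f)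
    (U : Subgroup G) (hUK : U ≤ K) (hUp : IsPGroup p U)
    (hnorm : ∀ k ∈ K, ∀ u ∈ U, k * u * k⁻¹ ∈ U)
    (hUf : ∀ (u : G) (hu : u ∈ U), f ⟨u, hUK hu⟩ = 1)
    (θ : U →* Multiplicative (Fin 2 → ZMod p)) (hθ : Function.Surjective θ)
    (hequiv : ∀ (k : K) (u : U), θ ⟨(k : G) * u * (k : G)⁻¹, hnorm k k.2 u u.2⟩ =
      Multiplicative.ofAdd ((f k).1 *ᵥ Multiplicative.toAdd (θ u))) :
    Inv ↥(affSubgroup (ZMod p)) G := by
  apply Inv.of_subgroup K
  let U' : Subgroup ↥K := U.subgroupOf K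
  haveI hU'n : U'.Normal := ⟨fun u hu k => by
    show ((k * u * k⁻¹ : ↥K) : G) ∈ U
    exact hnorm k k.2 u hu⟩
  let e : ↥U' ≃* ↥U := Subgroup.subgroupOfEquivOfLe hUK
  have he : ∀ u : ↥U', ((e u : ↥U) : G) = ((u : ↥K) : G) := fun u => rfl
  refine inv_aff_of_data hp2 f hf U' hUp.comap_subtype ?_ (θ.comp e.toMonoidHom)
    (hθ.comp e.surjective) ?_
  · intro u hu
    rw [MonoidHom.mem_ker]
    exact hUf u hu
  · intro k u
    show θ (e ⟨k * u * k⁻¹, _⟩) = Multiplicative.ofAdd ((f k).1 *ᵥ Multiplicative.toAdd (θ (e u)))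
    rw [← hequiv k (e u)]
    congr 1

end frattini

section base

open Cfsg
open scoped commutatorElement

variable {G : Type*} [Group G] {p : ℕ} [hpp : Fact p.Prime]

/-- The base case: quadratic elements centralize minimal normal `p`-subgroups. -/
theorem base_afffree [Finite G] (hp : p ≠ 2) (hfree : ¬ Inv ↥(affSubgroup (ZMod p)) G)
    (V : Subgroup G)
    [hVn : V.Normal] (hVp : IsPGroup p V)
    (hVmin : ∀ V₁ : Subgroup G, V₁.Normal → V₁ ≤ V → V₁ = ⊥ ∨ V₁ = V)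
    (a : G) (hq : ⁅⁅V, Subgroup.zpowers a⁆, Subgroup.zpowers a⁆ = ⊥) :
    (QuotientGroup.mk a : G ⧸ Subgroup.centralizer (V : Set G)) ∈
      pCore p (G ⧸ Subgroup.centralizer (V : Set G)) := by
  set C := Subgroup.centralizer (V : Set G) with hC
  have hmem_of : a ∈ C → (QuotientGroup.mk a : G ⧸ C) ∈ pCore p (G ⧸ C) := by
    intro haC
    have : (QuotientGroup.mk a : G ⧸ C) = 1 := (QuotientGroup.eq_one_iff a).mpr haC
    rw [this]; exact Subgroup.one_mem _
  by_cases hV0 : V = ⊥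
  · apply hmem_of
    rw [hC, hV0, Subgroup.mem_centralizer_iff]
    intro h hh
    have : h = 1 := by simpa using hh
    rw [this]; simp
  -- `V` is abelian
  have hVab : ∀ x ∈ V, ∀ y ∈ V, x * y = y * x := by
    have h1 : ⁅V, V⁆ ≠ V :=
      Cfsg.Agent.S0028.commutator_ne_of_isPGroup p V V hVp hVp Subgroup.le_normalizer hV0
    have h2 : ⁅V, V⁆ = ⊥ := by
      rcases hVmin ⁅V, V⁆ inferInstance (Subgroup.commutator_le_left V V) with h | h
      · exact h
      · exact absurd h h1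
    have h3 := Subgroup.commutator_eq_bot_iff_le_centralizer.mp h2
    intro x hx y hy
    exact (Subgroup.mem_centralizer_iff.mp (h3 hy) x hx)
  -- `V` has exponent `p`
  have hVexp : ∀ v ∈ V, v ^ p = 1 := by
    let V₁ : Subgroup G :=
      { carrier := {v | v ∈ V ∧ v ^ p = 1}
        mul_mem' := by
          rintro v w ⟨hv, hv1⟩ ⟨hw, hw1⟩
          refine ⟨V.mul_mem hv hw, ?_⟩
          rw [(show Commute v w from hVab v hv w hw).mul_pow, hv1, hw1, one_mul]
        one_mem' := ⟨V.one_mem, one_pow _⟩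
        inv_mem' := by
          rintro v ⟨hv, hv1⟩
          exact ⟨V.inv_mem hv, by rw [inv_pow, hv1, inv_one]⟩ }
    have hV₁n : V₁.Normal := by
      refine ⟨fun v hv g => ?_⟩
      obtain ⟨hv, hv1⟩ := hv
      refine ⟨hVn.conj_mem v hv g, ?_⟩
      rw [conj_pow, hv1]; group
    have hV₁V : V₁ ≤ V := fun v hv => hv.1
    have hV₁0 : V₁ ≠ ⊥ := by
      have hdvd : p ∣ Nat.card ↥V := by
        rcases hVp.card_eq_or_dvd with h | h
        · exact absurd (Subgroup.card_eq_one.mp h) hV0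
        · exact h
      obtain ⟨c, hc⟩ := exists_prime_orderOf_dvd_card' p hdvd
      have hc1 : (c : G) ^ p = 1 := by
        have := pow_orderOf_eq_one c
        rw [hc] at this
        simpa using congrArg Subtype.val this
      intro hbot
      have hmem : (c : G) ∈ V₁ := ⟨c.2, hc1⟩
      rw [hbot, Subgroup.mem_bot] at hmem
      have : c = 1 := Subtype.ext hmem
      rw [this, orderOf_one] at hc
      exact hpp.out.one_lt.ne hc
    rcases hVmin V₁ hV₁n hV₁V with h | h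
    · exact absurd h hV₁0
    · intro v hv
      have : v ∈ V₁ := by rw [h]; exact hv
      exact this.2
  let _ : CommGroup ↥V :=
    { (inferInstance : Group ↥V) with mul_comm := fun x y => Subtype.ext (hVab x x.2 y y.2) }
  let act₀ : G →* MulAut ↥V := MulAut.conjNormal
  have hact₀ : ∀ g : G, ∀ v : ↥V, ((act₀ g v : ↥V) : G) = g * v * g⁻¹ :=
    fun g v => MulAut.conjNormal_apply g v
  have hker : ∀ c ∈ C, act₀ c = 1 := by
    intro c hc
    ext v
    rw [hact₀]
    have := Subgroup.mem_centralizer_iff.mp hc v v.2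
    show c * (v : G) * c⁻¹ = v
    rw [← this]; group
  let act : G ⧸ C →* MulAut ↥V := QuotientGroup.lift C act₀ hker
  have hactmk : ∀ g : G, act (QuotientGroup.mk g) = act₀ g := fun g => rfl
  have hmemC : ∀ g : G, (∀ v : ↥V, act₀ g v = v) → g ∈ C := by
    intro g hg
    rw [hC, Subgroup.mem_centralizer_iff]
    intro v hv
    have h2 := congrArg Subtype.val (hg ⟨v, hv⟩)
    rw [hact₀] at h2
    simp only at h2
    calc v * g = (g * v * g⁻¹) * g := by rw [h2]
      _ = g * v := by group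
  have hact : Function.Injective act := by
    rw [injective_iff_map_eq_one]
    intro x hx
    obtain ⟨g, rfl⟩ := QuotientGroup.mk_surjective x
    rw [QuotientGroup.eq_one_iff]
    apply hmemC
    intro v
    rw [← hactmk, hx]; rfl
  have hW : ∀ w : ↥V, w ^ p = 1 := by
    intro w
    apply Subtype.ext
    rw [Subgroup.coe_pow]
    exact hVexp w w.2
  -- `O_p(G / C) = 1`
  have hO : ∀ N : Subgroup (G ⧸ C), N.Normal → IsPGroup p N → N = ⊥ := by
    intro N hNn hNp
    have hdvd : p ∣ Nat.card ↥V := by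
      rcases hVp.card_eq_or_dvd with h | h
      · exact absurd (Subgroup.card_eq_one.mp h) hV0
      · exact h
    obtain ⟨w, hw1, hw⟩ := exists_fixed_ne_one (act.comp N.subtype) hNp hdvd
    let F : Subgroup G :=
      { carrier := {v | v ∈ V ∧ ∀ g : G, (QuotientGroup.mk g : G ⧸ C) ∈ N → g * v * g⁻¹ = v}
        mul_mem' := by
          rintro v v' ⟨hv, hv1⟩ ⟨hv', hv1'⟩
          refine ⟨V.mul_mem hv hv', fun g hg => ?_⟩
          calc g * (v * v') * g⁻¹ = (g * v * g⁻¹) * (g * v' * g⁻¹) := by group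
            _ = v * v' := by rw [hv1 g hg, hv1' g hg]
        one_mem' := ⟨V.one_mem, fun g _ => by group⟩
        inv_mem' := by
          rintro v ⟨hv, hv1⟩
          refine ⟨V.inv_mem hv, fun g hg => ?_⟩
          calc g * v⁻¹ * g⁻¹ = (g * v * g⁻¹)⁻¹ := by group
            _ = v⁻¹ := by rw [hv1 g hg] }
    have hFn : F.Normal := by
      refine ⟨fun v hv h => ?_⟩
      obtain ⟨hv, hv1⟩ := hv
      refine ⟨hVn.conj_mem v hv h, fun g hg => ?_⟩
      have hg' : (QuotientGroup.mk (h⁻¹ * g * h) : G ⧸ C) ∈ N := by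
        have := hNn.conj_mem _ hg (QuotientGroup.mk h⁻¹ : G ⧸ C)
        rw [← QuotientGroup.mk_mul, ← QuotientGroup.mk_inv, ← QuotientGroup.mk_mul, inv_inv] at this
        exact this
      calc g * (h * v * h⁻¹) * g⁻¹ = h * ((h⁻¹ * g * h) * v * (h⁻¹ * g * h)⁻¹) * h⁻¹ := by group
        _ = h * v * h⁻¹ := by rw [hv1 _ hg']
    have hFV : F ≤ V := fun v hv => hv.1
    have hF0 : F ≠ ⊥ := by
      intro hbot
      have hmem : (w : G) ∈ F := by
        refine ⟨w.2, fun g hg => ?_⟩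
        have := hw ⟨QuotientGroup.mk g, hg⟩
        have h2 := congrArg Subtype.val this
        exact h2
      rw [hbot, Subgroup.mem_bot] at hmem
      exact hw1 (Subtype.ext hmem)
    have hFeq : F = V := (hVmin F hFn hFV).resolve_left hF0
    rw [eq_bot_iff]
    intro x hx
    obtain ⟨g, rfl⟩ := QuotientGroup.mk_surjective x
    rw [Subgroup.mem_bot, QuotientGroup.eq_one_iff]
    apply hmemC
    intro v
    have : (v : G) ∈ F := by rw [hFeq]; exact v.2
    apply Subtype.ext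
    rw [hact₀]
    exact this.2 g hx
  have hquad : ∀ w : ↥V, act (QuotientGroup.mk a) (act (QuotientGroup.mk a) w / w) =
      act (QuotientGroup.mk a) w / w := by
    intro w
    rw [hactmk]
    set x : ↥V := act₀ a w / w with hx
    have hxG : (x : G) = a * w * a⁻¹ * (w : G)⁻¹ := by
      rw [hx, div_eq_mul_inv, Subgroup.coe_mul, Subgroup.coe_inv, hact₀]
    have hxmem : (x : G) ∈ ⁅V, Subgroup.zpowers a⁆ := by
      have h1 : ⁅(w : G), a⁆ ∈ ⁅V, Subgroup.zpowers a⁆ :=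
        Subgroup.commutator_mem_commutator w.2 (Subgroup.mem_zpowers a)
      have h2 : (x : G) = ⁅(w : G), a⁆⁻¹ := by
        rw [hxG, commutatorElement_def]; group
      rw [h2]
      exact Subgroup.inv_mem _ h1
    have h1 : ⁅(x : G), a⁆ ∈ ⁅⁅V, Subgroup.zpowers a⁆, Subgroup.zpowers a⁆ :=
      Subgroup.commutator_mem_commutator hxmem (Subgroup.mem_zpowers a)
    rw [hq, Subgroup.mem_bot, commutatorElement_def] at h1
    apply Subtype.ext
    rw [hact₀]
    calc a * (x : G) * a⁻¹ = ((x : G) * a * (x : G)⁻¹ * a⁻¹)⁻¹ * (x : G) := by group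
      _ = x := by rw [h1, inv_one, one_mul]
  by_contra hcon
  have ha1 : (QuotientGroup.mk a : G ⧸ C) ≠ 1 := by
    intro h
    apply hcon
    rw [h]; exact Subgroup.one_mem _
  obtain ⟨K, f, U, θ, hf, hθ, hk'⟩ :=
    Cfsg.Agent.Helper4.QSec.quadratic_section_plus hp act hact hW hO (QuotientGroup.mk a) ha1 hquad
  apply hfree
  -- the data at the level of `G`
  let K' : Subgroup G := K.comap (QuotientGroup.mk' C)
  let f' : ↥K' →* SL(2, ZMod p) := f.comp ((QuotientGroup.mk' C).subgroupComap K)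
  have hf' : Function.Surjective f' :=
    hf.comp ((QuotientGroup.mk' C).subgroupComap_surjective_of_surjective K
      (QuotientGroup.mk'_surjective C))
  let UG : Subgroup G := U.map V.subtype
  let e : ↥U ≃* ↥UG := U.equivMapOfInjective V.subtype V.subtype_injective
  have he : ∀ u : ↥U, ((e u : ↥UG) : G) = ((u : ↥V) : G) := fun u => rfl
  let θG : ↥UG →* Multiplicative (Fin 2 → ZMod p) := θ.comp e.symm.toMonoidHom
  have hVC : V ≤ C := by
    intro v hv
    rw [hC, Subgroup.mem_centralizer_iff]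
    intro w hw
    exact hVab w hw v hv
  have hCK : C ≤ K' := by
    intro c hc
    show (QuotientGroup.mk c : G ⧸ C) ∈ K
    rw [(QuotientGroup.eq_one_iff c).mpr hc]
    exact K.one_mem
  have hUV : UG ≤ V := by
    rintro _ ⟨u, _, rfl⟩
    exact u.2
  have hUK : UG ≤ K' := hUV.trans (hVC.trans hCK)
  have hUp : IsPGroup p UG := hVp.to_le hUV
  have hnorm : ∀ k ∈ K', ∀ u ∈ UG, k * u * k⁻¹ ∈ UG := by
    rintro k hk _ ⟨u, hu, rfl⟩
    obtain ⟨h1, -⟩ := hk' ⟨QuotientGroup.mk k, hk⟩ ⟨u, hu⟩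
    refine ⟨act (QuotientGroup.mk k) u, h1, ?_⟩
    show ((act₀ k u : ↥V) : G) = _
    rw [hact₀]; rfl
  have hUf : ∀ (u : G) (hu : u ∈ UG), f' ⟨u, hUK hu⟩ = 1 := by
    intro u hu
    show f ⟨QuotientGroup.mk u, _⟩ = 1
    have : (⟨QuotientGroup.mk u, hUK hu⟩ : ↥K) = 1 :=
      Subtype.ext ((QuotientGroup.eq_one_iff u).mpr (hVC (hUV hu)))
    rw [this, map_one]
  have hequiv : ∀ (k : ↥K') (u : ↥UG), θG ⟨(k : G) * u * (k : G)⁻¹, hnorm k k.2 u u.2⟩ =
      Multiplicative.ofAdd ((f' k).1 *ᵥ Multiplicative.toAdd (θG u)) := by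
    intro k u
    obtain ⟨u', rfl⟩ := e.surjective u
    obtain ⟨h1, h2⟩ := hk' ⟨QuotientGroup.mk (k : G), k.2⟩ u'
    show θ (e.symm ⟨_, _⟩) = Multiplicative.ofAdd
      ((f ⟨QuotientGroup.mk (k : G), k.2⟩).1 *ᵥ Multiplicative.toAdd (θ (e.symm (e u'))))
    rw [MulEquiv.symm_apply_apply, ← h2]
    congr 1
    apply e.injective
    rw [MulEquiv.apply_symm_apply]
    apply Subtype.ext
    show (k : G) * ((u' : ↥V) : G) * (k : G)⁻¹ = ((act₀ (k : G) u' : ↥V) : G)
    rw [hact₀]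
  exact inv_aff_of_subgroup_data hp K' f' hf' UG hUK hUp hnorm hUf θG
    (hθ.comp e.symm.surjective) hequiv

end base

section stab

open Cfsg
open scoped commutatorElement

/-- `G` does not involve the affine group `F_p² ⋊ SL₂(p)` -/
def AffFree (p : ℕ) (G : Type*) [Group G] : Prop := ¬ Inv ↥(affSubgroup (ZMod p)) G

theorem AffFree.subgroup {p : ℕ} {G : Type*} [Group G] (h : AffFree p G) (H : Subgroup G) :
    AffFree p ↥H := fun h' => h (Inv.of_subgroup H h')

theorem AffFree.quotient {p : ℕ} {G : Type*} [Group G] (h : AffFree p G) (N : Subgroup G)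
    [N.Normal] : AffFree p (G ⧸ N) := fun h' => h (Inv.of_quotient N h')

/-- `G` does not involve `Qd(p)` -/
def QdFree (p : ℕ) (G : Type*) [Group G] : Prop := ¬ Inv ↥(Cfsg.qd p) G

theorem qdfree_iff_afffree {p : ℕ} {G : Type*} [Group G] : QdFree p G ↔ AffFree p G := by
  unfold QdFree AffFree
  rw [not_iff_not]
  exact ⟨Inv.of_equiv (MulEquiv.subgroupCongr (qd_eq p)),
    Inv.of_equiv (MulEquiv.subgroupCongr (qd_eq p).symm)⟩

theorem QdFree.subgroup {p : ℕ} {G : Type*} [Group G] (h : QdFree p G) (H : Subgroup G) :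
    QdFree p ↥H := fun h' => h (Inv.of_subgroup H h')

theorem QdFree.quotient {p : ℕ} {G : Type*} [Group G] (h : QdFree p G) (N : Subgroup G)
    [N.Normal] : QdFree p (G ⧸ N) := fun h' => h (Inv.of_quotient N h')

theorem qdfree_iff {p : ℕ} {G : Type*} [Group G] : QdFree p G ↔
    ¬ ∃ (K L : Subgroup G) (hL : (L.subgroupOf K).Normal),
      Nonempty ((K ⧸ L.subgroupOf K) ≃* ↥(Cfsg.qd p)) := by
  unfold QdFree
  rw [inv_iff]

/-- groups not involving `SL₂(p)` do not involve `Qd(p)` -/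
theorem afffree_of_sl2free {p : ℕ} {G : Type*} [Group G] (h : SL2Free p G) : AffFree p G := by
  rintro ⟨K, f, hf⟩
  exact h ⟨K, (proj (ZMod p)).comp f, proj_surjective.comp hf⟩

/-- **`p`-stability** of groups not involving `Qd(p)`, `p` odd. -/
theorem stab_aux_aff.{u} {p : ℕ} [hpp : Fact p.Prime] (hp : p ≠ 2) : ∀ n : ℕ, ∀ (G : Type u) [Group G]
    [Finite G], AffFree p G → ∀ (V : Subgroup G) [V.Normal], IsPGroup p V →
    Nat.card V = n → ∀ a : G,
    ⁅⁅V, Subgroup.zpowers a⁆, Subgroup.zpowers a⁆ = ⊥ →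
    (QuotientGroup.mk a : G ⧸ Subgroup.centralizer (V : Set G)) ∈
      pCore p (G ⧸ Subgroup.centralizer (V : Set G)) := by
  intro n
  induction n using Nat.strong_induction_on with
  | _ n ih =>
  intro G _ _ hfree V hVn hVp hcard a hq
  by_cases hmin : ∀ V₁ : Subgroup G, V₁.Normal → V₁ ≤ V → V₁ = ⊥ ∨ V₁ = V
  · exact base_afffree hp hfree V hVp hmin a hq
  push Not at hmin
  obtain ⟨V₁, hV₁n, hV₁V, hV₁0, hV₁ne⟩ := hmin
  have hV₁p : IsPGroup p V₁ := hVp.to_le hV₁V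
  have hsurj := QuotientGroup.mk'_surjective V₁
  have hc1 : Nat.card V₁ < Nat.card V := by
    by_contra h
    push Not at h
    exact hV₁ne (Subgroup.eq_of_le_of_card_ge hV₁V h)
  have hc2 : Nat.card (V.map (QuotientGroup.mk' V₁)) < Nat.card V := by
    have h1 : (V.map (QuotientGroup.mk' V₁)).comap (QuotientGroup.mk' V₁) = V := by
      rw [QuotientGroup.comap_map_mk', sup_eq_right.mpr hV₁V]
    have h2 := Cfsg.Agent.Helper1.card_comap_mk' V₁ (V.map (QuotientGroup.mk' V₁))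
    rw [h1] at h2
    have h3 : 1 < Nat.card V₁ := by
      rw [Subgroup.one_lt_card_iff_ne_bot]; exact hV₁0
    have h4 : 0 < Nat.card (V.map (QuotientGroup.mk' V₁)) := Nat.card_pos
    rw [h2]
    nlinarith
  have hq₁ : ⁅⁅V₁, Subgroup.zpowers a⁆, Subgroup.zpowers a⁆ = ⊥ := by
    rw [eq_bot_iff, ← hq]
    exact Subgroup.commutator_mono (Subgroup.commutator_mono hV₁V le_rfl) le_rfl
  have r1 := ih (Nat.card V₁) (hcard ▸ hc1) G hfree V₁ hV₁p rfl a hq₁
  have hVbn : (V.map (QuotientGroup.mk' V₁)).Normal := Subgroup.Normal.map hVn _ hsurj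
  have hq₂ : ⁅⁅V.map (QuotientGroup.mk' V₁), Subgroup.zpowers (QuotientGroup.mk' V₁ a)⁆,
      Subgroup.zpowers (QuotientGroup.mk' V₁ a)⁆ = ⊥ := by
    rw [← MonoidHom.map_zpowers, ← Subgroup.map_commutator, ← Subgroup.map_commutator, hq,
      Subgroup.map_bot]
  have r2 := ih (Nat.card (V.map (QuotientGroup.mk' V₁))) (hcard ▸ hc2) (G ⧸ V₁)
    (hfree.quotient V₁) (V.map (QuotientGroup.mk' V₁)) (hVp.map _) rfl
    (QuotientGroup.mk' V₁ a) hq₂
  exact Cfsg.Agent.Helper4.QS.step V V₁ hV₁p a r1 r2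


/-- quadratic elements on normal `p`-subgroups lie in `O_p` modulo the centralizer -/
theorem mem_pCore_of_qdfree {p : ℕ} [hpp : Fact p.Prime] (hp : p ≠ 2) {G : Type*} [Group G]
    [Finite G] (hfree : QdFree p G) (V : Subgroup G) [V.Normal] (hVp : IsPGroup p V) (a : G)
    (hq : ⁅⁅V, Subgroup.zpowers a⁆, Subgroup.zpowers a⁆ = ⊥) :
    (QuotientGroup.mk a : G ⧸ Subgroup.centralizer (V : Set G)) ∈
      pCore p (G ⧸ Subgroup.centralizer (V : Set G)) :=
  stab_aux_aff hp _ G (qdfree_iff_afffree.mp hfree) V hVp rfl a hq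

/-- **groups not involving `Qd(p)` are `p`-stable** (`p` odd) -/
theorem stab_of_qdfree {p : ℕ} [hpp : Fact p.Prime] (hp : p ≠ 2) {G : Type*} [Group G]
    [Finite G] (hfree : QdFree p G) : Cfsg.Agent.Helper4.ZJ.Stab p G :=
  fun V _ hVp a _ hq => mem_pCore_of_qdfree hp hfree V hVp a hq

end stab

end Cfsg.Agent.Helper4.QDF
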