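import Mathlib
import Cfsg.Agent.Lib.Helper4.SL2Free
import Cfsg.Agent.Lib.Helper23.PSolvable
import Cfsg.Agent.S0261
import Cfsg.Agent.S0275

set_option autoImplicit false
set_option linter.unusedSectionVars false
set_option linter.style.haveILetI false
set_option linter.unusedVariables false

/-! Consequences of `SL₂(p)`-freeness: action `p`-stability; classes of `SL₂(p)`-free groups. -/

namespace Cfsg.Agent.Helper4.SLF

open Cfsg
open Matrix Matrix.SpecialLinearGroup
open scoped MatrixGroups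
open scoped commutatorElement

section action

variable {G : Type*} [Group G] [Finite G] {p : ℕ} [hpp : Fact p.Prime]

theorem isPStableOn_of_sl2free (hp : p ≠ 2) (hfree : SL2Free p G) (V : Subgroup G) [V.Normal]
    (hVp : IsPGroup p V) : IsPStableOn p V :=
  fun a hq => mem_pCore_of_sl2free hp hfree V hVp a hq

theorem isPStableOnSection_of_sl2free (hp : p ≠ 2) (hfree : SL2Free p G) (K N : Subgroup G)
    [K.Normal] [N.Normal] (hKp : IsPGroup p K) : IsPStableOnSection p K N := by
  intro a hq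
  set π := QuotientGroup.mk' N with hπ
  have hπs : Function.Surjective π := QuotientGroup.mk'_surjective N
  set Vb : Subgroup (G ⧸ N) := K.map π with hVb
  haveI hVbn : Vb.Normal := Subgroup.Normal.map inferInstance _ hπs
  have hVbp : IsPGroup p Vb := hKp.map π
  have hqb : ⁅⁅Vb, Subgroup.zpowers (π a)⁆, Subgroup.zpowers (π a)⁆ = ⊥ := by
    rw [hVb, ← MonoidHom.map_zpowers, ← Subgroup.map_commutator, ← Subgroup.map_commutator,
      eq_bot_iff]
    rintro _ ⟨x, hx, rfl⟩
    rw [Subgroup.mem_bot, hπ, QuotientGroup.mk'_apply, QuotientGroup.eq_one_iff]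
    exact hq hx
  have h1 := mem_pCore_of_sl2free hp (hfree.quotient N) Vb hVbp (π a) hqb
  set Cb := Subgroup.centralizer (Vb : Set (G ⧸ N)) with hCb
  set φ : G →* (G ⧸ N) ⧸ Cb := (QuotientGroup.mk' Cb).comp π with hφ
  have hφs : Function.Surjective φ := (QuotientGroup.mk'_surjective Cb).comp hπs
  have hker : φ.ker = sectionKernel K N := by
    rw [hφ, ← MonoidHom.comap_ker, QuotientGroup.ker_mk']
    rfl
  haveI := Cfsg.Agent.Helper10.pCore_normal (G := (G ⧸ N) ⧸ Cb) p
  refine ⟨(pCore p ((G ⧸ N) ⧸ Cb)).comap φ, inferInstance, ?_, ?_, h1⟩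
  · rw [← hker]
    intro x hx
    rw [Subgroup.mem_comap, MonoidHom.mem_ker.1 hx]
    exact Subgroup.one_mem _
  · rw [← hker, Subgroup.relIndex_ker, Subgroup.map_comap_eq_self_of_surjective hφs]
    exact (IsPGroup.iff_card.1 (Cfsg.Agent.Helper10.pCore_isPGroup p)).imp fun k hk => hk

/-- groups not involving `SL₂(p)` are `p`-stable in the action sense (`p` odd) -/
theorem isActionPStable_of_sl2free (hp : p ≠ 2) (hfree : SL2Free p G) : IsActionPStable p G := by
  refine ⟨?_, ?_, ?_⟩
  · intro V _ hV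
    apply isPStableOn_of_sl2free hp hfree V
    intro v
    refine ⟨1, ?_⟩
    apply Subtype.ext
    rw [pow_one, Subgroup.coe_pow, Subgroup.coe_one]
    exact hV.2 v v.2
  · haveI := Cfsg.Agent.Helper10.pCore_normal (G := G) p
    exact isPStableOnSection_of_sl2free hp hfree _ _ (Cfsg.Agent.Helper10.pCore_isPGroup p)
  · intro S V _ hV
    apply isPStableOn_of_sl2free hp (hfree.subgroup _) V
    have hle : V.map (Subgroup.normalizer (thompsonSubgroupOf p (S : Subgroup G) : Set G)).subtype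
        ≤ (S : Subgroup G) := by
      refine hV.trans ?_
      rintro _ ⟨x, -, rfl⟩
      exact x.2
    intro v
    obtain ⟨k, hk⟩ := S.2 ⟨((v : ↥V) : G), hle ⟨v, v.2, rfl⟩⟩
    refine ⟨k, ?_⟩
    apply Subtype.ext
    apply Subtype.ext
    have := congrArg Subtype.val hk
    simpa using this

end action


section psolv

open Cfsg.Agent.Helper23.PSolv
open Cfsg.Agent.Helper2.SL2S

variable {p : ℕ} [hpp : Fact p.Prime]

/-- a simple `p`-solvable group has order a power of `p` or prime to `p` -/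
theorem card_of_simple_isPSolvable {T : Type*} [Group T] [IsSimpleGroup T]
    (h : IsPSolvable p T) : (∃ m : ℕ, Nat.card T = p ^ m) ∨ (Nat.card T).Coprime p := by
  obtain ⟨n, H, h0, hn, hmono, hnorm, hfac⟩ := h
  obtain ⟨i, hi0, hi1⟩ : ∃ i : Fin n, H i.castSucc = ⊥ ∧ H i.succ = ⊤ := by
    by_contra hcon
    push Not at hcon
    have hall : ∀ j : Fin (n + 1), H j = ⊥ := by
      intro j
      induction j using Fin.induction with
      | zero => exact h0
      | succ i ih =>
        rcases (hnorm i.succ).eq_bot_or_eq_top with h | h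
        · exact h
        · exact absurd h (hcon i ih)
    have := hall (Fin.last n)
    rw [hn] at this
    exact top_ne_bot this
  have := hfac i
  rw [hi0, hi1, Subgroup.relIndex_bot_left, Subgroup.card_top] at this
  exact this

/-- `SL₂(p)` is not `p`-solvable for `p ≥ 5` -/
theorem not_isPSolvable_SL2 (hp5 : 5 ≤ p) : ¬ IsPSolvable p SL(2, ZMod p) := by
  intro h
  have h2F : (2 : ZMod p) ≠ 0 := by
    intro h2
    have : ((2 : ℕ) : ZMod p) = 0 := by exact_mod_cast h2
    rw [ZMod.natCast_eq_zero_iff] at this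
    have := Nat.le_of_dvd (by norm_num) this
    omega
  haveI hsimple : IsSimpleGroup (Matrix.ProjectiveSpecialLinearGroup (Fin 2) (ZMod p)) :=
    Matrix.ProjectiveSpecialLinearGroup.rank_two_simple (by
      rw [Nat.card_eq_fintype_card, ZMod.card]; omega)
  have hT : IsPSolvable p (Matrix.ProjectiveSpecialLinearGroup (Fin 2) (ZMod p)) :=
    isPSolvable_quotient _ h
  set π : SL(2, ZMod p) →* Matrix.ProjectiveSpecialLinearGroup (Fin 2) (ZMod p) :=
    QuotientGroup.mk' _ with hπ
  -- the images of `u 1` and `v 1` do not commute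
  have hnc : π (u 1) * π (v 1) ≠ π (v 1) * π (u 1) := by
    intro hc
    have h1 : π ((u 1 * v 1) * (v 1 * u 1)⁻¹) = 1 := by
      rw [map_mul, map_inv, map_mul, map_mul, hc, mul_inv_cancel]
    rw [hπ, QuotientGroup.mk'_apply, QuotientGroup.eq_one_iff,
      Matrix.SpecialLinearGroup.mem_center_iff] at h1
    obtain ⟨r, -, hr⟩ := h1
    have h3 : Matrix.scalar (Fin 2) r * ((v (1 : ZMod p) * u 1 : SL(2, ZMod p)) :
        Matrix (Fin 2) (Fin 2) (ZMod p)) = ((u (1 : ZMod p) * v 1 : SL(2, ZMod p)) :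
        Matrix (Fin 2) (Fin 2) (ZMod p)) := by
      have e : (u (1 : ZMod p) * v 1 * (v 1 * u 1)⁻¹) * (v 1 * u 1) = u 1 * v 1 := by group
      rw [hr, ← Matrix.SpecialLinearGroup.coe_mul, e]
    rw [Matrix.SpecialLinearGroup.coe_mul, Matrix.SpecialLinearGroup.coe_mul, u_coe, v_coe] at h3
    have e00 := congrFun (congrFun h3 0) 0
    have e01 := congrFun (congrFun h3 0) 1
    simp [Matrix.mul_apply, Fin.sum_univ_two, Matrix.scalar] at e00 e01
    exact one_ne_zero (by linear_combination e01 - e00 : (1 : ZMod p) = 0)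
  rcases card_of_simple_isPSolvable hT with ⟨m, hm⟩ | hcop
  · -- a `p`-group: solvable, hence commutative
    have hpg : IsPGroup p (Matrix.ProjectiveSpecialLinearGroup (Fin 2) (ZMod p)) :=
      IsPGroup.of_card hm
    haveI : Finite (Matrix.ProjectiveSpecialLinearGroup (Fin 2) (ZMod p)) :=
      Nat.finite_of_card_ne_zero (by rw [hm]; exact pow_ne_zero _ hpp.out.ne_zero)
    haveI : Group.IsNilpotent (Matrix.ProjectiveSpecialLinearGroup (Fin 2) (ZMod p)) :=
      hpg.isNilpotent
    have hsol : Group.IsSolvable (Matrix.ProjectiveSpecialLinearGroup (Fin 2) (ZMod p)) :=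
      inferInstance
    exact hnc (IsSimpleGroup.comm_iff_isSolvable.2 hsol _ _)
  · -- `p` divides the order
    have hu1 : π (u 1) ≠ 1 := by
      intro h1
      apply hnc
      rw [h1, one_mul, mul_one]
    have hup : π (u 1) ^ p = 1 := by
      rw [← map_pow, Cfsg.Agent.Helper4.DSL.u_pow_p, map_one]
    have hord : orderOf (π (u 1)) = p := orderOf_eq_prime hup hu1
    haveI : Finite (Matrix.ProjectiveSpecialLinearGroup (Fin 2) (ZMod p)) :=
      Finite.of_surjective π (QuotientGroup.mk'_surjective _)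
    have hdvd : p ∣ Nat.card (Matrix.ProjectiveSpecialLinearGroup (Fin 2) (ZMod p)) := by
      have := orderOf_dvd_natCard (π (u 1))
      rw [hord] at this
      exact this
    have := Nat.Coprime.eq_one_of_dvd hcop.symm hdvd
    exact hpp.out.ne_one this

/-- `p`-solvable groups do not involve `SL₂(p)`, `p ≥ 5` -/
theorem sl2free_of_isPSolvable {G : Type*} [Group G] (hp5 : 5 ≤ p) (h : IsPSolvable p G) :
    SL2Free p G := by
  rintro ⟨K, f, hf⟩
  exact not_isPSolvable_SL2 hp5 (isPSolvable_of_surjective f hf (isPSolvable_subgroup K h))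

end psolv


section abelian2

variable {p : ℕ} [hpp : Fact p.Prime]

/-- groups with abelian Sylow `2`-subgroups do not involve `SL₂(p)`, `p` odd -/
theorem sl2free_of_abelian_sylow2 {G : Type*} [Group G] [Finite G] (hp2 : p ≠ 2)
    (hab : ∀ T : Sylow 2 G, IsMulCommutative T) : SL2Free p G := by
  rintro ⟨K, f, hf⟩
  obtain ⟨T₀⟩ : Nonempty (Sylow 2 SL(2, ZMod p)) := inferInstance
  have hodd : Odd (Fintype.card (ZMod p)) := by
    rw [ZMod.card]; exact hpp.out.odd_of_ne_two hp2
  obtain ⟨k₀, hk₀, ⟨e₀⟩⟩ := Cfsg.Agent.S0261.result hodd T₀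
  obtain ⟨a₀, b₀, hab₀⟩ := Cfsg.Agent.S0275.quaternion_not_comm k₀ hk₀
  obtain ⟨Q, hQ⟩ := Sylow.mapSurjective_surjective hf 2 T₀
  have hQ' : (Q : Subgroup ↥K).map f = (T₀ : Subgroup SL(2, ZMod p)) := by
    rw [← hQ]; rfl
  have ha : ((e₀.symm a₀ : ↥(T₀ : Subgroup SL(2, ZMod p))) : SL(2, ZMod p)) ∈
      (Q : Subgroup ↥K).map f := by rw [hQ']; exact (e₀.symm a₀).2
  have hb : ((e₀.symm b₀ : ↥(T₀ : Subgroup SL(2, ZMod p))) : SL(2, ZMod p)) ∈
      (Q : Subgroup ↥K).map f := by rw [hQ']; exact (e₀.symm b₀).2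
  obtain ⟨x, hx, hxa⟩ := ha
  obtain ⟨y, hy, hyb⟩ := hb
  -- `x` and `y` lie in a Sylow `2`-subgroup of `G`
  have hQ2 : IsPGroup 2 ((Q : Subgroup ↥K).map K.subtype) := Q.2.map _
  obtain ⟨T, hT⟩ := hQ2.exists_le_sylow
  haveI := hab T
  have hxT : (x : G) ∈ T := hT ⟨x, hx, rfl⟩
  have hyT : (y : G) ∈ T := hT ⟨y, hy, rfl⟩
  have hcomm : (x : G) * y = y * x := by
    have := mul_comm' (⟨x, hxT⟩ : ↥(T : Subgroup G)) ⟨y, hyT⟩
    exact congrArg Subtype.val this
  have hxy : x * y = y * x := Subtype.ext hcomm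
  apply hab₀
  apply e₀.symm.injective
  apply Subtype.ext
  rw [map_mul, map_mul, Subgroup.coe_mul, Subgroup.coe_mul, ← hxa, ← hyb, ← map_mul, ← map_mul,
    hxy]

end abelian2

end Cfsg.Agent.Helper4.SLF
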