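import Mathlib

/-!
# S2375 piece CYC30EQ (helper20's farm-out): the 30th cyclotomic polynomial, explicitly
-/

set_option autoImplicit false

open Polynomial

namespace Cfsg.Agent.Helper20.E8T

theorem e8tcyc30eq_int :
    cyclotomic 30 ℤ = X ^ 8 + X ^ 7 - X ^ 5 - X ^ 4 - X ^ 3 + X + 1 := by
  have h5 : Nat.Prime 5 := by norm_num
  have h := cyclotomic_expand_eq_cyclotomic_mul h5 (by norm_num : ¬ 5 ∣ 6) ℤ
  have h30 : (6 * 5 : ℕ) = 30 := by norm_num
  rw [h30, cyclotomic_six] at h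
  have hne : (X ^ 2 - X + 1 : ℤ[X]) ≠ 0 := by
    rw [← cyclotomic_six]
    exact cyclotomic_ne_zero 6 ℤ
  apply mul_right_cancel₀ hne
  rw [← h]
  simp only [map_add, map_sub, map_pow, expand_X, map_one]
  ring

theorem cyc30_eq (R : Type*) [CommRing R] :
    cyclotomic 30 R = X ^ 8 + X ^ 7 - X ^ 5 - X ^ 4 - X ^ 3 + X + 1 := by
  rw [← map_cyclotomic_int 30 R, e8tcyc30eq_int]
  simp only [Polynomial.map_add, Polynomial.map_sub, Polynomial.map_pow, Polynomial.map_X,
    Polynomial.map_one]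

end Cfsg.Agent.Helper20.E8T
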