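import Mathlib

/-!
# S2375 piece TRDET (helper20's farm-out): `det G ≤ (tr G / 8) ^ 8` for a real positive semidefinite
`8 × 8` matrix (eigenvalues and AM-GM).
-/

set_option autoImplicit false

namespace Cfsg.Agent.Helper20.E8T

/-- AM-GM for eight nonnegative reals, in the product form -/
theorem e8ttrdet_amgm (z : Fin 8 → ℝ) (hz : ∀ i, 0 ≤ z i) :
    ∏ i, z i ≤ ((∑ i, z i) / 8) ^ 8 := by
  have h := Real.geom_mean_le_arith_mean_weighted Finset.univ (fun _ : Fin 8 => (1 / 8 : ℝ)) z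
    (fun _ _ => by norm_num) (by simp) (fun i _ => hz i)
  have h0 : 0 ≤ ∏ i : Fin 8, z i ^ (1 / 8 : ℝ) :=
    Finset.prod_nonneg fun i _ => Real.rpow_nonneg (hz i) _
  have h1 : (∏ i : Fin 8, z i ^ (1 / 8 : ℝ)) ^ 8 = ∏ i, z i := by
    rw [← Finset.prod_pow]
    apply Finset.prod_congr rfl
    intro i _
    rw [← Real.rpow_natCast, ← Real.rpow_mul (hz i)]
    norm_num
  have h2 : ∑ i : Fin 8, (1 / 8 : ℝ) * z i = (∑ i, z i) / 8 := by
    rw [← Finset.mul_sum]
    ring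
  rw [h2] at h
  calc ∏ i, z i = (∏ i : Fin 8, z i ^ (1 / 8 : ℝ)) ^ 8 := h1.symm
    _ ≤ ((∑ i, z i) / 8) ^ 8 := pow_le_pow_left₀ h0 h 8

theorem trdet (G : Matrix (Fin 8) (Fin 8) ℝ) (hG : G.PosSemidef) : G.det ≤ (G.trace / 8) ^ 8 := by
  have hH : G.IsHermitian := hG.isHermitian
  have hdet : G.det = ∏ i, hH.eigenvalues i := by
    have := hH.det_eq_prod_eigenvalues
    simpa using this
  have htr : G.trace = ∑ i, hH.eigenvalues i := by
    have := hH.trace_eq_sum_eigenvalues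
    simpa using this
  rw [hdet, htr]
  exact e8ttrdet_amgm _ (fun i => hG.eigenvalues_nonneg i)

end Cfsg.Agent.Helper20.E8T
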