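import Mathlib
import Cfsg.Agent.Lib.Helper20.E8TLat
import Cfsg.Agent.Lib.Helper4.E8TCYC30EQ

/-!
# S2375 piece ARITHA (helper20's farm-out): arithmetic of `m = Φ₃₀(q)`
-/

set_option autoImplicit false

open Polynomial

namespace Cfsg.Agent.Helper20.E8T

/-- the subtractions in `mq` do not truncate -/
theorem e8taritha_nat (q : ℕ) (hq : 2 ≤ q) :
    mq q + (q ^ 5 + q ^ 4 + q ^ 3) = q ^ 8 + q ^ 7 + q + 1 := by
  have h3 : q ^ 3 ≤ q ^ 5 := Nat.pow_le_pow_right (by omega) (by norm_num)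
  have h4 : q ^ 4 ≤ q ^ 5 := Nat.pow_le_pow_right (by omega) (by norm_num)
  have h7 : 4 * q ^ 5 ≤ q ^ 7 := by
    have h1 : q ^ 7 = q ^ 2 * q ^ 5 := by ring
    have h2 : 4 ≤ q ^ 2 := by nlinarith
    rw [h1]
    exact Nat.mul_le_mul_right _ h2
  have h5 : 0 < q ^ 5 := Nat.pow_pos (by omega)
  unfold mq
  omega

theorem mq_cast (q : ℕ) (hq : 2 ≤ q) :
    ((mq q : ℕ) : ℤ) = (q : ℤ) ^ 8 + (q : ℤ) ^ 7 - (q : ℤ) ^ 5 - (q : ℤ) ^ 4 - (q : ℤ) ^ 3 +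
      (q : ℤ) + 1 := by
  have h := e8taritha_nat q hq
  have h' : ((mq q + (q ^ 5 + q ^ 4 + q ^ 3) : ℕ) : ℤ) = ((q ^ 8 + q ^ 7 + q + 1 : ℕ) : ℤ) := by
    rw [h]
  push_cast at h'
  linarith

theorem mq_gt_one (q : ℕ) (hq : 2 ≤ q) : 1 < mq q := by
  have h := e8taritha_nat q hq
  have h3 : q ^ 3 ≤ q ^ 5 := Nat.pow_le_pow_right (by omega) (by norm_num)
  have h4 : q ^ 4 ≤ q ^ 5 := Nat.pow_le_pow_right (by omega) (by norm_num)
  have h7 : 4 * q ^ 5 ≤ q ^ 7 := by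
    have h1 : q ^ 7 = q ^ 2 * q ^ 5 := by ring
    have h2 : 4 ≤ q ^ 2 := by nlinarith
    rw [h1]
    exact Nat.mul_le_mul_right _ h2
  omega

theorem arith30_exists (q : ℕ) (hq : 2 ≤ q) : ∃ r : ℕ, GoodPrime30 q r :=
  ⟨(mq q).minFac, Nat.minFac_prime (mq_gt_one q hq).ne', Nat.minFac_dvd _⟩

/-- `Φ₃₀` evaluated in any commutative ring -/
theorem e8taritha_eval {R : Type*} [CommRing R] (q : ℕ) (hq : 2 ≤ q) :
    (cyclotomic 30 R).eval (q : R) = ((mq q : ℕ) : R) := by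
  have h : (((mq q : ℕ) : ℤ) : R) = (((q : ℤ) ^ 8 + (q : ℤ) ^ 7 - (q : ℤ) ^ 5 - (q : ℤ) ^ 4 -
      (q : ℤ) ^ 3 + (q : ℤ) + 1 : ℤ) : R) := by rw [mq_cast q hq]
  push_cast at h
  rw [cyc30_eq, h]
  simp only [eval_add, eval_sub, eval_pow, eval_X, eval_one]

/-- `Φ₃₀(q)` is prime to `30` -/
theorem e8taritha_not_dvd (q : ℕ) (hq : 2 ≤ q) : ¬ 2 ∣ mq q ∧ ¬ 3 ∣ mq q ∧ ¬ 5 ∣ mq q := by
  have key : ∀ (n : ℕ) [NeZero n], (∀ x : ZMod n,
      x ^ 8 + x ^ 7 - x ^ 5 - x ^ 4 - x ^ 3 + x + 1 ≠ 0) → ¬ n ∣ mq q := by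
    intro n _ hn hdvd
    have h1 : ((mq q : ℕ) : ZMod n) = 0 := (ZMod.natCast_eq_zero_iff _ _).2 hdvd
    have h2 : (((mq q : ℕ) : ℤ) : ZMod n) = 0 := by exact_mod_cast h1
    rw [mq_cast q hq] at h2
    push_cast at h2
    exact hn _ h2
  refine ⟨key 2 (by decide), key 3 (by decide), key 5 (by decide)⟩

/-- the residue of `q` modulo a good prime is a primitive `30`-th root of unity -/
theorem e8taritha_primitive (q r : ℕ) (hq : 2 ≤ q) (h : GoodPrime30 q r) [Fact r.Prime] :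
    IsPrimitiveRoot ((q : ℕ) : ZMod r) 30 := by
  have hr : r.Prime := h.prime
  obtain ⟨h2, h3, h5⟩ := e8taritha_not_dvd q hq
  have h30 : ¬ r ∣ 30 := by
    intro hd
    have h30' : (30 : ℕ) = 2 * (3 * 5) := by norm_num
    rw [h30'] at hd
    rcases (Nat.Prime.dvd_mul hr).1 hd with hd | hd
    · have := (Nat.prime_dvd_prime_iff_eq hr Nat.prime_two).1 hd
      exact h2 (this ▸ h.dvd)
    · rcases (Nat.Prime.dvd_mul hr).1 hd with hd | hd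
      · have := (Nat.prime_dvd_prime_iff_eq hr Nat.prime_three).1 hd
        exact h3 (this ▸ h.dvd)
      · have := (Nat.prime_dvd_prime_iff_eq hr Nat.prime_five).1 hd
        exact h5 (this ▸ h.dvd)
  have : NeZero ((30 : ℕ) : ZMod r) := ⟨by
    intro h0
    exact h30 ((ZMod.natCast_eq_zero_iff _ _).1 h0)⟩
  rw [← isRoot_cyclotomic_iff]
  rw [IsRoot.def, e8taritha_eval q hq]
  exact (ZMod.natCast_eq_zero_iff _ _).2 h.dvd

/-- the order of `q` modulo a prime divisor `r` of `Φ₃₀(q)` is `30` -/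
theorem arith30_order (q r : ℕ) (hq : 2 ≤ q) (h : GoodPrime30 q r) (e : ℕ) :
    r ∣ q ^ e - 1 ↔ 30 ∣ e := by
  have : Fact r.Prime := ⟨h.prime⟩
  have hprim := e8taritha_primitive q r hq h
  rw [← hprim.pow_eq_one_iff_dvd e]
  have hpos : 1 ≤ q ^ e := Nat.one_le_pow _ _ (by omega)
  rw [← ZMod.natCast_eq_zero_iff, Nat.cast_sub hpos, sub_eq_zero]
  push_cast
  rfl

/-- hence `r ≡ 1 mod 30` -/
theorem arith30_ge (q r : ℕ) (hq : 2 ≤ q) (h : GoodPrime30 q r) : 31 ≤ r := by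
  have : Fact r.Prime := ⟨h.prime⟩
  have hprim := e8taritha_primitive q r hq h
  have hne : ((q : ℕ) : ZMod r) ≠ 0 := hprim.ne_zero (by norm_num)
  have h1 : ((q : ℕ) : ZMod r) ^ (r - 1) = 1 := ZMod.pow_card_sub_one_eq_one hne
  have h2 : 30 ∣ r - 1 := (hprim.pow_eq_one_iff_dvd (r - 1)).1 h1
  have h3 : 0 < r - 1 := by have := h.prime.two_le; omega
  have := Nat.le_of_dvd h3 h2
  omega

theorem arith30_coprime (q : ℕ) (hq : 2 ≤ q) (D : ℕ) (h0 : 0 < D) (hD : D ≤ 16) :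
    Nat.Coprime D (mq q) := by
  rw [Nat.coprime_iff_gcd_eq_one]
  by_contra hne
  obtain ⟨r, hr, hrd⟩ := Nat.exists_prime_and_dvd hne
  have h1 : r ∣ D := hrd.trans (Nat.gcd_dvd_left _ _)
  have h2 : r ∣ mq q := hrd.trans (Nat.gcd_dvd_right _ _)
  have h3 := arith30_ge q r hq ⟨hr, h2⟩
  have h4 := Nat.le_of_dvd h0 h1
  omega

theorem mq_dvd (q : ℕ) (hq : 2 ≤ q) : mq q ∣ q ^ 30 - 1 := by
  have h1 : cyclotomic 30 ℤ ∣ X ^ 30 - 1 := cyclotomic.dvd_X_pow_sub_one 30 ℤ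
  have h2 := eval_dvd (x := (q : ℤ)) h1
  have h3 := e8taritha_eval (R := ℤ) q hq
  simp only [eval_sub, eval_pow, eval_X, eval_one] at h2 h3
  have h3' : eval (q : ℤ) (cyclotomic 30 ℤ) = ((mq q : ℕ) : ℤ) := by
    rw [← h3]
  rw [h3'] at h2
  have hpos : 1 ≤ q ^ 30 := Nat.one_le_pow _ _ (by omega)
  have h4 : ((q ^ 30 - 1 : ℕ) : ℤ) = (q : ℤ) ^ 30 - 1 := by
    rw [Nat.cast_sub hpos]
    push_cast
    ring
  rw [← h4] at h2
  exact Int.natCast_dvd_natCast.1 h2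

end Cfsg.Agent.Helper20.E8T
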