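import Mathlib

/-!
# S2375 piece INDEX (helper20's farm-out): `#(ℤ⁸ / A ℤ⁸) = |det A|`
-/

set_option autoImplicit false

namespace Cfsg.Agent.Helper20.E8T

theorem e8tindex_injective (A : Matrix (Fin 8) (Fin 8) ℤ) (hA : A.det ≠ 0) :
    Function.Injective (Matrix.mulVecLin A) := by
  intro x y hxy
  exact Matrix.mulVec_injective_of_det_ne_zero hA hxy

theorem index_det (A : Matrix (Fin 8) (Fin 8) ℤ) (hA : A.det ≠ 0) :
    Nat.card ((Fin 8 → ℤ) ⧸ (LinearMap.range (Matrix.mulVecLin A)).toAddSubgroup) =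
      A.det.natAbs := by
  set N : Submodule ℤ (Fin 8 → ℤ) := LinearMap.range (Matrix.mulVecLin A) with hN
  let e : (Fin 8 → ℤ) ≃ₗ[ℤ] N := LinearEquiv.ofInjective (Matrix.mulVecLin A)
    (e8tindex_injective A hA)
  have h1 := Submodule.natAbs_det_equiv N e
  have h2 : N.subtype ∘ₗ AddMonoidHom.toIntLinearMap ((e : (Fin 8 → ℤ) →+ N)) =
      Matrix.mulVecLin A := by
    apply LinearMap.ext
    intro x
    rfl
  rw [h2] at h1
  have h3 : LinearMap.det (Matrix.mulVecLin A) = A.det := by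
    have : Matrix.mulVecLin A = Matrix.toLin' A := rfl
    rw [this, LinearMap.det_toLin']
  rw [h3] at h1
  rw [h1]
  rfl

end Cfsg.Agent.Helper20.E8T
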