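import Mathlib
import Cfsg.Agent.S3742

/-!
# Finite checks on automorphisms of `Q₈` (helper4)

Automorphisms of `Q₈` are encoded, as in `Cfsg.Agent.S3742`, by the images `(p, q)` of the standard
generators.  We check by brute force the facts on an automorphism `ψ` of order three and an
involutory automorphism `σ` inverting it which are used for the groups `GL(2,3)` and `2.S₄⁻`.
-/

set_option autoImplicit false

namespace Cfsg.Agent.Helper4.BinOct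

open QuaternionGroup Cfsg.Agent.S3742

/-- the hypotheses on the two encoded automorphisms -/
def Hyp (p1 q1 p2 q2 : Q) : Prop :=
  valid p1 q1 ∧ valid p2 q2 ∧ ¬ (p1 = a 1 ∧ q1 = xa 0) ∧
  f p1 q1 (f p1 q1 (f p1 q1 (a 1))) = a 1 ∧ f p1 q1 (f p1 q1 (f p1 q1 (xa 0))) = xa 0 ∧
  f p2 q2 (f p2 q2 (a 1)) = a 1 ∧ f p2 q2 (f p2 q2 (xa 0)) = xa 0 ∧
  f p2 q2 (f p1 q1 (f p2 q2 (f p1 q1 (a 1)))) = a 1 ∧
  f p2 q2 (f p1 q1 (f p2 q2 (f p1 q1 (xa 0)))) = xa 0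

instance (p1 q1 p2 q2 : Q) : Decidable (Hyp p1 q1 p2 q2) := by
  unfold Hyp; infer_instance

set_option maxRecDepth 100000 in
/-- an adapted pair of generators -/
theorem key : ∀ p1 q1 p2 q2 : Q, Hyp p1 q1 p2 q2 →
    ∃ p q : Q, valid p q ∧ f p1 q1 p = q ∧ f p1 q1 q = p * q ∧ f p2 q2 p = q⁻¹ ∧
      f p2 q2 q = p⁻¹ := by
  decide +kernel

set_option maxRecDepth 100000 in
/-- no element `r` with `r σ'(r) = z`, for `σ' = ψ^j σ` -/
theorem key2 : ∀ p1 q1 p2 q2 : Q, Hyp p1 q1 p2 q2 → ∀ r : Q,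
    r * f p2 q2 r ≠ a 2 ∧ r * f p1 q1 (f p2 q2 r) ≠ a 2 ∧
      r * f p1 q1 (f p1 q1 (f p2 q2 r)) ≠ a 2 := by
  decide +kernel

set_option maxRecDepth 100000 in
theorem valid_facts : ∀ p q : Q, valid p q →
    q * p * q⁻¹ = p⁻¹ ∧ q ^ 2 = p ^ 2 ∧ p ^ 4 = 1 ∧ p ^ 2 ≠ 1 ∧ p ^ 2 = a 2 ∧ p * q ≠ q * p := by
  decide +kernel

theorem center_facts : ∀ w : Q, (∀ v : Q, w * v = v * w) → w = 1 ∨ w = a 2 := by
  decide +kernel

theorem a2_central : ∀ v : Q, (a 2 : Q) * v = v * a 2 := by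
  decide +kernel

theorem sq_eq_one : ∀ w : Q, w * w = 1 → w = 1 ∨ w = a 2 := by
  decide +kernel

theorem a2_sq : (a 2 : Q) * a 2 = 1 := by decide +kernel

theorem a2_ne_one : (a 2 : Q) ≠ 1 := by decide +kernel

theorem valid_std : valid (a 1 : Q) (xa 0) := by decide +kernel

end Cfsg.Agent.Helper4.BinOct
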