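import Mathlib
import Cfsg.Agent.S3742
import Cfsg.Agent.Lib.Helper4.BinOctQ8

/-!
# A group with a self-centralizing normal quaternion subgroup of order `8` (helper4)

`X` is a group, `R` a normal subgroup with an isomorphism `e : R ≃* Q₈` and `C_X(R) ≤ R`.  The
conjugation action gives `kap : X →* Aut(Q₈)` with kernel `{1, z} = Z(X)`.
-/

set_option autoImplicit false

namespace Cfsg.Agent.Helper4.BinOct

open QuaternionGroup Cfsg.Agent.S3742

variable {X : Type*} [Group X] (R : Subgroup X) [hRn : R.Normal] (e : ↥R ≃* Q)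

/-- the conjugation action on `Q₈` -/
noncomputable def kap : X →* MulAut Q :=
  (MulAut.congr e).toMonoidHom.comp (MulAut.conjNormal (H := R))

theorem kap_apply (g : X) (q : Q) : kap R e g q = e (MulAut.conjNormal g (e.symm q)) := rfl

theorem symm_kap_apply (g : X) (q : Q) :
    ((e.symm (kap R e g q) : ↥R) : X) = g * (e.symm q : X) * g⁻¹ := by
  rw [kap_apply, e.symm_apply_apply, MulAut.conjNormal_apply]

/-- the central involution -/
noncomputable def zz : X := ((e.symm (a 2) : ↥R) : X)

theorem zz_mem : zz R e ∈ R := (e.symm (a 2)).2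

theorem zz_ne_one : zz R e ≠ 1 := by
  intro h
  have h1 : e.symm (a 2) = 1 := Subtype.ext h
  have h2 : (a 2 : Q) = 1 := by
    have := congrArg e h1
    rwa [e.apply_symm_apply, map_one] at this
  exact a2_ne_one h2

theorem zz_mul_self : zz R e * zz R e = 1 := by
  have h1 : e.symm (a 2) * e.symm (a 2) = 1 := by
    rw [← map_mul, a2_sq, map_one]
  exact congrArg Subtype.val h1

theorem kap_eq_one_iff (g : X) : kap R e g = 1 ↔ ∀ r ∈ R, g * r * g⁻¹ = r := by
  constructor
  · intro h r hr
    have h1 := symm_kap_apply R e g (e ⟨r, hr⟩)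
    rw [h, MulAut.one_apply, e.symm_apply_apply] at h1
    exact h1.symm
  · intro h
    ext q
    rw [MulAut.one_apply]
    apply e.symm.injective
    apply Subtype.ext
    rw [symm_kap_apply]
    exact h _ (e.symm q).2

theorem mem_ker_kap_iff (hC : Subgroup.centralizer (R : Set X) ≤ R) (g : X) :
    g ∈ (kap R e).ker ↔ g = 1 ∨ g = zz R e := by
  rw [MonoidHom.mem_ker, kap_eq_one_iff]
  constructor
  · intro h
    have hgC : g ∈ Subgroup.centralizer (R : Set X) := by
      rw [Subgroup.mem_centralizer_iff]
      intro r hr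
      have := h r hr
      calc r * g = (g * r * g⁻¹) * g := by rw [this]
        _ = g * r := by group
    have hgR : g ∈ R := hC hgC
    have hw : ∀ v : Q, e ⟨g, hgR⟩ * v = v * e ⟨g, hgR⟩ := by
      intro v
      have h1 : (⟨g, hgR⟩ : ↥R) * e.symm v = e.symm v * ⟨g, hgR⟩ := by
        apply Subtype.ext
        have := h _ (e.symm v).2
        show g * (e.symm v : X) = (e.symm v : X) * g
        calc g * (e.symm v : X) = (g * (e.symm v : X) * g⁻¹) * g := by group
          _ = (e.symm v : X) * g := by rw [this]
      have h2 := congrArg e h1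
      rwa [map_mul, map_mul, e.apply_symm_apply] at h2
    rcases center_facts _ hw with h1 | h1
    · left
      have h2 : (⟨g, hgR⟩ : ↥R) = 1 := by
        apply e.injective
        rw [h1, map_one]
      exact congrArg Subtype.val h2
    · right
      have h2 : (⟨g, hgR⟩ : ↥R) = e.symm (a 2) := by
        apply e.injective
        rw [h1, e.apply_symm_apply]
      exact congrArg Subtype.val h2
  · rintro (rfl | rfl)
    · intro r _
      group
    · intro r hr
      have h1 : e.symm (a 2) * ⟨r, hr⟩ = ⟨r, hr⟩ * e.symm (a 2) := by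
        apply e.injective
        rw [map_mul, map_mul, e.apply_symm_apply]
        exact a2_central _
      have h2 : zz R e * r = r * zz R e := congrArg Subtype.val h1
      calc zz R e * r * (zz R e)⁻¹ = (r * zz R e) * (zz R e)⁻¹ := by rw [h2]
        _ = r := by group

theorem zz_central (hC : Subgroup.centralizer (R : Set X) ≤ R) (g : X) :
    g * zz R e = zz R e * g := by
  have h1 : zz R e ∈ (kap R e).ker := (mem_ker_kap_iff R e hC _).mpr (Or.inr rfl)
  have h2 : g * zz R e * g⁻¹ ∈ (kap R e).ker := (MonoidHom.normal_ker _).conj_mem _ h1 g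
  rcases (mem_ker_kap_iff R e hC _).mp h2 with h3 | h3
  · exfalso
    apply zz_ne_one R e
    calc zz R e = g⁻¹ * (g * zz R e * g⁻¹) * g := by group
      _ = 1 := by rw [h3]; group
  · calc g * zz R e = (g * zz R e * g⁻¹) * g := by group
      _ = zz R e * g := by rw [h3]

theorem center_eq_ker (hC : Subgroup.centralizer (R : Set X) ≤ R) :
    Subgroup.center X = (kap R e).ker := by
  ext g
  constructor
  · intro hg
    rw [MonoidHom.mem_ker, kap_eq_one_iff]
    intro r _
    have := Subgroup.mem_center_iff.mp hg r
    calc g * r * g⁻¹ = (r * g) * g⁻¹ := by rw [this]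
      _ = r := by group
  · intro hg
    rw [Subgroup.mem_center_iff]
    rcases (mem_ker_kap_iff R e hC _).mp hg with rfl | rfl
    · intro h; simp
    · intro h
      exact zz_central R e hC h

theorem card_ker_kap (hC : Subgroup.centralizer (R : Set X) ≤ R) :
    Nat.card (kap R e).ker = 2 := by
  rw [Nat.card_eq_two_iff]
  refine ⟨⟨1, Subgroup.one_mem _⟩, ⟨zz R e, (mem_ker_kap_iff R e hC _).mpr (Or.inr rfl)⟩, ?_, ?_⟩
  · intro h
    exact zz_ne_one R e (congrArg Subtype.val h).symm
  · ext ⟨g, hg⟩
    simp only [Set.mem_insert_iff, Set.mem_singleton_iff, Set.mem_univ, iff_true]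
    rcases (mem_ker_kap_iff R e hC _).mp hg with h | h
    · left; exact Subtype.ext h
    · right; exact Subtype.ext h

include e in
theorem card_center (hC : Subgroup.centralizer (R : Set X) ≤ R) :
    Nat.card (Subgroup.center X) = 2 := by
  rw [center_eq_ker R e hC]
  exact card_ker_kap R e hC

theorem card_mulAut_Q : Nat.card (MulAut Q) = 24 := by
  obtain ⟨iso⟩ := Cfsg.Agent.S3742.result
  rw [Nat.card_congr iso.toEquiv, Nat.card_eq_fintype_card, Fintype.card_perm]
  rfl

/-- `|X| = 2 |range kap|`. -/
theorem card_eq_two_mul (hC : Subgroup.centralizer (R : Set X) ≤ R) :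
    Nat.card X = 2 * Nat.card (kap R e).range := by
  rw [← Subgroup.card_mul_index (kap R e).ker, Subgroup.index_ker, card_ker_kap R e hC]

theorem kap_surjective [Finite X] (hC : Subgroup.centralizer (R : Set X) ≤ R)
    (hcard : Nat.card X = 48) : Function.Surjective (kap R e) := by
  rw [← MonoidHom.range_eq_top]
  have : Finite (MulAut Q) := Nat.finite_of_card_ne_zero (by rw [card_mulAut_Q]; norm_num)
  apply Subgroup.eq_top_of_card_eq
  rw [card_mulAut_Q]
  have := card_eq_two_mul R e hC
  omega

include e in
/-- the central quotient is the symmetric group of degree four -/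
theorem nonempty_quotient_center_equiv [Finite X] (hC : Subgroup.centralizer (R : Set X) ≤ R)
    (hcard : Nat.card X = 48) :
    Nonempty (X ⧸ Subgroup.center X ≃* Equiv.Perm (Fin 4)) := by
  obtain ⟨iso⟩ := Cfsg.Agent.S3742.result
  have e1 : X ⧸ Subgroup.center X ≃* X ⧸ (kap R e).ker :=
    QuotientGroup.quotientMulEquivOfEq (center_eq_ker R e hC)
  have e2 : X ⧸ (kap R e).ker ≃* MulAut Q :=
    QuotientGroup.quotientKerEquivOfSurjective _ (kap_surjective R e hC hcard)
  exact ⟨(e1.trans e2).trans iso⟩

end Cfsg.Agent.Helper4.BinOct
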