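import Mathlib
import Cfsg.Agent.Lib.Helper8.XSDefs

/-!
# S3299 PIECE XS-DUAL (helper4): `xs_mul_comm`, `xs_dual`
(`C_E(C_E(x)) = {1, x, z, xz}` for a noncentral `x` of the extraspecial `E`, elementwise).
-/

set_option autoImplicit false

namespace Cfsg.Agent.Helper8.XS

theorem xs_mul_comm {G : Type*} [Group G] {E : Subgroup G} {z : G} (h : XSp E z)
    (x y₁ y₂ : G) (hx : x ∈ E) (h1 : y₁ ∈ E) (h2 : y₂ ∈ E)
    (hn1 : x * y₁ ≠ y₁ * x) (hn2 : x * y₂ ≠ y₂ * x) : x * (y₁ * y₂) = (y₁ * y₂) * x := by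
  have e1 : x * y₁ = z * (y₁ * x) := (h.hcomm x hx y₁ h1).resolve_left hn1
  have e2 : x * y₂ = z * (y₂ * x) := (h.hcomm x hx y₂ h2).resolve_left hn2
  have c1 : y₁ * z = z * y₁ := h.hcen y₁ h1
  calc x * (y₁ * y₂) = (x * y₁) * y₂ := by group
    _ = z * (y₁ * x) * y₂ := by rw [e1]
    _ = z * y₁ * (x * y₂) := by group
    _ = z * y₁ * (z * (y₂ * x)) := by rw [e2]
    _ = z * (y₁ * z) * (y₂ * x) := by group
    _ = z * (z * y₁) * (y₂ * x) := by rw [c1]
    _ = (z * z) * y₁ * y₂ * x := by group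
    _ = y₁ * y₂ * x := by rw [h.hzz, one_mul]

/-- aux: `x` does not commute with `y⁻¹` either -/
theorem dual_inv_ne {G : Type*} [Group G] (x y : G) (hn : x * y ≠ y * x) : x * y⁻¹ ≠ y⁻¹ * x := by
  intro e
  apply hn
  calc x * y = y * (y⁻¹ * x) * y := by group
    _ = y * (x * y⁻¹) * y := by rw [e]
    _ = y * x := by group

/-- aux: `E = C_E(x) ∪ y₀ C_E(x)`: if `f ∈ E` does not commute with `x` then `y₀⁻¹ f` does -/
theorem dual_decomp {G : Type*} [Group G] {E : Subgroup G} {z : G} (h : XSp E z)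
    (x y₀ f : G) (hx : x ∈ E) (hy₀ : y₀ ∈ E) (hf : f ∈ E)
    (hn0 : x * y₀ ≠ y₀ * x) (hnf : x * f ≠ f * x) : (y₀⁻¹ * f) * x = x * (y₀⁻¹ * f) :=
  (xs_mul_comm h x y₀⁻¹ f hx (E.inv_mem hy₀) hf (dual_inv_ne x y₀ hn0) hnf).symm

/-- aux: an element (of `G`) commuting with `C_E(x)` elementwise and with one `y₀ ∈ E` outside `C_E(x)` commutes
with all of `E` -/
theorem dual_central {G : Type*} [Group G] {E : Subgroup G} {z : G} (h : XSp E z)
    (x y₀ : G) (hx : x ∈ E) (hy₀ : y₀ ∈ E) (hn0 : x * y₀ ≠ y₀ * x)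
    (c : G) (hc1 : ∀ f ∈ E, f * x = x * f → c * f = f * c) (hc2 : c * y₀ = y₀ * c) :
    ∀ f ∈ E, c * f = f * c := by
  intro f hf
  by_cases hfx : f * x = x * f
  · exact hc1 f hf hfx
  · have hnf : x * f ≠ f * x := fun e => hfx e.symm
    have hg := dual_decomp h x y₀ f hx hy₀ hf hn0 hnf
    have hgE : y₀⁻¹ * f ∈ E := E.mul_mem (E.inv_mem hy₀) hf
    have hcg := hc1 (y₀⁻¹ * f) hgE hg
    calc c * f = (c * y₀) * (y₀⁻¹ * f) := by group
      _ = (y₀ * c) * (y₀⁻¹ * f) := by rw [hc2]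
      _ = y₀ * (c * (y₀⁻¹ * f)) := by group
      _ = y₀ * ((y₀⁻¹ * f) * c) := by rw [hcg]
      _ = f * c := by group

theorem xs_dual {G : Type*} [Group G] {E : Subgroup G} {z : G} (h : XSp E z)
    (x : G) (hx : x ∈ E) (hnc : ∃ y ∈ E, x * y ≠ y * x)
    (w : G) (hw : w ∈ E) (hwc : ∀ f ∈ E, f * x = x * f → w * f = f * w) :
    w = 1 ∨ w = x ∨ w = z ∨ w = x * z := by
  obtain ⟨y₀, hy₀, hn0⟩ := hnc
  by_cases hwy : w * y₀ = y₀ * w
  · -- `w` is central
    have hcen := dual_central h x y₀ hx hy₀ hn0 w hwc hwy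
    rcases h.hcenter w hw hcen with e | e
    · exact Or.inl e
    · exact Or.inr (Or.inr (Or.inl e))
  · -- `w x` is central
    have e1 : w * y₀ = z * (y₀ * w) := (h.hcomm w hw y₀ hy₀).resolve_left hwy
    have e2 : x * y₀ = z * (y₀ * x) := (h.hcomm x hx y₀ hy₀).resolve_left hn0
    have cw : w * z = z * w := h.hcen w hw
    have hwxE : w * x ∈ E := E.mul_mem hw hx
    have hc1 : ∀ f ∈ E, f * x = x * f → (w * x) * f = f * (w * x) := by
      intro f hf hfx
      have := hwc f hf hfx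
      calc (w * x) * f = w * (x * f) := by group
        _ = w * (f * x) := by rw [hfx]
        _ = (w * f) * x := by group
        _ = (f * w) * x := by rw [this]
        _ = f * (w * x) := by group
    have hc2 : (w * x) * y₀ = y₀ * (w * x) := by
      calc (w * x) * y₀ = w * (x * y₀) := by group
        _ = w * (z * (y₀ * x)) := by rw [e2]
        _ = (w * z) * y₀ * x := by group
        _ = (z * w) * y₀ * x := by rw [cw]
        _ = z * (w * y₀) * x := by group
        _ = z * (z * (y₀ * w)) * x := by rw [e1]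
        _ = (z * z) * y₀ * (w * x) := by group
        _ = y₀ * (w * x) := by rw [h.hzz, one_mul]
    have hcen := dual_central h x y₀ hx hy₀ hn0 (w * x) hc1 hc2
    have hxinv : x⁻¹ = x ∨ x⁻¹ = x * z := by
      rcases h.hsq x hx with e | e
      · left
        exact inv_eq_of_mul_eq_one_left e
      · right
        apply inv_eq_of_mul_eq_one_left
        calc x * z * x = (x * z) * x := rfl
          _ = (z * x) * x := by rw [h.hcen x hx]
          _ = z * (x * x) := by group
          _ = z * z := by rw [e]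
          _ = 1 := h.hzz
    rcases h.hcenter (w * x) hwxE hcen with e | e
    · -- `w = x⁻¹`
      have hwx : w = x⁻¹ := eq_inv_of_mul_eq_one_left e
      rcases hxinv with e' | e'
      · exact Or.inr (Or.inl (hwx.trans e'))
      · exact Or.inr (Or.inr (Or.inr (hwx.trans e')))
    · -- `w = z x⁻¹`
      have hwx : w = z * x⁻¹ := by
        calc w = (w * x) * x⁻¹ := by group
          _ = z * x⁻¹ := by rw [e]
      rcases hxinv with e' | e'
      · right; right; right
        rw [hwx, e', h.hcen x hx]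
      · right; left
        rw [hwx, e']
        calc z * (x * z) = z * (z * x) := by rw [h.hcen x hx]
          _ = (z * z) * x := by group
          _ = x := by rw [h.hzz, one_mul]

end Cfsg.Agent.Helper8.XS
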