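import Mathlib
import Cfsg.Agent.Lib.Helper1.M22LocDefs
import Cfsg.Agent.Lib.Helper6.M22BASIC1
import Cfsg.Agent.Lib.Helper23.M22VAL1
import Cfsg.Agent.Lib.Helper23.M22VAL2
import Cfsg.Agent.Lib.Helper1.M22COUNT
import Cfsg.Agent.Lib.Helper1.M22CLS

/-!
# S0429 (helper1 farm-out), PIECE FARADJ: a far class contains a neighbour.
The class of `c` consists of 4 pairwise disjoint blocks of size 4 inside `nA` (16 points), so
`∑ c' ∈ cls c, ii b c' = |blk b| = 4`; each `c'` has `pp b c' = -1/24`, so is adjacent to `b` or has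
`ii b c' = 2`; without an adjacency the sum would be 8.
-/

set_option autoImplicit false
set_option linter.unusedSectionVars false
set_option linter.unusedVariables false

namespace Cfsg.Agent.Helper1.M22

open Finset

variable {V : Type*} [Fintype V] [DecidableEq V] {G : SimpleGraph V} [DecidableRel G.Adj]
  (hG : G.IsSRGWith 77 16 0 4) (o : V)
include hG

omit hG in
theorem faradj_blk_subset (b : V) : blk G o b ⊆ nA G o := by
  intro a ha
  unfold blk at ha
  unfold nA
  rw [mem_filter] at ha ⊢
  exact ⟨ha.1, ha.2.1⟩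

omit hG in
theorem faradj_mem_cls {c c' : V} (h : c' ∈ cls G o c) : c' ∈ nB G o ∧ pp G o c c' = 1 / 12 := by
  unfold cls at h
  rw [mem_filter] at h
  exact h

/-- two distinct members of a class have disjoint blocks -/
theorem faradj_disjoint {c c' c'' : V} (hc : c ∈ nB G o) (h' : c' ∈ cls G o c)
    (h'' : c'' ∈ cls G o c) (hne : c' ≠ c'') : Disjoint (blk G o c') (blk G o c'') := by
  obtain ⟨hc', hp'⟩ := faradj_mem_cls o h'
  obtain ⟨hc'', hp''⟩ := faradj_mem_cls o h''
  have heq : cls G o c = cls G o c' := cls_eq hG o hc hc' hp'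
  rw [heq] at h''
  have hp : pp G o c' c'' = 1 / 12 := (faradj_mem_cls o h'').2
  have hii : ii G o c' c'' = 0 := by
    rcases pp_values hG o hc' hc'' hne with ⟨_, h0, _⟩ | ⟨_, _, h1⟩ | ⟨_, h2⟩
    · exact h0
    · rw [hp] at h1; norm_num at h1
    · rw [hp] at h2; norm_num at h2
  unfold ii at hii
  rw [card_eq_zero] at hii
  exact disjoint_iff_inter_eq_empty.2 hii

/-- the four blocks of a class cover `nA` -/
theorem faradj_cover {c : V} (hc : c ∈ nB G o) :
    (cls G o c).biUnion (fun c' => blk G o c') = nA G o := by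
  apply eq_of_subset_of_card_le
  · intro a ha
    rw [mem_biUnion] at ha
    obtain ⟨c', _, hac'⟩ := ha
    exact faradj_blk_subset o c' hac'
  · rw [card_biUnion]
    · have h4 : ∀ c' ∈ cls G o c, (blk G o c').card = 4 := fun c' hc' =>
        card_blk hG o (faradj_mem_cls o hc').1
      rw [sum_congr rfl h4, sum_const, card_cls hG o hc, card_nA hG o]
      norm_num
    · intro c' hc' c'' hc'' hne
      exact faradj_disjoint hG o hc hc' hc'' hne

/-- `∑ c' ∈ cls c, ii b c' = 4` -/
theorem faradj_sum {b c : V} (hb : b ∈ nB G o) (hc : c ∈ nB G o) :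
    ∑ c' ∈ cls G o c, ii G o b c' = 4 := by
  have h1 : blk G o b = (cls G o c).biUnion (fun c' => blk G o b ∩ blk G o c') := by
    rw [← inter_biUnion, faradj_cover hG o hc]
    exact (inter_eq_left.2 (faradj_blk_subset o b)).symm
  have h2 := card_blk hG o hb
  rw [h1, card_biUnion] at h2
  · exact h2
  · intro c' hc' c'' hc'' hne
    exact (faradj_disjoint hG o hc hc' hc'' hne).mono inter_subset_right inter_subset_right

/-- PIECE FARADJ -/
theorem far_adj {b c : V} (hb : b ∈ nB G o) (hc : c ∈ nB G o) (h : pp G o b c = -1 / 24) :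
    ∃ c' ∈ cls G o c, G.Adj b c' := by
  by_contra hno
  push Not at hno
  have hsum := faradj_sum hG o hb hc
  have h2 : ∀ c' ∈ cls G o c, ii G o b c' = 2 := by
    intro c' hc'
    obtain ⟨hc'B, hp'⟩ := faradj_mem_cls o hc'
    have hrow := pp_rows hG o hc hc'B hp' b hb
    have hpb : pp G o b c' = -1 / 24 := by
      rw [pp_symm o b c', ← hrow, pp_symm o c b, h]
    have hne : b ≠ c' := by
      intro hbc
      rw [← hbc, pp_self hG o hb] at hpb
      norm_num at hpb
    rcases pp_values hG o hb hc'B hne with ⟨_, _, h0⟩ | ⟨_, _, h1⟩ | ⟨h3, _⟩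
    · rw [hpb] at h0; norm_num at h0
    · rw [hpb] at h1; norm_num at h1
    · rcases h3 with h3 | h3
      · exact absurd h3 (hno c' hc')
      · exact h3
  rw [sum_congr rfl h2, sum_const, card_cls hG o hc] at hsum
  norm_num at hsum

end Cfsg.Agent.Helper1.M22
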