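import Mathlib

set_option autoImplicit false

namespace Cfsg.Agent.Helper4

open Equiv

theorem isSolvable_of_prime_card {G : Type*} [Group G] {p : ℕ} [Fact p.Prime]
    (h : Nat.card G = p) : Group.IsSolvable G := by
  have hc : IsCyclic G := isCyclic_of_prime_card h
  apply Group.isSolvable_of_comm
  intro a b
  exact (IsCyclic.commGroup (α := G)).mul_comm a b

theorem perm_isSolvable_of_card_two {α : Type*} [Fintype α] [DecidableEq α]
    (h : Fintype.card α = 2) : Group.IsSolvable (Perm α) := by
  have : Fact (Nat.Prime 2) := ⟨Nat.prime_two⟩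
  apply isSolvable_of_prime_card (p := 2)
  rw [Nat.card_eq_fintype_card, Fintype.card_perm, h]
  rfl

theorem perm_isSolvable_of_card_three {α : Type*} [Fintype α] [DecidableEq α]
    (h : Fintype.card α = 3) : Group.IsSolvable (Perm α) := by
  have : Fact (Nat.Prime 3) := ⟨Nat.prime_three⟩
  have hnt : Nontrivial α := by
    rw [← Fintype.one_lt_card_iff_nontrivial, h]; norm_num
  have hA : Group.IsSolvable (alternatingGroup α) := by
    apply isSolvable_of_prime_card (p := 3)
    rw [nat_card_alternatingGroup, Nat.card_eq_fintype_card, h]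
    rfl
  exact Group.isSolvable_of_ker_le_range (alternatingGroup α).subtype Equiv.Perm.sign
    (by rw [← alternatingGroup_eq_sign_ker, Subgroup.range_subtype])

end Cfsg.Agent.Helper4
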