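import Mathlib

set_option autoImplicit false

namespace Cfsg.Agent.Helper4

/-- A Sylow `p`-subgroup of a finite group acting transitively on a set of `p`-power size is itself
transitive. -/
theorem sylow_isPretransitive {G Ω : Type*} [Group G] [Finite G] [MulAction G Ω]
    [MulAction.IsPretransitive G Ω] {p f : ℕ} [Fact p.Prime] (hcard : Nat.card Ω = p ^ f)
    (P : Sylow p G) : MulAction.IsPretransitive P Ω := by
  have hp : p.Prime := Fact.out
  have hpos : 0 < p ^ f := pow_pos hp.pos f
  have hfin : Finite Ω := Nat.finite_of_card_ne_zero (by rw [hcard]; exact hpos.ne')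
  have hne : Nonempty Ω := by
    by_contra h
    rw [not_nonempty_iff] at h
    have : Nat.card Ω = 0 := Nat.card_of_isEmpty
    rw [this] at hcard
    exact hpos.ne hcard
  obtain ⟨a⟩ := hne
  set Ga := MulAction.stabilizer G a with hGa
  have h1 : Ga.index = p ^ f := by rw [MulAction.index_stabilizer_of_transitive, hcard]
  have h2 : Ga.relIndex P * (P : Subgroup G).index = (Ga ⊓ P).index := by
    rw [← Subgroup.inf_relIndex_right]
    exact Subgroup.relIndex_mul_index inf_le_right
  have h3 : (Ga ⊓ P).relIndex Ga * Ga.index = (Ga ⊓ P).index :=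
    Subgroup.relIndex_mul_index inf_le_left
  have h4 : p ^ f ∣ Ga.relIndex P * (P : Subgroup G).index := by
    rw [h2, ← h3, h1]; exact dvd_mul_left _ _
  have hcop : (p ^ f).Coprime (P : Subgroup G).index :=
    Nat.Coprime.pow_left f ((Nat.Prime.coprime_iff_not_dvd hp).2 P.not_dvd_index)
  have h5 : p ^ f ∣ Ga.relIndex P := hcop.dvd_of_dvd_mul_right h4
  have h6 : MulAction.stabilizer P a = Ga.subgroupOf P := by
    ext g
    rw [MulAction.mem_stabilizer_iff, Subgroup.mem_subgroupOf, hGa, MulAction.mem_stabilizer_iff]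
    rfl
  have h7 : (MulAction.stabilizer P a).index = (MulAction.orbit P a).ncard :=
    MulAction.index_stabilizer P a
  have h8 : p ^ f ∣ (MulAction.orbit P a).ncard := by
    rw [← h7, h6]; exact h5
  have h9 : (MulAction.orbit P a).ncard ≠ 0 := by
    rw [← h7]
    exact Subgroup.index_ne_zero_of_finite
  have h10 : (MulAction.orbit P a).ncard = Nat.card Ω := by
    apply le_antisymm (Set.ncard_le_card _)
    rw [hcard]
    exact Nat.le_of_dvd (Nat.pos_of_ne_zero h9) h8
  have h11 : MulAction.orbit P a = Set.univ := (Set.eq_univ_iff_ncard _).2 h10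
  rw [MulAction.isPretransitive_iff_base a]
  intro x
  have : x ∈ MulAction.orbit P a := by rw [h11]; trivial
  exact this

/-- A finite `p`-group acting linearly on a vector space over a field of characteristic `p` fixes a
non-zero vector in every non-zero invariant additive subgroup. -/
theorem exists_fixed_ne_zero {P : Type*} [Group P] [Finite P] {p : ℕ} [Fact p.Prime]
    (hP : IsPGroup p P) {K V : Type*} [Field K] [CharP K p] [AddCommGroup V] [Module K V]
    (ρ : Representation K P V) (W : AddSubgroup V) (hW : ∀ g : P, ∀ w ∈ W, ρ g w ∈ W)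
    (hne : W ≠ ⊥) : ∃ w ∈ W, w ≠ 0 ∧ ∀ g : P, ρ g w = w := by
  have hp : p.Prime := Fact.out
  have hpV : ∀ v : V, p • v = 0 := by
    intro v
    rw [← Nat.cast_smul_eq_nsmul K p v, CharP.cast_eq_zero, zero_smul]
  obtain ⟨w0, hw0W, hw0⟩ : ∃ w ∈ W, w ≠ 0 := by
    by_contra h
    push Not at h
    apply hne
    rw [eq_bot_iff]
    intro w hw
    rw [AddSubgroup.mem_bot]
    exact h w hw
  set s : Set V := Set.range (fun g : P => ρ g w0) with hs
  have hsfin : Finite s := Set.finite_range _
  set M := AddSubgroup.closure s with hM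
  have hMW : M ≤ W := by
    rw [hM, AddSubgroup.closure_le]
    rintro _ ⟨g, rfl⟩
    exact hW g w0 hw0W
  have hw0M : w0 ∈ M := by
    apply AddSubgroup.subset_closure
    exact ⟨1, by simp⟩
  have hMinv : ∀ g : P, ∀ m ∈ M, ρ g m ∈ M := by
    intro g m hm
    induction hm using AddSubgroup.closure_induction with
    | mem y hy =>
      obtain ⟨h, rfl⟩ := hy
      apply AddSubgroup.subset_closure
      exact ⟨g * h, by simp⟩
    | zero => rw [map_zero]; exact M.zero_mem
    | add y z _ _ hy hz => rw [map_add]; exact M.add_mem hy hz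
    | neg y _ hy => rw [map_neg]; exact M.neg_mem hy
  have hMfg : AddGroup.FG M := AddGroup.closure_finite_fg s
  have hMtors : IsAddTorsion M := by
    intro m
    rw [isOfFinAddOrder_iff_nsmul_eq_zero]
    refine ⟨p, hp.pos, ?_⟩
    apply Subtype.ext
    rw [AddSubgroup.coe_nsmul]
    exact hpV m
  have hMfin : Finite M := AddCommGroup.finite_of_fg_isAddTorsion M hMtors
  let _ : MulAction P M :=
    { smul := fun g m => ⟨ρ g m, hMinv g m m.2⟩
      one_smul := by intro m; apply Subtype.ext; show ρ 1 (m : V) = m; simp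
      mul_smul := by intro g h m; apply Subtype.ext; show ρ (g * h) (m : V) = ρ g (ρ h m); simp }
  have hsm : ∀ (g : P) (m : M), ((g • m : M) : V) = ρ g m := fun g m => rfl
  have hdvd : p ∣ Nat.card M := by
    have h1 : addOrderOf (⟨w0, hw0M⟩ : M) = p := by
      apply addOrderOf_eq_prime
      · apply Subtype.ext
        rw [AddSubgroup.coe_nsmul]
        exact hpV w0
      · intro h
        exact hw0 (congrArg Subtype.val h)
    rw [← h1]
    exact addOrderOf_dvd_natCard _
  have hfix0 : (0 : M) ∈ MulAction.fixedPoints P M := by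
    intro g
    apply Subtype.ext
    rw [hsm]
    simp
  obtain ⟨b, hb, hb0⟩ := hP.exists_fixed_point_of_prime_dvd_card_of_fixed_point M hdvd hfix0
  refine ⟨b, hMW b.2, ?_, ?_⟩
  · intro h
    apply hb0
    apply Subtype.ext
    exact h.symm
  · intro g
    have := hb g
    rw [← hsm, this]

end Cfsg.Agent.Helper4
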