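import Mathlib
import Cfsg.Prelude
import Cfsg.Agent.Lib.Helper4.PGroupFixed

set_option autoImplicit false

namespace Cfsg.Agent.Helper4.PermModule

open Cfsg

variable {G : Type*} [Group G] {K : Type*} [Field K] {Ω : Type*} [MulAction G Ω]

theorem permRep_apply (g : G) (v : Ω → K) (x : Ω) :
    Cfsg.permRep K G Ω g v x = v (g⁻¹ • x) := rfl

theorem mem_sumZero [Fintype Ω] (v : Ω → K) :
    v ∈ (Cfsg.permSumZero K G Ω).toSubmodule ↔ ∑ x, v x = 0 := Iff.rfl

theorem sum_permRep [Fintype Ω] (g : G) (v : Ω → K) :
    ∑ x, Cfsg.permRep K G Ω g v x = ∑ x, v x :=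
  Fintype.sum_equiv (MulAction.toPerm g⁻¹) _ _ (fun x => rfl)

theorem permRep_single [DecidableEq Ω] (g : G) (a : Ω) (c : K) :
    Cfsg.permRep K G Ω g (Pi.single a c) = Pi.single (g • a) c := by
  funext x
  rw [permRep_apply, Pi.single_apply, Pi.single_apply]
  by_cases hx : x = g • a
  · rw [if_pos hx, if_pos (by rw [hx, inv_smul_smul])]
  · rw [if_neg hx, if_neg (fun e => hx (by rw [← e, smul_inv_smul]))]

section charp

variable [Finite G] {p f : ℕ} [Fact p.Prime] [CharP K p] [Fintype Ω]
  [MulAction.IsPretransitive G Ω]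

/-- Every non-zero subrepresentation contains the constants. -/
theorem one_mem_of_ne_bot (hcard : Fintype.card Ω = p ^ f)
    (W : Subrepresentation (Cfsg.permRep K G Ω)) (hW : W.toSubmodule ≠ ⊥) :
    (fun _ => (1 : K)) ∈ W.toSubmodule := by
  have hcard' : Nat.card Ω = p ^ f := by rw [Nat.card_eq_fintype_card, hcard]
  obtain ⟨P⟩ : Nonempty (Sylow p G) := inferInstance
  have hPtrans : MulAction.IsPretransitive P Ω := sylow_isPretransitive hcard' P
  have hPp : IsPGroup p P := P.isPGroup'
  set ρ : Representation K P (Ω → K) := (Cfsg.permRep K G Ω).comp (P : Subgroup G).subtype with hρ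
  have hρapp : ∀ (g : P) (v : Ω → K) (x : Ω), ρ g v x = v ((g : G)⁻¹ • x) := fun g v x => rfl
  obtain ⟨w, hwW, hw0, hwfix⟩ := exists_fixed_ne_zero hPp ρ W.toSubmodule.toAddSubgroup
    (fun g w hw => W.apply_mem_toSubmodule (g : G) hw)
    (by
      intro h
      apply hW
      rw [eq_bot_iff]
      intro v hv
      have : v ∈ W.toSubmodule.toAddSubgroup := hv
      rw [h, AddSubgroup.mem_bot] at this
      rw [this]; exact Submodule.zero_mem _)
  have hconst : ∀ x y : Ω, w x = w y := by
    intro x y
    obtain ⟨g, hg⟩ := MulAction.exists_smul_eq P y x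
    have h1 := congrFun (hwfix g) x
    rw [hρapp] at h1
    rw [← h1, ← hg]
    congr 1
    show (g : G)⁻¹ • ((g : G) • y) = y
    rw [inv_smul_smul]
  have hne : Nonempty Ω := by
    by_contra h
    rw [not_nonempty_iff] at h
    apply hw0
    funext x
    exact (h.false x).elim
  obtain ⟨a⟩ := hne
  have hwa : w a ≠ 0 := by
    intro h
    apply hw0
    funext x
    rw [hconst x a, h]; rfl
  have hone : (fun _ : Ω => (1 : K)) = (w a)⁻¹ • w := by
    funext x
    rw [Pi.smul_apply, smul_eq_mul, hconst x a, inv_mul_cancel₀ hwa]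
  rw [hone]
  exact W.toSubmodule.smul_mem _ hwW

/-- Every proper subrepresentation lies in the sum-zero functions. -/
theorem le_sumZero_of_ne_top (hcard : Fintype.card Ω = p ^ f)
    (W : Subrepresentation (Cfsg.permRep K G Ω)) (hW : W.toSubmodule ≠ ⊤) :
    W.toSubmodule ≤ (Cfsg.permSumZero K G Ω).toSubmodule := by
  classical
  obtain ⟨lam, hlam0, hlamW⟩ := Submodule.exists_le_ker_of_lt_top W.toSubmodule
    (lt_top_iff_ne_top.2 hW)
  -- the annihilator as a subrepresentation
  let W0 : Subrepresentation (Cfsg.permRep K G Ω) :=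
    { toSubmodule :=
        { carrier := {c | ∀ u ∈ W.toSubmodule, ∑ x, c x * u x = 0}
          add_mem' := by
            intro c c' hc hc' u hu
            simp only [Pi.add_apply, add_mul, Finset.sum_add_distrib]
            rw [hc u hu, hc' u hu, add_zero]
          zero_mem' := by
            intro u _
            simp
          smul_mem' := by
            intro k c hc u hu
            simp only [Pi.smul_apply, smul_eq_mul, mul_assoc, ← Finset.mul_sum]
            rw [hc u hu, mul_zero] }
      apply_mem_toSubmodule := by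
        intro g c hc u hu
        have h1 := hc _ (W.apply_mem_toSubmodule g⁻¹ hu)
        rw [← h1]
        refine Fintype.sum_equiv (MulAction.toPerm g⁻¹) _ _ ?_
        intro x
        rw [permRep_apply, permRep_apply, inv_inv, MulAction.toPerm_apply, smul_inv_smul] }
  have hW0mem : ∀ c : Ω → K, c ∈ W0.toSubmodule ↔ ∀ u ∈ W.toSubmodule, ∑ x, c x * u x = 0 :=
    fun c => Iff.rfl
  have hlam_eq : ∀ u : Ω → K, lam u = ∑ x, lam (Pi.single x 1) * u x := by
    intro u
    rw [LinearMap.pi_apply_eq_sum_univ lam u]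
    apply Finset.sum_congr rfl
    intro x _
    rw [smul_eq_mul, mul_comm]
    congr 2
    funext j
    rw [Pi.single_apply]
    by_cases hxj : x = j
    · rw [if_pos hxj, if_pos hxj.symm]
    · rw [if_neg hxj, if_neg (fun e => hxj e.symm)]
  have hW0ne : W0.toSubmodule ≠ ⊥ := by
    intro hbot
    apply hlam0
    have hc : (fun x => lam (Pi.single x 1)) ∈ W0.toSubmodule := by
      rw [hW0mem]
      intro u hu
      rw [← hlam_eq u]
      exact hlamW hu
    rw [hbot, Submodule.mem_bot] at hc
    apply LinearMap.ext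
    intro u
    rw [hlam_eq u]
    have : ∀ x, lam (Pi.single x 1) = 0 := fun x => congrFun hc x
    simp [this]
  have hone := one_mem_of_ne_bot hcard W0 hW0ne
  rw [hW0mem] at hone
  intro u hu
  rw [mem_sumZero]
  have := hone u hu
  simpa using this

/-- An invariant linear functional on the permutation module is a multiple of the sum. -/
theorem invariant_functional (lam : (Ω → K) →ₗ[K] K)
    (hlam : ∀ (g : G) (v : Ω → K), lam (Cfsg.permRep K G Ω g v) = lam v) :
    ∃ c : K, ∀ v : Ω → K, lam v = c * ∑ x, v x := by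
  classical
  rcases isEmpty_or_nonempty Ω with hE | ⟨⟨x0⟩⟩
  · refine ⟨0, fun v => ?_⟩
    have : v = 0 := by funext x; exact (hE.false x).elim
    rw [this, map_zero, zero_mul]
  · refine ⟨lam (Pi.single x0 1), fun v => ?_⟩
    have h1 : ∀ x, lam (Pi.single x 1) = lam (Pi.single x0 1) := by
      intro x
      obtain ⟨g, hg⟩ := MulAction.exists_smul_eq G x0 x
      rw [← hg, ← permRep_single, hlam]
    rw [LinearMap.pi_apply_eq_sum_univ lam v, Finset.mul_sum]
    apply Finset.sum_congr rfl
    intro x _
    rw [smul_eq_mul, mul_comm, ← h1 x]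
    congr 2
    funext j
    rw [Pi.single_apply]
    by_cases hxj : x = j
    · rw [if_pos hxj, if_pos hxj.symm]
    · rw [if_neg hxj, if_neg (fun e => hxj e.symm)]

end charp

end Cfsg.Agent.Helper4.PermModule
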