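import Mathlib
import Cfsg.Prelude

set_option autoImplicit false

namespace Cfsg.Agent.Helper4

open scoped commutatorElement

variable {R : Type*} [CommRing R]

/-- The translations inside the affine group. -/
def translSubgroup (R : Type*) [CommRing R] : Subgroup (Cfsg.affineGroup R) where
  carrier := {σ | ∃ b : R, ∀ x, (σ : Equiv.Perm R) x = x + b}
  one_mem' := ⟨0, fun x => by simp⟩
  mul_mem' := by
    rintro σ τ ⟨b, hσ⟩ ⟨c, hτ⟩
    refine ⟨c + b, fun x => ?_⟩
    show (σ : Equiv.Perm R) ((τ : Equiv.Perm R) x) = _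
    rw [hτ, hσ, add_assoc]
  inv_mem' := by
    rintro σ ⟨b, hσ⟩
    refine ⟨-b, fun x => ?_⟩
    apply (σ : Equiv.Perm R).injective
    show (σ : Equiv.Perm R) ((σ : Equiv.Perm R)⁻¹ x) = _
    rw [Equiv.Perm.inv_def, Equiv.apply_symm_apply, hσ, neg_add_cancel_right]

theorem commutator_mem_transl (σ τ : Cfsg.affineGroup R) : ⁅σ, τ⁆ ∈ translSubgroup R := by
  obtain ⟨a₁, b₁, h₁⟩ := σ.2
  obtain ⟨a₂, b₂, h₂⟩ := τ.2
  obtain ⟨a, b, hc⟩ := (⁅σ, τ⁆).2
  have hrel : ⁅σ, τ⁆ * (τ * σ) = σ * τ := by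
    rw [commutatorElement_def]; group
  have hx : ∀ x : R, (a : R) * ((a₂ : R) * ((a₁ : R) * x + b₁) + b₂) + b
      = (a₁ : R) * ((a₂ : R) * x + b₂) + b₁ := by
    intro x
    have := congrArg (fun ρ : Cfsg.affineGroup R => (ρ : Equiv.Perm R) x) hrel
    simp only [Subgroup.coe_mul, Equiv.Perm.mul_apply] at this
    rw [h₁, h₂, hc, h₂, h₁] at this
    exact this
  have h0 := hx 0
  have h1 := hx 1
  have ha : (a : R) * ((a₂ : R) * (a₁ : R)) = (a₂ : R) * (a₁ : R) := by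
    have : (a : R) * ((a₂ : R) * (a₁ : R)) - (a₂ : R) * (a₁ : R) = 0 := by
      linear_combination h1 - h0
    exact sub_eq_zero.1 this
  have ha1 : (a : R) = 1 := by
    have hu : IsUnit ((a₂ : R) * (a₁ : R)) := (a₂ * a₁).isUnit
    have : (a : R) * ((a₂ : R) * (a₁ : R)) = 1 * ((a₂ : R) * (a₁ : R)) := by rw [one_mul]; exact ha
    exact hu.mul_right_cancel this
  refine ⟨b, fun x => ?_⟩
  rw [hc, ha1, one_mul]

theorem transl_comm {σ τ : Cfsg.affineGroup R} (hσ : σ ∈ translSubgroup R)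
    (hτ : τ ∈ translSubgroup R) : σ * τ = τ * σ := by
  obtain ⟨b, hσ⟩ := hσ
  obtain ⟨c, hτ⟩ := hτ
  apply Subtype.ext
  apply Equiv.ext
  intro x
  show (σ : Equiv.Perm R) ((τ : Equiv.Perm R) x) = (τ : Equiv.Perm R) ((σ : Equiv.Perm R) x)
  rw [hτ, hσ, hσ, hτ, add_assoc, add_assoc, add_comm b c]

/-- The one-dimensional affine group of a commutative ring is solvable. -/
theorem affineGroup_isSolvable (R : Type*) [CommRing R] : Group.IsSolvable (Cfsg.affineGroup R) := by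
  rw [Group.isSolvable_def]
  refine ⟨2, ?_⟩
  have h1 : derivedSeries (Cfsg.affineGroup R) 1 ≤ translSubgroup R := by
    rw [derivedSeries_succ, derivedSeries_zero, Subgroup.commutator_le]
    intro σ _ τ _
    exact commutator_mem_transl σ τ
  rw [derivedSeries_succ, eq_bot_iff, Subgroup.commutator_le]
  intro σ hσ τ hτ
  rw [Subgroup.mem_bot, commutatorElement_eq_one_iff_mul_comm]
  exact transl_comm (h1 hσ) (h1 hτ)

end Cfsg.Agent.Helper4
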