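import Mathlib

set_option autoImplicit false

namespace Cfsg.Agent.Helper4

open Module LinearMap

variable {K V : Type*} [Field K] [AddCommGroup V] [Module K V] [FiniteDimensional K V]

/-- The kernels of the powers of an endomorphism grow by at most the dimension of its kernel. -/
theorem finrank_ker_pow_succ_le (φ : Module.End K V) (r : ℕ) :
    finrank K (ker (φ ^ (r + 1))) ≤ finrank K (ker (φ ^ r)) + finrank K (ker φ) := by
  have hmem : ∀ x : ker (φ ^ (r + 1)), ((φ ^ r).domRestrict (ker (φ ^ (r + 1)))) x ∈ ker φ := by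
    intro x
    rw [LinearMap.mem_ker, LinearMap.domRestrict_apply]
    have hx : (φ ^ (r + 1)) (x : V) = 0 := x.2
    have h2 : ∀ y : V, (φ ^ (r + 1)) y = φ ((φ ^ r) y) := by
      intro y
      rw [pow_succ']; rfl
    rw [← h2]; exact hx
  set ψ : ker (φ ^ (r + 1)) →ₗ[K] ker φ :=
    LinearMap.codRestrict (ker φ) ((φ ^ r).domRestrict (ker (φ ^ (r + 1)))) hmem with hψ
  have h1 := LinearMap.finrank_range_add_finrank_ker ψ
  have h2 : finrank K (range ψ) ≤ finrank K (ker φ) := Submodule.finrank_le _
  have hmem2 : ∀ x : ker ψ, ((Submodule.subtype _).comp (Submodule.subtype (ker ψ))) x ∈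
      ker (φ ^ r) := by
    intro x
    have hx : ψ (x : ker (φ ^ (r + 1))) = 0 := x.2
    have hx' := congrArg Subtype.val hx
    exact hx'
  set ι : ker ψ →ₗ[K] ker (φ ^ r) :=
    LinearMap.codRestrict (ker (φ ^ r))
      ((Submodule.subtype _).comp (Submodule.subtype (ker ψ))) hmem2 with hι
  have hιinj : Function.Injective ι := by
    intro x y hxy
    have := congrArg Subtype.val hxy
    apply Subtype.ext
    apply Subtype.ext
    exact this
  have h3 : finrank K (ker ψ) ≤ finrank K (ker (φ ^ r)) :=
    LinearMap.finrank_le_finrank_of_injective hιinj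
  omega

theorem finrank_ker_pow_le (φ : Module.End K V) (r : ℕ) :
    finrank K (ker (φ ^ r)) ≤ r * finrank K (ker φ) := by
  induction r with
  | zero =>
    rw [pow_zero, zero_mul]
    have : ker (1 : Module.End K V) = ⊥ := by
      rw [LinearMap.ker_eq_bot]
      exact fun x y h => h
    rw [this, finrank_bot]
  | succ r ih =>
    have := finrank_ker_pow_succ_le φ r
    rw [Nat.succ_mul]
    omega

/-- A nilpotent endomorphism of an invariant subspace `W` is killed by its `finrank W`-th power. -/
theorem le_ker_pow_finrank_of_nilpotent (φ : Module.End K V) {m : ℕ} (hφ : φ ^ m = 0)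
    (W : Submodule K V) (hW : ∀ x ∈ W, φ x ∈ W) : W ≤ ker (φ ^ finrank K W) := by
  set φW : Module.End K W := φ.restrict hW with hφW
  have h1 : φW ^ m = 0 := by
    rw [hφW, Module.End.pow_restrict m hW]
    ext x
    simp [hφ]
  have h2 := Module.End.ker_pow_le_ker_pow_finrank φW m
  rw [h1] at h2
  have h3 : ker (φW ^ finrank K W) = ⊤ := by
    rw [eq_top_iff]
    refine le_trans ?_ h2
    intro x _
    simp
  intro x hx
  have h4 : (⟨x, hx⟩ : W) ∈ ker (φW ^ finrank K W) := by rw [h3]; trivial
  rw [LinearMap.mem_ker, hφW, Module.End.pow_restrict _ hW] at h4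
  have h5 := congrArg Subtype.val h4
  simpa using h5

end Cfsg.Agent.Helper4
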