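import Mathlib
import Cfsg.Prelude
import Cfsg.Agent.S0673

set_option autoImplicit false

namespace Cfsg.Agent.Helper4.Burnside

open Polynomial Module

variable {p : ℕ} [Fact p.Prime] {K : Type*} [Field K] [CharP K p]

theorem cast_inj' : Function.Injective (fun j : ZMod p => (ZMod.cast j : K)) :=
  Cfsg.Agent.S0673.cast_inj

/-- Two polynomials of degree less than `p` that agree on the prime field are equal. -/
theorem poly_eq_of_eval_eq {P Q : K[X]} (hP : P.natDegree < p) (hQ : Q.natDegree < p)
    (h : ∀ j : ZMod p, P.eval (ZMod.cast j : K) = Q.eval (ZMod.cast j : K)) : P = Q := by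
  have hsub : P - Q = 0 := by
    apply eq_zero_of_natDegree_lt_card_of_eval_eq_zero (P - Q) (cast_inj' (p := p) (K := K))
    · intro j
      rw [eval_sub, h j, sub_self]
    · rw [ZMod.card]
      exact lt_of_le_of_lt (natDegree_sub_le P Q) (max_lt hP hQ)
  exact sub_eq_zero.1 hsub

/-- The core of Burnside's argument: a permutation of the prime field preserving (by substitution)
a translation-invariant space of functions of small dimension at least 2 is affine. -/
theorem affine_of_invariant (W : Submodule K (ZMod p → K))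
    (hshift : ∀ f ∈ W, (fun j => f (j - 1)) ∈ W) (π : Equiv.Perm (ZMod p))
    (hπ : ∀ f ∈ W, (fun j => f (π j)) ∈ W) (h2 : 2 ≤ finrank K W)
    (hsmall : 2 * (finrank K W - 1) < p) : ∃ a b : ZMod p, ∀ j, π j = a * j + b := by
  have hp : p.Prime := Fact.out
  obtain ⟨r, hrp, hr, hmem⟩ := Cfsg.Agent.S0673.result W hshift
  rw [hr] at h2 hsmall
  -- powers of the coordinate function
  have hpow : ∀ k : ℕ, k < r → (fun j : ZMod p => (ZMod.cast j : K) ^ k) ∈ W := by
    intro k hk
    rw [hmem]
    refine ⟨X ^ k, ?_, fun j => by rw [eval_pow, eval_X]⟩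
    rw [degree_X_pow]
    exact_mod_cast hk
  have hπpow : ∀ k : ℕ, k < r → ∃ Q : K[X], Q.degree < r ∧
      ∀ j : ZMod p, (ZMod.cast (π j) : K) ^ k = Q.eval (ZMod.cast j : K) := by
    intro k hk
    have := hπ _ (hpow k hk)
    rw [hmem] at this
    exact this
  obtain ⟨H, hHdeg, hH⟩ := hπpow 1 (by omega)
  simp only [pow_one] at hH
  have hH0 : H ≠ 0 := by
    rintro rfl
    have h0 := hH 0
    have h1 := hH 1
    rw [eval_zero] at h0 h1
    have : π 0 = π 1 := cast_inj' (p := p) (K := K) (by show (ZMod.cast (π 0) : K) = ZMod.cast (π 1); rw [h0, h1])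
    have h01 : (0 : ZMod p) = 1 := π.injective this
    have : Fact (1 < p) := ⟨hp.one_lt⟩
    exact zero_ne_one h01
  have hHnat : H.natDegree < r := (natDegree_lt_iff_degree_lt hH0).2 hHdeg
  set e := H.natDegree with he
  -- e ≥ 1
  have he1 : 1 ≤ e := by
    by_contra hlt
    have he0 : H.natDegree = 0 := by omega
    have hC := eq_C_of_natDegree_eq_zero he0
    have h0 := hH 0
    have h1 := hH 1
    rw [hC, eval_C] at h0 h1
    have : π 0 = π 1 := cast_inj' (p := p) (K := K) (by show (ZMod.cast (π 0) : K) = ZMod.cast (π 1); rw [h0, h1])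
    have h01 : (0 : ZMod p) = 1 := π.injective this
    have : Fact (1 < p) := ⟨hp.one_lt⟩
    exact zero_ne_one h01
  -- key: k * e < r whenever k < r and k * e < p
  have hkey : ∀ k : ℕ, k < r → k * e < p → k * e < r := by
    intro k hk hkp
    obtain ⟨Q, hQdeg, hQ⟩ := hπpow k hk
    have hHk : (H ^ k).natDegree = k * e := natDegree_pow H k
    have hQnat : Q.natDegree < p := by
      by_cases hQ0 : Q = 0
      · rw [hQ0, natDegree_zero]; exact hp.pos
      · have := (natDegree_lt_iff_degree_lt hQ0).2 hQdeg
        omega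
    have heq : H ^ k = Q := by
      apply poly_eq_of_eval_eq (p := p) (by rw [hHk]; exact hkp) hQnat
      intro j
      rw [eval_pow, ← hH j, hQ j]
    have hHk0 : H ^ k ≠ 0 := pow_ne_zero k hH0
    rw [← hHk]
    rw [heq] at hHk0 ⊢
    exact (natDegree_lt_iff_degree_lt hHk0).2 hQdeg
  -- e = 1
  have he_eq : e = 1 := by
    by_contra hne
    have he2 : 2 ≤ e := by omega
    set d := r - 1 with hd
    have hed : e ≤ d := by omega
    set k := d / e + 1 with hk
    have hk1 : d < e * k := Nat.lt_mul_div_succ d (by omega)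
    have hk2 : d / e * e ≤ d := Nat.div_mul_le_self d e
    have hk3 : d / e ≤ d / 2 := Nat.div_le_div_left he2 (by norm_num)
    have hk4 : k ≤ d := by omega
    have hk5 : k * e ≤ d + e := by
      rw [hk, Nat.add_mul, one_mul]
      omega
    have := hkey k (by omega) (by omega)
    rw [mul_comm] at this
    omega
  -- H is linear
  have hlin := eq_X_add_C_of_natDegree_le_one (p := H) (by omega)
  set a' := H.coeff 1 with ha'
  set b' := H.coeff 0 with hb'
  have hH' : ∀ j : ZMod p, (ZMod.cast (π j) : K) = a' * ZMod.cast j + b' := by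
    intro j
    rw [hH j]
    conv_lhs => rw [hlin]
    rw [eval_add, eval_mul, eval_C, eval_X, eval_C]
  refine ⟨π 1 - π 0, π 0, fun j => ?_⟩
  apply cast_inj' (p := p) (K := K)
  show (ZMod.cast (π j) : K) = ZMod.cast ((π 1 - π 0) * j + π 0)
  have h0 := hH' 0
  have h1 := hH' 1
  rw [ZMod.cast_zero, mul_zero, zero_add] at h0
  rw [ZMod.cast_one', mul_one] at h1
  rw [ZMod.cast_add', ZMod.cast_mul', ZMod.cast_sub', hH' j, h0, h1]
  ring

section orth

variable {ι : Type*} [Fintype ι] [DecidableEq ι]

/-- The orthogonal complement with respect to the dot product. -/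
noncomputable def orth (W : Submodule K (ι → K)) : Submodule K (ι → K) :=
  (W.dualAnnihilator).comap (dotProductEquiv K ι).toLinearMap

theorem mem_orth (W : Submodule K (ι → K)) (c : ι → K) :
    c ∈ orth W ↔ ∀ u ∈ W, ∑ j, c j * u j = 0 := by
  unfold orth
  rw [Submodule.mem_comap, Submodule.mem_dualAnnihilator]
  rfl

theorem finrank_orth (W : Submodule K (ι → K)) :
    finrank K W + finrank K (orth W) = Fintype.card ι := by
  have h1 := Subspace.finrank_add_finrank_dualAnnihilator_eq W
  have h2 : finrank K (orth W) = finrank K W.dualAnnihilator :=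
    LinearEquiv.finrank_eq ((dotProductEquiv K ι).ofSubmodule' W.dualAnnihilator)
  rw [h2, h1, Module.finrank_fintype_fun_eq_card]

end orth

/-- Burnside's argument with duality: a group of permutations of the prime field containing the
translation and preserving a space of functions of dimension strictly between `1` and `p - 1`
consists of affine maps. -/
theorem affine_of_invariant_group (H : Subgroup (Equiv.Perm (ZMod p)))
    (hs : (Equiv.subRight (1 : ZMod p)) ∈ H) (W : Submodule K (ZMod p → K))
    (hW : ∀ π ∈ H, ∀ f ∈ W, (fun j => f (π j)) ∈ W) (h2 : 2 ≤ finrank K W)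
    (h3 : finrank K W + 2 ≤ p) : ∀ π ∈ H, ∃ a b : ZMod p, ∀ j, π j = a * j + b := by
  intro π hπ
  by_cases hsmall : 2 * (finrank K W - 1) < p
  · exact affine_of_invariant W (fun f hf => hW _ hs f hf) π (hW π hπ) h2 hsmall
  · have hW' : ∀ σ ∈ H, ∀ c ∈ orth W, (fun j => c (σ j)) ∈ orth W := by
      intro σ hσ c hc
      rw [mem_orth] at hc ⊢
      intro u hu
      have h1 := hc _ (hW σ⁻¹ (H.inv_mem hσ) u hu)
      rw [← h1]
      refine Fintype.sum_equiv σ _ _ ?_
      intro j
      show c (σ j) * u j = c (σ j) * u (σ⁻¹ (σ j))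
      rw [Equiv.Perm.inv_def, Equiv.symm_apply_apply]
    have hfr := finrank_orth W
    rw [ZMod.card] at hfr
    exact affine_of_invariant (orth W) (fun f hf => hW' _ hs f hf) π (hW' π hπ) (by omega)
      (by omega)

end Cfsg.Agent.Helper4.Burnside
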