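import Mathlib

set_option autoImplicit false

namespace Cfsg.Agent.Helper4

open Equiv

/-- A permutation of order `p` of a set with `p` elements (`p` prime) is, after identifying the set
with `ZMod p`, the translation by `1`. -/
theorem exists_equiv_zmod {α : Type*} [Fintype α] [DecidableEq α] {p : ℕ} [Fact p.Prime]
    (hα : Fintype.card α = p) (σ : Perm α) (hσ : orderOf σ = p) :
    ∃ e : ZMod p ≃ α, ∀ j, e (j + 1) = σ (e j) := by
  have hp : p.Prime := Fact.out
  have hcyc : σ.IsCycle := Equiv.Perm.isCycle_of_prime_order'' (by rw [hα]; exact hp)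
    (hσ.trans hα.symm)
  have hsupp : σ.support = Finset.univ := by
    apply Finset.eq_univ_of_card
    rw [← hcyc.orderOf, hσ, hα]
  have hmove : ∀ y : α, σ y ≠ y := by
    intro y
    rw [← Equiv.Perm.mem_support, hsupp]
    exact Finset.mem_univ y
  have hne : Nonempty α := by
    rw [← Fintype.card_pos_iff, hα]
    exact hp.pos
  obtain ⟨a0⟩ := hne
  have hmod : ∀ n : ℕ, σ ^ (n % p) = σ ^ n := by
    intro n
    have := pow_mod_orderOf σ n
    rwa [hσ] at this
  let f : ZMod p → α := fun j => (σ ^ j.val) a0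
  have hf1 : ∀ j, f (j + 1) = σ (f j) := by
    intro j
    have : Fact (1 < p) := ⟨hp.one_lt⟩
    show (σ ^ (j + 1).val) a0 = σ ((σ ^ j.val) a0)
    rw [ZMod.val_add, ZMod.val_one]
    rw [hmod, pow_succ', Equiv.Perm.mul_apply]
  have hsurj : Function.Surjective f := by
    intro y
    obtain ⟨i, hi⟩ := hcyc.exists_pow_eq (hmove a0) (hmove y)
    refine ⟨(i : ZMod p), ?_⟩
    show (σ ^ ((i : ZMod p)).val) a0 = y
    rw [ZMod.val_natCast]
    rw [hmod, hi]
  have hbij : Function.Bijective f := by
    rw [Fintype.bijective_iff_surjective_and_card]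
    exact ⟨hsurj, by rw [ZMod.card, hα]⟩
  exact ⟨Equiv.ofBijective f hbij, hf1⟩

end Cfsg.Agent.Helper4
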