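import Mathlib
import Cfsg.Prelude
import Cfsg.Agent.Lib.Helper4.BurnsideCore
import Cfsg.Agent.Lib.Helper4.PrimeCycle
import Cfsg.Agent.Lib.Helper4.AffineSolvable

set_option autoImplicit false

namespace Cfsg.Agent.Helper4.Burnside

open Module

/-- Burnside: a transitive permutation group of prime degree `p` whose permutation module in
characteristic `p` has an invariant subspace of dimension strictly between `1` and `p - 1` is
solvable. -/
theorem solvable_of_invariant {α : Type*} [Fintype α] [DecidableEq α] {p : ℕ} [Fact p.Prime]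
    (hα : Fintype.card α = p) (G : Subgroup (Equiv.Perm α)) [MulAction.IsPretransitive G α]
    {K : Type*} [Field K] [CharP K p] (W : Subrepresentation (Cfsg.permRep K G α))
    (h2 : 2 ≤ finrank K W.toSubmodule) (h3 : finrank K W.toSubmodule + 2 ≤ p) :
    Group.IsSolvable G := by
  have hp : p.Prime := Fact.out
  have hne : Nonempty α := by
    rw [← Fintype.card_pos_iff, hα]
    exact hp.pos
  obtain ⟨x0⟩ := hne
  -- an element of order p
  have hdvd : p ∣ Nat.card G := by
    have h1 := MulAction.index_stabilizer_of_transitive G x0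
    rw [Nat.card_eq_fintype_card, hα] at h1
    rw [← h1]
    exact Subgroup.index_dvd_card _
  obtain ⟨σ, hσ⟩ := exists_prime_orderOf_dvd_card' p hdvd
  have hσ' : orderOf (σ : Equiv.Perm α) = p := by rw [Subgroup.orderOf_coe]; exact hσ
  obtain ⟨e, he⟩ := exists_equiv_zmod hα (σ : Equiv.Perm α) hσ'
  -- transported group and subspace
  set ψ : Equiv.Perm α →* Equiv.Perm (ZMod p) := e.symm.permCongrHom.toMonoidHom with hψ
  have hψapp : ∀ (τ : Equiv.Perm α) (j : ZMod p), ψ τ j = e.symm (τ (e j)) := fun τ j => rfl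
  set H : Subgroup (Equiv.Perm (ZMod p)) := G.map ψ with hH
  set L : (α → K) ≃ₗ[K] (ZMod p → K) := LinearEquiv.funCongrLeft K K e with hL
  have hLapp : ∀ (v : α → K) (j : ZMod p), L v j = v (e j) := fun v j => rfl
  set W' : Submodule K (ZMod p → K) := W.toSubmodule.map L.toLinearMap with hW'
  have hfr : finrank K W' = finrank K W.toSubmodule := LinearEquiv.finrank_map_eq L _
  have hinv : ∀ π ∈ H, ∀ f ∈ W', (fun j => f (π j)) ∈ W' := by
    rintro _ ⟨τ, hτ, rfl⟩ _ ⟨v, hv, rfl⟩
    refine ⟨Cfsg.permRep K G α (⟨τ, hτ⟩ : G)⁻¹ v, W.apply_mem_toSubmodule _ hv, ?_⟩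
    funext j
    show Cfsg.permRep K G α (⟨τ, hτ⟩ : G)⁻¹ v (e j) = v (e (e.symm (τ (e j))))
    rw [Equiv.apply_symm_apply]
    show v (((⟨τ, hτ⟩ : G)⁻¹)⁻¹ • (e j)) = v (τ (e j))
    rw [inv_inv]
    rfl
  have hshift : (Equiv.subRight (1 : ZMod p)) ∈ H := by
    refine ⟨((σ⁻¹ : G) : Equiv.Perm α), (σ⁻¹ : G).2, ?_⟩
    apply Equiv.ext
    intro j
    rw [hψapp]
    show e.symm ((σ : Equiv.Perm α)⁻¹ (e j)) = j - 1
    rw [Equiv.symm_apply_eq]
    have := he (j - 1)
    rw [sub_add_cancel] at this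
    rw [this, Equiv.Perm.inv_def, Equiv.symm_apply_apply]
  have haff := affine_of_invariant_group (K := K) H hshift W' hinv (by omega) (by omega)
  -- embed G into the affine group
  have hmem : ∀ τ : G, ψ (τ : Equiv.Perm α) ∈ Cfsg.affineGroup (ZMod p) := by
    intro τ
    obtain ⟨a, b, hab⟩ := haff _ ⟨τ, τ.2, rfl⟩
    have ha0 : a ≠ 0 := by
      rintro rfl
      have h0 := hab 0
      have h1 := hab 1
      rw [zero_mul, zero_add] at h0 h1
      have : (0 : ZMod p) = 1 := (ψ (τ : Equiv.Perm α)).injective (h0.trans h1.symm)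
      have hf : Fact (1 < p) := ⟨hp.one_lt⟩
      exact zero_ne_one this
    exact ⟨Units.mk0 a ha0, b, hab⟩
  let φ : G →* Cfsg.affineGroup (ZMod p) :=
    (ψ.comp G.subtype).codRestrict (Cfsg.affineGroup (ZMod p)) hmem
  have hφinj : Function.Injective φ := by
    intro τ τ' h
    have h1 : ψ (τ : Equiv.Perm α) = ψ (τ' : Equiv.Perm α) := congrArg Subtype.val h
    apply Subtype.ext
    exact e.symm.permCongrHom.injective h1
  have := affineGroup_isSolvable (ZMod p)
  exact Group.isSolvable_of_isSolvable_injective hφinj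

end Cfsg.Agent.Helper4.Burnside
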