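import Mathlib
import Cfsg.Agent.Lib.Helper26.TIDefs2

/-!
# S1786 piece TI-SYM (core): `Cfg1.exists_cfg8` and `Cfg8.match1`, with GOAL B, `Cfg.exists_cfg1` and the
partition statement of the right-hand configuration taken as hypotheses.
-/

set_option autoImplicit false

namespace Cfsg.Agent.Helper26.TI

variable {G : Type*} [Group G]

/-- two distinct conjugates of a TI-subgroup meet trivially. -/
theorem tisym_inf_eq_bot {V : Subgroup G} (h : Base V) {x y : G} (hne : cj x V ≠ cj y V) :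
    cj x V ⊓ cj y V = ⊥ := by
  rcases h.ti (y⁻¹ * x) with h1 | h1
  · exfalso
    apply hne
    have : cj y (cj (y⁻¹ * x) V) = cj y V := by rw [h1]
    rw [cj_cj] at this
    rw [← this]
    congr 1
    group
  · have : cj y (cj (y⁻¹ * x) V ⊓ V) = cj y ⊥ := by rw [h1]
    rw [cj_inf, cj_cj, cj_bot] at this
    rw [← this]
    congr 2
    group

/-- `v a = a' v'` with `v, v' ∈ V`, `a, a' ∈ A`, `V ∩ A = 1`, `[V, A] = 1` forces `v = v'`, `a = a'`. -/
theorem tisym_unique {V A : Subgroup G} (hdisj : V ⊓ A = ⊥)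
    (hVA : ∀ v ∈ V, ∀ a ∈ A, v * a = a * v) {v v' a a' : G} (hv : v ∈ V) (hv' : v' ∈ V)
    (ha : a ∈ A) (ha' : a' ∈ A) (he : v * a = a' * v') : v = v' ∧ a = a' := by
  have he' : v * a = v' * a' := by rw [he, hVA v' hv' a' ha']
  have h1 : v'⁻¹ * v = a' * a⁻¹ := by
    calc v'⁻¹ * v = v'⁻¹ * (v * a) * a⁻¹ := by group
      _ = v'⁻¹ * (v' * a') * a⁻¹ := by rw [he']
      _ = a' * a⁻¹ := by group
  have hm : v'⁻¹ * v ∈ V ⊓ A := by
    refine ⟨V.mul_mem (V.inv_mem hv') hv, ?_⟩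
    rw [h1]; exact A.mul_mem ha' (A.inv_mem ha)
  rw [hdisj, Subgroup.mem_bot] at hm
  have hvv : v = v' := by
    calc v = v' * (v'⁻¹ * v) := by group
      _ = v' := by rw [hm, mul_one]
  refine ⟨hvv, ?_⟩
  rw [hm] at h1
  calc a = (a' * a⁻¹)⁻¹ * a' := by group
    _ = a' := by rw [← h1]; simp

theorem tisym_disj {V P A PA : Subgroup G} (hL : Cfg V P A PA) : V ⊓ A = ⊥ := by
  obtain ⟨g, hAg, -⟩ := hL.conj
  rcases hL.loc.base.ti g with h1 | h1
  · exact absurd (hAg.trans h1) hL.ne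
  · rw [inf_comm, hAg]; exact h1

/-- TI-SYM core: the shears from both sides match. -/
theorem tisym_match_core {V P A PA U U' : Subgroup G} (h : Cfg8 V P A PA U U')
    (hpart : ∀ a ∈ A, ∀ v ∈ V, v ≠ 1 → ∃ u ∈ U', a * v ∈ cj u V)
    {x : G} (hx : x ∈ P) (hxA : ∃ a ∈ A, x * a ≠ a * x) :
    ∃ y ∈ PA, ∀ v ∈ V, ∀ a ∈ A, (x * a * x⁻¹ = v * a ↔ y * v * y⁻¹ = a * v) := by
  have hL := h.left
  have hR := h.right
  have hVA : ∀ v ∈ V, ∀ a ∈ A, v * a = a * v :=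
    fun v hv a ha => (hL.loc.cent a (hL.le ha) v hv).symm
  have hdisj : V ⊓ A = ⊥ := tisym_disj hL.toCfg
  obtain ⟨a0, ha0, hne⟩ := hxA
  have hv0 : x * a0 * x⁻¹ * a0⁻¹ ∈ V := hL.loc.comm x hx a0 (hL.le ha0)
  set v0 := x * a0 * x⁻¹ * a0⁻¹ with hv0def
  have hv01 : v0 ≠ 1 := by
    intro h1
    apply hne
    calc x * a0 = (x * a0 * x⁻¹ * a0⁻¹) * a0 * x := by group
      _ = a0 * x := by rw [← hv0def, h1, one_mul]
  obtain ⟨y, hyU', hmem⟩ := hpart a0 ha0 v0 hv0 hv01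
  have hy : y ∈ PA := hR.U_le hyU'
  obtain ⟨g, hAg, -⟩ := hL.conj
  -- the element `w = a0 v0 = x a0 x⁻¹`
  have hw : a0 * v0 = x * a0 * x⁻¹ := by
    rw [← hVA v0 hv0 a0 ha0, hv0def]; group
  have hw1 : a0 * v0 ≠ 1 := by
    intro h1
    rw [hw] at h1
    have : a0 = 1 := by
      calc a0 = x⁻¹ * (x * a0 * x⁻¹) * x := by group
        _ = 1 := by rw [h1]; group
    apply hne; rw [this]; simp
  have hwx : a0 * v0 ∈ cj x A := by rw [hw]; exact conj_mem_cj ha0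
  -- the two components coincide
  have hcomp : cj x A = cj y V := by
    by_contra hne2
    have hne3 : cj (x * g) V ≠ cj y V := by
      rw [← cj_cj, ← hAg]; exact hne2
    have := tisym_inf_eq_bot hL.loc.base hne3
    rw [← cj_cj, ← hAg] at this
    have hm : a0 * v0 ∈ cj x A ⊓ cj y V := ⟨hwx, hmem⟩
    rw [this, Subgroup.mem_bot] at hm
    exact hw1 hm
  refine ⟨y, hy, fun v hv a ha => ?_⟩
  constructor
  · intro hxa
    have hm : v * a ∈ cj y V := by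
      rw [← hcomp, ← hxa]; exact conj_mem_cj ha
    obtain ⟨v', hv', hv'e⟩ := mem_cj.mp hm
    have ha' : y * v' * y⁻¹ * v'⁻¹ ∈ A := hR.loc.comm y hy v' (hR.le hv')
    have he : v * a = (y * v' * y⁻¹ * v'⁻¹) * v' := by
      rw [← hv'e]; group
    obtain ⟨hvv, haa⟩ := tisym_unique hdisj hVA hv hv' ha ha' he
    rw [hvv, haa]; group
  · intro hyv
    have hm : a * v ∈ cj x A := by
      rw [hcomp, ← hyv]; exact conj_mem_cj hv
    obtain ⟨a', ha', ha'e⟩ := mem_cj.mp hm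
    have hv' : x * a' * x⁻¹ * a'⁻¹ ∈ V := hL.loc.comm x hx a' (hL.le ha')
    have he : v * a = a' * (a'⁻¹ * (x * a' * x⁻¹ * a'⁻¹) * a') := by
      rw [hVA v hv a ha, ← ha'e]; group
    have hconj : a'⁻¹ * (x * a' * x⁻¹ * a'⁻¹) * a' = x * a' * x⁻¹ * a'⁻¹ := by
      have := hVA _ hv' a' ha'
      calc a'⁻¹ * (x * a' * x⁻¹ * a'⁻¹) * a' = a'⁻¹ * ((x * a' * x⁻¹ * a'⁻¹) * a') := by group
        _ = a'⁻¹ * (a' * (x * a' * x⁻¹ * a'⁻¹)) := by rw [this]
        _ = x * a' * x⁻¹ * a'⁻¹ := by group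
    rw [hconj] at he
    obtain ⟨hvv, haa⟩ := tisym_unique hdisj hVA hv hv' ha ha' he
    rw [hvv, haa]; group

/-- TI-SYM core: the two-sided configuration from GOAL B and `Cfg.exists_cfg1`. -/
theorem tisym_cfg8_core {V P A PA U : Subgroup G} (h : Cfg1 V P A PA U) (hB : V ≤ PA)
    (hex : Cfg A PA V P → ∃ U' : Subgroup G, Cfg1 A PA V P U') :
    ∃ U' : Subgroup G, Cfg8 V P A PA U U' := by
  obtain ⟨g, hAg, hPAg⟩ := h.conj
  have hC : Cfg A PA V P :=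
    { loc := h.locA
      locA := h.loc
      conj := ⟨g⁻¹, by rw [hAg, cj_inv_cj], by rw [hPAg, cj_inv_cj]⟩
      ne := fun e => h.ne e.symm
      le := hB }
  obtain ⟨U', hU'⟩ := hex hC
  exact ⟨U', ⟨h, hU'⟩⟩

end Cfsg.Agent.Helper26.TI
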