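import Mathlib
import Cfsg.Agent.Lib.Helper26.TIDefs2
import Cfsg.Agent.Lib.Helper27.TIPHI2
import Cfsg.Agent.Lib.Helper4.TISYMCore

/-!
# S1786 piece TI-SYM, part 1: `Cfg8.match1` (wrapper of `tisym_match_core` with `Cfg1.partition`).
-/

set_option autoImplicit false

namespace Cfsg.Agent.Helper26.TI

variable {G : Type*} [Group G]

section Sym
variable {V P A PA U U' : Subgroup G}

/-- TI-SYM: the shears from both sides match (`psi_y = phi_x⁻¹`). -/
theorem Cfg8.match1 [Finite G] (h : Cfg8 V P A PA U U') {x : G} (hx : x ∈ P)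
    (hxA : ∃ a ∈ A, x * a ≠ a * x) :
    ∃ y ∈ PA, ∀ v ∈ V, ∀ a ∈ A, (x * a * x⁻¹ = v * a ↔ y * v * y⁻¹ = a * v) :=
  tisym_match_core h (fun _ ha _ hv hv1 => h.right.partition ha hv hv1) hx hxA

end Sym

end Cfsg.Agent.Helper26.TI
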