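import Mathlib
import Cfsg.Agent.Lib.Helper10.TMDefs

/-!
# S2930 PIECE AUT6 (helper4): an automorphism of `A_6` of 3-power order maps 3-cycles to 3-cycles.
-/

set_option autoImplicit false

namespace Cfsg.Agent.Helper10.TM

open Equiv Equiv.Perm Cfsg.Agent.Helper11.AutAlt
open scoped Pointwise

theorem aut6_cycleType_of_order {σ : Perm (Fin 6)} (h : orderOf σ = 3) :
    σ.cycleType = {3} ∨ σ.cycleType = {3, 3} := by
  have hp : (orderOf σ).Prime := by rw [h]; norm_num
  obtain ⟨m, hm⟩ := cycleType_prime_order hp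
  rw [h] at hm
  have hs := sum_cycleType_le σ
  rw [hm, Multiset.sum_replicate, Fintype.card_fin] at hs
  have : m = 0 ∨ m = 1 := by
    simp only [smul_eq_mul] at hs
    omega
  rcases this with rfl | rfl
  · left; rw [hm]; rfl
  · right; rw [hm]; rfl

theorem aut6_order_of_cycleType {σ : Perm (Fin 6)} (h : σ.cycleType = {3} ∨ σ.cycleType = {3, 3}) :
    orderOf σ = 3 := by
  rw [← lcm_cycleType]
  rcases h with h | h <;> rw [h] <;> rfl

theorem aut6_card3 : (Finset.univ.filter (fun g : Perm (Fin 6) => g.cycleType = {3})).card = 40 := by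
  rw [card_of_cycleType]
  simp
  decide

theorem aut6_card33 : (Finset.univ.filter (fun g : Perm (Fin 6) => g.cycleType = {3, 3})).card = 40 := by
  rw [card_of_cycleType]
  simp
  decide

theorem aut6_ne : ({3} : Multiset ℕ) ≠ {3, 3} := by decide

/-- the elements of `A_6` of a given cycle type, all of whose members are even -/
theorem aut6_card_alt (m : Multiset ℕ)
    (hm : ∀ g : Perm (Fin 6), g.cycleType = m → g ∈ alternatingGroup (Fin 6)) :
    (Finset.univ.filter (fun y : Alt 6 => (y : Perm (Fin 6)).cycleType = m)).card =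
      (Finset.univ.filter (fun g : Perm (Fin 6) => g.cycleType = m)).card := by
  apply Finset.card_bij (fun (y : Alt 6) _ => ((y : Alt 6) : Perm (Fin 6)))
  · intro y hy
    simpa using hy
  · intro a _ b _ h
    exact Subtype.ext h
  · intro g hg
    have hg' : g.cycleType = m := by simpa using hg
    exact ⟨⟨g, hm g hg'⟩, by simpa using hg', rfl⟩

theorem aut6_even3 (g : Perm (Fin 6)) (h : g.cycleType = {3}) : g ∈ alternatingGroup (Fin 6) :=
  IsThreeCycle.mem_alternatingGroup h

theorem aut6_even33 (g : Perm (Fin 6)) (h : g.cycleType = {3, 3}) : g ∈ alternatingGroup (Fin 6) := by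
  rw [mem_alternatingGroup, sign_of_cycleType, h]
  rfl

/-- the order of an element of `A_6` and of its image under an automorphism -/
theorem aut6_order (φ : MulAut (Alt 6)) (y : Alt 6) :
    orderOf ((φ y : Alt 6) : Perm (Fin 6)) = orderOf (y : Perm (Fin 6)) := by
  rw [Subgroup.orderOf_coe, Subgroup.orderOf_coe]
  exact MulEquiv.orderOf_eq φ y

/-- AUT6 -/
theorem aut6_map3 (φ : MulAut (Alt 6)) (k : ℕ) (hφ : φ ^ (3 ^ k) = 1) (x : Alt 6)
    (hx : (x : Perm (Fin 6)).IsThreeCycle) : ((φ x : Alt 6) : Perm (Fin 6)).IsThreeCycle := by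
  classical
  by_contra hcon
  -- notation
  set T : Finset (Alt 6) := Finset.univ.filter (fun y : Alt 6 => (y : Perm (Fin 6)).cycleType = {3})
    with hT
  set T' : Finset (Alt 6) :=
    Finset.univ.filter (fun y : Alt 6 => (y : Perm (Fin 6)).cycleType = {3, 3}) with hT'
  have hcT : T.card = 40 := by rw [hT, aut6_card_alt _ aut6_even3, aut6_card3]
  have hcT' : T'.card = 40 := by rw [hT', aut6_card_alt _ aut6_even33, aut6_card33]
  have memT : ∀ y : Alt 6, y ∈ T ↔ (y : Perm (Fin 6)).cycleType = {3} := by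
    intro y; simp [hT]
  have memT' : ∀ y : Alt 6, y ∈ T' ↔ (y : Perm (Fin 6)).cycleType = {3, 3} := by
    intro y; simp [hT']
  -- `φ` maps elements of order 3 to elements of order 3
  have hord : ∀ y : Alt 6, y ∈ T ∨ y ∈ T' → φ y ∈ T ∨ φ y ∈ T' := by
    intro y hy
    rw [memT, memT'] at hy ⊢
    apply aut6_cycleType_of_order
    rw [aut6_order]
    exact aut6_order_of_cycleType hy
  have hxT : x ∈ T := (memT x).2 hx
  have hφx : φ x ∈ T' := by
    rcases hord x (Or.inl hxT) with h | h
    · exact absurd ((memT _).1 h) hcon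
    · exact h
  -- all 3-cycles go to `T'`
  have hTT' : ∀ y ∈ T, φ y ∈ T' := by
    intro y hy
    have hconj : IsConj x y :=
      alternatingGroup.isThreeCycle_isConj (by simp) hx ((memT y).1 hy)
    obtain ⟨c, hc⟩ := isConj_iff.1 hconj
    rw [memT']
    have e : φ y = φ c * φ x * (φ c)⁻¹ := by rw [← hc]; simp
    rw [e]
    have : (((φ c * φ x * (φ c)⁻¹ : Alt 6)) : Perm (Fin 6)) =
        ((φ c : Alt 6) : Perm (Fin 6)) * ((φ x : Alt 6) : Perm (Fin 6)) *
          ((φ c : Alt 6) : Perm (Fin 6))⁻¹ := by simp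
    rw [this, cycleType_conj]
    exact (memT' _).1 hφx
  -- hence `φ(T) = T'`
  have himg : T.image φ = T' := by
    apply Finset.eq_of_subset_of_card_le
    · intro w hw
      obtain ⟨y, hy, rfl⟩ := Finset.mem_image.1 hw
      exact hTT' y hy
    · rw [Finset.card_image_of_injective _ φ.injective, hcT, hcT']
  -- and `φ(T') ⊆ T`
  have hT'T : ∀ y ∈ T', φ y ∈ T := by
    intro y hy
    rcases hord y (Or.inr hy) with h | h
    · exact h
    · exfalso
      rw [← himg] at h
      obtain ⟨w, hw, hwy⟩ := Finset.mem_image.1 h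
      have : w = y := φ.injective hwy
      rw [this] at hw
      have h1 := (memT y).1 hw
      have h2 := (memT' y).1 hy
      exact aut6_ne (h1.symm.trans h2)
  -- even powers of `φ` preserve `T`
  have hpow : ∀ j : ℕ, ∀ y ∈ T, (φ ^ (2 * j)) y ∈ T := by
    intro j
    induction j with
    | zero => intro y hy; simpa using hy
    | succ j ih =>
      intro y hy
      have e : φ ^ (2 * (j + 1)) = φ ^ (2 * j) * (φ * φ) := by
        rw [show 2 * (j + 1) = 2 * j + 2 by ring, pow_add, pow_two]
      rw [e, MulAut.mul_apply, MulAut.mul_apply]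
      exact ih _ (hT'T _ (hTT' y hy))
  -- `3 ^ k + 1` is even
  obtain ⟨j, hj⟩ : ∃ j, 3 ^ k + 1 = 2 * j := by
    have : Odd (3 ^ k) := Odd.pow (by decide)
    obtain ⟨m, hm⟩ := this
    exact ⟨m + 1, by omega⟩
  have hφφ : φ ^ (2 * j) = φ := by
    rw [← hj, pow_succ, hφ, one_mul]
  have := hpow j x hxT
  rw [hφφ] at this
  exact hcon ((memT _).1 this)

end Cfsg.Agent.Helper10.TM
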