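import Mathlib
import Cfsg.Agent.Lib.Helper10.TMDefs
import Cfsg.Agent.Lib.Helper10.TMAutGen
import Cfsg.Agent.Lib.Helper4.TMAUT6
import Cfsg.Agent.S2119

/-!
# S2930 PIECE AUTINNER (helper4): an automorphism of `A_n` (`n ≥ 5`) of 3-power order is inner.
-/

set_option autoImplicit false

namespace Cfsg.Agent.Helper10.TM

open Equiv Equiv.Perm Cfsg.Agent.Helper11.AutAlt
open scoped Pointwise

variable {n : ℕ}

/-- AUTINNER -/
theorem aut_inner (hn : 5 ≤ n) (φ : MulAut (Alt n)) (k : ℕ) (hφ : φ ^ (3 ^ k) = 1) :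
    ∃ a : Alt n, ∀ g : Alt n, φ g = a * g * a⁻¹ := by
  classical
  -- `φ` is conjugation by a permutation `σ`
  obtain ⟨σ, hσ⟩ : ∃ σ : Perm (Fin n), MulAut.conjNormal σ = φ := by
    by_cases h6 : n = 6
    · subst h6
      exact exists_conj_of_map3 (by norm_num) φ (fun x hx => aut6_map3 φ k hφ x hx)
    · exact Cfsg.Agent.S2119.exists_conj (by omega) h6 φ
  -- `σ ^ (3 ^ k) = 1`
  have hpow : σ ^ (3 ^ k) = 1 := by
    apply Cfsg.Agent.S2119.eq_one_of_conj_eq (by omega)
    intro g hg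
    have h1 : (MulAut.conjNormal (σ ^ (3 ^ k)) : MulAut (Alt n)) = 1 := by
      rw [map_pow, hσ, hφ]
    have h2 : ((MulAut.conjNormal (σ ^ (3 ^ k)) : MulAut (Alt n)) ⟨g, hg⟩ : Alt n) = ⟨g, hg⟩ := by
      rw [h1]; rfl
    have h3 := congrArg Subtype.val h2
    rw [MulAut.conjNormal_apply] at h3
    exact h3
  -- so `σ` is even
  have hsign : Perm.sign σ = 1 := by
    have h1 : Perm.sign σ ^ (3 ^ k) = 1 := by rw [← map_pow, hpow, map_one]
    rcases Int.units_eq_one_or (Perm.sign σ) with h | h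
    · exact h
    · exfalso
      rw [h] at h1
      have hodd : Odd (3 ^ k) := Odd.pow (by decide)
      rw [Odd.neg_one_pow hodd] at h1
      exact absurd h1 (by decide)
  refine ⟨⟨σ, mem_alternatingGroup.2 hsign⟩, ?_⟩
  intro g
  rw [← hσ]
  apply Subtype.ext
  simp [MulAut.conjNormal_apply]

end Cfsg.Agent.Helper10.TM
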