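import Mathlib
import Cfsg.Prelude.Def_OddOrder
import Cfsg.Prelude.Def_OddOrderLocal
import Cfsg.Agent.Lib.Helper14.BGTransA
import Cfsg.Agent.Lib.Lead.BGThmC

/-!
# Tools for Bender--Glauberman Theorem 14.4 (helper4)
-/

set_option autoImplicit false

namespace Cfsg.Agent.Helper4.BG144

open Cfsg Subgroup

universe u

variable {G : Type u} [Group G]

theorem mem_map_conj {H : Subgroup G} {g x : G} :
    x ∈ H.map (MulAut.conj g).toMonoidHom ↔ g⁻¹ * x * g ∈ H := by
  constructor
  · rintro ⟨y, hy, rfl⟩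
    have : g⁻¹ * (MulAut.conj g).toMonoidHom y * g = y := by
      simp [MulAut.conj_apply, mul_assoc]
    rw [this]; exact hy
  · intro h
    refine ⟨g⁻¹ * x * g, h, ?_⟩
    simp [MulAut.conj_apply, mul_assoc]

theorem map_conj_mul (H : Subgroup G) (a b : G) :
    H.map (MulAut.conj (a * b)).toMonoidHom =
      (H.map (MulAut.conj b).toMonoidHom).map (MulAut.conj a).toMonoidHom := by
  ext z
  simp only [mem_map_conj]
  have : b⁻¹ * (a⁻¹ * z * a) * b = (a * b)⁻¹ * z * (a * b) := by group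
  rw [this]

theorem map_conj_of_mem {H : Subgroup G} {a : G} (ha : a ∈ H) :
    H.map (MulAut.conj a).toMonoidHom = H := by
  ext z
  rw [mem_map_conj]
  constructor
  · intro h
    have : z = a * (a⁻¹ * z * a) * a⁻¹ := by group
    rw [this]
    exact H.mul_mem (H.mul_mem ha h) (H.inv_mem ha)
  · intro h
    exact H.mul_mem (H.mul_mem (H.inv_mem ha) h) ha

theorem map_conj_eq_iff {H : Subgroup G} {a b : G} :
    H.map (MulAut.conj a).toMonoidHom = H.map (MulAut.conj b).toMonoidHom ↔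
      b⁻¹ * a ∈ normalizer (H : Set G) := by
  rw [mem_normalizer_iff]
  constructor
  · intro h z
    have h1 : ∀ w, a⁻¹ * w * a ∈ H ↔ b⁻¹ * w * b ∈ H := by
      intro w
      rw [← mem_map_conj, ← mem_map_conj, h]
    have h2 := h1 (a * z * a⁻¹)
    have e1 : a⁻¹ * (a * z * a⁻¹) * a = z := by group
    have e2 : b⁻¹ * (a * z * a⁻¹) * b = b⁻¹ * a * z * (b⁻¹ * a)⁻¹ := by group
    rw [e1, e2] at h2
    exact h2
  · intro h
    ext w
    rw [mem_map_conj, mem_map_conj]
    have h2 := h (a⁻¹ * w * a)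
    have e2 : b⁻¹ * a * (a⁻¹ * w * a) * (b⁻¹ * a)⁻¹ = b⁻¹ * w * b := by group
    rw [e2] at h2
    exact h2

theorem centralizer_singleton_le_normalizer_zpowers (y : G) :
    centralizer ({y} : Set G) ≤ normalizer ((zpowers y : Subgroup G) : Set G) := by
  have h1 : centralizer ((zpowers y : Subgroup G) : Set G) = centralizer ({y} : Set G) := by
    rw [zpowers_eq_closure, centralizer_closure]
  rw [← h1]
  exact centralizer_le_normalizer _

theorem centralizer_singleton_le_of_mem_zpowers {x y : G} (hy : y ∈ zpowers x) :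
    centralizer ({x} : Set G) ≤ centralizer ({y} : Set G) := by
  intro c hc
  rw [mem_centralizer_singleton_iff] at hc ⊢
  obtain ⟨k, rfl⟩ := hy
  exact ((Commute.zpow_right (show Commute c x from hc) k)).eq

/-- unique decomposition in a complemented subgroup, applied to a centralizer -/
theorem compl_centralizer {A B N : Subgroup G} (h : IsComplIn A B N)
    (hB : N ≤ normalizer (B : Set G)) {x : G} (hx : x ∈ A) {c : G} (hcN : c ∈ N)
    (hc : c * x = x * c) :
    ∃ a ∈ A, ∃ b ∈ B, c = a * b ∧ a * x = x * a ∧ b * x = x * b := by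
  obtain ⟨hAN, hBN, hAB, hprod⟩ := h
  obtain ⟨a, ha, b, hb, rfl⟩ := hprod c hcN
  have hxN : x ∈ N := hAN hx
  have hxa : x * a * x⁻¹ ∈ A := A.mul_mem (A.mul_mem hx ha) (A.inv_mem hx)
  have hxb : x * b * x⁻¹ ∈ B := ((mem_normalizer_iff.mp (hB hxN)) b).mp hb
  have e : x * (a * b) * x⁻¹ = a * b := by rw [← hc]; group
  have e' : (x * a * x⁻¹) * (x * b * x⁻¹) = a * b := by rw [← e]; group
  have hu : a⁻¹ * (x * a * x⁻¹) = b * (x * b * x⁻¹)⁻¹ := by
    calc a⁻¹ * (x * a * x⁻¹)
        = a⁻¹ * ((x * a * x⁻¹) * (x * b * x⁻¹)) * (x * b * x⁻¹)⁻¹ := by group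
      _ = a⁻¹ * (a * b) * (x * b * x⁻¹)⁻¹ := by rw [e']
      _ = b * (x * b * x⁻¹)⁻¹ := by group
  have hmem : a⁻¹ * (x * a * x⁻¹) ∈ A ⊓ B := by
    refine ⟨A.mul_mem (A.inv_mem ha) hxa, ?_⟩
    rw [hu]
    exact B.mul_mem hb (B.inv_mem hxb)
  rw [hAB, mem_bot] at hmem
  have h1 : x * a * x⁻¹ = a := by
    have := congrArg (fun t => a * t) hmem
    simpa [mul_assoc] using this
  have h2 : x * b * x⁻¹ = b := by
    rw [h1] at e'
    exact mul_left_cancel e'
  refine ⟨a, ha, b, hb, rfl, ?_, ?_⟩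
  · have : a * x = (x * a * x⁻¹) * x := by rw [h1]
    rw [this]; group
  · have : b * x = (x * b * x⁻¹) * x := by rw [h2]
    rw [this]; group

section Finite

variable [Finite G]

omit [Finite G] in
theorem complIn_card_mul {A B N : Subgroup G} (h : IsComplIn A B N) :
    Nat.card A * Nat.card B = Nat.card N := by
  obtain ⟨hAN, hBN, hAB, hprod⟩ := h
  rw [← Nat.card_prod]
  let f : A × B → N := fun ab => ⟨(ab.1 : G) * (ab.2 : G), N.mul_mem (hAN ab.1.2) (hBN ab.2.2)⟩
  refine Nat.card_congr (Equiv.ofBijective f ⟨?_, ?_⟩)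
  · rintro ⟨⟨a, ha⟩, ⟨b, hb⟩⟩ ⟨⟨a', ha'⟩, ⟨b', hb'⟩⟩ hEq
    have hEq' : a * b = a' * b' := congrArg Subtype.val hEq
    have hmem : a'⁻¹ * a ∈ A ⊓ B := by
      refine ⟨A.mul_mem (A.inv_mem ha') ha, ?_⟩
      have : a'⁻¹ * a = b' * b⁻¹ := by
        calc a'⁻¹ * a = a'⁻¹ * (a * b) * b⁻¹ := by group
          _ = a'⁻¹ * (a' * b') * b⁻¹ := by rw [hEq']
          _ = b' * b⁻¹ := by group
      rw [this]
      exact B.mul_mem hb' (B.inv_mem hb)
    rw [hAB, mem_bot] at hmem
    have ha_eq : a = a' := by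
      have := congrArg (fun t => a' * t) hmem
      simpa [mul_assoc] using this
    subst ha_eq
    have hb_eq : b = b' := mul_left_cancel hEq'
    subst hb_eq
    rfl
  · rintro ⟨n, hn⟩
    obtain ⟨a, ha, b, hb, rfl⟩ := hprod n hn
    exact ⟨(⟨a, ha⟩, ⟨b, hb⟩), rfl⟩

omit [Finite G] in
theorem card_mul_relIndex' {H K : Subgroup G} (h : H ≤ K) :
    Nat.card H * H.relIndex K = Nat.card K := by
  have := relIndex_mul_relIndex (⊥ : Subgroup G) H K bot_le h
  rwa [relIndex_bot_left, relIndex_bot_left] at this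

theorem complIn_relIndex_eq {A B N : Subgroup G} (h : IsComplIn A B N) :
    A.relIndex N = Nat.card B := by
  have h1 := complIn_card_mul h
  have h2 := card_mul_relIndex' h.1
  have hpos : 0 < Nat.card A := Nat.card_pos
  exact Nat.eq_of_mul_eq_mul_left hpos (h2.trans h1.symm)

theorem complIn_relIndex_eq' {A B N : Subgroup G} (h : IsComplIn A B N) :
    B.relIndex N = Nat.card A := by
  have h1 := complIn_card_mul h
  have h2 := card_mul_relIndex' h.2.1
  have hpos : 0 < Nat.card B := Nat.card_pos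
  refine Nat.eq_of_mul_eq_mul_left hpos ?_
  rw [h2, ← h1, mul_comm]

/-- a complement of a Hall subgroup has coprime order -/
theorem complIn_coprime_of_hall {π : Set ℕ} {A B N : Subgroup G} (h : IsComplIn A B N)
    (hB : IsPiHallOf π B N) : (Nat.card A).Coprime (Nat.card B) := by
  refine Nat.coprime_of_dvd ?_
  intro k hk hkA hkB
  have hkπ : k ∈ π := hB.2.1 k hk hkB
  have := hB.2.2 k hk hkπ
  rw [complIn_relIndex_eq' h] at this
  exact this hkA

end Finite

end Cfsg.Agent.Helper4.BG144
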