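import Mathlib
import Cfsg.Agent.Lib.Helper4.BG144A
import Cfsg.Agent.Lib.Helper4.BG144H

/-!
# Bender--Glauberman Theorem 14.4: simple-group and Sylow bookkeeping (helper4)
-/

set_option autoImplicit false

namespace Cfsg.Agent.Helper4.BG144

open Cfsg Subgroup

universe u

variable {G : Type u} [Group G]

theorem coatom_ne_bot (hG : IsMinSimpleOddOrder G) {M : Subgroup G} (hM : IsCoatom M) : M ≠ ⊥ := by
  rintro rfl
  apply hG.2.2.1
  refine ⟨⟨fun a b => ?_⟩⟩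
  by_cases ha : a = 1
  · subst ha; simp
  · have h1 : (⊥ : Subgroup G) < zpowers a := by
      rw [bot_lt_iff_ne_bot]
      intro h
      exact ha (zpowers_eq_bot.mp h)
    have h2 : zpowers a = ⊤ := hM.2 _ h1
    have hb : b ∈ zpowers a := by rw [h2]; exact mem_top b
    obtain ⟨k, rfl⟩ := hb
    exact ((Commute.refl a).zpow_right k).eq

theorem normalizer_ne_top' (hG : IsMinSimpleOddOrder G) {A : Subgroup G} (h1 : A ≠ ⊥)
    (h2 : A ≠ ⊤) : normalizer (A : Set G) ≠ ⊤ := by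
  intro h
  have hn : A.Normal := normalizer_eq_top_iff.mp h
  have := hG.2.1
  rcases hn.eq_bot_or_eq_top with h' | h'
  · exact h1 h'
  · exact h2 h'

theorem normalizer_coatom (hG : IsMinSimpleOddOrder G) {M : Subgroup G} (hM : IsCoatom M) :
    normalizer (M : Set G) = M := by
  by_contra hne
  have hlt : M < normalizer (M : Set G) := lt_of_le_of_ne le_normalizer (Ne.symm hne)
  exact normalizer_ne_top' hG (coatom_ne_bot hG hM) hM.1 (hM.2 _ hlt)

theorem exists_coatom_ge {N : Subgroup G} (hN : N ≠ ⊤) [Finite G] :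
    ∃ L : Subgroup G, IsCoatom L ∧ N ≤ L := by
  rcases eq_top_or_exists_le_coatom N with h | ⟨L, hL, hNL⟩
  · exact absurd h hN
  · exact ⟨L, hL, hNL⟩

/-- Sylow's theorem inside a subgroup `N`, stated for subgroups of `G` -/
theorem exists_conj_le_of_sylowLike [Finite G] {p : ℕ} [Fact p.Prime] {N S' Y : Subgroup G}
    (hS'N : S' ≤ N) (hS'p : IsPGroup p S') (hidx : ¬ p ∣ S'.relIndex N) (hYN : Y ≤ N)
    (hYp : IsPGroup p Y) : ∃ n ∈ N, Y.map (MulAut.conj n).toMonoidHom ≤ S' := by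
  have hP : IsPGroup p (S'.subgroupOf N) := hS'p.comap_of_injective N.subtype N.subtype_injective
  let P : Sylow p ↥N := hP.toSylow hidx
  have hPc : (P : Subgroup ↥N) = S'.subgroupOf N := rfl
  have hY' : IsPGroup p (Y.subgroupOf N) := hYp.comap_of_injective N.subtype N.subtype_injective
  obtain ⟨Q, hQ⟩ := hY'.exists_le_sylow
  obtain ⟨n, hn⟩ := MulAction.exists_smul_eq ↥N Q P
  refine ⟨(n : G), n.2, ?_⟩
  rintro z ⟨y, hy, rfl⟩
  have hyQ : (⟨y, hYN hy⟩ : ↥N) ∈ (Q : Subgroup ↥N) := hQ (by rw [mem_subgroupOf]; exact hy)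
  have h2 : n * (⟨y, hYN hy⟩ : ↥N) * n⁻¹ ∈ ((n • Q : Sylow p ↥N) : Subgroup ↥N) := by
    rw [Sylow.smul_def, Sylow.pointwise_smul_def]
    have := Subgroup.smul_mem_pointwise_smul (⟨y, hYN hy⟩ : ↥N) (MulAut.conj n)
      (Q : Subgroup ↥N) hyQ
    simpa [MulAut.smul_def, MulAut.conj_apply] using this
  rw [hn, hPc, mem_subgroupOf] at h2
  simpa [MulAut.conj_apply] using h2

/-- a `p`-subgroup of `M ⊓ N` lies in a Sylow `p`-subgroup of `M ⊓ N` -/
theorem exists_sylow_inf_ge [Finite G] {p : ℕ} [Fact p.Prime] {M N X : Subgroup G} (hX : X ≤ M ⊓ N)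
    (hXp : IsPGroup p X) :
    ∃ S : Sylow p ↥(M ⊓ N), X ≤ (S : Subgroup ↥(M ⊓ N)).map (M ⊓ N).subtype := by
  have hX' : IsPGroup p (X.subgroupOf (M ⊓ N)) :=
    hXp.comap_of_injective (M ⊓ N).subtype (M ⊓ N).subtype_injective
  obtain ⟨S, hS⟩ := hX'.exists_le_sylow
  refine ⟨S, ?_⟩
  intro x hx
  exact ⟨⟨x, hX hx⟩, hS (by rw [mem_subgroupOf]; exact hx), rfl⟩

end Cfsg.Agent.Helper4.BG144
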