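import Mathlib
import Cfsg.Agent.Lib.Helper4.BG144B

/-!
# Bender--Glauberman Theorem 14.4: the case of an element of prime order (helper4)

For `y ∈ M_σ` of prime order `p` with `C_G(y) ≰ M` and `N` a maximal subgroup containing
`N_G(⟨y⟩)` we show `p ∈ τ₂(N)`, `N_σ` nilpotent and `M ∩ N` a complement of `N_σ` in `N`
(this is BG 13.2(d) and the core of BG 14.4), from frozen statements.
-/

set_option autoImplicit false

namespace Cfsg.Agent.Helper4.BG144

open Cfsg Subgroup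

universe u

variable {G : Type u} [Group G]

theorem elemAb_map {H : Type*} [Group H] (f : H →* G) (hf : Function.Injective f) {p : ℕ}
    {A : Subgroup H} (hA1 : IsMulCommutative A) (hA2 : ∀ a ∈ A, a ^ p = 1) :
    IsElementaryAbelian p (A.map f) ∧ Nat.card (A.map f) = Nat.card A := by
  refine ⟨⟨?_, ?_⟩, card_map_of_injective hf⟩
  · have := hA1
    exact map_isMulCommutative A f
  · rintro _ ⟨a, ha, rfl⟩
    rw [← map_pow, hA2 a ha, map_one]

theorem conj_injective (g : G) : Function.Injective (MulAut.conj g).toMonoidHom :=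
  (MulAut.conj g).injective

theorem complIn_conj {A B N : Subgroup G} (h : IsComplIn A B N)
    (hB : N ≤ normalizer (B : Set G)) {m : G} (hm : m ∈ N) :
    IsComplIn (A.map (MulAut.conj m).toMonoidHom) B N := by
  obtain ⟨hAN, hBN, hAB, hprod⟩ := h
  refine ⟨?_, hBN, ?_, ?_⟩
  · intro z hz
    rw [mem_map_conj] at hz
    have : z = m * (m⁻¹ * z * m) * m⁻¹ := by group
    rw [this]
    exact N.mul_mem (N.mul_mem hm (hAN hz)) (N.inv_mem hm)
  · rw [eq_bot_iff]
    rintro z ⟨hz1', hz2'⟩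
    have hz1 : z ∈ A.map (MulAut.conj m).toMonoidHom := hz1'
    have hz2 : z ∈ B := hz2'
    rw [mem_map_conj] at hz1
    have hz3 : m⁻¹ * z * m ∈ B := by
      have := (mem_normalizer_iff.mp (hB (N.inv_mem hm)) z).mp hz2
      simpa using this
    have : m⁻¹ * z * m ∈ A ⊓ B := ⟨hz1, hz3⟩
    rw [hAB, mem_bot] at this
    rw [mem_bot]
    have h2 : z = m * (m⁻¹ * z * m) * m⁻¹ := by group
    rw [h2, this]; group
  · intro x hx
    obtain ⟨a, ha, b, hb, hab⟩ := hprod (m⁻¹ * x * m) (N.mul_mem (N.mul_mem (N.inv_mem hm) hx) hm)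
    refine ⟨m * a * m⁻¹, ?_, m * b * m⁻¹, ?_, ?_⟩
    · rw [mem_map_conj]
      have : m⁻¹ * (m * a * m⁻¹) * m = a := by group
      rw [this]; exact ha
    · exact (mem_normalizer_iff.mp (hB hm) b).mp hb
    · have : x = m * (m⁻¹ * x * m) * m⁻¹ := by group
      rw [this, hab]; group

theorem sigmaCore_le (M : Subgroup G) : sigmaCore M ≤ M :=
  Cfsg.Agent.Helper14.BGTrans.piCoreOf_le (sigma M) M

theorem le_normalizer_sigmaCore (M : Subgroup G) : M ≤ normalizer (sigmaCore M : Set G) :=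
  Cfsg.Agent.Helper14.BGTrans.le_normalizer_piCoreOf (sigma M) M

variable [Finite G]

theorem mem_sigma_of_mem_sigmaCore {M : Subgroup G} {y : G} (hy : y ∈ sigmaCore M) {p : ℕ}
    (hp : p.Prime) (hyp : orderOf y = p) : p ∈ sigma M := by
  have h1 : p ∣ Nat.card (sigmaCore M) := hyp ▸ Subgroup.orderOf_dvd_natCard _ hy
  exact Cfsg.Agent.Helper14.BGTrans.card_piCoreOf (sigma M) M p hp h1

theorem not_dvd_card_sigmaCore {M : Subgroup G} {p : ℕ} (hp : p.Prime) (hpσ : p ∉ sigma M) :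
    ¬ p ∣ Nat.card (sigmaCore M) := fun h =>
  hpσ (Cfsg.Agent.Helper14.BGTrans.card_piCoreOf (sigma M) M p hp h)

/-- a complement of `N_σ` in `N` containing a given `p`-subgroup, `p ∉ σ(N)` -/
theorem exists_compl_ge (N : Subgroup G) (hhall : IsPiHallOf (sigma N) (sigmaCore N) N) {p : ℕ}
    [Fact p.Prime] (hp : p ∉ sigma N) {Y : Subgroup G} (hYN : Y ≤ N) (hYp : IsPGroup p Y) :
    ∃ E : Subgroup G, IsComplIn E (sigmaCore N) N ∧ Y ≤ E := by
  have hpp : p.Prime := Fact.out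
  obtain ⟨E₀, hE₀⟩ := Cfsg.Agent.Lead.BGThmC.exists_compl_sigmaCore N hhall
  obtain ⟨P₀⟩ : Nonempty (Sylow p ↥E₀) := inferInstance
  set S₀ : Subgroup G := (P₀ : Subgroup ↥E₀).map E₀.subtype with hS₀
  have hS₀E : S₀ ≤ E₀ := map_subtype_le _
  have hS₀p : IsPGroup p S₀ := P₀.isPGroup'.map E₀.subtype
  have hidx : ¬ p ∣ S₀.relIndex N := by
    rw [← relIndex_mul_relIndex S₀ E₀ N hS₀E hE₀.1, complIn_relIndex_eq hE₀]
    intro h
    rcases (Nat.Prime.dvd_mul hpp).mp h with h | h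
    · have h3 : S₀.relIndex E₀ = (P₀ : Subgroup ↥E₀).index := by
        unfold relIndex subgroupOf
        rw [hS₀, comap_map_eq_self_of_injective E₀.subtype_injective]
      rw [h3] at h
      exact P₀.not_dvd_index h
    · exact not_dvd_card_sigmaCore hpp hp h
  obtain ⟨n, hnN, hn⟩ := exists_conj_le_of_sylowLike (hS₀E.trans hE₀.1) hS₀p hidx hYN hYp
  refine ⟨E₀.map (MulAut.conj n⁻¹).toMonoidHom,
    complIn_conj hE₀ (le_normalizer_sigmaCore N) (N.inv_mem hnN), ?_⟩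
  intro y hy
  rw [mem_map_conj, inv_inv]
  apply hS₀E
  apply hn
  exact ⟨y, hy, by simp [MulAut.conj_apply]⟩

/-- extraction of an elementary abelian subgroup of order `p ^ 2` from `p`-rank exactly `2` -/
theorem exists_elemAb_sq {N : Subgroup G} {p : ℕ} [Fact p.Prime] (h2 : PRankLE p 2 N)
    (h1 : ¬ PRankLE p 1 N) :
    ∃ A : Subgroup G, A ≤ N ∧ IsElementaryAbelian p A ∧ Nat.card A = p ^ 2 := by
  have hpp : p.Prime := Fact.out
  unfold PRankLE at h1
  push Not at h1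
  obtain ⟨A₀, hc, he, hlt⟩ := h1
  have hle := h2 A₀ hc he
  have hpg : IsPGroup p A₀ := by
    intro a
    refine ⟨1, ?_⟩
    rw [pow_one]
    have := he a a.2
    exact Subtype.ext (by simpa using this)
  obtain ⟨k, hk⟩ := hpg.exists_card_eq
  rw [hk] at hlt hle
  have hk1 : 1 < k := (Nat.pow_lt_pow_iff_right hpp.one_lt).mp hlt
  have hk2 : k ≤ 2 := (Nat.pow_le_pow_iff_right hpp.one_lt).mp hle
  have hk' : k = 2 := by omega
  obtain ⟨hel, hcard⟩ := elemAb_map N.subtype N.subtype_injective hc he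
  exact ⟨A₀.map N.subtype, map_subtype_le _, hel, by rw [hcard, hk, hk']⟩

/-- **The prime-order case.** -/
theorem prime_case (hG : IsMinSimpleOddOrder G) (h1350 : H1350 G) (h1404 : H1404 G)
    (h1409 : H1409 G) (h1416 : H1416 G) (h1417 : H1417 G) (h1418 : H1418 G) (h1424 : H1424 G)
    (hσ : HSigma G) (M : Subgroup G) (hM : IsCoatom M) (y : G) (hy : y ∈ sigmaCore M) (p : ℕ)
    [Fact p.Prime] (hyp : orderOf y = p) (hyM : ¬ centralizer ({y} : Set G) ≤ M) :
    ∃ N : Subgroup G, IsCoatom N ∧ normalizer ((zpowers y : Subgroup G) : Set G) ≤ N ∧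
      p ∈ tau2 N ∧ Group.IsNilpotent (sigmaCore N) ∧ IsComplIn (M ⊓ N) (sigmaCore N) N := by
  have hpp : p.Prime := Fact.out
  have hpσ : p ∈ sigma M := mem_sigma_of_mem_sigmaCore hy hpp hyp
  set X : Subgroup G := zpowers y with hX
  have hXcard : Nat.card X = p := by rw [hX, Nat.card_zpowers, hyp]
  have hXp : IsPGroup p X := IsPGroup.of_card (n := 1) (by rw [hXcard, pow_one])
  have hX1 : X ≠ ⊥ := by
    intro h
    rw [h, card_bot] at hXcard
    exact hpp.one_lt.ne hXcard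
  have hyMm : y ∈ M := sigmaCore_le M hy
  have hXM : X ≤ M := by rw [hX, zpowers_le]; exact hyMm
  have hXtop : X ≠ ⊤ := fun h => hM.1 (top_le_iff.mp (h ▸ hXM))
  obtain ⟨N, hN, hNX⟩ := exists_coatom_ge (normalizer_ne_top' hG hX1 hXtop)
  have hCN : centralizer ({y} : Set G) ≤ N :=
    (centralizer_singleton_le_normalizer_zpowers y).trans hNX
  have hne : N ≠ M := fun h => hyM (h ▸ hCN)
  have hXN : X ≤ N := le_normalizer.trans hNX
  obtain ⟨S, hXS⟩ := exists_sylow_inf_ge (le_inf hXM hXN) hXp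
  obtain ⟨hnc, hNS, hSidx⟩ := h1424 M hM p hpσ X hXp hX1 hXM N hN hne hNX S hXS
  set S' : Subgroup G := (S : Subgroup ↥(M ⊓ N)).map (M ⊓ N).subtype with hS'
  have hS'MN : S' ≤ M ⊓ N := map_subtype_le _
  have hS'p : IsPGroup p S' := S.isPGroup'.map (M ⊓ N).subtype
  -- `p ∉ σ(N)`
  have hpN : p ∉ sigma N := by
    intro h
    obtain ⟨g, hg⟩ := hσ M N hM hN ⟨p, hpσ, h⟩
    exact hnc g hg
  obtain ⟨⟨hr2, hr1⟩, -, -⟩ := h1409 N hN p hpN X hXcard hNX
  have hτ : p ∈ tau2 N := ⟨hpp, hpN, hr2, hr1⟩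
  -- an elementary abelian subgroup of order `p ^ 2` inside `S'`
  obtain ⟨A₁, hA₁N, hA₁e, hA₁c⟩ := exists_elemAb_sq hr2 hr1
  have hA₁p : IsPGroup p A₁ := IsPGroup.of_card hA₁c
  obtain ⟨n, -, hn⟩ :=
    exists_conj_le_of_sylowLike (hS'MN.trans inf_le_right) hS'p hSidx hA₁N hA₁p
  obtain ⟨hA'e, hA'c⟩ := elemAb_map (MulAut.conj n).toMonoidHom (conj_injective n) hA₁e.1 hA₁e.2
  set A' : Subgroup G := A₁.map (MulAut.conj n).toMonoidHom with hA'
  rw [hA₁c] at hA'c
  have hA'M : A' ≤ M := hn.trans (hS'MN.trans inf_le_left)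
  have hA'N : A' ≤ N := hn.trans (hS'MN.trans inf_le_right)
  have hA'p : IsPGroup p A' := IsPGroup.of_card hA'c
  have hA'1 : A' ≠ ⊥ := by
    intro h
    rw [h, card_bot] at hA'c
    have : 1 < p ^ 2 := Nat.one_lt_pow (by norm_num) hpp.one_lt
    omega
  obtain ⟨hnil, -, -, -, hdisj, -⟩ := h1417 N hN p hτ A' ⟨hA'N, hA'e, hA'c⟩
  have hbot : sigmaCore N ⊓ M = ⊥ := hdisj M hM (Ne.symm hne) hA'M
  -- a complement `E` of `N_σ` in `N` containing `A'`
  have hhall := (h1350 N hN).1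
  obtain ⟨E, hE, hA'E⟩ := exists_compl_ge N hhall hpN hA'N hA'p
  obtain ⟨-, ⟨-, hEeq, -⟩, -⟩ := h1418 N hN E hE p hτ A' ⟨hA'E, hA'e, hA'c⟩
  -- `N_G(A') ≤ M`
  have hNA : normalizer (A' : Set G) ≤ M := by
    rw [(h1404 M hM p hpσ A' hA'p hA'1 hA'M).2]
    exact sup_le inf_le_left (h1416 M hM p A' ⟨hA'M, hA'e, hA'c⟩).1
  have hEM : E ≤ M := by
    rw [← hEeq]
    exact inf_le_right.trans hNA
  have hMNE : M ⊓ N = E := by
    apply le_antisymm
    · rintro z ⟨hzM, hzN⟩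
      obtain ⟨e, he, b, hb, rfl⟩ := hE.2.2.2 z hzN
      have hbM : b ∈ M := by
        have : b = e⁻¹ * (e * b) := by group
        rw [this]
        exact M.mul_mem (M.inv_mem (hEM he)) hzM
      have : b ∈ sigmaCore N ⊓ M := ⟨hb, hbM⟩
      rw [hbot, mem_bot] at this
      rw [this, mul_one]
      exact he
    · exact le_inf hEM hE.1
  exact ⟨N, hN, hNX, hτ, hnil, hMNE ▸ hE⟩

end Cfsg.Agent.Helper4.BG144
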