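import Mathlib
import Cfsg.Prelude.Def_OddOrder
import Cfsg.Prelude.Def_OddOrderLocal
import Cfsg.Agent.Lib.Helper8.RankTwoAut
import Cfsg.Agent.Lib.Helper15.SylowIn
import Cfsg.Agent.Lib.Helper16.BG147A
import Cfsg.Agent.Lib.Helper4.BG144C
import Cfsg.Agent.Lib.Helper7.BG121a
import Cfsg.Agent.Lib.Helper1.CommutatorBasic

/-!
# General group theory for the sigma-partition theorem (helper4)
-/

set_option autoImplicit false
set_option linter.unusedVariables false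
set_option linter.style.haveILetI false

namespace Cfsg.Agent.Helper4.BGSig

open Cfsg Subgroup
open scoped commutatorElement
open Cfsg.Agent.Helper15 (IsSylowIn)

universe u

variable {G : Type u} [Group G]

/-- An odd-order solvable `q'`-group `A` normalising a `q`-group `S` of rank at most two
(`q` odd) induces an abelian group of automorphisms: `[A, A]` centralises `S`. -/
theorem commutator_le_centralizer_of_rank_two [Finite G] {q : ℕ} [Fact q.Prime] (hq2 : q ≠ 2)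
    {S A : Subgroup G} (hS : IsPGroup q S) (hr : PRankLE q 2 S)
    (hA : A ≤ normalizer (S : Set G)) (hAs : Group.IsSolvable A) (hAodd : Odd (Nat.card A))
    (hcop : (Nat.card A).Coprime q) : ⁅A, A⁆ ≤ centralizer (S : Set G) := by
  classical
  set φ : A →* MulAut S := S.normalizerMonoidHom.comp (Subgroup.inclusion hA) with hφ
  set Γ : Subgroup (MulAut S) := φ.range with hΓ
  haveI : Finite (MulAut S) := Finite.of_injective (fun e : MulAut S => (e : S → S))
    (fun e f h => MulEquiv.ext (congrFun h))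
  have hdvd : Nat.card Γ ∣ Nat.card A := Subgroup.card_range_dvd φ
  have hsolvΓ : Group.IsSolvable Γ := by
    haveI := hAs
    exact solvable_of_surjective (f := φ.rangeRestrict) φ.rangeRestrict_surjective
  have hoddΓ : Odd (Nat.card Γ) := Odd.of_dvd_nat hAodd hdvd
  have h1 : IsPGroup q (commutator Γ) :=
    Cfsg.Agent.Helper8.RankTwo.derived_isPGroup q hq2 hS hr hsolvΓ hoddΓ Γ.subtype
      Γ.subtype_injective
  have h2 : commutator Γ = ⊥ := by
    obtain ⟨k, hk⟩ := h1.exists_card_eq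
    have h3 : Nat.card (commutator Γ) ∣ Nat.card A :=
      (Subgroup.card_subgroup_dvd_card _).trans hdvd
    have h4 : (Nat.card (commutator Γ)).Coprime q := Nat.Coprime.coprime_dvd_left h3 hcop
    rw [hk] at h4
    rcases Nat.eq_zero_or_pos k with hk0 | hk0
    · rw [hk0, pow_zero] at hk
      exact Subgroup.card_eq_one.mp hk
    · exfalso
      have hqq : q.Prime := Fact.out
      have : q ∣ 1 := by
        have h5 : q ∣ Nat.gcd (q ^ k) q :=
          Nat.dvd_gcd (dvd_pow_self q hk0.ne') dvd_rfl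
        rwa [Nat.Coprime.gcd_eq_one h4] at h5
      exact hqq.one_lt.ne' (Nat.dvd_one.mp this)
  rw [Subgroup.commutator_le]
  intro a ha b hb
  have hcomm : ∀ x y : Γ, x * y = y * x := by
    intro x y
    have h5 : ⁅x, y⁆ ∈ commutator Γ := Subgroup.commutator_mem_commutator (mem_top x) (mem_top y)
    rw [h2, Subgroup.mem_bot, commutatorElement_eq_one_iff_mul_comm] at h5
    exact h5
  have h6 : φ ⟨a, ha⟩ * φ ⟨b, hb⟩ = φ ⟨b, hb⟩ * φ ⟨a, ha⟩ := by
    have := hcomm ⟨φ ⟨a, ha⟩, ⟨_, rfl⟩⟩ ⟨φ ⟨b, hb⟩, ⟨_, rfl⟩⟩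
    exact congrArg Subtype.val this
  have h7 : φ ⁅(⟨a, ha⟩ : A), ⟨b, hb⟩⁆ = 1 := by
    rw [map_commutatorElement, commutatorElement_eq_one_iff_mul_comm]
    exact h6
  have h8 : Subgroup.inclusion hA ⁅(⟨a, ha⟩ : A), ⟨b, hb⟩⁆ ∈ S.normalizerMonoidHom.ker := h7
  rw [Subgroup.normalizerMonoidHom_ker, Subgroup.mem_subgroupOf] at h8
  have h9 : ((Subgroup.inclusion hA ⁅(⟨a, ha⟩ : A), ⟨b, hb⟩⁆ : normalizer (S : Set G)) : G) = ⁅a, b⁆ := by
    simp [commutatorElement_def]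
  rwa [h9] at h8

/-- a subgroup of `E` containing a Sylow `u`-subgroup of `E` for every prime `u` is `E` -/
theorem eq_of_forall_sylow_le [Finite G] {C E : Subgroup G} (hCE : C ≤ E)
    (h : ∀ u : ℕ, u.Prime → u ∣ Nat.card E → ∃ U : Subgroup G, IsSylowIn u U E ∧ U ≤ C) :
    C = E := by
  have hE0 : Nat.card E ≠ 0 := Nat.card_pos.ne'
  have hC0 : Nat.card C ≠ 0 := Nat.card_pos.ne'
  have hdvd : Nat.card E ∣ Nat.card C := by
    rw [← Nat.factorization_prime_le_iff_dvd hE0 hC0]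
    intro u hu
    by_cases hd : u ∣ Nat.card E
    · obtain ⟨U, hU, hUC⟩ := h u hu hd
      haveI : Fact u.Prime := ⟨hu⟩
      have h1 := hU.card_eq
      have h2 : Nat.card U ∣ Nat.card C := Subgroup.card_dvd_of_le hUC
      rw [h1] at h2
      exact (hu.pow_dvd_iff_le_factorization hC0).mp h2
    · rw [Nat.factorization_eq_zero_of_not_dvd hd]
      exact Nat.zero_le _
  exact Subgroup.eq_of_le_of_card_ge hCE (Nat.le_of_dvd Nat.card_pos hdvd)

/-- if `L = N D` with `N` normal in `L`, then `L' ≤ N D'` -/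
theorem commutator_le_sup_of_factor {N D L : Subgroup G} (hNL : N ≤ L)
    (hLN : L ≤ normalizer (N : Set G)) (hDL : D ≤ L)
    (hfac : ∀ l ∈ L, ∃ n ∈ N, ∃ d ∈ D, l = n * d) : ⁅L, L⁆ ≤ N ⊔ ⁅D, D⁆ := by
  haveI hnorm : (N.subgroupOf L).Normal :=
    (Subgroup.normal_subgroupOf_iff_le_normalizer hNL).mpr hLN
  rw [Subgroup.commutator_le]
  intro a ha b hb
  obtain ⟨n1, hn1, d1, hd1, rfl⟩ := hfac a ha
  obtain ⟨n2, hn2, d2, hd2, rfl⟩ := hfac b hb
  have key : ∀ (n d : G) (hn : n ∈ N) (hd : d ∈ D),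
      (QuotientGroup.mk' (N.subgroupOf L)) ⟨n * d, L.mul_mem (hNL hn) (hDL hd)⟩ =
        (QuotientGroup.mk' (N.subgroupOf L)) ⟨d, hDL hd⟩ := by
    intro n d hn hd
    have h1 : (⟨n * d, L.mul_mem (hNL hn) (hDL hd)⟩ : L) = ⟨n, hNL hn⟩ * ⟨d, hDL hd⟩ := rfl
    rw [h1, map_mul]
    have h2 : (QuotientGroup.mk' (N.subgroupOf L)) ⟨n, hNL hn⟩ = 1 := by
      rw [QuotientGroup.mk'_apply, QuotientGroup.eq_one_iff, Subgroup.mem_subgroupOf]
      exact hn
    rw [h2, one_mul]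
  have h3 : (QuotientGroup.mk' (N.subgroupOf L))
      ⁅(⟨n1 * d1, L.mul_mem (hNL hn1) (hDL hd1)⟩ : L), ⟨n2 * d2, L.mul_mem (hNL hn2) (hDL hd2)⟩⁆ =
      (QuotientGroup.mk' (N.subgroupOf L)) ⁅(⟨d1, hDL hd1⟩ : L), ⟨d2, hDL hd2⟩⁆ := by
    rw [map_commutatorElement, map_commutatorElement, key n1 d1 hn1 hd1, key n2 d2 hn2 hd2]
  rw [QuotientGroup.mk'_apply, QuotientGroup.mk'_apply, QuotientGroup.eq,
    Subgroup.mem_subgroupOf] at h3
  have h4 : ⁅n1 * d1, n2 * d2⁆ = ⁅d1, d2⁆ * (⁅d1, d2⁆⁻¹ * ⁅n1 * d1, n2 * d2⁆) := by group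
  rw [h4]
  refine Subgroup.mul_mem _ (Subgroup.mem_sup_right (Subgroup.commutator_mem_commutator hd1 hd2)) ?_
  refine Subgroup.mem_sup_left ?_
  have h5 : ((⁅(⟨n1 * d1, L.mul_mem (hNL hn1) (hDL hd1)⟩ : L),
      ⟨n2 * d2, L.mul_mem (hNL hn2) (hDL hd2)⟩⁆⁻¹ * ⁅(⟨d1, hDL hd1⟩ : L), ⟨d2, hDL hd2⟩⁆ : L) : G) =
      ⁅n1 * d1, n2 * d2⁆⁻¹ * ⁅d1, d2⁆ := by
    simp [commutatorElement_def]
  rw [h5] at h3
  have h6 := N.inv_mem h3
  have h7 : (⁅n1 * d1, n2 * d2⁆⁻¹ * ⁅d1, d2⁆)⁻¹ = ⁅d1, d2⁆⁻¹ * ⁅n1 * d1, n2 * d2⁆ := by group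
  rwa [h7] at h6

/-- a normal Hall `π`-subgroup of `L` contains every `π`-subgroup of `L` -/
theorem le_of_isPiHallOf_normal [Finite G] {π : Set ℕ} {N L Y : Subgroup G}
    (hN : IsPiHallOf π N L) (hLN : L ≤ normalizer (N : Set G)) (hYL : Y ≤ L)
    (hY : ∀ p : ℕ, p.Prime → p ∣ Nat.card Y → p ∈ π) : Y ≤ N := by
  obtain ⟨hNL, hNπ, hidx⟩ := hN
  haveI hnorm : (N.subgroupOf L).Normal :=
    (Subgroup.normal_subgroupOf_iff_le_normalizer hNL).mpr hLN
  have hcY : Nat.card (Y.subgroupOf L) = Nat.card Y :=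
    Nat.card_congr (Subgroup.subgroupOfEquivOfLe hYL).toEquiv
  have hcop : (Nat.card (Y.subgroupOf L)).Coprime (N.subgroupOf L).index := by
    rw [hcY]
    refine Nat.coprime_of_dvd ?_
    intro k hk hkY hkN
    exact hidx k hk (hY k hk hkY) hkN
  have h1 := Cfsg.Agent.Helper7.BG12.le_of_coprime_card_index (N.subgroupOf L) (Y.subgroupOf L) hcop
  intro y hy
  have h2 : (⟨y, hYL hy⟩ : L) ∈ Y.subgroupOf L := Subgroup.mem_subgroupOf.mpr hy
  exact Subgroup.mem_subgroupOf.mp (h1 h2)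

open Cfsg.Agent.Helper4.BG144 in
/-- Schur--Zassenhaus in subgroup form: a normal Hall subgroup `K` of `H` has a complement -/
theorem exists_complIn [Finite G] {K H : Subgroup G} (hKH : K ≤ H)
    (hHK : H ≤ normalizer (K : Set G)) (hcop : (Nat.card K).Coprime (K.relIndex H)) :
    ∃ E : Subgroup G, IsComplIn E K H := by
  haveI hnorm : (K.subgroupOf H).Normal :=
    (Subgroup.normal_subgroupOf_iff_le_normalizer hKH).mpr hHK
  have hcard : Nat.card (K.subgroupOf H) = Nat.card K :=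
    Nat.card_congr (Subgroup.subgroupOfEquivOfLe hKH).toEquiv
  have hcop' : Nat.Coprime (Nat.card (K.subgroupOf H)) (K.subgroupOf H).index := by
    rw [hcard]; exact hcop
  obtain ⟨E, hE⟩ := exists_right_complement'_of_coprime hcop'
  refine ⟨E.map H.subtype, map_subtype_le _, hKH, ?_, ?_⟩
  · rw [eq_bot_iff]
    rintro x ⟨⟨y, hy, rfl⟩, hx2⟩
    have hy2 : y ∈ K.subgroupOf H := Subgroup.mem_subgroupOf.mpr hx2
    have := hE.disjoint.le_bot ⟨hy2, hy⟩
    rw [mem_bot] at this ⊢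
    rw [this]
    rfl
  · intro m hm
    obtain ⟨⟨⟨a, ha⟩, ⟨b, hb⟩⟩, hab, -⟩ := (isComplement'_def.mp hE.symm).existsUnique ⟨m, hm⟩
    refine ⟨a, mem_map_of_mem _ ha, b, Subgroup.mem_subgroupOf.mp hb, ?_⟩
    have := congrArg Subtype.val hab
    simpa using this.symm

open Cfsg.Agent.Helper4.BG144 in
/-- a complement of the normal Hall subgroup `K` of `H` containing a given `p`-subgroup,
`p` prime to `|K|` -/
theorem exists_complIn_ge [Finite G] {K H : Subgroup G} (hKH : K ≤ H)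
    (hHK : H ≤ normalizer (K : Set G)) (hcop : (Nat.card K).Coprime (K.relIndex H)) {p : ℕ}
    [Fact p.Prime] (hpK : ¬ p ∣ Nat.card K) {Y : Subgroup G} (hYH : Y ≤ H) (hYp : IsPGroup p Y) :
    ∃ E : Subgroup G, IsComplIn E K H ∧ Y ≤ E := by
  have hpp : p.Prime := Fact.out
  obtain ⟨E₀, hE₀⟩ := exists_complIn hKH hHK hcop
  obtain ⟨P₀⟩ : Nonempty (Sylow p ↥E₀) := inferInstance
  set S₀ : Subgroup G := (P₀ : Subgroup ↥E₀).map E₀.subtype with hS₀
  have hS₀E : S₀ ≤ E₀ := map_subtype_le _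
  have hS₀p : IsPGroup p S₀ := P₀.isPGroup'.map E₀.subtype
  have hidx : ¬ p ∣ S₀.relIndex H := by
    rw [← relIndex_mul_relIndex S₀ E₀ H hS₀E hE₀.1, complIn_relIndex_eq hE₀]
    intro h
    rcases (Nat.Prime.dvd_mul hpp).mp h with h | h
    · have h3 : S₀.relIndex E₀ = (P₀ : Subgroup ↥E₀).index := by
        unfold relIndex subgroupOf
        rw [hS₀, comap_map_eq_self_of_injective E₀.subtype_injective]
      rw [h3] at h
      exact P₀.not_dvd_index h
    · exact hpK h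
  obtain ⟨n, hnN, hn⟩ := exists_conj_le_of_sylowLike (hS₀E.trans hE₀.1) hS₀p hidx hYH hYp
  refine ⟨E₀.map (MulAut.conj n⁻¹).toMonoidHom,
    complIn_conj hE₀ hHK (H.inv_mem hnN), ?_⟩
  intro y hy
  rw [mem_map_conj, inv_inv]
  apply hS₀E
  apply hn
  exact ⟨y, hy, by simp [MulAut.conj_apply]⟩

/-- Hall's theorem in subgroup form: a `π`-subgroup `K` of the solvable subgroup `E` lies in a
Hall `π`-subgroup of `E` -/
theorem exists_isPiHallOf_ge [Finite G] {E K : Subgroup G} (hsolv : Group.IsSolvable E)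
    (π : Set ℕ) (hKE : K ≤ E) (hK : ∀ p : ℕ, p.Prime → p ∣ Nat.card K → p ∈ π) :
    ∃ H : Subgroup G, K ≤ H ∧ IsPiHallOf π H E := by
  haveI := hsolv
  have hcK : Nat.card (K.subgroupOf E) = Nat.card K :=
    Nat.card_congr (Subgroup.subgroupOfEquivOfLe hKE).toEquiv
  obtain ⟨H, hKH, hHπ, hHidx⟩ := Cfsg.Agent.Helper16.BG147.exists_piHall_ge π (K.subgroupOf E)
    (by rw [hcK]; exact hK)
  refine ⟨H.map E.subtype, ?_, map_subtype_le _, ?_, ?_⟩
  · have := Subgroup.map_mono (f := E.subtype) hKH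
    rwa [Subgroup.map_subgroupOf_eq_of_le hKE] at this
  · rw [Subgroup.card_map_of_injective E.subtype_injective]
    exact hHπ
  · have h3 : (H.map E.subtype).relIndex E = H.index := by
      unfold relIndex subgroupOf
      rw [comap_map_eq_self_of_injective E.subtype_injective]
    rw [h3]
    exact hHidx

/-- the elements of order dividing `r` of an abelian subgroup `Q` -/
def omegaSub (Q : Subgroup G) (hQ : ∀ a ∈ Q, ∀ b ∈ Q, a * b = b * a) (r : ℕ) : Subgroup G where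
  carrier := {x | x ∈ Q ∧ x ^ r = 1}
  mul_mem' := by
    rintro a b ⟨ha, ha'⟩ ⟨hb, hb'⟩
    exact ⟨Q.mul_mem ha hb, by
      rw [(show Commute a b from hQ a ha b hb).mul_pow, ha', hb', one_mul]⟩
  one_mem' := ⟨Q.one_mem, one_pow r⟩
  inv_mem' := by
    rintro a ⟨ha, ha'⟩
    exact ⟨Q.inv_mem ha, by rw [inv_pow, ha', inv_one]⟩

theorem mem_omegaSub {Q : Subgroup G} {hQ : ∀ a ∈ Q, ∀ b ∈ Q, a * b = b * a} {r : ℕ} {x : G} :
    x ∈ omegaSub Q hQ r ↔ x ∈ Q ∧ x ^ r = 1 := Iff.rfl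

theorem omegaSub_le (Q : Subgroup G) (hQ : ∀ a ∈ Q, ∀ b ∈ Q, a * b = b * a) (r : ℕ) :
    omegaSub Q hQ r ≤ Q := fun _ hx => hx.1

theorem normalizer_le_normalizer_omegaSub (Q : Subgroup G)
    (hQ : ∀ a ∈ Q, ∀ b ∈ Q, a * b = b * a) (r : ℕ) :
    normalizer (Q : Set G) ≤ normalizer (omegaSub Q hQ r : Set G) := by
  apply Cfsg.Agent.Helper1.le_normalizer_of_forall_conj_mem
  intro g hg x hx
  refine ⟨(Subgroup.mem_normalizer_iff.mp hg x).mp hx.1, ?_⟩
  rw [conj_pow, hx.2]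
  simp

/-- in a nontrivial cyclic `r`-group the elements of order dividing `r` form a subgroup of order
`r` -/
theorem card_omegaSub [Finite G] {Q : Subgroup G} (hQ : ∀ a ∈ Q, ∀ b ∈ Q, a * b = b * a) {r : ℕ}
    [Fact r.Prime] (hcyc : IsCyclic Q) (hQr : IsPGroup r Q) (hQ1 : Q ≠ ⊥) :
    Nat.card (omegaSub Q hQ r) = r := by
  have hr : r.Prime := Fact.out
  set Ω := omegaSub Q hQ r with hΩ
  have hΩQ : Ω ≤ Q := omegaSub_le Q hQ r
  -- `Ω` is cyclic of exponent dividing `r`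
  haveI := hcyc
  have h3 : IsCyclic (Ω.subgroupOf Q) := inferInstance
  haveI h4 : IsCyclic Ω :=
    isCyclic_of_surjective (Subgroup.subgroupOfEquivOfLe hΩQ).toMonoidHom
      (Subgroup.subgroupOfEquivOfLe hΩQ).surjective
  have h5 : Monoid.exponent Ω ∣ r := by
    apply Monoid.exponent_dvd_of_forall_pow_eq_one
    intro x
    exact Subtype.ext (by simpa using x.2.2)
  rw [IsCyclic.exponent_eq_card] at h5
  rcases (Nat.dvd_prime hr).mp h5 with h6 | h6
  · exfalso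
    -- `Ω` contains an element of order `r`
    have hQnt : Nontrivial Q := (Subgroup.nontrivial_iff_ne_bot Q).mpr hQ1
    obtain ⟨n, hn, hcard⟩ := hQr.nontrivial_iff_card.mp hQnt
    have hd : r ∣ Nat.card Q := by rw [hcard]; exact dvd_pow_self r hn.ne'
    obtain ⟨x, hx⟩ := exists_prime_orderOf_dvd_card' r hd
    have hxΩ : (x : G) ∈ Ω := by
      refine ⟨x.2, ?_⟩
      have : x ^ r = 1 := by rw [← hx]; exact pow_orderOf_eq_one x
      have := congrArg Subtype.val this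
      simpa using this
    have hΩbot : Ω = ⊥ := Subgroup.card_eq_one.mp h6
    rw [hΩbot, Subgroup.mem_bot] at hxΩ
    have hx1 : x = 1 := Subtype.ext hxΩ
    rw [hx1, orderOf_one] at hx
    exact hr.one_lt.ne hx
  · exact h6

end Cfsg.Agent.Helper4.BGSig
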