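import Mathlib
import Cfsg.Agent.Lib.Helper4.BGSigA
import Cfsg.Agent.Lib.Helper4.BGSigH
import Cfsg.Agent.Lib.Helper22.BG13C
import Cfsg.Agent.Lib.Helper23.BG10H
import Cfsg.Agent.S1403
import Cfsg.Agent.Lib.Helper1.CoprimeSylow

/-!
# The sigma-partition theorem: the set-up (helper4)

`Ctx M L S q`: two distinct maximal subgroups containing the normaliser of a common Sylow
`q`-subgroup `S` of `G`.
-/

set_option autoImplicit false
set_option linter.unusedVariables false
set_option linter.style.haveILetI false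

namespace Cfsg.Agent.Helper4.BGSig

open Cfsg Subgroup
open scoped commutatorElement
open Cfsg.Agent.Helper15 (IsSylowIn)
open Cfsg.Agent.Helper4.BG144

universe u

variable {G : Type u} [Group G] [Finite G]

/-- the frozen hypotheses used for the sigma-partition theorem -/
structure Hyps (G : Type u) [Group G] [Finite G] : Prop where
  hG : IsMinSimpleOddOrder G
  h1350 : H1350 G
  h1414 : H1414 G
  h1417 : H1417 G
  h1422 : H1422 G
  h1423 : H1423 G
  h1426 : H1426 G
  h1427 : H1427 G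
  h1428 : H1428 G

/-- two distinct maximal subgroups over the normaliser of a Sylow `q`-subgroup `S` of `G` -/
structure Ctx (M L S : Subgroup G) (q : ℕ) : Prop where
  hM : IsCoatom M
  hL : IsCoatom L
  hne : M ≠ L
  hS : IsSylowIn q S ⊤
  hS1 : S ≠ ⊥
  hNM : normalizer (S : Set G) ≤ M
  hNL : normalizer (S : Set G) ≤ L

namespace Ctx

variable {M L S : Subgroup G} {q : ℕ}

theorem symm (c : Ctx M L S q) : Ctx L M S q :=
  ⟨c.hL, c.hM, c.hne.symm, c.hS, c.hS1, c.hNL, c.hNM⟩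

theorem hSM (c : Ctx M L S q) : S ≤ M := le_normalizer.trans c.hNM

theorem hSL (c : Ctx M L S q) : S ≤ L := le_normalizer.trans c.hNL

theorem uniq (hG : IsMinSimpleOddOrder G) : Cfsg.Agent.Helper23.BG10.UniqThm G :=
  fun K hK h1 h2 => Cfsg.Agent.S1403.result hG K hK h1 h2

/-- `S` is not a uniqueness subgroup -/
theorem not_uniq (c : Ctx M L S q) : ¬ InUniqueMaximal S := by
  rintro ⟨H, -, huniq⟩
  exact c.hne ((huniq M ⟨c.hM, c.hSM⟩).trans (huniq L ⟨c.hL, c.hSL⟩).symm)

variable [Fact q.Prime]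

theorem abelian (c : Ctx M L S q) (h : Hyps G) : IsMulCommutative S := by
  by_contra hna
  exact c.not_uniq (h.h1422 q S c.hS.isPGroup hna)

/-- the two maximal subgroups are not conjugate -/
theorem not_conj (c : Ctx M L S q) (g : G) : L ≠ M.map (MulAut.conj g).toMonoidHom := by
  intro hLg
  have h1 : IsSylowIn q S L := c.hS.of_le c.hSL le_top
  have h2 : IsSylowIn q (S.map (MulAut.conj g).toMonoidHom) L := by
    have h3 : S.map (MulAut.conj g).toMonoidHom ≤ L := by
      rw [hLg]; exact Subgroup.map_mono c.hSM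
    exact (c.hS.map_conj g).of_le h3 (by
      rw [Cfsg.Agent.Helper15.map_conj_eq_self_of_mem (Subgroup.mem_top g)]; exact le_top)
  obtain ⟨l, hl, hlS⟩ := h2.exists_conj h1
  rw [Cfsg.Agent.Helper15.map_conj_map_conj] at hlS
  have h4 : l * g ∈ normalizer (S : Set G) := Cfsg.Agent.Helper15.mem_normalizer_of_map_conj_eq hlS
  have h5 : l * g ∈ L := c.hNL h4
  have h6 : g ∈ L := by
    have : g = l⁻¹ * (l * g) := by group
    rw [this]; exact L.mul_mem (L.inv_mem hl) h5
  have h7 : g ∈ M := by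
    rw [hLg, mem_map_conj] at h6
    have : g = g⁻¹ * g * g := by group
    rw [this]; exact h6
  apply c.hne
  rw [hLg, map_conj_of_mem h7]

omit [Fact q.Prime] in
theorem S_ne_top (c : Ctx M L S q) : S ≠ ⊤ := by
  intro h
  have := c.hSM
  rw [h, top_le_iff] at this
  exact c.hM.1 this

/-- `S` has rank at most two (Uniqueness Theorem) -/
theorem rank_S (c : Ctx M L S q) (h : Hyps G) : PRankLE q 2 S := by
  have hq : q.Prime := Fact.out
  by_contra hr
  obtain ⟨B, hBS, hBe, hBc⟩ := Cfsg.Agent.Helper14.BGUniq.exists_elemAb_of_not_pRankLE hr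
  apply c.not_uniq
  apply Cfsg.Agent.S1403.result h.hG S c.S_ne_top
  · apply Cfsg.Agent.Helper14.BGUniq.not_rankLE_of_lt hBS hBe
    exact lt_trans (Nat.pow_lt_pow_right hq.one_lt (by norm_num)) hBc
  · exact Or.inl (Cfsg.Agent.Helper14.BGUniq.not_rankLE_of_lt hBS hBe hBc)

/-- `G` has `q`-rank at most two -/
theorem rank_G (c : Ctx M L S q) (h : Hyps G) : PRankLE q 2 G := by
  intro A hA1 hA2
  have hAp : IsPGroup q A :=
    Cfsg.Agent.Helper14.BGUniq.isPGroup_of_isElementaryAbelian ⟨hA1, hA2⟩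
  obtain ⟨Q', hAQ'⟩ := hAp.exists_le_sylow
  obtain ⟨k, -, hk⟩ := (Cfsg.Agent.Helper15.isSylowIn_top Q').exists_conj c.hS
  have h1 : A.map (MulAut.conj k).toMonoidHom ≤ S := by
    rw [← hk]; exact Subgroup.map_mono hAQ'
  obtain ⟨h2, h3⟩ := elemAb_map (MulAut.conj k).toMonoidHom (conj_injective k) hA1 hA2
  have h4 := Cfsg.Agent.Helper7.BG12.pRankLE_of_injective
    (Subgroup.inclusion h1) (Subgroup.inclusion_injective h1) (c.rank_S h)
  have h5 := h4 ⊤ (by
      apply Cfsg.Agent.Helper7.MaxComp.isMulCommutative_of_comm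
      intro a _ b _
      have := Cfsg.Agent.Helper7.MaxComp.comm_of_isMulCommutative h2.1 (a : G) a.2 (b : G) b.2
      exact Subtype.ext this) (by
      intro a _
      have := h2.2 (a : G) a.2
      exact Subtype.ext this)
  rw [Subgroup.card_top, h3] at h5
  exact h5

theorem rank_of_le (c : Ctx M L S q) (h : Hyps G) (H : Subgroup G) : PRankLE q 2 H :=
  Cfsg.Agent.Helper7.BG12.pRankLE_of_injective H.subtype H.subtype_injective (c.rank_G h)

theorem q_odd (c : Ctx M L S q) (h : Hyps G) : q ≠ 2 := by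
  rintro rfl
  have h1 : 2 ∣ Nat.card S := by
    obtain ⟨k, hk⟩ := c.hS.isPGroup.exists_card_eq
    rcases Nat.eq_zero_or_pos k with hk0 | hk0
    · rw [hk0, pow_zero] at hk
      exact absurd (Subgroup.card_eq_one.mp hk) c.hS1
    · rw [hk]; exact dvd_pow_self 2 hk0.ne'
  have h2 : 2 ∣ Nat.card G := h1.trans (Subgroup.card_subgroup_dvd_card S)
  have h3 := h.hG.1
  rw [Nat.odd_iff] at h3
  omega

omit [Fact q.Prime] in
theorem sylow_M (c : Ctx M L S q) : IsSylowIn q S M := c.hS.of_le c.hSM le_top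

theorem q_dvd (c : Ctx M L S q) : q ∣ Nat.card S := by
  obtain ⟨k, hk⟩ := c.hS.isPGroup.exists_card_eq
  rcases Nat.eq_zero_or_pos k with hk0 | hk0
  · rw [hk0, pow_zero] at hk
    exact absurd (Subgroup.card_eq_one.mp hk) c.hS1
  · rw [hk]; exact dvd_pow_self q hk0.ne'

theorem mem_sigma (c : Ctx M L S q) : q ∈ sigma M := by
  refine ⟨Fact.out, c.q_dvd.trans (Subgroup.card_dvd_of_le c.hSM), c.sylow_M.toSylow, ?_⟩
  rw [c.sylow_M.map_toSylow]
  exact c.hNM

theorem S_le_sigmaCore (c : Ctx M L S q) (h : Hyps G) : S ≤ sigmaCore M :=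
  Cfsg.Agent.Helper22.BG13.le_sigmaCore_of_isPiNum h.h1350 c.hM c.hSM
    (Cfsg.Agent.Helper22.BG13.isPiNum_of_isPGroup c.mem_sigma c.hS.isPGroup)

theorem sylow_sigmaCore (c : Ctx M L S q) (h : Hyps G) : IsSylowIn q S (sigmaCore M) :=
  c.hS.of_le (c.S_le_sigmaCore h) le_top

theorem not_mem_alpha (c : Ctx M L S q) (h : Hyps G) : q ∉ alpha M :=
  fun hq => hq.2 (c.rank_of_le h M)

theorem not_mem_beta (c : Ctx M L S q) (h : Hyps G) : q ∉ beta M :=
  fun hq => c.not_mem_alpha h hq.1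

omit [Fact q.Prime] in
theorem solvable_of_le (c : Ctx M L S q) (h : Hyps G) {H : Subgroup G} (hH : H ≤ M) :
    Group.IsSolvable H :=
  h.hG.2.2.2 H (fun hT => c.hM.1 (top_le_iff.mp (hT ▸ hH)))

/-- `τ₂(M)` is empty -/
theorem tau2_empty (c : Ctx M L S q) (h : Hyps G) (p : ℕ) : p ∉ tau2 M := by
  rintro ⟨hp, hpσ, hr2, hr1⟩
  haveI : Fact p.Prime := ⟨hp⟩
  have hq : q.Prime := Fact.out
  obtain ⟨A, hAM, hAe, hAc⟩ := exists_elemAb_sq hr2 hr1
  have hAK : A ≤ normalizer ((sigmaCore M : Subgroup G) : Set G) :=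
    hAM.trans (le_normalizer_sigmaCore M)
  have hcop : (Nat.card A).Coprime (Nat.card (sigmaCore M)) := by
    rw [hAc]
    apply Nat.Coprime.pow_left
    rw [Nat.Prime.coprime_iff_not_dvd hp]
    exact not_dvd_card_sigmaCore hp hpσ
  obtain ⟨P, hP⟩ := Cfsg.Agent.Helper1.exists_invariant_sylow (K := sigmaCore M) (p := q) A hAK
    hcop (Or.inr (c.solvable_of_le h (sigmaCore_le M)))
  obtain ⟨k, hk, hkS⟩ :=
    (Cfsg.Agent.Helper15.isSylowIn_map_subtype P).exists_conj (c.sylow_sigmaCore h)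
  have hkM : k ∈ M := sigmaCore_le M hk
  have h1 : A.map (MulAut.conj k).toMonoidHom ≤ normalizer (S : Set G) := by
    have := Cfsg.Agent.Helper14.BGTrans.map_conj_le_normalizer_map_conj hP k
    rwa [hkS] at this
  have h2 : A.map (MulAut.conj k).toMonoidHom ≤ M := by
    have := Subgroup.map_mono (f := (MulAut.conj k).toMonoidHom) hAM
    rwa [map_conj_of_mem hkM] at this
  obtain ⟨h3, h4⟩ := elemAb_map (MulAut.conj k).toMonoidHom (conj_injective k) hAe.1 hAe.2
  have h5 := (h.h1417 M c.hM p ⟨hp, hpσ, hr2, hr1⟩ (A.map (MulAut.conj k).toMonoidHom)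
    ⟨h2, h3, h4.trans hAc⟩).2.2.2.2.1 L c.hL c.hne.symm (h1.trans c.hNL)
  apply c.hS1
  rw [eq_bot_iff, ← h5]
  exact le_inf (c.S_le_sigmaCore h) c.hSL

end Ctx

end Cfsg.Agent.Helper4.BGSig
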