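import Mathlib
import Cfsg.Agent.Lib.Helper4.BGSigB

/-!
# The sigma-partition theorem: `M = M_β N_G(S)` (helper4)
-/

set_option autoImplicit false
set_option linter.unusedVariables false
set_option linter.style.haveILetI false

namespace Cfsg.Agent.Helper4.BGSig

open Cfsg Subgroup
open scoped commutatorElement
open Cfsg.Agent.Helper15 (IsSylowIn)
open Cfsg.Agent.Helper4.BG144

universe u

variable {G : Type u} [Group G] [Finite G]

/-- `M_β = O_{β(M)}(M)` -/
def betaCore (M : Subgroup G) : Subgroup G := piCoreOf (beta M) M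

omit [Finite G] in
theorem betaCore_le (M : Subgroup G) : betaCore M ≤ M :=
  Cfsg.Agent.Helper14.BGTrans.piCoreOf_le (beta M) M

omit [Finite G] in
theorem le_normalizer_betaCore (M : Subgroup G) : M ≤ normalizer (betaCore M : Set G) :=
  Cfsg.Agent.Helper14.BGTrans.le_normalizer_piCoreOf (beta M) M

theorem mem_beta_of_dvd_card_betaCore {M : Subgroup G} {p : ℕ} (hp : p.Prime)
    (h : p ∣ Nat.card (betaCore M)) : p ∈ beta M :=
  Cfsg.Agent.Helper14.BGTrans.card_piCoreOf (beta M) M p hp h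

theorem beta_subset_sigma (h : Hyps G) {M : Subgroup G} (hM : IsCoatom M) :
    beta M ⊆ sigma M :=
  fun p hp => Cfsg.Agent.Helper23.BG10.alpha_subset_sigma h.hG (Ctx.uniq h.hG) hM hp.1

theorem betaCore_hall (h : Hyps G) {M : Subgroup G} (hM : IsCoatom M) :
    IsPiHallOf (beta M) (betaCore M) M := (h.h1414 M hM).1

theorem betaCore_le_sigmaCore (h : Hyps G) {M : Subgroup G} (hM : IsCoatom M) :
    betaCore M ≤ sigmaCore M :=
  Cfsg.Agent.Helper22.BG13.le_sigmaCore_of_isPiNum h.h1350 hM (betaCore_le M)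
    (fun p hp hd => beta_subset_sigma h hM (mem_beta_of_dvd_card_betaCore hp hd))

namespace Ctx

variable {M L S : Subgroup G} {q : ℕ} [Fact q.Prime]

/-- `M = M_β N_G(S)` -/
theorem factor (c : Ctx M L S q) (h : Hyps G) :
    ∀ m ∈ M, ∃ b ∈ betaCore M, ∃ n ∈ normalizer (S : Set G), m = b * n := by
  have hq : q.Prime := Fact.out
  obtain ⟨H, hH, hHnil⟩ := (h.h1414 M c.hM).2.2.2.1
  -- a Sylow `q`-subgroup of `H` is a Sylow subgroup of `M_σ`
  obtain ⟨T, hT⟩ := Cfsg.Agent.Helper15.exists_isSylowIn (p := q) H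
  have hTσ : IsSylowIn q T (sigmaCore M) := by
    apply Cfsg.Agent.Helper15.isSylowIn_of_not_dvd_relIndex hT.isPGroup (hT.le.trans hH.1)
    rw [← relIndex_mul_relIndex T H (sigmaCore M) hT.le hH.1]
    intro hd
    rcases (Nat.Prime.dvd_mul hq).mp hd with hd | hd
    · exact hT.not_dvd_relIndex hd
    · exact hH.2.2 q hq ⟨hq, c.not_mem_beta h⟩ hd
  obtain ⟨k, hk, hkS⟩ := hTσ.exists_conj (c.sylow_sigmaCore h)
  set H1 : Subgroup G := H.map (MulAut.conj k).toMonoidHom with hH1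
  have hH1σ : H1 ≤ sigmaCore M := by
    have := Subgroup.map_mono (f := (MulAut.conj k).toMonoidHom) hH.1
    rwa [map_conj_of_mem hk] at this
  have hSH1 : S ≤ H1 := by
    rw [← hkS]; exact Subgroup.map_mono hT.le
  have hH1nil : Group.IsNilpotent H1 := by
    haveI := hHnil
    exact Group.nilpotent_of_surjective
      (H.equivMapOfInjective (MulAut.conj k).toMonoidHom (conj_injective k)).toMonoidHom
      (H.equivMapOfInjective (MulAut.conj k).toMonoidHom (conj_injective k)).surjective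
  have hH1N : H1 ≤ normalizer (S : Set G) :=
    Cfsg.Agent.Helper22.BG13.le_normalizer_of_isNilpotent hH1nil (c.hS.of_le hSH1 le_top)
  -- `M_σ = M_β H1`
  have hβσ := betaCore_le_sigmaCore h c.hM
  have hβhall := betaCore_hall h c.hM
  have hsup : sigmaCore M ≤ betaCore M ⊔ H1 := by
    have hle : betaCore M ⊔ H1 ≤ sigmaCore M := sup_le hβσ hH1σ
    rw [← Subgroup.relIndex_eq_one]
    by_contra hne
    obtain ⟨r, hr, hrd⟩ := Nat.exists_prime_and_dvd hne
    have h1 : r ∣ H1.relIndex (sigmaCore M) := by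
      rw [← relIndex_mul_relIndex H1 (betaCore M ⊔ H1) (sigmaCore M) le_sup_right hle]
      exact hrd.mul_left _
    have h2 : H1.relIndex (sigmaCore M) = H.relIndex (sigmaCore M) := by
      have h3 : Nat.card H1 = Nat.card H := Subgroup.card_map_of_injective (conj_injective k)
      have h4 := card_mul_relIndex' hH1σ
      have h5 := card_mul_relIndex' hH.1
      rw [h3] at h4
      exact Nat.eq_of_mul_eq_mul_left Nat.card_pos (h4.trans h5.symm)
    rw [h2] at h1
    have hrβ : r ∈ beta M := by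
      by_contra hrβ
      exact hH.2.2 r hr ⟨hr, hrβ⟩ h1
    have h6 : r ∣ (betaCore M).relIndex M := by
      rw [← relIndex_mul_relIndex (betaCore M) (sigmaCore M) M hβσ (sigmaCore_le M),
        ← relIndex_mul_relIndex (betaCore M) (betaCore M ⊔ H1) (sigmaCore M) le_sup_left hle]
      exact (hrd.mul_left _).mul_right _
    exact hβhall.2.2 r hr hrβ h6
  intro m hm
  obtain ⟨k', hk', n, hn, rfl⟩ := Cfsg.Agent.Helper22.BG13.frattini_factor (sigmaCore_le M)
    (le_normalizer_sigmaCore M) (c.sylow_sigmaCore h) m hm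
  have hH1β : H1 ≤ normalizer (betaCore M : Set G) :=
    (hH1σ.trans (sigmaCore_le M)).trans (le_normalizer_betaCore M)
  obtain ⟨b, hb, h1, hh1, rfl⟩ := Cfsg.Agent.Helper1.exists_mul_of_mem_sup hH1β (hsup hk')
  refine ⟨b, hb, h1 * n, (normalizer (S : Set G)).mul_mem (hH1N hh1) hn.2, by group⟩

omit [Fact q.Prime] in
theorem not_le (c : Ctx M L S q) : ¬ M ≤ L := by
  intro hML
  have hlt : M < L := lt_of_le_of_ne hML c.hne
  exact c.hL.1 (c.hM.2 L hlt)

/-- `M_β` is not contained in `L` -/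
theorem betaCore_not_le (c : Ctx M L S q) (h : Hyps G) : ¬ betaCore M ≤ L := by
  intro hβL
  apply c.not_le
  intro m hm
  obtain ⟨b, hb, n, hn, rfl⟩ := c.factor h m hm
  exact L.mul_mem (hβL hb) (c.hNL hn)

/-- `β(M) ∩ σ(L) = ∅` -/
theorem beta_not_sigma (c : Ctx M L S q) (h : Hyps G) {r : ℕ} (hr : r ∈ beta M) :
    r ∉ sigma L := by
  intro hrσ
  have hrp : r.Prime := hr.1.1
  haveI : Fact r.Prime := ⟨hrp⟩
  obtain ⟨B, hBM, hBe, hBc⟩ := Cfsg.Agent.Helper14.BGUniq.exists_elemAb_of_not_pRankLE hr.1.2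
  obtain ⟨T, hT⟩ := Cfsg.Agent.Helper15.exists_isSylowIn (p := r) L
  have hTtop := Cfsg.Agent.Helper22.BG13.isSylowIn_top_of_mem_sigma hrσ hT
  have hBp : IsPGroup r B := Cfsg.Agent.Helper14.BGUniq.isPGroup_of_isElementaryAbelian hBe
  obtain ⟨Q', hBQ'⟩ := hBp.exists_le_sylow
  obtain ⟨g, -, hg⟩ := (Cfsg.Agent.Helper15.isSylowIn_top Q').exists_conj hTtop
  have h1 : B.map (MulAut.conj g).toMonoidHom ≤ T := by
    rw [← hg]; exact Subgroup.map_mono hBQ'
  obtain ⟨h2, h3⟩ := elemAb_map (MulAut.conj g).toMonoidHom (conj_injective g) hBe.1 hBe.2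
  have hU : InUniqueMaximal (B.map (MulAut.conj g).toMonoidHom) := by
    apply Cfsg.Agent.S1403.result h.hG _
      (Cfsg.Agent.Helper14.BGTrans.ne_top_of_isPGroup h.hG (hBp.map _))
    · apply Cfsg.Agent.Helper14.BGUniq.not_rankLE_of_lt le_rfl h2
      rw [h3]
      exact lt_trans (Nat.pow_lt_pow_right hrp.one_lt (by norm_num)) hBc
    · left
      apply Cfsg.Agent.Helper14.BGUniq.not_rankLE_of_lt le_rfl h2
      rw [h3]; exact hBc
  obtain ⟨H, -, huniq⟩ := hU
  have h4 := huniq L ⟨c.hL, h1.trans hT.le⟩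
  have h5 := huniq (M.map (MulAut.conj g).toMonoidHom)
    ⟨Cfsg.Agent.Helper14.BGUniq.isCoatom_map_conj c.hM g, Subgroup.map_mono hBM⟩
  exact c.not_conj g (h4.trans h5.symm)

theorem coprime_betaCore_sigmaCore (c : Ctx M L S q) (h : Hyps G) :
    (Nat.card (betaCore M)).Coprime (Nat.card (sigmaCore L)) := by
  refine Nat.coprime_of_dvd ?_
  intro k hk hk1 hk2
  exact not_dvd_card_sigmaCore hk (c.beta_not_sigma h (mem_beta_of_dvd_card_betaCore hk hk1)) hk2

/-- `M_β ∩ L` centralises `S` -/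
theorem betaCore_inf_le_centralizer (c : Ctx M L S q) (h : Hyps G) :
    betaCore M ⊓ L ≤ centralizer (S : Set G) := by
  rintro x ⟨hxβ, hxL⟩
  rw [Subgroup.mem_centralizer_iff]
  intro s hs
  have hsσ : s ∈ sigmaCore L := c.symm.S_le_sigmaCore h hs
  have h1 : x * s * x⁻¹ ∈ sigmaCore L :=
    (Subgroup.mem_normalizer_iff.mp (le_normalizer_sigmaCore L hxL) s).mp hsσ
  have h2 : s * x⁻¹ * s⁻¹ ∈ betaCore M :=
    (Subgroup.mem_normalizer_iff.mp (le_normalizer_betaCore M (c.hSM hs)) x⁻¹).mp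
      ((betaCore M).inv_mem hxβ)
  have h3 : x * s * x⁻¹ * s⁻¹ ∈ betaCore M ⊓ sigmaCore L := by
    refine ⟨?_, (sigmaCore L).mul_mem h1 ((sigmaCore L).inv_mem hsσ)⟩
    have : x * s * x⁻¹ * s⁻¹ = x * (s * x⁻¹ * s⁻¹) := by group
    rw [this]
    exact (betaCore M).mul_mem hxβ h2
  rw [(Subgroup.disjoint_of_coprime_natCard (c.coprime_betaCore_sigmaCore h)).eq_bot,
    Subgroup.mem_bot] at h3
  calc s * x = (x * s * x⁻¹ * s⁻¹)⁻¹ * (x * s) := by group
    _ = x * s := by rw [h3, inv_one, one_mul]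

end Ctx

end Cfsg.Agent.Helper4.BGSig
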