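import Mathlib
import Cfsg.Agent.Lib.Helper4.BGSigC

/-!
# The sigma-partition theorem: complements inside `N_G(S)` (helper4)
-/

set_option autoImplicit false
set_option linter.unusedVariables false
set_option linter.style.haveILetI false

namespace Cfsg.Agent.Helper4.BGSig

open Cfsg Subgroup
open scoped commutatorElement
open Cfsg.Agent.Helper15 (IsSylowIn)
open Cfsg.Agent.Helper4.BG144

universe u

variable {G : Type u} [Group G] [Finite G]

namespace Ctx

variable {M L S : Subgroup G} {q : ℕ} [Fact q.Prime]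

theorem map_conj_le_of_mem {H K : Subgroup G} (hKH : K ≤ H) {n : G} (hn : n ∈ H) :
    K.map (MulAut.conj n).toMonoidHom ≤ H := by
  have := Subgroup.map_mono (f := (MulAut.conj n).toMonoidHom) hKH
  rwa [map_conj_of_mem hn] at this

/-- a complement of `M_σ` in `M` inside `N_G(S)` containing a given `p`-subgroup of `N_G(S)`,
`p ∉ σ(M)` -/
theorem exists_compl (c : Ctx M L S q) (h : Hyps G) {p : ℕ} [Fact p.Prime] (hp : p ∉ sigma M)
    {P : Subgroup G} (hPN : P ≤ normalizer (S : Set G)) (hPp : IsPGroup p P) :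
    ∃ E : Subgroup G, IsComplIn E (sigmaCore M) M ∧ E ≤ normalizer (S : Set G) ∧ P ≤ E := by
  have hpp : p.Prime := Fact.out
  have hhall := (h.h1350 M c.hM).1
  obtain ⟨E₀, hE₀⟩ := Cfsg.Agent.Lead.BGThmC.exists_compl_sigmaCore M hhall
  have hcop : (Nat.card E₀).Coprime (Nat.card (sigmaCore M)) := complIn_coprime_of_hall hE₀ hhall
  obtain ⟨Q, hQ⟩ := Cfsg.Agent.Helper1.exists_invariant_sylow (K := sigmaCore M) (p := q) E₀
    (hE₀.1.trans (le_normalizer_sigmaCore M)) hcop
    (Or.inr (c.solvable_of_le h (sigmaCore_le M)))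
  obtain ⟨k, hk, hkS⟩ :=
    (Cfsg.Agent.Helper15.isSylowIn_map_subtype Q).exists_conj (c.sylow_sigmaCore h)
  have hkM : k ∈ M := sigmaCore_le M hk
  set E₁ : Subgroup G := E₀.map (MulAut.conj k).toMonoidHom with hE₁def
  have hE₁ : IsComplIn E₁ (sigmaCore M) M := complIn_conj hE₀ (le_normalizer_sigmaCore M) hkM
  have hE₁N : E₁ ≤ normalizer (S : Set G) := by
    have := Cfsg.Agent.Helper14.BGTrans.map_conj_le_normalizer_map_conj hQ k
    rwa [hkS] at this
  -- a Sylow `p`-subgroup of `E₁`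
  obtain ⟨P₀⟩ : Nonempty (Sylow p ↥E₁) := inferInstance
  set S₀ : Subgroup G := (P₀ : Subgroup ↥E₁).map E₁.subtype with hS₀
  have hS₀E : S₀ ≤ E₁ := map_subtype_le _
  have hS₀p : IsPGroup p S₀ := P₀.isPGroup'.map E₁.subtype
  have hidxM : ¬ p ∣ S₀.relIndex M := by
    rw [← relIndex_mul_relIndex S₀ E₁ M hS₀E hE₁.1, complIn_relIndex_eq hE₁]
    intro hd
    rcases (Nat.Prime.dvd_mul hpp).mp hd with hd | hd
    · have h3 : S₀.relIndex E₁ = (P₀ : Subgroup ↥E₁).index := by
        unfold relIndex subgroupOf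
        rw [hS₀, comap_map_eq_self_of_injective E₁.subtype_injective]
      rw [h3] at hd
      exact P₀.not_dvd_index hd
    · exact not_dvd_card_sigmaCore hpp hp hd
  have hidx : ¬ p ∣ S₀.relIndex (normalizer (S : Set G)) := by
    intro hd
    apply hidxM
    rw [← relIndex_mul_relIndex S₀ (normalizer (S : Set G)) M (hS₀E.trans hE₁N) c.hNM]
    exact hd.mul_right _
  obtain ⟨n, hnN, hn⟩ := exists_conj_le_of_sylowLike (hS₀E.trans hE₁N) hS₀p hidx hPN hPp
  refine ⟨E₁.map (MulAut.conj n⁻¹).toMonoidHom,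
    complIn_conj hE₁ (le_normalizer_sigmaCore M) (M.inv_mem (c.hNM hnN)),
    map_conj_le_of_mem hE₁N (inv_mem hnN), ?_⟩
  intro y hy
  rw [mem_map_conj, inv_inv]
  apply hS₀E
  apply hn
  exact ⟨y, hy, by simp [MulAut.conj_apply]⟩

end Ctx

end Cfsg.Agent.Helper4.BGSig
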