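import Mathlib

set_option autoImplicit false

namespace Cfsg.Agent.Helper4

/-- Sharply doubly transitive action, in elementary form. -/
structure Sharp2 (G α : Type*) [Group G] [MulAction G α] : Prop where
  trans : ∀ a b c d : α, a ≠ b → c ≠ d → ∃ g : G, g • a = c ∧ g • b = d
  sharp : ∀ (a b : α) (g : G), a ≠ b → g • a = a → g • b = b → g = 1

/-- Fixed-point-free. -/
def Fpf {G : Type*} (α : Type*) [Group G] [MulAction G α] (g : G) : Prop := ∀ a : α, g • a ≠ a

namespace Sharp2

variable {G α : Type*} [Group G] [MulAction G α]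

theorem eq_of_smul_eq (h : Sharp2 G α) {a b : α} (hab : a ≠ b) {g k : G} (h1 : g • a = k • a)
    (h2 : g • b = k • b) : g = k := by
  have := h.sharp a b (k⁻¹ * g) hab (by rw [mul_smul, h1, inv_smul_smul])
    (by rw [mul_smul, h2, inv_smul_smul])
  exact (inv_mul_eq_one.1 this).symm

theorem exists_swap (h : Sharp2 G α) {a b : α} (hab : a ≠ b) :
    ∃ g : G, g • a = b ∧ g • b = a ∧ g * g = 1 ∧ g ≠ 1 := by
  obtain ⟨g, h1, h2⟩ := h.trans a b b a hab hab.symm
  refine ⟨g, h1, h2, ?_, ?_⟩
  · apply h.sharp a b _ hab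
    · rw [mul_smul, h1, h2]
    · rw [mul_smul, h2, h1]
  · rintro rfl
    rw [one_smul] at h1
    exact hab h1

theorem inv_eq_of_sq {s : G} (hs : s * s = 1) : s⁻¹ = s := inv_eq_of_mul_eq_one_left hs

theorem conj_inv_of_sq {r u : G} (hr : r * r = 1) : r * u⁻¹ * r = (r * u * r)⁻¹ := by
  have hri : r⁻¹ = r := inv_eq_of_sq hr
  calc r * u⁻¹ * r = r⁻¹ * u⁻¹ * r⁻¹ := by rw [hri]
    _ = (r * u * r)⁻¹ := by group

/-- If a product of two distinct involutions fixes a point, both fix it. -/
theorem common_fixed (h : Sharp2 G α) {s t : G} (hs : s * s = 1) (ht : t * t = 1) (hst : s ≠ t)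
    {c : α} (hc : (s * t) • c = c) : s • c = c ∧ t • c = c := by
  have h1 : t • c = s • c := by
    have := congrArg (fun x => s • x) hc
    simp only [mul_smul] at this
    rw [← mul_smul, hs, one_smul] at this
    exact this
  by_cases hd : t • c = c
  · exact ⟨by rw [← h1]; exact hd, hd⟩
  · exfalso
    apply hst
    have hcd : c ≠ t • c := fun e => hd e.symm
    apply h.eq_of_smul_eq hcd
    · exact h1.symm
    · rw [← mul_smul, hc, ← mul_smul, ht, one_smul]

/-- A non-identity element has at most one fixed point. -/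
theorem fixed_unique (h : Sharp2 G α) {g : G} (hg : g ≠ 1) {a b : α} (ha : g • a = a)
    (hb : g • b = b) : a = b := by
  by_contra hab
  exact hg (h.sharp a b g hab ha hb)

theorem isPretransitive (h : Sharp2 G α) (h2 : ∃ a b : α, a ≠ b) : MulAction.IsPretransitive G α := by
  constructor
  intro x y
  obtain ⟨a, b, hab⟩ := h2
  -- pick x' ≠ x and y' ≠ y
  have hx : ∃ x', x ≠ x' := by
    by_cases hxa : x = a
    · exact ⟨b, by rw [hxa]; exact hab⟩
    · exact ⟨a, hxa⟩
  have hy : ∃ y', y ≠ y' := by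
    by_cases hya : y = a
    · exact ⟨b, by rw [hya]; exact hab⟩
    · exact ⟨a, hya⟩
  obtain ⟨x', hx'⟩ := hx
  obtain ⟨y', hy'⟩ := hy
  obtain ⟨g, hg, _⟩ := h.trans x x' y y' hx' hy'
  exact ⟨g, hg⟩

/-- The number of elements that are the identity or fixed-point-free equals the degree. -/
theorem card_N (h : Sharp2 G α) [Fintype α] [Finite G] (h2 : ∃ a b : α, a ≠ b) :
    Nat.card {g : G // g = 1 ∨ Fpf α g} = Fintype.card α := by
  classical
  have : Fintype G := Fintype.ofFinite G
  have htr := h.isPretransitive h2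
  have hne : Nonempty α := ⟨h2.choose⟩
  -- Burnside
  have hB : ∑ g : G, Nat.card (MulAction.fixedBy α g) = Fintype.card G := by
    have e := MulAction.sigmaFixedByEquivOrbitsProdGroup G α
    have h1 := Nat.card_congr e
    rw [Nat.card_sigma, Nat.card_prod] at h1
    have h3 : Nat.card (Quotient (MulAction.orbitRel G α)) = 1 := by
      have hu := (MulAction.pretransitive_iff_unique_quotient_of_nonempty G α).1 htr
      obtain ⟨u⟩ := hu
      exact Nat.card_unique
    rw [h3, one_mul, Nat.card_eq_fintype_card] at h1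
    exact h1
  -- pointwise identity
  have hpt : ∀ g : G, Nat.card (MulAction.fixedBy α g) + (if (g = 1 ∨ Fpf α g) then 1 else 0) =
      1 + (if g = 1 then Fintype.card α else 0) := by
    intro g
    by_cases hg : g = 1
    · subst hg
      have : MulAction.fixedBy α (1 : G) = Set.univ := by
        ext a; simp [MulAction.mem_fixedBy]
      rw [this, Nat.card_congr (Equiv.Set.univ α), Nat.card_eq_fintype_card]
      simp [add_comm]
    · by_cases hf : Fpf α g
      · have : MulAction.fixedBy α g = ∅ := by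
          ext a
          simp only [MulAction.mem_fixedBy, Set.mem_empty_iff_false, iff_false]
          exact hf a
        rw [this]
        simp [hg, hf]
      · have hf' : ∃ a : α, g • a = a := by
          unfold Fpf at hf
          push Not at hf
          exact hf
        obtain ⟨a, ha⟩ := hf'
        have : MulAction.fixedBy α g = {a} := by
          ext b
          simp only [MulAction.mem_fixedBy, Set.mem_singleton_iff]
          constructor
          · intro hb
            exact h.fixed_unique hg hb ha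
          · rintro rfl
            exact ha
        rw [this]
        simp [hg, hf]
  have hsum := Finset.sum_congr (rfl : (Finset.univ : Finset G) = Finset.univ) (fun g _ => hpt g)
  rw [Finset.sum_add_distrib, Finset.sum_add_distrib, hB, Finset.sum_boole, Finset.sum_const,
    Finset.sum_ite_eq' ] at hsum
  simp only [Finset.card_univ, smul_eq_mul, mul_one, Finset.mem_univ, if_true] at hsum
  rw [Nat.card_eq_fintype_card, Fintype.card_subtype]
  have := Nat.add_left_cancel hsum
  exact_mod_cast this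

/-- An injective family of `n - 1` non-identity fixed-point-free elements exhausts them. -/
theorem exists_of_injective (h : Sharp2 G α) [Fintype α] [Finite G] (h2 : ∃ a b : α, a ≠ b) (a : α)
    (F : {b : α // b ≠ a} → G) (hF : Function.Injective F) (hF1 : ∀ b, F b ≠ 1)
    (hFf : ∀ b, Fpf α (F b)) {x : G} (hx1 : x ≠ 1) (hxf : Fpf α x) : ∃ b, F b = x := by
  classical
  let F' : α → {g : G // g = 1 ∨ Fpf α g} := fun b =>
    if hb : b = a then ⟨1, Or.inl rfl⟩ else ⟨F ⟨b, hb⟩, Or.inr (hFf _)⟩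
  have hF'a : ∀ b, b = a → (F' b : G) = 1 := by
    intro b hb
    simp only [F', hb, dite_true]
  have hF'b : ∀ b (hb : b ≠ a), (F' b : G) = F ⟨b, hb⟩ := by
    intro b hb
    simp only [F', hb, dite_false]
  have hinj : Function.Injective F' := by
    intro b c hbc
    have hbc' : (F' b : G) = F' c := congrArg Subtype.val hbc
    by_cases hb : b = a
    · by_cases hc : c = a
      · rw [hb, hc]
      · rw [hF'a b hb, hF'b c hc] at hbc'
        exact absurd hbc'.symm (hF1 _)
    · by_cases hc : c = a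
      · rw [hF'b b hb, hF'a c hc] at hbc'
        exact absurd hbc' (hF1 _)
      · rw [hF'b b hb, hF'b c hc] at hbc'
        have := hF hbc'
        exact congrArg Subtype.val this
  have hfin : Finite {g : G // g = 1 ∨ Fpf α g} := inferInstance
  have hbij := hinj.bijective_of_nat_card_le (by
    rw [h.card_N h2, Nat.card_eq_fintype_card])
  obtain ⟨b, hb⟩ := hbij.2 ⟨x, Or.inr hxf⟩
  have hb' : (F' b : G) = x := congrArg Subtype.val hb
  by_cases hba : b = a
  · rw [hF'a b hba] at hb'
    exact absurd hb'.symm hx1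
  · rw [hF'b b hba] at hb'
    exact ⟨⟨b, hba⟩, hb'⟩

/-- The unique element swapping `a` and `b`. -/
noncomputable def swp (h : Sharp2 G α) (a : α) (b : {b : α // b ≠ a}) : G :=
  (h.exists_swap (a := a) (b := b.1) (fun e => b.2 e.symm)).choose

theorem swp_smul (h : Sharp2 G α) (a : α) (b : {b : α // b ≠ a}) : h.swp a b • a = b.1 :=
  (h.exists_swap (a := a) (b := b.1) (fun e => b.2 e.symm)).choose_spec.1

theorem swp_smul' (h : Sharp2 G α) (a : α) (b : {b : α // b ≠ a}) : h.swp a b • b.1 = a :=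
  (h.exists_swap (a := a) (b := b.1) (fun e => b.2 e.symm)).choose_spec.2.1

theorem swp_sq (h : Sharp2 G α) (a : α) (b : {b : α // b ≠ a}) : h.swp a b * h.swp a b = 1 :=
  (h.exists_swap (a := a) (b := b.1) (fun e => b.2 e.symm)).choose_spec.2.2.1

theorem swp_ne_one (h : Sharp2 G α) (a : α) (b : {b : α // b ≠ a}) : h.swp a b ≠ 1 :=
  (h.exists_swap (a := a) (b := b.1) (fun e => b.2 e.symm)).choose_spec.2.2.2

theorem swp_injective (h : Sharp2 G α) (a : α) : Function.Injective (h.swp a) := by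
  intro b c hbc
  apply Subtype.ext
  rw [← h.swp_smul a b, ← h.swp_smul a c, hbc]

/-- An involution moving `a` is a swap. -/
theorem eq_swp (h : Sharp2 G α) {r : G} (hr : r * r = 1) {a : α} (hra : r • a ≠ a) :
    r = h.swp a ⟨r • a, hra⟩ := by
  apply h.eq_of_smul_eq (a := a) (b := r • a) (fun e => hra e.symm)
  · rw [h.swp_smul]
  · rw [← mul_smul, hr, one_smul]
    exact (h.swp_smul' a ⟨r • a, hra⟩).symm

theorem fpf_inv {x : G} (hx : Fpf α x) : Fpf α x⁻¹ := by
  intro a ha
  apply hx a
  have := congrArg (fun y => x • y) ha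
  simp only [smul_inv_smul] at this
  exact this.symm

theorem fpf_conj {x : G} (hx : Fpf α x) (g : G) : Fpf α (g * x * g⁻¹) := by
  intro a ha
  apply hx (g⁻¹ • a)
  have := congrArg (fun y => g⁻¹ • y) ha
  simp only [mul_smul, inv_smul_smul] at this
  exact this

/-- Case A: all involutions are fixed-point-free. -/
theorem caseA_sq (h : Sharp2 G α) [Fintype α] [Finite G] (h2 : ∃ a b : α, a ≠ b)
    (hA : ∀ s : G, s * s = 1 → s ≠ 1 → Fpf α s) {x : G} (hx1 : x ≠ 1) (hxf : Fpf α x) :
    x * x = 1 := by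
  obtain ⟨a, _, _⟩ := h2
  obtain ⟨b, rfl⟩ := h.exists_of_injective ⟨a, _, ‹_›⟩ a (h.swp a) (h.swp_injective a)
    (h.swp_ne_one a) (fun b => hA _ (h.swp_sq a b) (h.swp_ne_one a b)) hx1 hxf
  exact h.swp_sq a b

theorem caseA_mul (h : Sharp2 G α) [Fintype α] [Finite G] (h2 : ∃ a b : α, a ≠ b)
    (hA : ∀ s : G, s * s = 1 → s ≠ 1 → Fpf α s) {x y : G} (hx : x = 1 ∨ Fpf α x)
    (hy : y = 1 ∨ Fpf α y) : x * y = 1 ∨ Fpf α (x * y) := by
  by_cases hx1 : x = 1
  · rw [hx1, one_mul]; exact hy
  by_cases hy1 : y = 1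
  · rw [hy1, mul_one]; exact hx
  have hxf : Fpf α x := hx.resolve_left hx1
  have hyf : Fpf α y := hy.resolve_left hy1
  have hxx := h.caseA_sq h2 hA hx1 hxf
  have hyy := h.caseA_sq h2 hA hy1 hyf
  by_cases hxy : x = y
  · left; rw [hxy]; exact hyy
  · right
    intro c hc
    exact hxf c (h.common_fixed hxx hyy hxy hc).1

/-- Case B: an involution `t` fixing `a`; the products `t * swp a b` exhaust the non-identity
fixed-point-free elements. -/
theorem caseB_exhaust (h : Sharp2 G α) [Fintype α] [Finite G] (h2 : ∃ a b : α, a ≠ b)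
    {t : G} (ht : t * t = 1) (ht1 : t ≠ 1) {a : α} (hta : t • a = a) {x : G} (hx1 : x ≠ 1)
    (hxf : Fpf α x) : ∃ b, t * h.swp a b = x := by
  apply h.exists_of_injective h2 a (fun b => t * h.swp a b)
  · intro b c hbc
    exact h.swp_injective a (mul_left_cancel hbc)
  · intro b hb
    have h1 : h.swp a b = t := by
      have := mul_eq_one_iff_eq_inv.1 hb
      rw [inv_eq_of_sq (h.swp_sq a b)] at this
      exact this.symm
    have h3 := h.swp_smul a b
    rw [h1, hta] at h3
    exact b.2 h3.symm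
  · intro b c hc
    have hne : t ≠ h.swp a b := by
      intro e
      have h3 := h.swp_smul a b
      rw [← e, hta] at h3
      exact b.2 h3.symm
    obtain ⟨h4, h5⟩ := h.common_fixed ht (h.swp_sq a b) hne hc
    have hca : c = a := h.fixed_unique ht1 h4 hta
    rw [hca, h.swp_smul] at h5
    exact b.2 h5
  · exact hx1
  · exact hxf

/-- Case B: two involutions with the same fixed point are equal. -/
theorem caseB_unique (h : Sharp2 G α) [Fintype α] [Finite G] (h2 : ∃ a b : α, a ≠ b)
    {t t' : G} (ht : t * t = 1) (ht1 : t ≠ 1) (ht' : t' * t' = 1) (ht'1 : t' ≠ 1) {a : α}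
    (hta : t • a = a) (ht'a : t' • a = a) : t = t' := by
  -- two distinct points different from a
  obtain ⟨b, hba⟩ : ∃ b : α, b ≠ a := by
    obtain ⟨x, y, hxy⟩ := h2
    by_cases hx : x = a
    · exact ⟨y, fun e => hxy (by rw [hx, e])⟩
    · exact ⟨x, hx⟩
  have htb : t • b ≠ b := fun e => hba (h.fixed_unique ht1 e hta)
  have htba : t • b ≠ a := by
    intro e
    have : t • b = t • a := by rw [e, hta]
    exact hba (MulAction.injective t this)
  set r := h.swp a ⟨b, hba⟩ with hr
  set r' := h.swp a ⟨t • b, htba⟩ with hr'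
  have hrr' : r ≠ r' := by
    intro e
    have := h.swp_injective a e
    exact htb (congrArg Subtype.val this).symm
  set u := t' * t with hu
  have hkey : ∀ c : {c : α // c ≠ a}, (u * h.swp a c) * (u * h.swp a c) = 1 := by
    intro c
    have hx1 : t * h.swp a c ≠ 1 := by
      intro hb
      have h1 : h.swp a c = t := by
        have := mul_eq_one_iff_eq_inv.1 hb
        rw [inv_eq_of_sq (h.swp_sq a c)] at this
        exact this.symm
      have h3 := h.swp_smul a c
      rw [h1, hta] at h3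
      exact c.2 h3.symm
    have hxf : Fpf α (t * h.swp a c) := by
      intro d hd
      have hne : t ≠ h.swp a c := by
        intro e
        have h3 := h.swp_smul a c
        rw [← e, hta] at h3
        exact c.2 h3.symm
      obtain ⟨h4, h5⟩ := h.common_fixed ht (h.swp_sq a c) hne hd
      have hca : d = a := h.fixed_unique ht1 h4 hta
      rw [hca, h.swp_smul] at h5
      exact c.2 h5
    obtain ⟨c', hc'⟩ := h.caseB_exhaust h2 ht' ht'1 ht'a hx1 hxf
    have : u * h.swp a c = h.swp a c' := by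
      rw [hu, mul_assoc, ← hc', ← mul_assoc, ht', one_mul]
    rw [this]
    exact h.swp_sq a c'
  -- r inverts u, r' inverts u
  have hinv : ∀ c : {c : α // c ≠ a}, h.swp a c * u * h.swp a c = u⁻¹ := by
    intro c
    have h1 := hkey c
    have h3 : u * (h.swp a c * u * h.swp a c) = 1 := by
      rw [← h1]; group
    exact eq_inv_of_mul_eq_one_right h3
  by_contra hne
  have hu1 : u ≠ 1 := by
    intro e
    apply hne
    have : t' = t⁻¹ := mul_eq_one_iff_eq_inv.1 e
    rw [inv_eq_of_sq ht] at this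
    exact this.symm
  have hua : u • a = a := by rw [hu, mul_smul, hta, ht'a]
  have hcomm : (r * r') * u = u * (r * r') := by
    have h1 := hinv ⟨b, hba⟩
    have h2' := hinv ⟨t • b, htba⟩
    rw [← hr] at h1
    rw [← hr'] at h2'
    have hr2 : r * r = 1 := h.swp_sq a _
    have hr'2 : r' * r' = 1 := h.swp_sq a _
    -- r' u r' = u⁻¹ → r (r' u r') r = r u⁻¹ r = (r u r)⁻¹ = u
    have h3 : r * (r' * u * r') * r = u := by
      rw [h2']
      rw [conj_inv_of_sq hr2, h1, inv_inv]
    calc (r * r') * u = (r * (r' * u * r') * r) * (r * r') := by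
          have : (r * (r' * u * r') * r) * (r * r') = r * r' * u * (r' * (r * r) * r') := by group
          rw [this, hr2, mul_one, hr'2, mul_one]
      _ = u * (r * r') := by rw [h3]
  have hfix : u • ((r * r') • a) = (r * r') • a := by
    calc u • ((r * r') • a) = (u * (r * r')) • a := (mul_smul _ _ _).symm
      _ = ((r * r') * u) • a := by rw [hcomm]
      _ = (r * r') • (u • a) := mul_smul _ _ _
      _ = (r * r') • a := by rw [hua]
  have hrra : (r * r') • a = a := h.fixed_unique hu1 hfix hua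
  rw [mul_smul, hr', h.swp_smul] at hrra
  -- r • (t • b) = a, but r • b = a
  have h5 : r • b = a := h.swp_smul' a ⟨b, hba⟩
  have hrra' : r • (t • b) = a := hrra
  have : t • b = b := MulAction.injective r (show r • (t • b) = r • b by rw [hrra', h5])
  exact htb this

theorem caseB_mul (h : Sharp2 G α) [Fintype α] [Finite G] (h2 : ∃ a b : α, a ≠ b)
    {t : G} (ht : t * t = 1) (ht1 : t ≠ 1) {a : α} (hta : t • a = a) {x y : G}
    (hx : x = 1 ∨ Fpf α x) (hy : y = 1 ∨ Fpf α y) : x * y = 1 ∨ Fpf α (x * y) := by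
  by_cases hx1 : x = 1
  · rw [hx1, one_mul]; exact hy
  by_cases hy1 : y = 1
  · rw [hy1, mul_one]; exact hx
  have hxf : Fpf α x := hx.resolve_left hx1
  have hyf : Fpf α y := hy.resolve_left hy1
  obtain ⟨b, hb⟩ := h.caseB_exhaust h2 ht ht1 hta hx1 hxf
  obtain ⟨b', hb'⟩ := h.caseB_exhaust h2 ht ht1 hta hy1 hyf
  have hr2 : h.swp a b * h.swp a b = 1 := h.swp_sq a b
  have hr'2 : h.swp a b' * h.swp a b' = 1 := h.swp_sq a b'
  have hr1 : h.swp a b ≠ 1 := h.swp_ne_one a b
  have hr'1 : h.swp a b' ≠ 1 := h.swp_ne_one a b'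
  generalize h.swp a b = r at hb hr2 hr1
  generalize h.swp a b' = r' at hb' hr'2 hr'1
  have hti : t⁻¹ = t := inv_eq_of_sq ht
  have hr''2 : (t * r' * t) * (t * r' * t) = 1 := by
    calc (t * r' * t) * (t * r' * t) = t * (r' * (t * t) * r') * t := by group
      _ = 1 := by rw [ht, mul_one, hr'2, mul_one, ht]
  have hr''1 : t * r' * t ≠ 1 := by
    intro e
    apply hr'1
    calc r' = t⁻¹ * (t * r' * t) * t⁻¹ := by group
      _ = 1 := by rw [e, mul_one, hti, ht]
  have hxy : x * y = t * (r * (t * r' * t)) * t⁻¹ := by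
    rw [← hb, ← hb', hti]
    calc t * r * (t * r') = t * r * (t * r') * 1 := by rw [mul_one]
      _ = t * r * (t * r') * (t * t) := by rw [ht]
      _ = t * (r * (t * r' * t)) * t := by group
  by_cases hrr : r = t * r' * t
  · left
    rw [hxy, ← hrr, hr2, mul_one, mul_inv_cancel]
  · right
    rw [hxy]
    apply fpf_conj
    intro c hc
    obtain ⟨h4, h5⟩ := h.common_fixed hr2 hr''2 hrr hc
    exact hrr (h.caseB_unique h2 hr2 hr1 hr''2 hr''1 h4 h5)

/-- The identity together with the fixed-point-free elements is closed under multiplication. -/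
theorem N_mul (h : Sharp2 G α) [Fintype α] [Finite G] (h2 : ∃ a b : α, a ≠ b) {x y : G}
    (hx : x = 1 ∨ Fpf α x) (hy : y = 1 ∨ Fpf α y) : x * y = 1 ∨ Fpf α (x * y) := by
  by_cases hA : ∀ s : G, s * s = 1 → s ≠ 1 → Fpf α s
  · exact h.caseA_mul h2 hA hx hy
  · push Not at hA
    obtain ⟨t, ht, ht1, htf⟩ := hA
    unfold Fpf at htf
    push Not at htf
    obtain ⟨a, hta⟩ := htf
    exact h.caseB_mul h2 ht ht1 hta hx hy

/-- The normal subgroup consisting of the identity and the fixed-point-free elements. -/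
def N (h : Sharp2 G α) [Fintype α] [Finite G] (h2 : ∃ a b : α, a ≠ b) : Subgroup G where
  carrier := {g | g = 1 ∨ Fpf α g}
  mul_mem' := fun hx hy => h.N_mul h2 hx hy
  one_mem' := Or.inl rfl
  inv_mem' := by
    rintro x (hx | hx)
    · left; rw [hx, inv_one]
    · right; exact fpf_inv hx

theorem mem_N (h : Sharp2 G α) [Fintype α] [Finite G] (h2 : ∃ a b : α, a ≠ b) (g : G) :
    g ∈ h.N h2 ↔ g = 1 ∨ Fpf α g := Iff.rfl

theorem card_N' (h : Sharp2 G α) [Fintype α] [Finite G] (h2 : ∃ a b : α, a ≠ b) :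
    Nat.card (h.N h2) = Fintype.card α := h.card_N h2

instance N_normal (h : Sharp2 G α) [Fintype α] [Finite G] (h2 : ∃ a b : α, a ≠ b) :
    (h.N h2).Normal := by
  constructor
  rintro x (hx | hx) g
  · left; rw [hx, mul_one, mul_inv_cancel]
  · right; exact fpf_conj hx g

/-- An element of `N` fixing a point is trivial. -/
theorem N_free (h : Sharp2 G α) [Fintype α] [Finite G] (h2 : ∃ a b : α, a ≠ b) {x : G}
    (hx : x ∈ h.N h2) {a : α} (ha : x • a = a) : x = 1 := by
  rcases hx with hx | hx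
  · exact hx
  · exact absurd ha (hx a)

/-- `N` acts transitively. -/
theorem N_exists_smul_eq (h : Sharp2 G α) [Fintype α] [Finite G] (h2 : ∃ a b : α, a ≠ b)
    (a b : α) : ∃ x ∈ h.N h2, x • a = b := by
  let f : h.N h2 → α := fun x => (x : G) • a
  have hinj : Function.Injective f := by
    intro x y hxy
    have h1 : ((y : G)⁻¹ * (x : G)) • a = a := by
      rw [mul_smul]
      show (y : G)⁻¹ • f x = a
      rw [hxy, inv_smul_smul]
    have h3 := h.N_free h2 ((h.N h2).mul_mem ((h.N h2).inv_mem y.2) x.2) h1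
    apply Subtype.ext
    exact (inv_mul_eq_one.1 h3).symm
  have hbij := hinj.bijective_of_nat_card_le (by
    rw [h.card_N' h2, Nat.card_eq_fintype_card])
  obtain ⟨x, hx⟩ := hbij.2 b
  exact ⟨x, x.2, hx⟩

/-- Non-identity elements of `N` are conjugate in `G`. -/
theorem N_conj (h : Sharp2 G α) [Fintype α] [Finite G] (h2 : ∃ a b : α, a ≠ b) {x y : G}
    (hx : x ∈ h.N h2) (hx1 : x ≠ 1) (hy : y ∈ h.N h2) (hy1 : y ≠ 1) :
    ∃ g : G, g * x * g⁻¹ = y := by
  obtain ⟨a, _, _⟩ := h2
  have hxa : a ≠ x • a := fun e => hx1 (h.N_free _ hx e.symm)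
  have hya : a ≠ y • a := fun e => hy1 (h.N_free _ hy e.symm)
  obtain ⟨g, hg1, hg2⟩ := h.trans a (x • a) a (y • a) hxa hya
  refine ⟨g, ?_⟩
  have hg1' : g⁻¹ • a = a := by rw [inv_smul_eq_iff, hg1]
  have hz : (g * x * g⁻¹) ∈ h.N _ := (h.N_normal _).conj_mem x hx g
  have hza : (g * x * g⁻¹) • a = y • a := by
    rw [mul_smul, mul_smul, hg1', hg2]
  have h1 : (y⁻¹ * (g * x * g⁻¹)) • a = a := by
    rw [mul_smul, hza, inv_smul_smul]
  have h3 := h.N_free _ ((h.N _).mul_mem ((h.N _).inv_mem hy) hz) h1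
  exact (inv_mul_eq_one.1 h3).symm

theorem two_le_card (h2 : ∃ a b : α, a ≠ b) [Fintype α] : 2 ≤ Fintype.card α :=
  Fintype.one_lt_card_iff.2 h2

/-- `N` has prime exponent. -/
theorem N_exponent (h : Sharp2 G α) [Fintype α] [Finite G] (h2 : ∃ a b : α, a ≠ b) :
    ∃ p : ℕ, p.Prime ∧ p ∣ Fintype.card α ∧ ∀ x ∈ h.N h2, x ^ p = 1 := by
  have hn : 2 ≤ Fintype.card α := two_le_card h2
  set p := (Fintype.card α).minFac with hp
  have hpp : p.Prime := Nat.minFac_prime (by omega)
  have hdvd : p ∣ Fintype.card α := Nat.minFac_dvd _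
  refine ⟨p, hpp, hdvd, ?_⟩
  have : Fact p.Prime := ⟨hpp⟩
  have hdvd' : p ∣ Nat.card (h.N h2) := by rw [h.card_N' h2]; exact hdvd
  obtain ⟨x0, hx0⟩ := exists_prime_orderOf_dvd_card' p hdvd'
  have hx01 : (x0 : G) ≠ 1 := by
    intro e
    have : x0 = 1 := Subtype.ext e
    rw [this, orderOf_one] at hx0
    exact hpp.one_lt.ne hx0
  have hx0p : (x0 : G) ^ p = 1 := by
    have := pow_orderOf_eq_one x0
    rw [hx0] at this
    have h' := congrArg Subtype.val this
    simpa using h'
  intro y hy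
  by_cases hy1 : y = 1
  · rw [hy1, one_pow]
  · obtain ⟨g, hg⟩ := h.N_conj h2 x0.2 hx01 hy hy1
    rw [← hg, conj_pow, hx0p, mul_one, mul_inv_cancel]

/-- `N` is commutative. -/
theorem N_comm (h : Sharp2 G α) [Fintype α] [Finite G] (h2 : ∃ a b : α, a ≠ b) {x y : G}
    (hx : x ∈ h.N h2) (hy : y ∈ h.N h2) : x * y = y * x := by
  -- an element inverting N
  have hτ : ∃ τ : G, ∀ z ∈ h.N h2, τ * z * τ⁻¹ = z⁻¹ := by
    by_cases hA : ∀ s : G, s * s = 1 → s ≠ 1 → Fpf α s
    · refine ⟨1, ?_⟩
      intro z hz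
      rw [one_mul, inv_one, mul_one]
      by_cases hz1 : z = 1
      · rw [hz1, inv_one]
      · have := h.caseA_sq h2 hA hz1 (hz.resolve_left hz1)
        exact (inv_eq_of_sq this).symm
    · push Not at hA
      obtain ⟨t, ht, ht1, htf⟩ := hA
      unfold Fpf at htf
      push Not at htf
      obtain ⟨a, hta⟩ := htf
      refine ⟨t, ?_⟩
      intro z hz
      by_cases hz1 : z = 1
      · rw [hz1, mul_one, mul_inv_cancel, inv_one]
      · obtain ⟨b, hb⟩ := h.caseB_exhaust h2 ht ht1 hta hz1 (hz.resolve_left hz1)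
        have hr2 := h.swp_sq a b
        generalize h.swp a b = r at hb hr2
        rw [← hb, inv_eq_of_sq ht, mul_inv_rev, inv_eq_of_sq ht, inv_eq_of_sq hr2, ← mul_assoc,
          ht, one_mul]
  obtain ⟨τ, hτ⟩ := hτ
  have h1 := hτ (x * y) ((h.N h2).mul_mem hx hy)
  have h2' : τ * (x * y) * τ⁻¹ = (τ * x * τ⁻¹) * (τ * y * τ⁻¹) := by group
  rw [h2', hτ x hx, hτ y hy, mul_inv_rev] at h1
  -- x⁻¹ * y⁻¹ = y⁻¹ * x⁻¹
  have h3 := congrArg (fun z => z⁻¹) h1
  simp only [mul_inv_rev, inv_inv] at h3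
  exact h3.symm

theorem card_stabilizer (h : Sharp2 G α) [Fintype α] [Finite G] (h2 : ∃ a b : α, a ≠ b) (a : α) :
    Nat.card (MulAction.stabilizer G a) = Fintype.card α - 1 := by
  classical
  obtain ⟨b0, hb0⟩ : ∃ b : α, b ≠ a := by
    obtain ⟨x, y, hxy⟩ := h2
    by_cases hx : x = a
    · exact ⟨y, fun e => hxy (by rw [hx, e])⟩
    · exact ⟨x, hx⟩
  let f : MulAction.stabilizer G a → {c : α // c ≠ a} := fun g => ⟨(g : G) • b0, by
    intro e
    have hg : (g : G) • a = a := g.2
    have : (g : G) • b0 = (g : G) • a := by rw [e, hg]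
    exact hb0 (MulAction.injective (g : G) this)⟩
  have hbij : Function.Bijective f := by
    constructor
    · intro g g' hgg
      have h1 : (g : G) • b0 = (g' : G) • b0 := congrArg Subtype.val hgg
      have hg : (g : G) • a = a := g.2
      have hg' : (g' : G) • a = a := g'.2
      apply Subtype.ext
      exact h.eq_of_smul_eq (fun e => hb0 e.symm) (by rw [hg, hg']) h1
    · rintro ⟨c, hc⟩
      obtain ⟨g, hg1, hg2⟩ := h.trans a b0 a c (fun e => hb0 e.symm) (fun e => hc e.symm)
      exact ⟨⟨g, hg1⟩, Subtype.ext hg2⟩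
  rw [Nat.card_congr (Equiv.ofBijective f hbij), Nat.card_eq_fintype_card]
  exact Set.card_ne_eq a

theorem card_G (h : Sharp2 G α) [Fintype α] [Finite G] (h2 : ∃ a b : α, a ≠ b) :
    Nat.card G = Fintype.card α * (Fintype.card α - 1) := by
  have htr := h.isPretransitive h2
  obtain ⟨a, _, _⟩ := h2
  rw [← Subgroup.index_mul_card (MulAction.stabilizer G a),
    MulAction.index_stabilizer_of_transitive, h.card_stabilizer ⟨a, _, ‹_›⟩ a,
    Nat.card_eq_fintype_card]

/-- Every Sylow `p`-subgroup equals `N`, where `p` is the prime dividing the degree. -/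
theorem sylow_eq_N (h : Sharp2 G α) [Fintype α] [Finite G] (h2 : ∃ a b : α, a ≠ b) {p : ℕ}
    [Fact p.Prime] (hdvd : p ∣ Fintype.card α) (hexp : ∀ x ∈ h.N h2, x ^ p = 1) (P : Sylow p G) :
    (P : Subgroup G) = h.N h2 := by
  have hp : p.Prime := Fact.out
  have hNp : IsPGroup p (h.N h2) := by
    intro x
    refine ⟨1, ?_⟩
    rw [pow_one]
    apply Subtype.ext
    rw [Subgroup.coe_pow]
    exact hexp x x.2
  have hle : h.N h2 ≤ P := hNp.le_sylow_of_normal P
  obtain ⟨j, hj⟩ := IsPGroup.iff_card.mp hNp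
  rw [h.card_N' h2] at hj
  obtain ⟨m, hm⟩ := IsPGroup.iff_card.mp P.isPGroup'
  have hPdvd : Nat.card P ∣ Nat.card G := Subgroup.card_subgroup_dvd_card _
  rw [h.card_G h2, hm, hj] at hPdvd
  have hj0 : j ≠ 0 := by
    rintro rfl
    rw [pow_zero] at hj
    have := two_le_card h2
    omega
  have hcop : (p ^ m).Coprime (p ^ j - 1) := by
    apply Nat.Coprime.pow_left
    rw [Nat.Prime.coprime_iff_not_dvd hp]
    intro hd
    have h1 : p ∣ p ^ j := dvd_pow_self p hj0
    have h3 : p ∣ p ^ j - (p ^ j - 1) := Nat.dvd_sub h1 hd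
    have h4 : p ^ j - (p ^ j - 1) = 1 := by
      have : 1 ≤ p ^ j := Nat.one_le_pow _ _ hp.pos
      omega
    rw [h4] at h3
    exact hp.one_lt.ne' (Nat.dvd_one.1 h3)
  have hdvd2 : p ^ m ∣ p ^ j := hcop.dvd_of_dvd_mul_right hPdvd
  have hcard : Nat.card P ≤ Nat.card (h.N h2) := by
    rw [hm, h.card_N' h2, hj]
    exact Nat.le_of_dvd (pow_pos hp.pos j) hdvd2
  exact (Subgroup.eq_of_le_of_card_ge hle hcard).symm

end Sharp2

end Cfsg.Agent.Helper4
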