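import Mathlib
import Cfsg.Agent.Lib.Helper10.EODefs

/-!
# AO-P2C (S2262): `star` commutes with `Polynomial.map` along a field homomorphism (helper4)
-/

set_option autoImplicit false

namespace Cfsg.Agent.Helper17.AO

open Polynomial Matrix
open Cfsg.Agent.Helper10.EO (star)

section poly
variable {F : Type*} [Field F]

/-- AO-P2C -/
theorem star_map {K : Type*} [Field K] (φ : K →+* F) (f : K[X]) :
    star (f.map φ) = (star f).map φ := by
  unfold Cfsg.Agent.Helper10.EO.star
  have h1 : (f.map φ).reverse = f.reverse.map φ := by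
    unfold Polynomial.reverse
    rw [Polynomial.natDegree_map_eq_of_injective φ.injective, Polynomial.reflect_map]
  have h2 : ((f.map φ).coeff 0)⁻¹ = φ ((f.coeff 0)⁻¹) := by
    rw [Polynomial.coeff_map, map_inv₀]
  rw [h1, h2, Polynomial.map_mul, Polynomial.map_C]

end poly

end Cfsg.Agent.Helper17.AO
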