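import Mathlib
import Cfsg.Agent.Lib.Helper20.GL4SubDefs
import Cfsg.Agent.S0495
import Cfsg.Agent.S0255

set_option autoImplicit false

/-! Piece GL3 of S2553: a simple group of order 168 is isomorphic to the 3-dimensional general
linear group over the field with two elements. -/

namespace Cfsg.Agent.Helper20.GL4Sub

namespace GL3

theorem card_GL3 : Nat.card (GL (Fin 3) (ZMod 2)) = 168 := by
  rw [Matrix.card_GL_field, ZMod.card, Fin.prod_univ_three]
  norm_num

theorem zmod2_eq_zero_or_one (r : ZMod 2) : r = 0 ∨ r = 1 := by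
  revert r; decide

theorem center_SL3_eq_bot :
    Subgroup.center (Matrix.SpecialLinearGroup (Fin 3) (ZMod 2)) = ⊥ := by
  rw [eq_bot_iff]
  intro A hA
  rw [Matrix.SpecialLinearGroup.mem_center_iff] at hA
  obtain ⟨r, hr, hrA⟩ := hA
  rw [Subgroup.mem_bot]
  have hr1 : r = 1 := by
    rcases zmod2_eq_zero_or_one r with h | h
    · rw [h] at hr; simp at hr
    · exact h
  apply Subtype.ext
  rw [← hrA, hr1]
  simp

/-- `PSL_3(2) → GL_3(2)`, injective -/
noncomputable def psl3ToGL :
    Matrix.ProjectiveSpecialLinearGroup (Fin 3) (ZMod 2) →* GL (Fin 3) (ZMod 2) :=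
  Matrix.SpecialLinearGroup.toGL.comp
    ((QuotientGroup.quotientMulEquivOfEq center_SL3_eq_bot).trans
      QuotientGroup.quotientBot).toMonoidHom

theorem psl3ToGL_injective : Function.Injective psl3ToGL := by
  unfold psl3ToGL
  rw [MonoidHom.coe_comp]
  exact Matrix.SpecialLinearGroup.toGL_injective.comp (MulEquiv.injective _)

end GL3

/-- GL3 -/
theorem iso_GL3 {G : Type*} [Group G] [Finite G] [IsSimpleGroup G] (h : Nat.card G = 168) :
    Nonempty (G ≃* GL (Fin 3) (ZMod 2)) := by
  have : Fact (Nat.Prime 7) := ⟨by norm_num⟩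
  have hF7 : Fintype.card (ZMod 7) = 7 := ZMod.card 7
  have hF2 : Fintype.card (ZMod 2) = 2 := ZMod.card 2
  obtain ⟨e1⟩ := Cfsg.Agent.S0495.result h (F := ZMod 7) hF7
  obtain ⟨e2⟩ := Cfsg.Agent.S0255.result (F := ZMod 7) (K := ZMod 2) hF7 hF2
  let φ : G →* GL (Fin 3) (ZMod 2) := GL3.psl3ToGL.comp (e1.trans e2).toMonoidHom
  have hinj : Function.Injective φ := by
    change Function.Injective (GL3.psl3ToGL ∘ (e1.trans e2))
    exact GL3.psl3ToGL_injective.comp (e1.trans e2).injective
  have hbij : Function.Bijective φ :=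
    (Nat.bijective_iff_injective_and_card φ).2 ⟨hinj, by rw [h, GL3.card_GL3]⟩
  exact ⟨MulEquiv.ofBijective φ hbij⟩

end Cfsg.Agent.Helper20.GL4Sub
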