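import Mathlib
import Cfsg.Agent.Lib.Helper4.BG144C

/-!
# Bender--Glauberman Theorem 14.4, general element of `M_σ` (helper4)
-/

set_option autoImplicit false

namespace Cfsg.Agent.Helper4.BG144

open Cfsg Subgroup

universe u

variable {G : Type u} [Group G] [Finite G]

theorem exists_prime_power {x : G} (hx1 : x ≠ 1) :
    ∃ (p : ℕ) (y : G), p.Prime ∧ y ∈ zpowers x ∧ orderOf y = p := by
  have h1 : orderOf x ≠ 1 := fun h => hx1 (orderOf_eq_one_iff.mp h)
  have h0 : orderOf x ≠ 0 := (orderOf_pos x).ne'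
  refine ⟨(orderOf x).minFac, x ^ (orderOf x / (orderOf x).minFac), Nat.minFac_prime h1,
    npow_mem_zpowers _ _, orderOf_pow_orderOf_div h0 (Nat.minFac_dvd _)⟩

omit [Finite G] in
theorem mem_map_conj_of_mem_zpowers {H : Subgroup G} {x y g : G} (hy : y ∈ zpowers x)
    (hx : x ∈ H.map (MulAut.conj g).toMonoidHom) : y ∈ H.map (MulAut.conj g).toMonoidHom :=
  (zpowers_le.mpr hx) hy

/-- all conjugates of `M` through an element `y ∈ M_σ` of prime order are conjugate under `C_G(y)` -/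
theorem conj_of_prime (h1404 : H1404 G) (M : Subgroup G) (hM : IsCoatom M) (y : G)
    (hy : y ∈ sigmaCore M) (p : ℕ) [Fact p.Prime] (hyp : orderOf y = p) (g : G)
    (hg : y ∈ M.map (MulAut.conj g).toMonoidHom) :
    ∃ c ∈ centralizer ({y} : Set G),
      M.map (MulAut.conj g).toMonoidHom = M.map (MulAut.conj c).toMonoidHom := by
  have hpp : p.Prime := Fact.out
  have hpσ : p ∈ sigma M := mem_sigma_of_mem_sigmaCore hy hpp hyp
  set X : Subgroup G := zpowers y with hX
  have hXcard : Nat.card X = p := by rw [hX, Nat.card_zpowers, hyp]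
  have hXp : IsPGroup p X := IsPGroup.of_card (n := 1) (by rw [hXcard, pow_one])
  have hX1 : X ≠ ⊥ := by
    intro h
    rw [h, card_bot] at hXcard
    exact hpp.one_lt.ne hXcard
  have hXM : X ≤ M := by rw [hX, zpowers_le]; exact sigmaCore_le M hy
  have hXg : X.map (MulAut.conj g⁻¹).toMonoidHom ≤ M := by
    rw [mem_map_conj] at hg
    intro z hz
    rw [mem_map_conj, inv_inv] at hz
    have h1 : zpowers (g⁻¹ * y * g) ≤ M := zpowers_le.mpr hg
    apply h1
    obtain ⟨k, hk⟩ := hz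
    have hk : y ^ k = g * z * g⁻¹ := hk
    refine ⟨k, ?_⟩
    have h2 : (g⁻¹ * y * g) ^ k = g⁻¹ * y ^ k * g := by
      have := map_zpow (MulAut.conj g⁻¹).toMonoidHom y k
      simpa [MulAut.conj_apply] using this.symm
    show (g⁻¹ * y * g) ^ k = z
    rw [h2]
    show g⁻¹ * y ^ k * g = z
    rw [hk]; group
  obtain ⟨m, hm, c, hc, hgmc⟩ := (h1404 M hM p hpσ X hXp hX1 hXM).1 g⁻¹ hXg
  have hg' : g = c⁻¹ * m⁻¹ := by
    have : g = (g⁻¹)⁻¹ := (inv_inv g).symm
    rw [this, hgmc]; group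
  refine ⟨c⁻¹, ?_, ?_⟩
  · rw [mem_centralizer_singleton_iff]
    have hcy : y * c = c * y := hc y (mem_zpowers y)
    have : c⁻¹ * y = c⁻¹ * (y * c) * c⁻¹ := by group
    rw [this, hcy]; group
  · rw [hg', map_conj_mul, map_conj_of_mem (M.inv_mem hm)]

/-- The structure of `C_G(x)` for `x ∈ M_σ`, `x ≠ 1`. -/
theorem main (hG : IsMinSimpleOddOrder G) (h1350 : H1350 G) (h1404 : H1404 G)
    (h1409 : H1409 G) (h1416 : H1416 G) (h1417 : H1417 G) (h1418 : H1418 G) (h1424 : H1424 G)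
    (hσ : HSigma G) (M : Subgroup G) (hM : IsCoatom M) (x : G) (hx : x ∈ sigmaCore M)
    (hx1 : x ≠ 1) :
    (centralizer ({x} : Set G) ≤ M ∧
      ∀ g : G, x ∈ M.map (MulAut.conj g).toMonoidHom → M.map (MulAut.conj g).toMonoidHom = M) ∨
    ∃ (N : Subgroup G) (p : ℕ), IsCoatom N ∧ centralizer ({x} : Set G) ≤ N ∧ p ∈ tau2 N ∧
      p ∣ orderOf x ∧ Group.IsNilpotent (sigmaCore N) ∧ IsComplIn (M ⊓ N) (sigmaCore N) N ∧
      ∀ g : G, x ∈ M.map (MulAut.conj g).toMonoidHom →
        ∃ r ∈ sigmaCore N ⊓ centralizer ({x} : Set G),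
          M.map (MulAut.conj g).toMonoidHom = M.map (MulAut.conj r).toMonoidHom := by
  obtain ⟨p, y, hpp, hyx, hyp⟩ := exists_prime_power hx1
  have : Fact p.Prime := ⟨hpp⟩
  have hy : y ∈ sigmaCore M := (zpowers_le.mpr hx) hyx
  have hCxy : centralizer ({x} : Set G) ≤ centralizer ({y} : Set G) :=
    centralizer_singleton_le_of_mem_zpowers hyx
  by_cases hyM : centralizer ({y} : Set G) ≤ M
  · left
    refine ⟨hCxy.trans hyM, ?_⟩
    intro g hg
    obtain ⟨c, hc, hgc⟩ :=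
      conj_of_prime h1404 M hM y hy p hyp g (mem_map_conj_of_mem_zpowers hyx hg)
    rw [hgc, map_conj_of_mem (hyM hc)]
  · right
    obtain ⟨N, hN, hNX, hτ, hnil, hcompl⟩ :=
      prime_case hG h1350 h1404 h1409 h1416 h1417 h1418 h1424 hσ M hM y hy p hyp hyM
    have hCyN : centralizer ({y} : Set G) ≤ N :=
      (centralizer_singleton_le_normalizer_zpowers y).trans hNX
    have hBN : N ≤ normalizer (sigmaCore N : Set G) := le_normalizer_sigmaCore N
    have hxM : x ∈ M := sigmaCore_le M hx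
    have hxC : x ∈ centralizer ({x} : Set G) := mem_centralizer_singleton_iff.mpr rfl
    have hxN : x ∈ N := hCyN (hCxy hxC)
    have hBM : sigmaCore N ⊓ M = ⊥ := by
      rw [eq_bot_iff]
      rintro z ⟨hzB, hzM⟩
      have : z ∈ (M ⊓ N) ⊓ sigmaCore N := ⟨⟨hzM, sigmaCore_le N hzB⟩, hzB⟩
      rw [hcompl.2.2.1] at this
      exact this
    refine ⟨N, p, hN, hCxy.trans hCyN, hτ, hyp ▸ orderOf_dvd_of_mem_zpowers hyx, hnil, hcompl, ?_⟩
    intro g hg
    obtain ⟨c, hc, hgc⟩ :=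
      conj_of_prime h1404 M hM y hy p hyp g (mem_map_conj_of_mem_zpowers hyx hg)
    obtain ⟨a, ha, b, hb, hcab⟩ := hcompl.2.2.2 c (hCyN hc)
    have haN : a ∈ N := ha.2
    set b' : G := a * b * a⁻¹ with hb'
    have hb'B : b' ∈ sigmaCore N := (mem_normalizer_iff.mp (hBN haN) b).mp hb
    have hcb' : c = b' * a := by rw [hcab, hb']; group
    have hgb' : M.map (MulAut.conj g).toMonoidHom = M.map (MulAut.conj b').toMonoidHom := by
      rw [hgc, hcb', map_conj_mul, map_conj_of_mem ha.1]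
    have hxb' : b'⁻¹ * x * b' ∈ M := by
      rw [hgb'] at hg
      exact mem_map_conj.mp hg
    have hu : b'⁻¹ * x * b' * x⁻¹ ∈ sigmaCore N ⊓ M := by
      constructor
      · have h1 : x * b' * x⁻¹ ∈ sigmaCore N := (mem_normalizer_iff.mp (hBN hxN) b').mp hb'B
        have h2 : b'⁻¹ * x * b' * x⁻¹ = b'⁻¹ * (x * b' * x⁻¹) := by group
        rw [h2]
        exact (sigmaCore N).mul_mem ((sigmaCore N).inv_mem hb'B) h1
      · exact M.mul_mem hxb' (M.inv_mem hxM)
    rw [hBM, mem_bot] at hu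
    have hcomm : b' * x = x * b' := by
      have h3 : b'⁻¹ * x * b' = x := by
        have := congrArg (fun t => t * x) hu
        simpa [mul_assoc] using this
      calc b' * x = b' * (b'⁻¹ * x * b') := by rw [h3]
        _ = x * b' := by group
    exact ⟨b', ⟨hb'B, mem_centralizer_singleton_iff.mpr hcomm⟩, hgb'⟩

end Cfsg.Agent.Helper4.BG144
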