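import Mathlib
import Cfsg.Agent.Lib.Helper4.BG144D

/-!
# Bender--Glauberman Theorem 14.4(a): the statement of S1374 from frozen statements (helper4)
-/

set_option autoImplicit false

namespace Cfsg.Agent.Helper4.BG144

open Cfsg Subgroup

universe u

variable {G : Type u} [Group G] [Finite G]

omit [Finite G] in
/-- the complement structure of `C_G(x)` inherited from `N = N_σ (M ∩ N)` -/
theorem case2_compl {M N : Subgroup G} {x : G} (hxM : x ∈ M)
    (hCN : centralizer ({x} : Set G) ≤ N) (hcompl : IsComplIn (M ⊓ N) (sigmaCore N) N) :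
    IsComplIn (M ⊓ centralizer ({x} : Set G)) (sigmaCore N ⊓ centralizer ({x} : Set G))
      (centralizer ({x} : Set G)) := by
  have hxC : x ∈ centralizer ({x} : Set G) := mem_centralizer_singleton_iff.mpr rfl
  refine ⟨inf_le_right, inf_le_right, ?_, ?_⟩
  · rw [eq_bot_iff]
    rintro z ⟨⟨hzM, hzC⟩, ⟨hzB, -⟩⟩
    have : z ∈ (M ⊓ N) ⊓ sigmaCore N := ⟨⟨hzM, hCN hzC⟩, hzB⟩
    rw [hcompl.2.2.1] at this
    exact this
  · intro c hc
    obtain ⟨a, ha, b, hb, hcab, hax, hbx⟩ :=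
      compl_centralizer hcompl (le_normalizer_sigmaCore N) (x := x) ⟨hxM, hCN hxC⟩ (hCN hc)
        (mem_centralizer_singleton_iff.mp hc)
    exact ⟨a, ⟨ha.1, mem_centralizer_singleton_iff.mpr hax⟩, b,
      ⟨hb, mem_centralizer_singleton_iff.mpr hbx⟩, hcab⟩

omit [Finite G] in
theorem case2_normal {N : Subgroup G} {x : G} (hCN : centralizer ({x} : Set G) ≤ N) :
    centralizer ({x} : Set G) ≤
      normalizer ((sigmaCore N ⊓ centralizer ({x} : Set G) : Subgroup G) : Set G) := by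
  intro c hc
  rw [mem_normalizer_iff]
  intro z
  have h1 := mem_normalizer_iff.mp (le_normalizer_sigmaCore N (hCN hc)) z
  have h2 := mem_normalizer_iff.mp (le_normalizer (H := centralizer ({x} : Set G)) hc) z
  constructor
  · rintro ⟨hz1, hz2⟩
    exact ⟨h1.mp hz1, h2.mp hz2⟩
  · rintro ⟨hz1, hz2⟩
    exact ⟨h1.mpr hz1, h2.mpr hz2⟩

theorem case2_coprime {M N : Subgroup G} {x : G} (hxM : x ∈ M)
    (hCN : centralizer ({x} : Set G) ≤ N) (hcompl : IsComplIn (M ⊓ N) (sigmaCore N) N)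
    (hhall : IsPiHallOf (sigma N) (sigmaCore N) N) :
    (Nat.card ↥(M ⊓ centralizer ({x} : Set G))).Coprime
      ((M ⊓ centralizer ({x} : Set G)).relIndex (centralizer ({x} : Set G))) := by
  rw [complIn_relIndex_eq (case2_compl hxM hCN hcompl)]
  have h1 := complIn_coprime_of_hall hcompl hhall
  have h2 : Nat.card ↥(M ⊓ centralizer ({x} : Set G)) ∣ Nat.card ↥(M ⊓ N) :=
    card_dvd_of_le (inf_le_inf_left M hCN)
  have h3 : Nat.card ↥(sigmaCore N ⊓ centralizer ({x} : Set G)) ∣ Nat.card ↥(sigmaCore N) :=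
    card_dvd_of_le inf_le_left
  exact (h1.coprime_dvd_left h2).coprime_dvd_right h3

/-- **BG Theorem 14.4(a)**: the statement of S1374. -/
theorem thm_1374 (hG : IsMinSimpleOddOrder G) (h1350 : H1350 G) (h1404 : H1404 G)
    (h1409 : H1409 G) (h1416 : H1416 G) (h1417 : H1417 G) (h1418 : H1418 G) (h1424 : H1424 G)
    (hσ : HSigma G) (M : Subgroup G) (hM : IsCoatom M) (x : G) (hx : x ∈ Cfsg.sigmaCore M)
    (hx1 : x ≠ 1) :
    (Nat.card ↥(M ⊓ Subgroup.centralizer ({x} : Set G))).Coprime ((M ⊓ Subgroup.centralizer ({x} : Set G)).relIndex (Subgroup.centralizer ({x} : Set G))) ∧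
      ∃ R : Subgroup G, Subgroup.centralizer ({x} : Set G) ≤ Subgroup.normalizer (R : Set G) ∧ Cfsg.IsComplIn (M ⊓ Subgroup.centralizer ({x} : Set G)) R (Subgroup.centralizer ({x} : Set G)) ∧
        ∀ g : G, x ∈ M.map (MulAut.conj g).toMonoidHom → ∃! r : G, r ∈ R ∧ M.map (MulAut.conj r).toMonoidHom = M.map (MulAut.conj g).toMonoidHom := by
  have hxM : x ∈ M := sigmaCore_le M hx
  rcases main hG h1350 h1404 h1409 h1416 h1417 h1418 h1424 hσ M hM x hx hx1 with
    ⟨hCM, htr⟩ | ⟨N, p, hN, hCN, -, -, -, hcompl, htr⟩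
  · refine ⟨?_, ⊥, ?_, ?_, ?_⟩
    · rw [inf_relIndex_right, relIndex_eq_one.mpr hCM]
      exact Nat.coprime_one_right _
    · intro c _
      rw [mem_normalizer_iff]
      intro z
      simp only [mem_bot]
      constructor
      · rintro rfl; group
      · intro h
        have : z = c⁻¹ * (c * z * c⁻¹) * c := by group
        rw [this, h]; group
    · exact ⟨inf_le_right, bot_le, inf_bot_eq _, fun m hm =>
        ⟨m, ⟨hCM hm, hm⟩, 1, mem_bot.mpr rfl, (mul_one m).symm⟩⟩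
    · intro g hg
      refine ⟨1, ⟨mem_bot.mpr rfl, ?_⟩, ?_⟩
      · rw [htr g hg, map_conj_of_mem M.one_mem]
      · rintro r ⟨hr, -⟩
        exact mem_bot.mp hr
  · have hhall := (h1350 N hN).1
    have hBM : sigmaCore N ⊓ M = ⊥ := by
      rw [eq_bot_iff]
      rintro z ⟨hzB, hzM⟩
      have : z ∈ (M ⊓ N) ⊓ sigmaCore N := ⟨⟨hzM, sigmaCore_le N hzB⟩, hzB⟩
      rw [hcompl.2.2.1] at this
      exact this
    refine ⟨case2_coprime hxM hCN hcompl hhall,
      sigmaCore N ⊓ centralizer ({x} : Set G), case2_normal hCN, case2_compl hxM hCN hcompl, ?_⟩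
    intro g hg
    obtain ⟨r, hr, hgr⟩ := htr g hg
    refine ⟨r, ⟨hr, hgr.symm⟩, ?_⟩
    rintro r' ⟨hr', hgr'⟩
    have h1 : M.map (MulAut.conj r').toMonoidHom = M.map (MulAut.conj r).toMonoidHom := by
      rw [hgr', hgr]
    have h2 : r⁻¹ * r' ∈ normalizer (M : Set G) := map_conj_eq_iff.mp h1
    rw [normalizer_coatom hG hM] at h2
    have h3 : r⁻¹ * r' ∈ sigmaCore N ⊓ M :=
      ⟨(sigmaCore N).mul_mem ((sigmaCore N).inv_mem hr.1) hr'.1, h2⟩
    rw [hBM, mem_bot] at h3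
    have : r' = r * (r⁻¹ * r') := by group
    rw [this, h3, mul_one]

end Cfsg.Agent.Helper4.BG144
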