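import Mathlib
import Cfsg.Agent.Lib.Helper4.BG144E

/-!
# `N_σ = N_F` when `N_σ` is nilpotent; `κ`-primes have cyclic Sylow subgroups (helper4)
-/

set_option autoImplicit false
set_option linter.style.haveILetI false
set_option linter.unusedSectionVars false

namespace Cfsg.Agent.Helper4.BG144

open Cfsg Subgroup

universe u

variable {G : Type u} [Group G]

theorem map_conj_eq_of_mem_normalizer {A : Subgroup G} {g : G} (hg : g ∈ normalizer (A : Set G)) :
    A.map (MulAut.conj g).toMonoidHom = A := by
  ext z
  rw [mem_map_conj]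
  have h := mem_normalizer_iff.mp ((normalizer (A : Set G)).inv_mem hg) z
  rw [inv_inv] at h
  exact h.symm

theorem mem_normalizer_of_map_conj_eq {A : Subgroup G} {g : G}
    (hg : A.map (MulAut.conj g).toMonoidHom = A) : g ∈ normalizer (A : Set G) := by
  rw [mem_normalizer_iff]
  intro h
  have h1 : g * h * g⁻¹ ∈ A.map (MulAut.conj g).toMonoidHom ↔ h ∈ A := by
    rw [mem_map_conj]
    have : g⁻¹ * (g * h * g⁻¹) * g = h := by group
    rw [this]
  rw [hg] at h1
  exact h1.symm

theorem normalizer_inf_le_normalizer_sup (A B : Subgroup G) :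
    normalizer (A : Set G) ⊓ normalizer (B : Set G) ≤ normalizer ((A ⊔ B : Subgroup G) : Set G) := by
  rintro g ⟨hA, hB⟩
  apply mem_normalizer_of_map_conj_eq
  rw [Subgroup.map_sup, map_conj_eq_of_mem_normalizer hA, map_conj_eq_of_mem_normalizer hB]

variable [Finite G]

/-- a `κ`-prime has rank one -/
theorem pRankLE_one_of_kappa {N : Subgroup G} {r : ℕ} (h : r ∈ kappa N) : PRankLE r 1 N := by
  obtain ⟨hr, -, -, hcyc⟩ := h
  haveI : Fact r.Prime := ⟨hr⟩
  intro A hc he
  have hpg : IsPGroup r A := by
    intro a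
    refine ⟨1, ?_⟩
    rw [pow_one]
    have := he a a.2
    exact Subtype.ext (by simpa using this)
  obtain ⟨Q, hQ⟩ := hpg.exists_le_sylow
  haveI : IsCyclic (Q : Subgroup ↥N) := (hcyc Q).1
  haveI : IsCyclic A := isCyclic_of_le hQ
  have h1 : Monoid.exponent A = Nat.card A := IsCyclic.exponent_eq_card
  have h2 : Monoid.exponent A ∣ r := by
    apply Monoid.exponent_dvd_of_forall_pow_eq_one
    intro a
    have := he a a.2
    exact Subtype.ext (by simpa using this)
  rw [h1] at h2
  rw [pow_one]
  exact Nat.le_of_dvd hr.pos h2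

theorem tau2_not_kappa {N : Subgroup G} {r : ℕ} (h : r ∈ tau2 N) : r ∉ kappa N :=
  fun hk => h.2.2.2 (pRankLE_one_of_kappa hk)

/-- if `N_σ` is nilpotent then `N_σ = N_F` -/
theorem sigmaCore_eq_fittingHallOf (hG : IsMinSimpleOddOrder G) (N : Subgroup G)
    (hN : IsCoatom N) (hhall : IsPiHallOf (sigma N) (sigmaCore N) N)
    (hnil : Group.IsNilpotent (sigmaCore N)) : sigmaCore N = fittingHallOf N := by
  unfold sigmaCore fittingHallOf
  congr 1
  have hsub : (sigmaCore N).subgroupOf N = piCore (sigma N) ↥N :=
    Cfsg.Agent.Helper14.BGTrans.piCoreOf_subgroupOf (sigma N) N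
  apply le_antisymm
  · apply le_sSup
    refine ⟨inferInstance, ?_, ?_⟩
    · haveI := hnil
      have e : ↥(sigmaCore N) ≃* ↥(piCore (sigma N) ↥N) :=
        (equivMapOfInjective (piCore (sigma N) ↥N) N.subtype N.subtype_injective).symm
      exact Group.nilpotent_of_mulEquiv e
    · have hcard : Nat.card ↥(piCore (sigma N) ↥N) = Nat.card ↥(sigmaCore N) :=
        (card_map_of_injective N.subtype_injective).symm
      have hidx : (piCore (sigma N) ↥N).index = (sigmaCore N).relIndex N := by
        rw [← hsub]; rfl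
      rw [hcard, hidx]
      refine Nat.coprime_of_dvd ?_
      intro k hk h1 h2
      exact hhall.2.2 k hk (hhall.2.1 k hk h1) h2
  · apply sSup_le
    rintro K ⟨hKn, hKnil, hKco⟩
    apply le_sSup
    refine ⟨hKn, ?_⟩
    intro r hr hrK
    haveI : Fact r.Prime := ⟨hr⟩
    haveI := hKnil
    obtain ⟨P⟩ : Nonempty (Sylow r ↥K) := inferInstance
    have h03 : Group.IsNilpotent ↥K ↔
        ∀ (p : ℕ), Fact (Nat.Prime p) → ∀ (P : Sylow p ↥K), (P : Subgroup ↥K).Normal :=
      (Group.isNilpotent_of_finite_tfae (G := ↥K)).out 0 3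
    have hPn : (P : Subgroup ↥K).Normal := h03.mp hKnil r inferInstance P
    haveI hPc : (P : Subgroup ↥K).Characteristic := P.characteristic_of_normal hPn
    haveI := hKn
    have hQn : ((P : Subgroup ↥K).map K.subtype).Normal :=
      ConjAct.normal_of_characteristic_of_normal
    set Q : Subgroup ↥N := (P : Subgroup ↥K).map K.subtype with hQ
    have hQp : IsPGroup r Q := P.isPGroup'.map K.subtype
    have hQidx : ¬ r ∣ Q.index := by
      rw [hQ, index_map_subtype]
      intro h
      rcases (Nat.Prime.dvd_mul hr).mp h with h | h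
      · exact P.not_dvd_index h
      · exact (Nat.Prime.coprime_iff_not_dvd hr).mp
          (Nat.Coprime.coprime_dvd_left hrK hKco) h
    let PN : Sylow r ↥N := hQp.toSylow hQidx
    have hPN : (PN : Subgroup ↥N) = Q := rfl
    have hQ1 : Q ≠ ⊥ := by
      intro h
      have h1 : Nat.card Q = Nat.card (P : Subgroup ↥K) := card_map_of_injective K.subtype_injective
      rw [h, card_bot] at h1
      have h2 : r ∣ Nat.card (P : Subgroup ↥K) := by
        rcases P.2.card_eq_or_dvd with h3 | h3
        · exfalso
          have h4 : (P : Subgroup ↥K) = ⊥ := card_eq_one.mp h3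
          have h5 := P.not_dvd_index
          rw [h4, index_bot] at h5
          exact h5 hrK
        · exact h3
      rw [← h1] at h2
      exact hr.one_lt.ne' (Nat.dvd_one.mp h2)
    refine ⟨hr, ?_, PN, ?_⟩
    · exact hrK.trans (card_subgroup_dvd_card K)
    · rw [hPN]
      set Q' : Subgroup G := Q.map N.subtype with hQ'
      have hQ'N : Q' ≤ N := map_subtype_le _
      have hNQ' : N ≤ normalizer (Q' : Set G) := by
        rw [← normal_subgroupOf_iff_le_normalizer hQ'N]
        have : Q'.subgroupOf N = Q := by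
          rw [hQ']
          unfold subgroupOf
          exact comap_map_eq_self_of_injective N.subtype_injective _
        rw [this]
        exact hQn
      have hQ'1 : Q' ≠ ⊥ := by
        intro h
        apply hQ1
        rw [hQ'] at h
        exact (map_eq_bot_iff_of_injective _ N.subtype_injective).mp h
      have hQ'top : Q' ≠ ⊤ := fun h => hN.1 (top_le_iff.mp (h ▸ hQ'N))
      by_contra hcon
      have hlt : N < normalizer (Q' : Set G) := by
        refine lt_of_le_of_ne hNQ' ?_
        intro h
        exact hcon (h ▸ le_refl _)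
      exact normalizer_ne_top' hG hQ'1 hQ'top (hN.2 _ hlt)

end Cfsg.Agent.Helper4.BG144
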