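import Mathlib
import Cfsg.Agent.Lib.Helper11.FHDefs

/-!
# Feit–Higman (S1142), piece A: the algebra generated by `Z`, `Z'` is spanned by the
`2n` alternating products.
-/

set_option autoImplicit false

namespace Cfsg.Agent.Helper11.FH

section

variable {R : Type*} [Ring R] [Algebra ℝ R]

/-- the span of all alternating products of length at most `n` -/
def fhaSp (Z Z' : R) (n : ℕ) : Submodule ℝ R :=
  Submodule.span ℝ ({x | ∃ k, k ≤ n ∧ x = alt Z Z' k} ∪ {x | ∃ k, k ≤ n ∧ x = alt Z' Z k})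

theorem fhaSp_comm (Z Z' : R) (n : ℕ) : fhaSp Z Z' n = fhaSp Z' Z n := by
  unfold fhaSp
  rw [Set.union_comm]

theorem fha_mem_left (Z Z' : R) (n k : ℕ) (hk : k ≤ n) : alt Z Z' k ∈ fhaSp Z Z' n :=
  Submodule.subset_span (Or.inl ⟨k, hk, rfl⟩)

theorem fha_mem_right (Z Z' : R) (n k : ℕ) (hk : k ≤ n) : alt Z' Z k ∈ fhaSp Z Z' n :=
  Submodule.subset_span (Or.inr ⟨k, hk, rfl⟩)

/-- left multiplication by `Z` preserves the span -/
theorem fha_mul_mem (Z Z' : R) (s : ℝ) (n : ℕ) (hn : 1 ≤ n)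
    (hZ : Z * Z = s • (1 : R) + (s - 1) • Z) (hbr : alt Z Z' n = alt Z' Z n)
    (h : R) (hh : h ∈ fhaSp Z Z' n) : Z * h ∈ fhaSp Z Z' n := by
  -- the case of `alt Z Z' (k+1)`
  have key : ∀ k, k + 1 ≤ n → Z * alt Z Z' (k + 1) ∈ fhaSp Z Z' n := by
    intro k hk
    rw [alt_succ, ← mul_assoc, hZ, add_mul, smul_mul_assoc, smul_mul_assoc, one_mul, ← alt_succ]
    exact Submodule.add_mem _
      (Submodule.smul_mem _ _ (fha_mem_right Z Z' n k (Nat.le_of_succ_le hk)))
      (Submodule.smul_mem _ _ (fha_mem_left Z Z' n (k + 1) hk))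
  have hsub : fhaSp Z Z' n ≤ (fhaSp Z Z' n).comap (LinearMap.mulLeft ℝ Z) := by
    unfold fhaSp
    rw [Submodule.span_le]
    rintro x (⟨k, hk, rfl⟩ | ⟨k, hk, rfl⟩)
    · show Z * alt Z Z' k ∈ fhaSp Z Z' n
      cases k with
      | zero =>
        rw [alt_zero, mul_one]
        have := fha_mem_left Z Z' n 1 hn
        rwa [alt_one] at this
      | succ k => exact key k hk
    · show Z * alt Z' Z k ∈ fhaSp Z Z' n
      rcases Nat.lt_or_ge k n with hlt | hge
      · rw [← alt_succ]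
        exact fha_mem_left Z Z' n (k + 1) hlt
      · have hkn : k = n := le_antisymm hk hge
        subst hkn
        rw [← hbr]
        obtain ⟨m, rfl⟩ : ∃ m, k = m + 1 := ⟨k - 1, by omega⟩
        exact key m le_rfl
  exact hsub hh

/-- the explicit set of combinations of the `2n` basis elements -/
def fhaT (Z Z' : R) (n : ℕ) : Submodule ℝ R where
  carrier := {x | ∃ c c' : ℕ → ℝ, x = ∑ k ∈ Finset.range n, c k • alt Z Z' k +
      ∑ k ∈ Finset.range n, c' k • alt Z' Z (k + 1)}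
  add_mem' := by
    rintro a b ⟨c1, c1', rfl⟩ ⟨c2, c2', rfl⟩
    refine ⟨fun k => c1 k + c2 k, fun k => c1' k + c2' k, ?_⟩
    simp only [add_smul, Finset.sum_add_distrib]
    abel
  zero_mem' := ⟨fun _ => 0, fun _ => 0, by simp⟩
  smul_mem' := by
    rintro r a ⟨c, c', rfl⟩
    refine ⟨fun k => r * c k, fun k => r * c' k, ?_⟩
    simp only [smul_add, Finset.smul_sum, mul_smul]

theorem fha_single_left (Z Z' : R) (n k : ℕ) (hk : k < n) : alt Z Z' k ∈ fhaT Z Z' n := by
  classical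
  refine ⟨fun i => if i = k then 1 else 0, fun _ => 0, ?_⟩
  simp only [zero_smul, Finset.sum_const_zero, add_zero, ite_smul, one_smul]
  rw [Finset.sum_ite_eq' (Finset.range n) k]
  simp [hk]

theorem fha_single_right (Z Z' : R) (n k : ℕ) (hk : k < n) : alt Z' Z (k + 1) ∈ fhaT Z Z' n := by
  classical
  refine ⟨fun _ => 0, fun i => if i = k then 1 else 0, ?_⟩
  simp only [zero_smul, Finset.sum_const_zero, zero_add, ite_smul, one_smul]
  rw [Finset.sum_ite_eq' (Finset.range n) k]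
  simp [hk]

theorem fhaSp_le_T (Z Z' : R) (n : ℕ) (hn : 1 ≤ n) (hbr : alt Z Z' n = alt Z' Z n) :
    fhaSp Z Z' n ≤ fhaT Z Z' n := by
  unfold fhaSp
  rw [Submodule.span_le]
  rintro x (⟨k, hk, rfl⟩ | ⟨k, hk, rfl⟩)
  · rcases Nat.lt_or_ge k n with hlt | hge
    · exact fha_single_left Z Z' n k hlt
    · have hkn : k = n := le_antisymm hk hge
      subst hkn
      rw [hbr]
      obtain ⟨m, rfl⟩ : ∃ m, k = m + 1 := ⟨k - 1, by omega⟩
      exact fha_single_right Z Z' (m + 1) m (Nat.lt_succ_self m)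
  · cases k with
    | zero =>
      have := fha_single_left Z Z' n 0 hn
      rwa [alt_zero] at this
    | succ k => exact fha_single_right Z Z' n k hk

end

theorem adjoin_subset {R : Type*} [Ring R] [Algebra ℝ R] (Z Z' : R) (s t : ℝ) (n : ℕ) (hn : 1 ≤ n)
    (hZ : Z * Z = s • (1 : R) + (s - 1) • Z) (hZ' : Z' * Z' = t • (1 : R) + (t - 1) • Z')
    (hbr : alt Z Z' n = alt Z' Z n) (b : R) (hb : b ∈ Algebra.adjoin ℝ ({Z, Z'} : Set R)) :
    ∃ c c' : ℕ → ℝ, b = ∑ k ∈ Finset.range n, c k • alt Z Z' k +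
      ∑ k ∈ Finset.range n, c' k • alt Z' Z (k + 1) := by
  have hmul : ∀ h ∈ fhaSp Z Z' n, b * h ∈ fhaSp Z Z' n := by
    induction hb using Algebra.adjoin_induction with
    | mem x hx =>
      intro h hh
      rcases hx with hx | hx
      · rw [hx]
        exact fha_mul_mem Z Z' s n hn hZ hbr h hh
      · have hx' : x = Z' := hx
        rw [hx']
        rw [fhaSp_comm] at hh ⊢
        exact fha_mul_mem Z' Z t n hn hZ' hbr.symm h hh
    | algebraMap r =>
      intro h hh
      rw [← Algebra.smul_def]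
      exact Submodule.smul_mem _ _ hh
    | add x y _ _ hx hy =>
      intro h hh
      rw [add_mul]
      exact Submodule.add_mem _ (hx h hh) (hy h hh)
    | mul x y _ _ hx hy =>
      intro h hh
      rw [mul_assoc]
      exact hx _ (hy h hh)
  have h1 : b * 1 ∈ fhaSp Z Z' n := hmul 1 (by
    have := fha_mem_left Z Z' n 0 (Nat.zero_le n)
    rwa [alt_zero] at this)
  rw [mul_one] at h1
  exact fhaSp_le_T Z Z' n hn hbr h1

end Cfsg.Agent.Helper11.FH
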