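import Mathlib
import Cfsg.Agent.Lib.Helper11.FHDefs

/-!
# Feit–Higman (S1142), piece B: norms of the alternating products; `s = t` for odd `n`.
-/

set_option autoImplicit false

namespace Cfsg.Agent.Helper11.FH

open Matrix

theorem fhb_norm_aux {Ω : Type*} [Fintype Ω] [DecidableEq Ω] (k : ℕ) :
    ∀ D : HData Ω, k ≤ D.n →
      (alt D.X D.Y k * (alt D.X D.Y k)ᵀ).trace =
        (Fintype.card Ω : ℝ) * alt (D.s : ℝ) (D.t : ℝ) k := by
  induction k with
  | zero =>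
    intro D _
    simp [Matrix.trace_one]
  | succ k ih =>
    intro D hk
    have hk' : k ≤ D.n := Nat.le_of_succ_le hk
    have ihs := ih D.swap hk'
    have hM : (alt D.Y D.X k * (alt D.Y D.X k)ᵀ).trace =
        (Fintype.card Ω : ℝ) * alt (D.t : ℝ) (D.s : ℝ) k := ihs
    have horth : (alt D.X D.Y (k + 1) * (alt D.Y D.X k)ᵀ).trace = 0 :=
      D.orthXY (k + 1) k hk hk' (fun h => by omega) (fun h => by omega)
    set M := alt D.Y D.X k with hMdef
    rw [alt_succ, alt_succ]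
    rw [alt_succ] at horth
    rw [Matrix.transpose_mul, D.Xsymm]
    -- tr (X M (Mᵀ X)) = tr (X X M Mᵀ)
    have h1 : (D.X * M * (Mᵀ * D.X)).trace = (D.X * D.X * (M * Mᵀ)).trace := by
      rw [show D.X * M * (Mᵀ * D.X) = (D.X * M * Mᵀ) * D.X by simp only [mul_assoc],
        Matrix.trace_mul_comm]
      simp only [mul_assoc]
    rw [h1, D.Xsq, add_mul, Matrix.trace_add, smul_mul_assoc, smul_mul_assoc, Matrix.trace_smul,
      Matrix.trace_smul, one_mul, hM, ← mul_assoc D.X M Mᵀ, horth]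
    simp only [smul_eq_mul, mul_zero, add_zero]
    ring

theorem HData.norm_XY {Ω : Type*} [Fintype Ω] [DecidableEq Ω] (D : HData Ω) (k : ℕ) (hk : k ≤ D.n) :
    (alt D.X D.Y k * (alt D.X D.Y k)ᵀ).trace =
      (Fintype.card Ω : ℝ) * alt (D.s : ℝ) (D.t : ℝ) k :=
  fhb_norm_aux k D hk

theorem HData.s_eq_t_of_odd {Ω : Type*} [Fintype Ω] [DecidableEq Ω] [Nonempty Ω] (D : HData Ω)
    (h : Odd D.n) : D.s = D.t := by
  have h1 := D.norm_XY D.n le_rfl
  have h2 : (alt D.Y D.X D.n * (alt D.Y D.X D.n)ᵀ).trace =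
      (Fintype.card Ω : ℝ) * alt (D.t : ℝ) (D.s : ℝ) D.n := D.swap.norm_XY D.n le_rfl
  rw [D.braid, h2] at h1
  have hN : (Fintype.card Ω : ℝ) ≠ 0 := by
    have : 0 < Fintype.card Ω := Fintype.card_pos
    exact_mod_cast this.ne'
  have h3 : alt (D.t : ℝ) (D.s : ℝ) D.n = alt (D.s : ℝ) (D.t : ℝ) D.n := mul_left_cancel₀ hN h1
  obtain ⟨m, hm⟩ := h
  rw [hm, alt_two_mul_add_one, alt_two_mul_add_one, mul_comm (D.t : ℝ) (D.s : ℝ)] at h3
  have hs : (0 : ℝ) < D.s := by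
    have := D.hs
    exact_mod_cast (by omega : 0 < D.s)
  have ht : (0 : ℝ) < D.t := by
    have := D.ht
    exact_mod_cast (by omega : 0 < D.t)
  have hpow : ((D.s : ℝ) * D.t) ^ m ≠ 0 := pow_ne_zero _ (mul_pos hs ht).ne'
  have h4 : (D.t : ℝ) = D.s := mul_left_cancel₀ hpow h3
  exact_mod_cast h4.symm

end Cfsg.Agent.Helper11.FH
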