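import Mathlib
import Cfsg.Agent.Lib.Helper11.OGDefs

/-!
# S2413-S2415, PIECE NW (helper4): the Weyl-type element of a short root
-/

set_option autoImplicit false
set_option linter.unusedSectionVars false
set_option linter.unusedVariables false
set_option linter.unusedSimpArgs false

namespace Cfsg.Agent.Helper11.OG

open QuadraticMap Matrix Cfsg.Agent.Helper2.Orth Cfsg.Agent.Helper28.WittQuad

variable {F : Type*} [Field F] {ι : Type} [Fintype ι] [DecidableEq ι]
variable {Q : QuadraticForm F (ι → F)}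

section nW
variable {u v w : ι → F} {t : F}

/-- the three basic images under `eichG Q z (s • w)` where `z, z'` is a hyperbolic pair
orthogonal to `w`, `Q w = 1` -/
theorem nw_E_z {z w : ι → F} (hz : Q z = 0) (hzw : polar Q z w = 0) (s : F) :
    eichG Q z (s • w) • z = z := by
  apply eichG_fix hz (by rw [polar_smul_right, hzw, smul_zero]) (polar_self_of_singular Q hz)
  rw [polar_smul_left, polar_comm, hzw, smul_zero]

theorem nw_E_z' {z z' w : ι → F} (hz : Q z = 0) (hzz' : polar Q z z' = 1) (hzw : polar Q z w = 0)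
    (hz'w : polar Q z' w = 0) (hw : Q w = 1) (s : F) :
    eichG Q z (s • w) • z' = z' - s • w - (s ^ 2) • z := by
  rw [eichG_apply hz (by rw [polar_smul_right, hzw, smul_zero]), polar_smul_left,
    polar_comm Q w z', hz'w, hzz', QuadraticMap.map_smul, hw]
  ext k
  simp only [Pi.add_apply, Pi.sub_apply, Pi.smul_apply, smul_eq_mul]
  ring

theorem nw_E_w {z w : ι → F} (hz : Q z = 0) (hzw : polar Q z w = 0) (hw : Q w = 1) (s : F) :
    eichG Q z (s • w) • w = w + (2 * s) • z := by
  rw [eichG_apply hz (by rw [polar_smul_right, hzw, smul_zero]), polar_smul_left,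
    polar_self, hw, hzw]
  ext k
  simp only [Pi.add_apply, Pi.sub_apply, Pi.smul_apply, smul_eq_mul, nsmul_eq_mul]
  push_cast
  ring

theorem nW_smul_u (hu : Q u = 0) (hv : Q v = 0) (huv : polar Q u v = 1) (huw : polar Q u w = 0)
    (hvw : polar Q v w = 0) (hw : Q w = 1) (ht : t ≠ 0) :
    nW Q u v w t • u = (-(t⁻¹ ^ 2)) • v := by
  have hvu : polar Q v u = 1 := by rw [polar_comm]; exact huv
  simp only [nW, mul_smul, smul_sub_vec, smul_add_vec, smul_smul_vec, smul_neg_vec,
    nw_E_z hu huw, nw_E_z hv hvw, nw_E_z' hu huv huw hvw hw, nw_E_z' hv hvu hvw huw hw,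
    nw_E_w hu huw hw, nw_E_w hv hvw hw]
  ext k
  simp only [Pi.add_apply, Pi.sub_apply, Pi.smul_apply, smul_eq_mul, Pi.neg_apply]
  field_simp
  ring

theorem nW_smul_v (hu : Q u = 0) (hv : Q v = 0) (huv : polar Q u v = 1) (huw : polar Q u w = 0)
    (hvw : polar Q v w = 0) (hw : Q w = 1) (ht : t ≠ 0) :
    nW Q u v w t • v = (-(t ^ 2)) • u := by
  have hvu : polar Q v u = 1 := by rw [polar_comm]; exact huv
  simp only [nW, mul_smul, smul_sub_vec, smul_add_vec, smul_smul_vec, smul_neg_vec,
    nw_E_z hu huw, nw_E_z hv hvw, nw_E_z' hu huv huw hvw hw, nw_E_z' hv hvu hvw huw hw,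
    nw_E_w hu huw hw, nw_E_w hv hvw hw]
  ext k
  simp only [Pi.add_apply, Pi.sub_apply, Pi.smul_apply, smul_eq_mul, Pi.neg_apply]
  field_simp
  ring

theorem nW_smul_w (hu : Q u = 0) (hv : Q v = 0) (huv : polar Q u v = 1) (huw : polar Q u w = 0)
    (hvw : polar Q v w = 0) (hw : Q w = 1) (ht : t ≠ 0) :
    nW Q u v w t • w = -w := by
  have hvu : polar Q v u = 1 := by rw [polar_comm]; exact huv
  simp only [nW, mul_smul, smul_sub_vec, smul_add_vec, smul_smul_vec, smul_neg_vec,
    nw_E_z hu huw, nw_E_z hv hvw, nw_E_z' hu huv huw hvw hw, nw_E_z' hv hvu hvw huw hw,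
    nw_E_w hu huw hw, nw_E_w hv hvw hw]
  ext k
  simp only [Pi.add_apply, Pi.sub_apply, Pi.smul_apply, smul_eq_mul, Pi.neg_apply]
  field_simp
  ring

theorem nW_smul_perp (hu : Q u = 0) (hv : Q v = 0) (huw : polar Q u w = 0)
    (hvw : polar Q v w = 0) {x : ι → F} (hux : polar Q u x = 0) (hvx : polar Q v x = 0)
    (hwx : polar Q w x = 0) : nW Q u v w t • x = x := by
  unfold nW
  have h1 : eichG Q u (t • w) • x = x :=
    eichG_fix hu (by rw [polar_smul_right, huw, smul_zero]) hux
      (by rw [polar_smul_left, hwx, smul_zero])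
  have h2 : eichG Q v (t⁻¹ • w) • x = x :=
    eichG_fix hv (by rw [polar_smul_right, hvw, smul_zero]) hvx
      (by rw [polar_smul_left, hwx, smul_zero])
  rw [mul_smul, mul_smul, h1, h2, h1]

theorem nW_mem (hu : Q u = 0) (hv : Q v = 0) (huw : polar Q u w = 0) (hvw : polar Q v w = 0) :
    nW Q u v w t ∈ eichGroup Q := by
  unfold nW
  have h1 : eichG Q u (t • w) ∈ eichGroup Q :=
    eichG_mem hu (by rw [polar_smul_right, huw, smul_zero])
  have h2 : eichG Q v (t⁻¹ • w) ∈ eichGroup Q :=
    eichG_mem hv (by rw [polar_smul_right, hvw, smul_zero])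
  exact Subgroup.mul_mem _ (Subgroup.mul_mem _ h1 h2) h1

/-- decomposition along `u, v, w` and the orthogonal complement (characteristic not two) -/
theorem nw_decomp (h2 : (2 : F) ≠ 0) (hu : Q u = 0) (hv : Q v = 0) (huv : polar Q u v = 1)
    (huw : polar Q u w = 0) (hvw : polar Q v w = 0) (hw : Q w = 1) (x : ι → F) :
    ∃ (a b c : F) (y : ι → F), x = a • u + b • v + c • w + y ∧ polar Q u y = 0 ∧
      polar Q v y = 0 ∧ polar Q w y = 0 := by
  have hvu : polar Q v u = 1 := by rw [polar_comm]; exact huv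
  have hwu : polar Q w u = 0 := by rw [polar_comm]; exact huw
  have hwv : polar Q w v = 0 := by rw [polar_comm]; exact hvw
  have hww : polar Q w w = 2 := by
    rw [polar_self, hw]; simp
  refine ⟨polar Q v x, polar Q u x, polar Q w x / 2,
    x - polar Q v x • u - polar Q u x • v - (polar Q w x / 2) • w, by abel, ?_, ?_, ?_⟩
  · rw [polar_sub_right, polar_sub_right, polar_sub_right, polar_smul_right, polar_smul_right,
      polar_smul_right, polar_self_of_singular Q hu, huv, huw]
    simp
  · rw [polar_sub_right, polar_sub_right, polar_sub_right, polar_smul_right, polar_smul_right,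
      polar_smul_right, polar_self_of_singular Q hv, hvu, hvw]
    simp
  · rw [polar_sub_right, polar_sub_right, polar_sub_right, polar_smul_right, polar_smul_right,
      polar_smul_right, hwu, hwv, hww]
    simp only [smul_eq_mul, mul_zero, sub_zero]
    field_simp
    ring

/-- `nW Q u v w 1` is an involution (characteristic not two) -/
theorem nW_one_mul_self (h2 : (2 : F) ≠ 0) (hu : Q u = 0) (hv : Q v = 0) (huv : polar Q u v = 1)
    (huw : polar Q u w = 0) (hvw : polar Q v w = 0) (hw : Q w = 1) :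
    nW Q u v w 1 * nW Q u v w 1 = 1 := by
  apply ext_smul
  intro x
  obtain ⟨a, b, c, y, rfl, hy1, hy2, hy3⟩ := nw_decomp h2 hu hv huv huw hvw hw x
  have h1 : (1 : F) ≠ 0 := one_ne_zero
  simp only [mul_smul, one_smul, smul_add_vec, smul_smul_vec, smul_neg_vec,
    nW_smul_u hu hv huv huw hvw hw h1, nW_smul_v hu hv huv huw hvw hw h1,
    nW_smul_w hu hv huv huw hvw hw h1, nW_smul_perp hu hv huw hvw hy1 hy2 hy3]
  ext k
  simp only [Pi.add_apply, Pi.sub_apply, Pi.smul_apply, smul_eq_mul, Pi.neg_apply]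
  simp

end nW

end Cfsg.Agent.Helper11.OG
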