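import Mathlib
import Cfsg.Agent.Lib.Helper11.OGDefs
import Cfsg.Agent.Lib.Helper4.OGNW

/-!
# S2413-S2415, PIECE TORUS (helper4): the short-root torus element
-/

set_option autoImplicit false
set_option linter.unusedSectionVars false
set_option linter.unusedVariables false
set_option linter.unusedSimpArgs false

namespace Cfsg.Agent.Helper11.OG

open QuadraticMap Matrix Cfsg.Agent.Helper2.Orth Cfsg.Agent.Helper28.WittQuad

variable {F : Type*} [Field F] {ι : Type} [Fintype ι] [DecidableEq ι]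
variable {Q : QuadraticForm F (ι → F)}

section nW
variable {u v w : ι → F} {t : F}

theorem torus_inv_u (hu : Q u = 0) (hv : Q v = 0) (huv : polar Q u v = 1) (huw : polar Q u w = 0)
    (hvw : polar Q v w = 0) (hw : Q w = 1) : (nW Q u v w 1)⁻¹ • u = -v := by
  rw [inv_smul_eq_iff, smul_neg_vec, nW_smul_v hu hv huv huw hvw hw one_ne_zero]
  simp

theorem torus_inv_v (hu : Q u = 0) (hv : Q v = 0) (huv : polar Q u v = 1) (huw : polar Q u w = 0)
    (hvw : polar Q v w = 0) (hw : Q w = 1) : (nW Q u v w 1)⁻¹ • v = -u := by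
  rw [inv_smul_eq_iff, smul_neg_vec, nW_smul_u hu hv huv huw hvw hw one_ne_zero]
  simp

theorem torus_inv_w (hu : Q u = 0) (hv : Q v = 0) (huv : polar Q u v = 1) (huw : polar Q u w = 0)
    (hvw : polar Q v w = 0) (hw : Q w = 1) : (nW Q u v w 1)⁻¹ • w = -w := by
  rw [inv_smul_eq_iff, smul_neg_vec, nW_smul_w hu hv huv huw hvw hw one_ne_zero]
  simp

theorem torus_smul_u (hu : Q u = 0) (hv : Q v = 0) (huv : polar Q u v = 1) (huw : polar Q u w = 0)
    (hvw : polar Q v w = 0) (hw : Q w = 1) (ht : t ≠ 0) :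
    (nW Q u v w t * (nW Q u v w 1)⁻¹) • u = (t ^ 2) • u := by
  rw [mul_smul, torus_inv_u hu hv huv huw hvw hw, smul_neg_vec,
    nW_smul_v hu hv huv huw hvw hw ht]
  simp

theorem torus_smul_v (hu : Q u = 0) (hv : Q v = 0) (huv : polar Q u v = 1) (huw : polar Q u w = 0)
    (hvw : polar Q v w = 0) (hw : Q w = 1) (ht : t ≠ 0) :
    (nW Q u v w t * (nW Q u v w 1)⁻¹) • v = (t⁻¹ ^ 2) • v := by
  rw [mul_smul, torus_inv_v hu hv huv huw hvw hw, smul_neg_vec,
    nW_smul_u hu hv huv huw hvw hw ht]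
  simp

theorem torus_smul_w (hu : Q u = 0) (hv : Q v = 0) (huv : polar Q u v = 1) (huw : polar Q u w = 0)
    (hvw : polar Q v w = 0) (hw : Q w = 1) (ht : t ≠ 0) :
    (nW Q u v w t * (nW Q u v w 1)⁻¹) • w = w := by
  rw [mul_smul, torus_inv_w hu hv huv huw hvw hw, smul_neg_vec,
    nW_smul_w hu hv huv huw hvw hw ht]
  simp

theorem torus_smul_perp (hu : Q u = 0) (hv : Q v = 0) (huw : polar Q u w = 0)
    (hvw : polar Q v w = 0) {x : ι → F} (hux : polar Q u x = 0) (hvx : polar Q v x = 0)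
    (hwx : polar Q w x = 0) : (nW Q u v w t * (nW Q u v w 1)⁻¹) • x = x := by
  have h1 : (nW Q u v w 1)⁻¹ • x = x := by
    rw [inv_smul_eq_iff, nW_smul_perp hu hv huw hvw hux hvx hwx]
  rw [mul_smul, h1, nW_smul_perp hu hv huw hvw hux hvx hwx]

theorem torus_pow_u (hu : Q u = 0) (hv : Q v = 0) (huv : polar Q u v = 1) (huw : polar Q u w = 0)
    (hvw : polar Q v w = 0) (hw : Q w = 1) (ht : t ≠ 0) (n : ℕ) :
    (nW Q u v w t * (nW Q u v w 1)⁻¹) ^ n • u = ((t ^ 2) ^ n) • u := by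
  induction n with
  | zero => simp
  | succ n ih =>
    rw [pow_succ, mul_smul, torus_smul_u hu hv huv huw hvw hw ht, smul_smul_vec, ih, smul_smul,
      pow_succ]
    congr 1
    ring

theorem torus_pow_v (hu : Q u = 0) (hv : Q v = 0) (huv : polar Q u v = 1) (huw : polar Q u w = 0)
    (hvw : polar Q v w = 0) (hw : Q w = 1) (ht : t ≠ 0) (n : ℕ) :
    (nW Q u v w t * (nW Q u v w 1)⁻¹) ^ n • v = ((t⁻¹ ^ 2) ^ n) • v := by
  induction n with
  | zero => simp
  | succ n ih =>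
    rw [pow_succ, mul_smul, torus_smul_v hu hv huv huw hvw hw ht, smul_smul_vec, ih, smul_smul,
      pow_succ]
    congr 1
    ring

theorem torus_pow_w (hu : Q u = 0) (hv : Q v = 0) (huv : polar Q u v = 1) (huw : polar Q u w = 0)
    (hvw : polar Q v w = 0) (hw : Q w = 1) (ht : t ≠ 0) (n : ℕ) :
    (nW Q u v w t * (nW Q u v w 1)⁻¹) ^ n • w = w := by
  induction n with
  | zero => simp
  | succ n ih =>
    rw [pow_succ, mul_smul, torus_smul_w hu hv huv huw hvw hw ht, ih]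

theorem torus_pow_perp (hu : Q u = 0) (hv : Q v = 0) (huw : polar Q u w = 0)
    (hvw : polar Q v w = 0) {x : ι → F} (hux : polar Q u x = 0) (hvx : polar Q v x = 0)
    (hwx : polar Q w x = 0) (n : ℕ) : (nW Q u v w t * (nW Q u v w 1)⁻¹) ^ n • x = x := by
  induction n with
  | zero => simp
  | succ n ih =>
    rw [pow_succ, mul_smul, torus_smul_perp hu hv huw hvw hux hvx hwx, ih]

theorem torus_pow_card [Fintype F] (h2 : (2 : F) ≠ 0) (hu : Q u = 0) (hv : Q v = 0)
    (huv : polar Q u v = 1) (huw : polar Q u w = 0) (hvw : polar Q v w = 0) (hw : Q w = 1)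
    (ht : t ≠ 0) : (nW Q u v w t * (nW Q u v w 1)⁻¹) ^ (Fintype.card F - 1) = 1 := by
  apply ext_smul
  intro x
  obtain ⟨a, b, c, y, rfl, hy1, hy2, hy3⟩ := nw_decomp h2 hu hv huv huw hvw hw x
  have e1 : (t ^ 2) ^ (Fintype.card F - 1) = 1 := by
    rw [← pow_mul, mul_comm, pow_mul, FiniteField.pow_card_sub_one_eq_one t ht, one_pow]
  have e2 : (t⁻¹ ^ 2) ^ (Fintype.card F - 1) = 1 := by
    rw [← pow_mul, mul_comm, pow_mul, FiniteField.pow_card_sub_one_eq_one t⁻¹ (inv_ne_zero ht),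
      one_pow]
  simp only [one_smul, smul_add_vec, smul_smul_vec,
    torus_pow_u hu hv huv huw hvw hw ht, torus_pow_v hu hv huv huw hvw hw ht,
    torus_pow_w hu hv huv huw hvw hw ht, torus_pow_perp hu hv huw hvw hy1 hy2 hy3, e1, e2]

end nW

end Cfsg.Agent.Helper11.OG
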