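import Mathlib

/-!
# A transitive semilinear group in odd characteristic has a subgroup of index two (helper4)
-/

set_option autoImplicit false
set_option linter.style.haveILetI false

namespace Cfsg.Agent.Helper4.Zas

/-- a surjection onto `ℤˣ` gives a normal subgroup of index two -/
theorem exists_index_two_of_surjective {G : Type*} [Group G] (f : G →* ℤˣ)
    (hf : Function.Surjective f) : ∃ N : Subgroup G, N.Normal ∧ N.index = 2 := by
  refine ⟨f.ker, inferInstance, ?_⟩
  rw [Subgroup.index_ker, MonoidHom.range_eq_top.2 hf, Subgroup.card_top,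
    Nat.card_eq_fintype_card, Fintype.card_units_int]

theorem quadraticChar_ringEquiv {F : Type*} [Field F] [Fintype F] [DecidableEq F] (σ : F ≃+* F)
    (x : F) : quadraticChar F (σ x) = quadraticChar F x := by
  by_cases hx : x = 0
  · rw [hx, map_zero]
  have hσx : σ x ≠ 0 := by
    intro h
    apply hx
    have := congrArg σ.symm h
    rwa [σ.symm_apply_apply, map_zero] at this
  have hiff : IsSquare (σ x) ↔ IsSquare x := by
    constructor
    · rintro ⟨y, hy⟩
      refine ⟨σ.symm y, ?_⟩
      rw [← map_mul, ← hy, σ.symm_apply_apply]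
    · rintro ⟨y, hy⟩
      exact ⟨σ y, by rw [hy, map_mul]⟩
  rcases quadraticChar_dichotomy hx with h | h
  · rw [h, quadraticChar_one_iff_isSquare hσx, hiff, ← quadraticChar_one_iff_isSquare hx, h]
  · rw [h, quadraticChar_neg_one_iff_not_isSquare, hiff, ← quadraticChar_neg_one_iff_not_isSquare,
      h]

theorem index_two_of_semilinear {q : ℕ} [Fact q.Prime] {V : Type*} [AddCommGroup V]
    [Module (ZMod q) V] {G : Type*} [Group G] (ρ : G →* (V ≃ₗ[ZMod q] V))
    (htrans : ∀ v w : V, v ≠ 0 → w ≠ 0 → ∃ g : G, ρ g v = w)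
    (F : Type) [Field F] [Fintype F] (e : V ≃+ F)
    (hsemi : ∀ g : G, ∃ (a : F) (σ : F ≃+* F), ∀ v : V, e (ρ g v) = a * σ (e v))
    (hodd : ringChar F ≠ 2) : ∃ N : Subgroup G, N.Normal ∧ N.index = 2 := by
  classical
  set v₁ : V := e.symm 1 with hv₁
  have hev₁ : e v₁ = 1 := e.apply_symm_apply 1
  have hv₁0 : v₁ ≠ 0 := by
    intro h
    rw [h, map_zero] at hev₁
    exact zero_ne_one hev₁
  let a : G → F := fun g => e (ρ g v₁)
  have ha0 : ∀ g, a g ≠ 0 := by
    intro g h
    have h1 : ρ g v₁ = 0 := by
      have := congrArg e.symm h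
      rwa [e.symm_apply_apply, map_zero] at this
    exact hv₁0 ((ρ g).map_eq_zero_iff.mp h1)
  have hmul : ∀ g h : G, ∃ σ : F ≃+* F, a (g * h) = a g * σ (a h) := by
    intro g h
    obtain ⟨b, σ, hσ⟩ := hsemi g
    have hb : b = a g := by
      have := hσ v₁
      rw [hev₁, map_one, mul_one] at this
      exact this.symm
    refine ⟨σ, ?_⟩
    show e (ρ (g * h) v₁) = a g * σ (a h)
    rw [map_mul, ← hb]
    exact hσ (ρ h v₁)
  let f₀ : G →* ℤ :=
    { toFun := fun g => quadraticChar F (a g)
      map_one' := by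
        show quadraticChar F (e (ρ 1 v₁)) = 1
        rw [map_one]
        show quadraticChar F (e v₁) = 1
        rw [hev₁, map_one]
      map_mul' := by
        intro g h
        obtain ⟨σ, hσ⟩ := hmul g h
        show quadraticChar F (a (g * h)) = quadraticChar F (a g) * quadraticChar F (a h)
        rw [hσ, map_mul, quadraticChar_ringEquiv] }
  apply exists_index_two_of_surjective f₀.toHomUnits
  intro u
  rcases Int.units_eq_one_or u with hu | hu
  · exact ⟨1, by rw [map_one, hu]⟩
  · obtain ⟨b, hb⟩ := FiniteField.exists_nonsquare hodd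
    have hb0 : b ≠ 0 := by
      rintro rfl
      exact hb ⟨0, by simp⟩
    have hv0 : e.symm b ≠ 0 := by
      intro h
      apply hb0
      have := congrArg e h
      rwa [e.apply_symm_apply, map_zero] at this
    obtain ⟨g, hg⟩ := htrans v₁ (e.symm b) hv₁0 hv0
    refine ⟨g, ?_⟩
    rw [hu]
    apply Units.ext
    show quadraticChar F (a g) = ((-1 : ℤˣ) : ℤ)
    have : a g = b := by
      show e (ρ g v₁) = b
      rw [hg, e.apply_symm_apply]
    rw [this, Units.val_neg, Units.val_one]
    exact quadraticChar_neg_one_iff_not_isSquare.2 hb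

end Cfsg.Agent.Helper4.Zas
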