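import Mathlib
import Cfsg.Agent.S0684

/-!
# Regular linear groups: basic consequences (helper4)

`H ≤ GL(V)` regular on the nonzero vectors of a finite `ZMod p`-module `V`.
-/

set_option autoImplicit false
set_option linter.style.haveILetI false

namespace Cfsg.Agent.Helper4.Zas

variable {p : ℕ} [Fact p.Prime] {V : Type*} [AddCommGroup V] [Module (ZMod p) V]

/-- the regularity hypothesis in the shape of the frozen statements -/
def Reg (H : Subgroup (V ≃ₗ[ZMod p] V)) : Prop :=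
  ∀ v w : V, v ≠ 0 → w ≠ 0 → ∃! h : H, (h : V ≃ₗ[ZMod p] V) v = w

variable {H : Subgroup (V ≃ₗ[ZMod p] V)}

theorem Reg.fpf (hreg : Reg H) (h : H) {v : V} (hv : v ≠ 0)
    (hfix : (h : V ≃ₗ[ZMod p] V) v = v) : h = 1 := by
  obtain ⟨h0, -, huniq⟩ := hreg v v hv hv
  rw [huniq h hfix, huniq 1 (by simp)]

theorem Reg.fpf' (hreg : Reg H) {g h : H} {v : V} (hv : v ≠ 0)
    (hfix : (g : V ≃ₗ[ZMod p] V) v = (h : V ≃ₗ[ZMod p] V) v) : g = h := by
  have hne : (h : V ≃ₗ[ZMod p] V) v ≠ 0 := fun h0 =>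
    hv ((h : V ≃ₗ[ZMod p] V).map_eq_zero_iff.mp h0)
  obtain ⟨h0, -, huniq⟩ := hreg v _ hv hne
  rw [huniq g hfix, huniq h rfl]

theorem Reg.trans (hreg : Reg H) {v w : V} (hv : v ≠ 0) (hw : w ≠ 0) :
    ∃ h : H, (h : V ≃ₗ[ZMod p] V) v = w := (hreg v w hv hw).exists

theorem coe_mul_apply (g h : H) (v : V) :
    ((g * h : H) : V ≃ₗ[ZMod p] V) v = (g : V ≃ₗ[ZMod p] V) ((h : V ≃ₗ[ZMod p] V) v) := rfl

theorem coe_one_apply (v : V) : ((1 : H) : V ≃ₗ[ZMod p] V) v = v := rfl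

theorem coe_inv_apply_apply (g : H) (v : V) :
    ((g⁻¹ : H) : V ≃ₗ[ZMod p] V) ((g : V ≃ₗ[ZMod p] V) v) = v := by
  rw [← coe_mul_apply, inv_mul_cancel, coe_one_apply]

theorem coe_apply_inv_apply (g : H) (v : V) :
    (g : V ≃ₗ[ZMod p] V) (((g⁻¹ : H) : V ≃ₗ[ZMod p] V) v) = v := by
  rw [← coe_mul_apply, mul_inv_cancel, coe_one_apply]

theorem finite_GL [Finite V] : Finite (V ≃ₗ[ZMod p] V) :=
  Finite.of_injective (fun e : V ≃ₗ[ZMod p] V => (e : V → V)) DFunLike.coe_injective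

theorem Reg.card (hreg : Reg H) [Finite V] [Nontrivial V] : Nat.card H = Nat.card V - 1 := by
  classical
  obtain ⟨w, hw0⟩ := exists_ne (0 : V)
  have hbij : Function.Bijective (fun g : H => (⟨(g : V ≃ₗ[ZMod p] V) w, by
      intro h0
      exact hw0 ((g : V ≃ₗ[ZMod p] V).map_eq_zero_iff.mp h0)⟩ : {x : V // x ≠ 0})) := by
    constructor
    · intro g₁ g₂ h12
      have h12' : (g₁ : V ≃ₗ[ZMod p] V) w = (g₂ : V ≃ₗ[ZMod p] V) w := congrArg Subtype.val h12
      exact hreg.fpf' hw0 h12'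
    · rintro ⟨x, hx⟩
      obtain ⟨g, hg⟩ := hreg.trans hw0 hx
      exact ⟨g, Subtype.ext hg⟩
  rw [Nat.card_congr (Equiv.ofBijective _ hbij)]
  have h1 := Nat.card_congr (Equiv.optionSubtypeNe (0 : V))
  rw [Finite.card_option] at h1
  omega

/-- an involution of a regular linear group is `-1` -/
theorem Reg.invol (hreg : Reg H) {t : H} (ht2 : t * t = 1) (ht1 : t ≠ 1) (v : V) :
    (t : V ≃ₗ[ZMod p] V) v = -v := by
  by_contra hne
  have h0 : v + (t : V ≃ₗ[ZMod p] V) v ≠ 0 := by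
    intro h
    apply hne
    rw [eq_neg_iff_add_eq_zero, add_comm]; exact h
  apply ht1
  apply hreg.fpf t h0
  rw [map_add, ← coe_mul_apply, ht2, coe_one_apply, add_comm]

theorem Reg.invol_unique (hreg : Reg H) {s t : H} (hs2 : s * s = 1) (hs1 : s ≠ 1)
    (ht2 : t * t = 1) (ht1 : t ≠ 1) : s = t := by
  apply Subtype.ext
  apply LinearEquiv.ext
  intro v
  rw [hreg.invol hs2 hs1, hreg.invol ht2 ht1]

/-- if there is an involution then `p ≠ 2` -/
theorem Reg.two_lt (hreg : Reg H) [Nontrivial V] {t : H} (ht2 : t * t = 1) (ht1 : t ≠ 1) : 2 < p := by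
  have hp : p.Prime := Fact.out
  rcases hp.eq_two_or_odd' with h2 | hodd
  · exfalso
    obtain ⟨v, hv⟩ := exists_ne (0 : V)
    apply ht1
    apply hreg.fpf t hv
    rw [hreg.invol ht2 ht1 v]
    have h2v : (2 : ZMod p) • v = 0 := by
      have : (2 : ZMod p) = 0 := by
        have h3 : ((p : ℕ) : ZMod p) = 0 := ZMod.natCast_self p
        have h4 : ((2 : ℕ) : ZMod p) = 0 := by
          rw [← h3]; exact congrArg _ h2.symm
        exact_mod_cast h4
      rw [this, zero_smul]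
    rw [two_smul] at h2v
    exact (eq_neg_of_add_eq_zero_left h2v).symm
  · have := hp.two_le
    rcases hodd with ⟨k, hk⟩
    omega

/-- abelian subgroups of a regular linear group are cyclic -/
theorem Reg.isCyclic_of_comm (hreg : Reg H) [Finite V] [Nontrivial V] (B : Subgroup H)
    (hB : ∀ a ∈ B, ∀ b ∈ B, a * b = b * a) : IsCyclic B := by
  classical
  haveI : Finite (V ≃ₗ[ZMod p] V) := finite_GL
  let ι : B →* (V ≃ₗ[ZMod p] V) := H.subtype.comp B.subtype
  have hfpf : ∀ a : B, ∀ v : V, v ≠ 0 → ι a v = v → a = 1 := by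
    intro a v hv hav
    apply Subtype.ext
    exact hreg.fpf (a : H) hv hav
  have hex : ∃ k, ∃ W : Submodule (ZMod p) V, W ≠ ⊥ ∧ (∀ a : B, ∀ v ∈ W, ι a v ∈ W) ∧
      Module.finrank (ZMod p) W = k := by
    refine ⟨_, ⊤, top_ne_bot, fun _ _ _ => Submodule.mem_top, rfl⟩
  obtain ⟨W, hW0, hWinv, hWk⟩ := Nat.find_spec hex
  have hWmin : ∀ W' : Submodule (ZMod p) V, W' ≤ W → (∀ a : B, ∀ v ∈ W', ι a v ∈ W') →
      W' = ⊥ ∨ W' = W := by
    intro W' hle hinv
    by_cases h0 : W' = ⊥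
    · exact Or.inl h0
    · right
      have h1 : Nat.find hex ≤ Module.finrank (ZMod p) W' :=
        Nat.find_min' hex ⟨W', h0, hinv, rfl⟩
      exact Submodule.eq_of_le_of_finrank_le hle (by rw [hWk]; exact h1)
  have hcomm : ∀ a b : B, a * b = b * a := fun a b =>
    Subtype.ext (hB a a.2 b b.2)
  exact Cfsg.Agent.S0684.cyclic_of_fpf hcomm ι hfpf W hW0 hWinv hWmin

end Cfsg.Agent.Helper4.Zas
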