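import Mathlib
import Cfsg.Agent.Lib.Helper4.ZasBasic

/-!
# A commutative subalgebra of `End V` all of whose nonzero elements are injective is a field
(helper4, for the Zassenhaus rows S0688 ...)
-/

set_option autoImplicit false
set_option linter.style.haveILetI false
set_option warn.classDefReducibility false

namespace Cfsg.Agent.Helper4.Zas

open Module

variable {p : ℕ} [Fact p.Prime] {V : Type*} [AddCommGroup V] [Module (ZMod p) V]

/-- the field structure -/
noncomputable def fieldOfInj [Finite V] [Nontrivial V]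
    (K : Subalgebra (ZMod p) (Module.End (ZMod p) V))
    (hcomm : ∀ x ∈ K, ∀ y ∈ K, x * y = y * x)
    (hinj : ∀ x ∈ K, x ≠ 0 → ∀ v : V, x v = 0 → v = 0) : Field K := by
  classical
  letI : CommRing K :=
    { K.toRing with mul_comm := fun x y => Subtype.ext (hcomm x x.2 y y.2) }
  haveI : Nontrivial K := by
    obtain ⟨v, hv⟩ := exists_ne (0 : V)
    refine ⟨⟨0, 1, ?_⟩⟩
    intro h01
    have h2 := congrArg (fun r : K => (r : Module.End (ZMod p) V) v) h01
    simp only [ZeroMemClass.coe_zero, OneMemClass.coe_one, LinearMap.zero_apply,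
      Module.End.one_apply] at h2
    exact hv h2.symm
  haveI : NoZeroDivisors K := by
    refine ⟨fun {x y} hxy => ?_⟩
    by_cases hx0 : x = 0
    · exact Or.inl hx0
    · right
      have hx0' : (x : Module.End (ZMod p) V) ≠ 0 := fun h => hx0 (Subtype.ext h)
      apply Subtype.ext
      ext u
      have h2 := congrArg (fun r : K => (r : Module.End (ZMod p) V) u) hxy
      simp only [MulMemClass.coe_mul, ZeroMemClass.coe_zero, Module.End.mul_apply,
        LinearMap.zero_apply] at h2
      exact hinj x x.2 hx0' _ h2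
  haveI : IsDomain K := NoZeroDivisors.to_isDomain _
  haveI : Finite (Module.End (ZMod p) V) :=
    Finite.of_injective (fun e : Module.End (ZMod p) V => (e : V → V)) DFunLike.coe_injective
  letI : Fintype K := Fintype.ofFinite _
  exact Fintype.fieldOfDomain K

theorem finite_End [Finite V] : Finite (Module.End (ZMod p) V) :=
  Finite.of_injective (fun e : Module.End (ZMod p) V => (e : V → V)) DFunLike.coe_injective

theorem card_V_pow [Finite V] [Nontrivial V] (K : Subalgebra (ZMod p) (Module.End (ZMod p) V))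
    (hcomm : ∀ x ∈ K, ∀ y ∈ K, x * y = y * x)
    (hinj : ∀ x ∈ K, x ≠ 0 → ∀ v : V, x v = 0 → v = 0) :
    ∃ d : ℕ, Nat.card V = Nat.card K ^ d := by
  letI F := fieldOfInj K hcomm hinj
  letI M : @Module K V F.toSemiring _ := Subalgebra.moduleLeft K
  haveI : Module.Finite K V := Module.Finite.of_finite
  exact ⟨_, Module.natCard_eq_pow_finrank (K := K) (V := V)⟩

theorem card_K [Finite V] (K : Subalgebra (ZMod p) (Module.End (ZMod p) V)) :
    Nat.card K = p ^ Module.finrank (ZMod p) K := by
  haveI := finite_End (p := p) (V := V)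
  haveI : Module.Finite (ZMod p) K := Module.Finite.of_finite
  rw [Module.natCard_eq_pow_finrank (K := ZMod p) (V := K), Nat.card_zmod]

theorem card_aut [Finite V] [Nontrivial V] (K : Subalgebra (ZMod p) (Module.End (ZMod p) V))
    (hcomm : ∀ x ∈ K, ∀ y ∈ K, x * y = y * x)
    (hinj : ∀ x ∈ K, x ≠ 0 → ∀ v : V, x v = 0 → v = 0) :
    Nat.card (K ≃ₐ[ZMod p] K) = Module.finrank (ZMod p) K := by
  letI F := fieldOfInj K hcomm hinj
  letI A : @Algebra (ZMod p) K _ F.toSemiring := K.algebra
  haveI := finite_End (p := p) (V := V)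
  haveI : Finite K := inferInstance
  have := IsGalois.card_aut_eq_finrank (ZMod p) K
  exact this

/-- a group of units of `K` has order dividing `|K| - 1` -/
theorem card_dvd_of_hom [Finite V] [Nontrivial V]
    (K : Subalgebra (ZMod p) (Module.End (ZMod p) V))
    (hcomm : ∀ x ∈ K, ∀ y ∈ K, x * y = y * x)
    (hinj : ∀ x ∈ K, x ≠ 0 → ∀ v : V, x v = 0 → v = 0)
    {A : Type*} [Group A] (f : A →* K) (hf : Function.Injective f) :
    Nat.card A ∣ Nat.card K - 1 := by
  haveI := finite_End (p := p) (V := V)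
  haveI : Finite K := inferInstance
  have h1 : Nat.card Kˣ = Nat.card K - 1 := by
    letI F := fieldOfInj K hcomm hinj
    exact Nat.card_units (α := K)
  rw [← h1]
  have hg : Function.Injective f.toHomUnits := by
    intro a b hab
    apply hf
    have := congrArg (fun u : Kˣ => (u : K)) hab
    exact this
  exact Subgroup.card_dvd_of_injective f.toHomUnits hg

section galois

variable {H : Subgroup (V ≃ₗ[ZMod p] V)}

/-- the endomorphism of an element of `H` -/
def toEnd (H : Subgroup (V ≃ₗ[ZMod p] V)) : H →* Module.End (ZMod p) V where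
  toFun h := ((h : V ≃ₗ[ZMod p] V) : V →ₗ[ZMod p] V)
  map_one' := rfl
  map_mul' _ _ := rfl

theorem toEnd_apply (h : H) (v : V) : toEnd H h v = (h : V ≃ₗ[ZMod p] V) v := rfl

theorem toEnd_mul_inv (h : H) : toEnd H h * toEnd H h⁻¹ = 1 := by
  rw [← map_mul, mul_inv_cancel, map_one]

theorem toEnd_inv_mul (h : H) : toEnd H h⁻¹ * toEnd H h = 1 := by
  rw [← map_mul, inv_mul_cancel, map_one]

variable (K : Subalgebra (ZMod p) (Module.End (ZMod p) V))
  (hc : ∀ h : H, ∀ x ∈ K, toEnd H h * x * toEnd H h⁻¹ ∈ K)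

/-- conjugation on `K` -/
def conjK (h : H) : K ≃ₐ[ZMod p] K where
  toFun x := ⟨toEnd H h * x * toEnd H h⁻¹, hc h x x.2⟩
  invFun x := ⟨toEnd H h⁻¹ * x * toEnd H h, by
    have := hc h⁻¹ x x.2
    rwa [inv_inv] at this⟩
  left_inv x := by
    apply Subtype.ext
    show toEnd H h⁻¹ * (toEnd H h * x * toEnd H h⁻¹) * toEnd H h = x
    calc toEnd H h⁻¹ * (toEnd H h * x * toEnd H h⁻¹) * toEnd H h
        = (toEnd H h⁻¹ * toEnd H h) * x * (toEnd H h⁻¹ * toEnd H h) := by
          simp only [mul_assoc]
      _ = x := by rw [toEnd_inv_mul, one_mul, mul_one]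
  right_inv x := by
    apply Subtype.ext
    show toEnd H h * (toEnd H h⁻¹ * x * toEnd H h) * toEnd H h⁻¹ = x
    calc toEnd H h * (toEnd H h⁻¹ * x * toEnd H h) * toEnd H h⁻¹
        = (toEnd H h * toEnd H h⁻¹) * x * (toEnd H h * toEnd H h⁻¹) := by
          simp only [mul_assoc]
      _ = x := by rw [toEnd_mul_inv, one_mul, mul_one]
  map_mul' x y := by
    apply Subtype.ext
    show toEnd H h * (x * y) * toEnd H h⁻¹ =
      (toEnd H h * x * toEnd H h⁻¹) * (toEnd H h * y * toEnd H h⁻¹)
    calc toEnd H h * (x * y) * toEnd H h⁻¹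
        = toEnd H h * x * 1 * y * toEnd H h⁻¹ := by simp only [mul_assoc, one_mul]
      _ = (toEnd H h * x * toEnd H h⁻¹) * (toEnd H h * y * toEnd H h⁻¹) := by
          rw [← toEnd_inv_mul h]; simp only [mul_assoc]
  map_add' x y := by
    apply Subtype.ext
    show toEnd H h * (x + y) * toEnd H h⁻¹ =
      (toEnd H h * x * toEnd H h⁻¹) + (toEnd H h * y * toEnd H h⁻¹)
    rw [mul_add, add_mul]
  commutes' r := by
    apply Subtype.ext
    show toEnd H h * (algebraMap (ZMod p) (Module.End (ZMod p) V) r) * toEnd H h⁻¹ =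
      algebraMap (ZMod p) (Module.End (ZMod p) V) r
    rw [← Algebra.commutes, mul_assoc, toEnd_mul_inv, mul_one]

theorem conjK_apply (h : H) (x : K) :
    ((conjK K hc h x : K) : Module.End (ZMod p) V) = toEnd H h * x * toEnd H h⁻¹ := rfl

/-- the conjugation homomorphism -/
def conjHom : H →* (K ≃ₐ[ZMod p] K) where
  toFun h := conjK K hc h
  map_one' := by
    ext x
    rw [conjK_apply]
    simp
  map_mul' g h := by
    ext x
    rw [AlgEquiv.mul_apply, conjK_apply, conjK_apply, conjK_apply, mul_inv_rev, map_mul, map_mul]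
    simp only [mul_assoc]

theorem index_dvd_finrank [Finite V] [Nontrivial V]
    (hc : ∀ h : H, ∀ x ∈ K, toEnd H h * x * toEnd H h⁻¹ ∈ K)
    (hcomm : ∀ x ∈ K, ∀ y ∈ K, x * y = y * x)
    (hinj : ∀ x ∈ K, x ≠ 0 → ∀ v : V, x v = 0 → v = 0)
    (N : Subgroup H) (hN : ∀ h, h ∈ N ↔ ∀ x ∈ K, toEnd H h * x = x * toEnd H h) :
    N.index ∣ Module.finrank (ZMod p) K := by
  have hker : N = (conjHom K hc).ker := by
    ext h
    rw [hN, MonoidHom.mem_ker]
    constructor
    · intro hx
      apply AlgEquiv.ext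
      intro x
      apply Subtype.ext
      show ((conjK K hc h x : K) : Module.End (ZMod p) V) = x
      rw [conjK_apply, hx x x.2, mul_assoc, toEnd_mul_inv, mul_one]
    · intro hx x hxK
      have h1 := congrArg (fun σ : K ≃ₐ[ZMod p] K => ((σ ⟨x, hxK⟩ : K) : Module.End (ZMod p) V)) hx
      simp only [AlgEquiv.one_apply] at h1
      change ((conjK K hc h ⟨x, hxK⟩ : K) : Module.End (ZMod p) V) = x at h1
      rw [conjK_apply] at h1
      calc toEnd H h * x = toEnd H h * x * (toEnd H h⁻¹ * toEnd H h) := by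
            rw [toEnd_inv_mul, mul_one]
        _ = (toEnd H h * x * toEnd H h⁻¹) * toEnd H h := by simp only [mul_assoc]
        _ = x * toEnd H h := by rw [h1]
  rw [hker, Subgroup.index_ker, ← card_aut K hcomm hinj]
  exact Subgroup.card_subgroup_dvd_card _

end galois

end Cfsg.Agent.Helper4.Zas
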