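import Mathlib
import Cfsg.Agent.Lib.Helper4.ZasField

/-!
# The enveloping algebra of a normal abelian subgroup of a regular linear group is a field
(helper4)
-/

set_option autoImplicit false
set_option linter.style.haveILetI false

namespace Cfsg.Agent.Helper4.Zas

open Module

variable {p : ℕ} [Fact p.Prime] {V : Type*} [AddCommGroup V] [Module (ZMod p) V]
variable {H : Subgroup (V ≃ₗ[ZMod p] V)}

/-- the image of `A` in `End V` -/
def gens (A : Subgroup H) : Set (Module.End (ZMod p) V) := {x | ∃ a ∈ A, toEnd H a = x}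

/-- the enveloping algebra of `A` -/
def KA (A : Subgroup H) : Subalgebra (ZMod p) (Module.End (ZMod p) V) :=
  Algebra.adjoin (ZMod p) (gens A)

theorem toEnd_mem_KA {A : Subgroup H} {a : H} (ha : a ∈ A) : toEnd H a ∈ KA A :=
  Algebra.subset_adjoin ⟨a, ha, rfl⟩

open scoped IsMulCommutative in
theorem KA_comm {A : Subgroup H} (hAc : ∀ a ∈ A, ∀ b ∈ A, a * b = b * a) :
    ∀ x ∈ KA A, ∀ y ∈ KA A, x * y = y * x := by
  have hsc : ∀ x ∈ gens A, ∀ y ∈ gens A, x * y = y * x := by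
    rintro _ ⟨a, ha, rfl⟩ _ ⟨b, hb, rfl⟩
    rw [← map_mul, ← map_mul, hAc a ha b hb]
  have hRc : IsMulCommutative (Algebra.adjoin (ZMod p) (gens A)) :=
    Algebra.isMulCommutative_adjoin (ZMod p) hsc
  intro x hx y hy
  have h1 := mul_comm' (⟨x, hx⟩ : Algebra.adjoin (ZMod p) (gens A)) ⟨y, hy⟩
  exact congrArg Subtype.val h1

/-- `A`-invariant subspaces -/
def Inv (A : Subgroup H) (U : Submodule (ZMod p) V) : Prop :=
  ∀ a ∈ A, ∀ u ∈ U, (a : V ≃ₗ[ZMod p] V) u ∈ U

theorem KA_inv {A : Subgroup H} {U : Submodule (ZMod p) V} (hU : Inv A U) :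
    ∀ x ∈ KA A, ∀ u ∈ U, x u ∈ U := by
  intro x hx
  induction hx using Algebra.adjoin_induction with
  | mem x hx =>
    obtain ⟨a, ha, rfl⟩ := hx
    exact fun u hu => hU a ha u hu
  | algebraMap r =>
    intro u hu
    rw [Module.algebraMap_end_apply]
    exact U.smul_mem r hu
  | add x y _ _ hx hy =>
    intro u hu
    rw [LinearMap.add_apply]
    exact U.add_mem (hx u hu) (hy u hu)
  | mul x y _ _ hx hy =>
    intro u hu
    rw [Module.End.mul_apply]
    exact hx _ (hy u hu)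

theorem KA_conj {A : Subgroup H} [hAn : A.Normal] :
    ∀ h : H, ∀ x ∈ KA A, toEnd H h * x * toEnd H h⁻¹ ∈ KA A := by
  intro h x hx
  induction hx using Algebra.adjoin_induction with
  | mem x hx =>
    obtain ⟨a, ha, rfl⟩ := hx
    rw [← map_mul, ← map_mul]
    exact toEnd_mem_KA (hAn.conj_mem a ha h)
  | algebraMap r =>
    rw [← Algebra.commutes, mul_assoc, toEnd_mul_inv, mul_one]
    exact Subalgebra.algebraMap_mem _ r
  | add x y _ _ hx hy =>
    rw [mul_add, add_mul]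
    exact Subalgebra.add_mem _ hx hy
  | mul x y _ _ hx hy =>
    have : toEnd H h * (x * y) * toEnd H h⁻¹ =
        (toEnd H h * x * toEnd H h⁻¹) * (toEnd H h * y * toEnd H h⁻¹) := by
      calc toEnd H h * (x * y) * toEnd H h⁻¹
          = toEnd H h * x * 1 * y * toEnd H h⁻¹ := by simp only [mul_assoc, one_mul]
        _ = (toEnd H h * x * toEnd H h⁻¹) * (toEnd H h * y * toEnd H h⁻¹) := by
            rw [← toEnd_inv_mul h]; simp only [mul_assoc]
    rw [this]
    exact Subalgebra.mul_mem _ hx hy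

theorem toEnd_injective : Function.Injective (toEnd H) := by
  intro g h hgh
  apply Subtype.ext
  apply LinearEquiv.ext
  intro v
  exact congrArg (fun f : Module.End (ZMod p) V => f v) hgh

/-- the centraliser of `A` is the set of elements commuting with `KA A` -/
theorem mem_centralizer_iff_KA {A : Subgroup H} (h : H) :
    h ∈ Subgroup.centralizer (A : Set H) ↔ ∀ x ∈ KA A, toEnd H h * x = x * toEnd H h := by
  constructor
  · intro hh x hx
    induction hx using Algebra.adjoin_induction with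
    | mem x hx =>
      obtain ⟨a, ha, rfl⟩ := hx
      rw [← map_mul, ← map_mul, (Subgroup.mem_centralizer_iff.1 hh a ha)]
    | algebraMap r => rw [Algebra.commutes]
    | add x y _ _ hx hy => rw [mul_add, add_mul, hx, hy]
    | mul x y _ _ hx hy => rw [← mul_assoc, hx, mul_assoc, hy, mul_assoc]
  · intro hh
    rw [Subgroup.mem_centralizer_iff]
    intro a ha
    apply toEnd_injective
    rw [map_mul, map_mul, hh _ (toEnd_mem_KA ha)]

theorem exists_min_inv [Finite V] [Nontrivial V] (A : Subgroup H) :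
    ∃ W : Submodule (ZMod p) V, W ≠ ⊥ ∧ Inv A W ∧
      ∀ W' : Submodule (ZMod p) V, W' ≤ W → Inv A W' → W' = ⊥ ∨ W' = W := by
  classical
  have hex : ∃ k, ∃ W : Submodule (ZMod p) V, W ≠ ⊥ ∧ Inv A W ∧
      Module.finrank (ZMod p) W = k :=
    ⟨_, ⊤, top_ne_bot, fun _ _ _ _ => Submodule.mem_top, rfl⟩
  obtain ⟨W, hW0, hWinv, hWk⟩ := Nat.find_spec hex
  refine ⟨W, hW0, hWinv, ?_⟩
  intro W' hle hinv
  by_cases h0 : W' = ⊥
  · exact Or.inl h0
  · right
    have h1 : Nat.find hex ≤ Module.finrank (ZMod p) W' :=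
      Nat.find_min' hex ⟨W', h0, hinv, rfl⟩
    exact Submodule.eq_of_le_of_finrank_le hle (by rw [hWk]; exact h1)

/-- translate of an invariant subspace -/
theorem inv_map {A : Subgroup H} [hAn : A.Normal] {U : Submodule (ZMod p) V} (hU : Inv A U)
    (h : H) : Inv A (U.map (toEnd H h)) := by
  rintro a ha _ ⟨u, hu, rfl⟩
  refine ⟨((h⁻¹ * a * h : H) : V ≃ₗ[ZMod p] V) u, hU _ ?_ u hu, ?_⟩
  · have := hAn.conj_mem a ha h⁻¹
    rwa [inv_inv] at this
  · rw [toEnd_apply, toEnd_apply, ← coe_mul_apply, ← coe_mul_apply]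
    congr 2
    group

/-- through every nonzero vector there is a minimal invariant subspace -/
theorem exists_min_through [Finite V] [Nontrivial V] (hreg : Reg H) (A : Subgroup H) [hAn : A.Normal]
    {v : V} (hv : v ≠ 0) :
    ∃ S : Submodule (ZMod p) V, v ∈ S ∧ Inv A S ∧
      ∀ U : Submodule (ZMod p) V, U ≤ S → Inv A U → U = ⊥ ∨ U = S := by
  obtain ⟨W, hW0, hWinv, hWmin⟩ := exists_min_inv A
  obtain ⟨w, hwW, hw0⟩ := (Submodule.ne_bot_iff W).1 hW0
  obtain ⟨h, hh⟩ := hreg.trans hw0 hv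
  refine ⟨W.map (toEnd H h), ⟨w, hwW, hh⟩, inv_map hWinv h, ?_⟩
  intro U hUS hUinv
  have hU' : U.map (toEnd H h⁻¹) ≤ W := by
    rintro _ ⟨u, hu, rfl⟩
    obtain ⟨w', hw', rfl⟩ := hUS hu
    rw [toEnd_apply, toEnd_apply, coe_inv_apply_apply]
    exact hw'
  rcases hWmin _ hU' (inv_map hUinv h⁻¹) with h1 | h1
  · left
    rw [eq_bot_iff]
    intro u hu
    have h2 : toEnd H h⁻¹ u ∈ U.map (toEnd H h⁻¹) := ⟨u, hu, rfl⟩
    rw [h1, Submodule.mem_bot, toEnd_apply] at h2
    rw [Submodule.mem_bot]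
    exact ((h⁻¹ : H) : V ≃ₗ[ZMod p] V).map_eq_zero_iff.mp h2
  · right
    apply le_antisymm hUS
    rintro _ ⟨w', hw', rfl⟩
    rw [← h1] at hw'
    obtain ⟨u, hu, rfl⟩ := hw'
    rw [toEnd_apply, toEnd_apply, coe_apply_inv_apply]
    exact hu

/-- **Homogeneity**: a nonzero element of `KA A` is injective. -/
theorem KA_inj [Finite V] [Nontrivial V] (hreg : Reg H) (A : Subgroup H) [hAn : A.Normal]
    (hAc : ∀ a ∈ A, ∀ b ∈ A, a * b = b * a) :
    ∀ x ∈ KA A, x ≠ 0 → ∀ v : V, x v = 0 → v = 0 := by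
  intro x hx hx0 v hxv
  by_contra hv
  apply hx0
  -- the kernel is invariant
  have hker : Inv A (LinearMap.ker x) := by
    intro a ha u hu
    rw [LinearMap.mem_ker] at hu ⊢
    have h1 := KA_comm hAc x hx _ (toEnd_mem_KA ha)
    have h2 := congrArg (fun f : Module.End (ZMod p) V => f u) h1
    simp only [Module.End.mul_apply, toEnd_apply] at h2
    rw [h2, hu, map_zero]
  have hinf : ∀ {U₁ U₂ : Submodule (ZMod p) V}, Inv A U₁ → Inv A U₂ → Inv A (U₁ ⊓ U₂) :=
    fun h1 h2 a ha u hu => ⟨h1 a ha u hu.1, h2 a ha u hu.2⟩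
  obtain ⟨S₁, hvS₁, hS₁inv, hS₁min⟩ := exists_min_through hreg A hv
  have hkill : ∀ u ∈ S₁, x u = 0 := by
    rcases hS₁min (LinearMap.ker x ⊓ S₁) inf_le_right (hinf hker hS₁inv) with h1 | h1
    · exfalso
      have : v ∈ LinearMap.ker x ⊓ S₁ := ⟨LinearMap.mem_ker.2 hxv, hvS₁⟩
      rw [h1, Submodule.mem_bot] at this
      exact hv this
    · intro u hu
      rw [← h1] at hu
      exact LinearMap.mem_ker.1 hu.1
  ext u
  rw [LinearMap.zero_apply]
  by_cases huS₁ : u ∈ S₁
  · exact hkill u huS₁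
  have hu0 : u ≠ 0 := by
    rintro rfl
    exact huS₁ S₁.zero_mem
  obtain ⟨S₂, huS₂, hS₂inv, hS₂min⟩ := exists_min_through hreg A hu0
  have h12 : S₁ ⊓ S₂ = ⊥ := by
    rcases hS₂min (S₁ ⊓ S₂) inf_le_right (hinf hS₁inv hS₂inv) with h1 | h1
    · exact h1
    · exfalso
      apply huS₁
      have : u ∈ S₁ ⊓ S₂ := by rw [h1]; exact huS₂
      exact this.1
  have hvu0 : v + u ≠ 0 := by
    intro h
    apply huS₁
    have : u = -v := by rw [eq_neg_iff_add_eq_zero, add_comm]; exact h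
    rw [this]
    exact S₁.neg_mem hvS₁
  obtain ⟨S₃, hvuS₃, hS₃inv, hS₃min⟩ := exists_min_through hreg A hvu0
  by_contra hxu
  have hxu₃ : x u ∈ S₃ := by
    have h1 := KA_inv hS₃inv x hx _ hvuS₃
    rwa [map_add, hxv, zero_add] at h1
  have hxu₂ : x u ∈ S₂ := KA_inv hS₂inv x hx _ huS₂
  have h32 : S₃ ⊓ S₂ ≠ ⊥ := by
    intro h
    have : x u ∈ S₃ ⊓ S₂ := ⟨hxu₃, hxu₂⟩
    rw [h, Submodule.mem_bot] at this
    exact hxu this
  have e3 : S₃ ⊓ S₂ = S₃ := by
    rcases hS₃min _ inf_le_left (hinf hS₃inv hS₂inv) with h1 | h1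
    · exact absurd h1 h32
    · exact h1
  have e2 : S₃ ⊓ S₂ = S₂ := by
    rcases hS₂min _ inf_le_right (hinf hS₃inv hS₂inv) with h1 | h1
    · exact absurd h1 h32
    · exact h1
  have hvS₂ : v ∈ S₂ := by
    have h1 : v + u ∈ S₂ := by rw [← e2, e3]; exact hvuS₃
    have h2 := S₂.sub_mem h1 huS₂
    rwa [add_sub_cancel_right] at h2
  have : v ∈ S₁ ⊓ S₂ := ⟨hvS₁, hvS₂⟩
  rw [h12, Submodule.mem_bot] at this
  exact hv this

/-- if there is a proper nonzero invariant subspace then `|K| < |V|` -/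
theorem card_KA_lt [Finite V] [Nontrivial V] (hreg : Reg H) (A : Subgroup H) [hAn : A.Normal]
    (hAc : ∀ a ∈ A, ∀ b ∈ A, a * b = b * a)
    (W : Submodule (ZMod p) V) (hW0 : W ≠ ⊥) (hWtop : W ≠ ⊤) (hW : Inv A W) :
    Nat.card (KA A) < Nat.card V := by
  obtain ⟨w, hwW, hw0⟩ := (Submodule.ne_bot_iff W).1 hW0
  have hinj := KA_inj hreg A hAc
  let f : KA A → W := fun x => ⟨(x : Module.End (ZMod p) V) w, KA_inv hW x x.2 w hwW⟩
  have hf : Function.Injective f := by
    intro x y hxy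
    have h1 : (x : Module.End (ZMod p) V) w = (y : Module.End (ZMod p) V) w :=
      congrArg Subtype.val hxy
    by_contra hne
    have h2 : ((x - y : KA A) : Module.End (ZMod p) V) ≠ 0 := by
      intro h
      apply hne
      have : x - y = 0 := Subtype.ext h
      exact sub_eq_zero.1 this
    apply hw0
    apply hinj _ (x - y).2 h2 w
    rw [Subalgebra.coe_sub, LinearMap.sub_apply, h1, sub_self]
  have h1 : Nat.card (KA A) ≤ Nat.card W := Nat.card_le_card_of_injective f hf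
  have h2 : Nat.card W < Nat.card V := by
    obtain ⟨v, hvW⟩ : ∃ v : V, v ∉ W := by
      by_contra hcon
      push Not at hcon
      exact hWtop (eq_top_iff.2 fun v _ => hcon v)
    have h3 : Nat.card W = Nat.card (W : Set V) := rfl
    rw [h3, ← Set.ncard_univ V]
    exact Set.ncard_lt_ncard ⟨Set.subset_univ _, fun h => hvW (h (Set.mem_univ v))⟩
      (Set.toFinite _)
  omega

end Cfsg.Agent.Helper4.Zas
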