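import Mathlib
import Cfsg.Agent.Lib.Helper16.OddUnique
import Cfsg.Agent.Lib.Helper20.UniqueInvolution

/-!
# A minimal nonabelian normal subgroup with all smaller normal subgroups central is `Q₈`
(helper4; group-theoretic core of the Zassenhaus rows)
-/

set_option autoImplicit false
set_option linter.style.haveILetI false
set_option linter.unusedSectionVars false

namespace Cfsg.Agent.Helper4.Zas

section general

variable {G : Type*} [Group G]

/-- `h * g ^ n = g ^ n * h * ε ^ n` in class two -/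
theorem mul_pow_comm_of_class_two {g h ε : G} (hrel : h * g = g * h * ε) (hg : Commute ε g)
    (hh : Commute ε h) (n : ℕ) : h * g ^ n = g ^ n * h * ε ^ n := by
  induction n with
  | zero => simp
  | succ n ih =>
    calc h * g ^ (n + 1) = (h * g ^ n) * g := by rw [pow_succ]; group
      _ = g ^ n * h * ε ^ n * g := by rw [ih]
      _ = g ^ n * h * (ε ^ n * g) := by group
      _ = g ^ n * h * (g * ε ^ n) := by rw [(hg.pow_left n).eq]
      _ = g ^ n * (h * g) * ε ^ n := by group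
      _ = g ^ n * (g * h * ε) * ε ^ n := by rw [hrel]
      _ = g ^ (n + 1) * h * ε ^ (n + 1) := by rw [pow_succ, pow_succ]; group

/-- in a cyclic subgroup an element killed by a prime `r` is a power of any element of order `r` -/
theorem mem_zpowers_of_cyclic [Finite G] (hcyc : IsCyclic G) {r : ℕ} (hr : r.Prime) {g c : G}
    (hg : g ^ r = 1) (hc : c ^ r = 1) (hc1 : c ≠ 1) : g ∈ Subgroup.zpowers c := by
  classical
  letI : Fintype G := Fintype.ofFinite G
  haveI : Fact r.Prime := ⟨hr⟩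
  have hco : orderOf c = r := orderOf_eq_prime hc hc1
  have h1 := IsCyclic.card_pow_eq_one_le (α := G) hr.pos
  -- the powers of c
  have h2 : (Finset.univ.filter fun a : G => a ∈ Subgroup.zpowers c) ⊆
      (Finset.univ.filter fun a : G => a ^ r = 1) := by
    intro a ha
    rw [Finset.mem_filter] at ha ⊢
    refine ⟨Finset.mem_univ _, ?_⟩
    obtain ⟨k, rfl⟩ := Subgroup.mem_zpowers_iff.1 ha.2
    rw [← zpow_natCast, ← zpow_mul, mul_comm, zpow_mul, zpow_natCast, hc, one_zpow]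
  have h3 : (Finset.univ.filter fun a : G => a ∈ Subgroup.zpowers c).card = r := by
    rw [← hco, ← Nat.card_zpowers, Nat.card_eq_fintype_card, Fintype.card_subtype]
  have h4 := Finset.eq_of_subset_of_card_le h2 (by rw [h3]; exact h1)
  have h5 : g ∈ (Finset.univ.filter fun a : G => a ^ r = 1) := by
    rw [Finset.mem_filter]; exact ⟨Finset.mem_univ _, hg⟩
  rw [← h4, Finset.mem_filter] at h5
  exact h5.2

end general

section main

variable {H : Type*} [Group H] [Finite H] (N Z : Subgroup H) [hNn : N.Normal] [hZn : Z.Normal]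

/-- the hypotheses -/
structure Q8Hyp : Prop where
  hZN : Z ≤ N
  h1 : ∀ M : Subgroup H, M.Normal → M ≤ N → M = N ∨ M ≤ Z
  h2 : ∀ z ∈ Z, ∀ g ∈ N, z * g = g * z
  h3 : ∃ x ∈ N, ∃ y ∈ N, x * y ≠ y * x
  h4 : ∀ g ∈ N, ∀ h ∈ N, g * h * g⁻¹ * h⁻¹ ∈ Z
  h5 : ∀ B : Subgroup H, (∀ a ∈ B, ∀ b ∈ B, a * b = b * a) → IsCyclic B
  h6 : ∀ s t : H, s * s = 1 → s ≠ 1 → t * t = 1 → t ≠ 1 → s = t

variable {N Z}

/-- the correction term: `h * g = g * h * cm g h` -/
def cm (g h : H) : H := h⁻¹ * g⁻¹ * h * g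

theorem cm_rel (g h : H) : h * g = g * h * cm g h := by
  unfold cm; group

namespace Q8Hyp

variable (hyp : Q8Hyp N Z)
include hyp

theorem cm_mem {g h : H} (hg : g ∈ N) (hh : h ∈ N) : cm g h ∈ Z := by
  have := hyp.h4 h⁻¹ (N.inv_mem hh) g⁻¹ (N.inv_mem hg)
  rw [inv_inv, inv_inv] at this
  exact this

theorem comm_Z {z g : H} (hz : z ∈ Z) (hg : g ∈ N) : Commute z g := hyp.h2 z hz g hg

theorem cm_comm_left {g h : H} (hg : g ∈ N) (hh : h ∈ N) : Commute (cm g h) g :=
  hyp.comm_Z (hyp.cm_mem hg hh) hg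

theorem cm_comm_right {g h : H} (hg : g ∈ N) (hh : h ∈ N) : Commute (cm g h) h :=
  hyp.comm_Z (hyp.cm_mem hg hh) hh

theorem mul_pow_eq {g h : H} (hg : g ∈ N) (hh : h ∈ N) (n : ℕ) :
    (g * h) ^ n = g ^ n * h ^ n * (cm g h) ^ (n * (n - 1) / 2) :=
  Cfsg.Agent.Helper16.mul_pow_of_class_two (cm_rel g h) (hyp.cm_comm_left hg hh)
    (hyp.cm_comm_right hg hh) n

/-- a subgroup of the shape `{g ∈ N | g ^ r ∈ Z}` -/
theorem exists_prime : ∃ r : ℕ, r.Prime ∧ ∀ g ∈ N, g ^ r ∈ Z := by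
  obtain ⟨x, hxN, y, hyN, hxy⟩ := hyp.h3
  have hxZ : x ∉ Z := fun h => hxy (hyp.h2 x h y hyN)
  -- order of `x` modulo `Z`
  set m := orderOf (QuotientGroup.mk x : H ⧸ Z) with hm
  have hpow : ∀ k : ℕ, x ^ k ∈ Z ↔ m ∣ k := by
    intro k
    rw [hm, orderOf_dvd_iff_pow_eq_one, ← QuotientGroup.mk_pow, QuotientGroup.eq_one_iff]
  have hm0 : 0 < m := orderOf_pos _
  have hm1 : m ≠ 1 := by
    intro h
    apply hxZ
    have := (hpow 1).2 (by rw [h])
    rwa [pow_one] at this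
  set r := m.minFac with hr
  have hrp : r.Prime := Nat.minFac_prime hm1
  have hrm : r ∣ m := Nat.minFac_dvd m
  obtain ⟨t, ht⟩ := hrm
  have ht0 : 0 < t := by
    rcases Nat.eq_zero_or_pos t with h | h
    · rw [h, mul_zero] at ht; omega
    · exact h
  have htm : t < m := by
    rw [ht]
    have := hrp.two_le
    nlinarith
  have hg1Z : x ^ t ∉ Z := by
    rw [hpow]
    intro h
    have := Nat.le_of_dvd ht0 h
    omega
  have hg1r : (x ^ t) ^ r ∈ Z := by
    rw [← pow_mul, mul_comm, ← ht, hpow]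
  refine ⟨r, hrp, ?_⟩
  -- the subgroup
  let M : Subgroup H :=
    { carrier := {g | g ∈ N ∧ g ^ r ∈ Z}
      mul_mem' := by
        rintro g h ⟨hg, hgr⟩ ⟨hh, hhr⟩
        refine ⟨N.mul_mem hg hh, ?_⟩
        rw [hyp.mul_pow_eq hg hh]
        exact Z.mul_mem (Z.mul_mem hgr hhr) (Z.pow_mem (hyp.cm_mem hg hh) _)
      one_mem' := ⟨N.one_mem, by rw [one_pow]; exact Z.one_mem⟩
      inv_mem' := by
        rintro g ⟨hg, hgr⟩
        refine ⟨N.inv_mem hg, ?_⟩
        rw [inv_pow]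
        exact Z.inv_mem hgr }
  have hMn : M.Normal := by
    refine ⟨fun g hg k => ?_⟩
    refine ⟨hNn.conj_mem g hg.1 k, ?_⟩
    rw [conj_pow]
    exact hZn.conj_mem _ hg.2 k
  have hMN : M ≤ N := fun g hg => hg.1
  rcases hyp.h1 M hMn hMN with h | h
  · intro g hg
    have : g ∈ M := by rw [h]; exact hg
    exact this.2
  · exfalso
    apply hg1Z
    apply h
    exact ⟨N.pow_mem hxN t, hg1r⟩

theorem cm_pow {r : ℕ} (hr : ∀ g ∈ N, g ^ r ∈ Z) {g h : H} (hg : g ∈ N) (hh : h ∈ N) :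
    (cm g h) ^ r = 1 := by
  have h1 := mul_pow_comm_of_class_two (cm_rel g h) (hyp.cm_comm_left hg hh)
    (hyp.cm_comm_right hg hh) r
  have h2 : h * g ^ r = g ^ r * h := ((hyp.comm_Z (hr g hg) hh).eq).symm
  rw [h2] at h1
  have h3 : g ^ r * h * 1 = g ^ r * h * cm g h ^ r := by rw [mul_one]; exact h1
  exact (mul_left_cancel h3).symm

theorem cm_ne_one {x y : H} (hxy : x * y ≠ y * x) : cm x y ≠ 1 := by
  intro h
  apply hxy
  have := cm_rel x y
  rw [h, mul_one] at this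
  exact this.symm

/-- the prime is `2` -/
theorem prime_eq_two {r : ℕ} (hrp : r.Prime) (hr : ∀ g ∈ N, g ^ r ∈ Z) : r = 2 := by
  by_contra hr2
  have hodd : Odd r := hrp.odd_of_ne_two hr2
  obtain ⟨s, hs⟩ := hodd
  -- the r-th power map is multiplicative
  have hmul : ∀ g ∈ N, ∀ h ∈ N, (g * h) ^ r = g ^ r * h ^ r := by
    intro g hg h hh
    rw [hyp.mul_pow_eq hg hh]
    have : r * (r - 1) / 2 = r * s := by
      have : r - 1 = 2 * s := by omega
      rw [this, ← mul_assoc, mul_comm r 2, mul_assoc, Nat.mul_div_cancel_left _ (by norm_num)]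
    rw [this, pow_mul, hyp.cm_pow hr hg hh, one_pow, mul_one]
  obtain ⟨x, hxN, y, hyN, hxy⟩ := hyp.h3
  set c := cm x y with hc
  have hc1 : c ≠ 1 := hyp.cm_ne_one hxy
  have hcZ : c ∈ Z := hyp.cm_mem hxN hyN
  have hcr : c ^ r = 1 := hyp.cm_pow hr hxN hyN
  -- elements killed by `r`
  have hOmega : ∀ g ∈ N, g ^ r = 1 → g ∈ Subgroup.zpowers c := by
    intro g hg hgr
    have hcg : Commute c g := hyp.comm_Z hcZ hg
    have hcomm : ∀ a ∈ Subgroup.closure ({g, c} : Set H), ∀ b ∈ Subgroup.closure ({g, c} : Set H),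
        a * b = b * a := by
      have hk : ∀ a ∈ ({g, c} : Set H), ∀ b ∈ ({g, c} : Set H), a * b = b * a := by
        intro a ha b hb
        rcases ha with rfl | rfl <;> rcases hb with rfl | rfl
        · rfl
        · exact hcg.eq.symm
        · exact hcg.eq
        · rfl
      have := Subgroup.isMulCommutative_closure hk
      intro a ha b hb
      exact setLike_mul_comm ha hb
    have hcyc := hyp.h5 _ hcomm
    have hgB : g ∈ Subgroup.closure ({g, c} : Set H) := Subgroup.subset_closure (by simp)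
    have hcB : c ∈ Subgroup.closure ({g, c} : Set H) := Subgroup.subset_closure (by simp)
    have := mem_zpowers_of_cyclic hcyc hrp
      (g := (⟨g, hgB⟩ : Subgroup.closure ({g, c} : Set H))) (c := ⟨c, hcB⟩)
      (Subtype.ext (by simpa using hgr)) (Subtype.ext (by simpa using hcr))
      (fun h => hc1 (congrArg Subtype.val h))
    obtain ⟨k, hk⟩ := Subgroup.mem_zpowers_iff.1 this
    rw [Subgroup.mem_zpowers_iff]
    exact ⟨k, by simpa using congrArg Subtype.val hk⟩
  -- the power map as a homomorphism to `Z`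
  let φ : N →* Z :=
    { toFun := fun g => ⟨(g : H) ^ r, hr g g.2⟩
      map_one' := by apply Subtype.ext; simp
      map_mul' := by
        intro g h
        apply Subtype.ext
        exact hmul g g.2 h h.2 }
  have hZc : ∀ a ∈ Z, ∀ b ∈ Z, a * b = b * a := fun a ha b hb => hyp.h2 a ha b (hyp.hZN hb)
  haveI : IsCyclic Z := hyp.h5 Z hZc
  obtain ⟨w, hw⟩ := (inferInstance : IsCyclic φ.range).exists_generator
  obtain ⟨⟨_, ⟨g₀, rfl⟩⟩, hw⟩ : ∃ w : φ.range, ∀ u : φ.range, u ∈ Subgroup.zpowers w := ⟨w, hw⟩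
  -- every element of `N` is `c ^ j * g₀ ^ k`
  have hform : ∀ g ∈ N, ∃ (j k : ℤ), g = c ^ j * (g₀ : H) ^ k := by
    intro g hg
    obtain ⟨k, hk⟩ := Subgroup.mem_zpowers_iff.1 (hw ⟨φ ⟨g, hg⟩, ⟨_, rfl⟩⟩)
    have hk' : φ (g₀ ^ k) = φ ⟨g, hg⟩ := by
      have := congrArg Subtype.val hk
      simpa using this
    have h1 : φ (⟨g, hg⟩ * (g₀ ^ k)⁻¹) = 1 := by
      rw [map_mul, map_inv, hk', mul_inv_cancel]
    have h2 : (g * ((g₀ : H) ^ k)⁻¹) ^ r = 1 := by
      have := congrArg (fun z : Z => (z : H)) h1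
      simpa [φ] using this
    have h3 := hOmega _ (N.mul_mem hg (N.inv_mem (N.zpow_mem g₀.2 k))) h2
    obtain ⟨j, hj⟩ := Subgroup.mem_zpowers_iff.1 h3
    refine ⟨j, k, ?_⟩
    rw [hj]; group
  obtain ⟨j₁, k₁, hx⟩ := hform x hxN
  obtain ⟨j₂, k₂, hy⟩ := hform y hyN
  apply hxy
  have hcg : Commute c (g₀ : H) := hyp.comm_Z hcZ g₀.2
  have e1 : Commute (c ^ j₁) (c ^ j₂) := (Commute.refl c).zpow_zpow _ _
  have e2 : Commute (c ^ j₁) ((g₀ : H) ^ k₂) := hcg.zpow_zpow _ _
  have e3 : Commute ((g₀ : H) ^ k₁) (c ^ j₂) := hcg.symm.zpow_zpow _ _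
  have e4 : Commute ((g₀ : H) ^ k₁) ((g₀ : H) ^ k₂) := (Commute.refl _).zpow_zpow _ _
  rw [hx, hy]
  exact ((e1.mul_right e2).mul_left (e3.mul_right e4)).eq

end Q8Hyp

end main

end Cfsg.Agent.Helper4.Zas
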