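import Mathlib
import Cfsg.Agent.Lib.Helper4.ZasQ8

/-!
# The minimal nonabelian normal subgroup is `Q₈`: the case of the prime `2` (helper4)
-/

set_option autoImplicit false
set_option linter.style.haveILetI false
set_option linter.unusedSectionVars false

namespace Cfsg.Agent.Helper4.Zas

variable {H : Type*} [Group H] [Finite H] {N Z : Subgroup H} [hNn : N.Normal] [hZn : Z.Normal]

namespace Q8Hyp

variable (hyp : Q8Hyp N Z)
include hyp

theorem sq_mem {g : H} (hg : g ∈ N) : g ^ 2 ∈ Z := by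
  obtain ⟨r, hrp, hr⟩ := hyp.exists_prime
  have := hyp.prime_eq_two hrp hr
  subst this
  exact hr g hg

theorem cm_sq {g h : H} (hg : g ∈ N) (hh : h ∈ N) : cm g h ^ 2 = 1 :=
  hyp.cm_pow (fun g hg => hyp.sq_mem hg) hg hh

/-- the involution -/
theorem exists_invol : ∃ c ∈ Z, c ≠ 1 ∧ c * c = 1 := by
  obtain ⟨x, hxN, y, hyN, hxy⟩ := hyp.h3
  refine ⟨cm x y, hyp.cm_mem hxN hyN, hyp.cm_ne_one hxy, ?_⟩
  rw [← pow_two]
  exact hyp.cm_sq hxN hyN

theorem invol_mem {g : H} (hg : g * g = 1) : g ∈ Z := by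
  obtain ⟨c, hcZ, hc1, hc2⟩ := hyp.exists_invol
  by_cases h1 : g = 1
  · rw [h1]; exact Z.one_mem
  · rw [hyp.h6 g c hg h1 hc2 hc1]; exact hcZ

theorem mem_of_sq_eq {g w : H} (hg : g ∈ N) (hw : w ∈ Z) (h : g ^ 2 = w ^ 2) : g ∈ Z := by
  have hwg : Commute w g := hyp.comm_Z hw hg
  have h1 : (g * w⁻¹) * (g * w⁻¹) = 1 := by
    have h2 : w⁻¹ * g = g * w⁻¹ := (hwg.inv_left).eq
    calc (g * w⁻¹) * (g * w⁻¹) = g * (w⁻¹ * g) * w⁻¹ := by group
      _ = g * (g * w⁻¹) * w⁻¹ := by rw [h2]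
      _ = g ^ 2 * (w ^ 2)⁻¹ := by rw [pow_two, pow_two]; group
      _ = 1 := by rw [h, mul_inv_cancel]
  have h3 := hyp.invol_mem h1
  have : g = (g * w⁻¹) * w := by group
  rw [this]
  exact Z.mul_mem h3 hw

theorem exists_gen : ∃ z₀ ∈ Z, ∀ z ∈ Z, ∃ i : ℕ, z = z₀ ^ i := by
  have hZc : ∀ a ∈ Z, ∀ b ∈ Z, a * b = b * a := fun a ha b hb => hyp.h2 a ha b (hyp.hZN hb)
  haveI : IsCyclic Z := hyp.h5 Z hZc
  obtain ⟨w, hw⟩ := (inferInstance : IsCyclic Z).exists_generator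
  refine ⟨w, w.2, ?_⟩
  intro z hz
  have h1 := hw ⟨z, hz⟩
  rw [← mem_powers_iff_mem_zpowers, Submonoid.mem_powers_iff] at h1
  obtain ⟨i, hi⟩ := h1
  exact ⟨i, by simpa using (congrArg Subtype.val hi).symm⟩

/-- every element of `N` has fourth power one -/
theorem pow_four {g : H} (hg : g ∈ N) : g ^ 4 = 1 := by
  obtain ⟨x, hxN, y, hyN, hxy⟩ := hyp.h3
  have hxZ : x ∉ Z := fun h => hxy (hyp.h2 x h y hyN)
  have hyZ : y ∉ Z := fun h => hxy (hyp.h2 y h x hxN).symm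
  have hxyZ : x * y ∉ Z := by
    intro h
    apply hxy
    have h1 := hyp.h2 (x * y) h x hxN
    have h2 : x * (y * x) = x * (x * y) := by
      calc x * (y * x) = x * y * x := by group
        _ = x * (x * y) := h1
    exact (mul_left_cancel h2).symm
  set c := cm x y with hc
  have hc1 : c ≠ 1 := hyp.cm_ne_one hxy
  have hcZ : c ∈ Z := hyp.cm_mem hxN hyN
  have hc2 : c * c = 1 := by rw [← pow_two]; exact hyp.cm_sq hxN hyN
  obtain ⟨z₀, hz₀Z, hgen⟩ := hyp.exists_gen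
  -- parity
  have hpar : ∀ g ∈ N, g ∉ Z → ∀ i : ℕ, g ^ 2 = z₀ ^ i → Odd i := by
    intro g hg hgZ i hi
    by_contra hodd
    rw [Nat.not_odd_iff_even] at hodd
    obtain ⟨j, hj⟩ := hodd
    apply hgZ
    apply hyp.mem_of_sq_eq hg (Z.pow_mem hz₀Z j)
    rw [hi, hj, ← pow_mul, mul_two]
  set n := orderOf z₀ with hn
  have hn0 : 0 < n := orderOf_pos z₀
  obtain ⟨l, hl⟩ := hgen c hcZ
  -- `n` is even
  have hn2 : 2 ∣ n := by
    by_contra h2
    apply hc1
    have h3 : z₀ ^ (2 * l) = 1 := by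
      rw [mul_comm, pow_mul, ← hl, pow_two, hc2]
    have h4 : n ∣ 2 * l := orderOf_dvd_of_pow_eq_one h3
    have h5 : Nat.Coprime n 2 := by
      rw [Nat.coprime_comm, Nat.Prime.coprime_iff_not_dvd Nat.prime_two]
      exact h2
    have h6 : n ∣ l := h5.dvd_of_dvd_mul_left h4
    rw [hl]
    exact orderOf_dvd_iff_pow_eq_one.1 h6
  -- representing `c` needs an odd exponent
  have hcodd : ∀ l : ℕ, c = z₀ ^ l → Odd l := by
    intro l hl
    obtain ⟨i, hi⟩ := hgen _ (hyp.sq_mem hxN)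
    obtain ⟨j, hj⟩ := hgen _ (hyp.sq_mem hyN)
    obtain ⟨k, hk⟩ := hgen _ (hyp.sq_mem (N.mul_mem hxN hyN))
    have hio := hpar x hxN hxZ i hi
    have hjo := hpar y hyN hyZ j hj
    have hko := hpar (x * y) (N.mul_mem hxN hyN) hxyZ k hk
    have h1 := hyp.mul_pow_eq hxN hyN 2
    have h2 : 2 * (2 - 1) / 2 = 1 := by norm_num
    rw [h2, pow_one, hk, hi, hj, ← hc, hl, ← pow_add, ← pow_add, pow_eq_pow_iff_modEq] at h1
    have h3 : k ≡ i + j + l [MOD 2] := Nat.ModEq.of_dvd hn2 h1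
    rw [Nat.odd_iff] at hio hjo hko ⊢
    unfold Nat.ModEq at h3
    omega
  obtain ⟨o, ho⟩ := hn2
  have ho0 : 0 < o := by omega
  have hoo : Odd o := by
    apply hcodd o
    have h1 : z₀ ^ o * z₀ ^ o = 1 := by
      rw [← pow_add, ← two_mul, ← ho, hn, pow_orderOf_eq_one]
    have h2 : z₀ ^ o ≠ 1 := pow_ne_one_of_lt_orderOf (by omega) (by rw [← hn]; omega)
    exact hyp.h6 c _ hc2 hc1 h1 h2
  obtain ⟨t, ht⟩ := hoo
  have hZn' : ∀ z ∈ Z, z ^ n = 1 := by
    intro z hz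
    obtain ⟨i, rfl⟩ := hgen z hz
    rw [← pow_mul, mul_comm, pow_mul, hn, pow_orderOf_eq_one, one_pow]
  have hpo : ∀ g ∈ N, (g ^ o) ^ 4 = 1 := by
    intro g hg
    have : (g ^ o) ^ 4 = (g ^ 2) ^ n := by
      rw [← pow_mul, ← pow_mul, ho]; congr 1; ring
    rw [this]
    exact hZn' _ (hyp.sq_mem hg)
  -- the subgroup of elements of exponent four
  let T : Subgroup H :=
    { carrier := {g | g ∈ N ∧ g ^ 4 = 1}
      mul_mem' := by
        rintro g h ⟨hg, hg4⟩ ⟨hh, hh4⟩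
        refine ⟨N.mul_mem hg hh, ?_⟩
        rw [hyp.mul_pow_eq hg hh, hg4, hh4]
        have : 4 * (4 - 1) / 2 = 2 * 3 := by norm_num
        rw [this, pow_mul, hyp.cm_sq hg hh]
        simp
      one_mem' := ⟨N.one_mem, one_pow _⟩
      inv_mem' := by
        rintro g ⟨hg, hg4⟩
        exact ⟨N.inv_mem hg, by rw [inv_pow, hg4, inv_one]⟩ }
  have hTn : T.Normal := by
    refine ⟨fun g hg k => ⟨hNn.conj_mem g hg.1 k, ?_⟩⟩
    rw [conj_pow, hg.2]
    group
  rcases hyp.h1 T hTn (fun g hg => hg.1) with h | h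
  · have : g ∈ T := by rw [h]; exact hg
    exact this.2
  · exfalso
    apply hxZ
    have h1 : x ^ o ∈ Z := h ⟨N.pow_mem hxN o, hpo x hxN⟩
    have h2 : x ^ o = (x ^ 2) ^ t * x := by
      rw [ht, pow_succ, pow_mul]
    have h3 : x = ((x ^ 2) ^ t)⁻¹ * x ^ o := by rw [h2]; group
    rw [h3]
    exact Z.mul_mem (Z.inv_mem (Z.pow_mem (hyp.sq_mem hxN) t)) h1

/-- **The quaternion group.** -/
theorem nonempty_mulEquiv : Nonempty (N ≃* QuaternionGroup 2) := by
  obtain ⟨x, hxN, y, hyN, hxy⟩ := hyp.h3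
  obtain ⟨c, hcZ, hc1, hc2⟩ := hyp.exists_invol
  have hcN : c ∈ N := hyp.hZN hcZ
  apply Cfsg.Agent.Helper20.nonempty_mulEquiv_quaternion_of_unique_involution
    (T := N) (⟨c, hcN⟩ : N)
  · intro h
    exact hc1 (congrArg Subtype.val h)
  · apply Subtype.ext
    rw [Subgroup.coe_pow, Subgroup.coe_one, pow_two]
    exact hc2
  · intro u hu
    have hu2 : (u : H) * (u : H) = 1 := by
      have := congrArg Subtype.val hu
      rwa [Subgroup.coe_pow, Subgroup.coe_one, pow_two] at this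
    by_cases h1 : u = 1
    · exact Or.inl h1
    · right
      apply Subtype.ext
      exact hyp.h6 _ _ hu2 (fun h => h1 (Subtype.ext h)) hc2 hc1
  · intro u
    apply Subtype.ext
    rw [Subgroup.coe_pow, Subgroup.coe_one]
    exact hyp.pow_four u.2
  · -- more than four elements
    have hxZ : x ∉ Z := fun h => hxy (hyp.h2 x h y hyN)
    have hx2 : ¬ x ^ 2 ^ 1 = 1 := by
      intro h
      apply hxZ
      apply hyp.invol_mem
      rw [← pow_two]
      simpa using h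
    have hx4 : x ^ 2 ^ (1 + 1) = 1 := by
      have := hyp.pow_four hxN
      simpa using this
    haveI : Fact (Nat.Prime 2) := ⟨Nat.prime_two⟩
    have hox : orderOf x = 2 ^ (1 + 1) := orderOf_eq_prime_pow hx2 hx4
    have hox' : orderOf (⟨x, hxN⟩ : N) = 4 := by
      rw [← Subgroup.orderOf_coe]
      simpa using hox
    have hne : ((Subgroup.zpowers (⟨x, hxN⟩ : N) : Subgroup N) : Set N) ≠ Set.univ := by
      intro h
      have h1 : (⟨y, hyN⟩ : N) ∈ Subgroup.zpowers (⟨x, hxN⟩ : N) := by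
        rw [← SetLike.mem_coe, h]; exact Set.mem_univ _
      obtain ⟨k, hk⟩ := Subgroup.mem_zpowers_iff.1 h1
      apply hxy
      have hk' : x ^ k = y := by
        have := congrArg Subtype.val hk
        simpa using this
      rw [← hk']
      exact ((Commute.refl x).zpow_right k).eq
    have h1 := Set.ncard_lt_card hne
    rw [← Nat.card_coe_set_eq] at h1
    have h2 : Nat.card (Subgroup.zpowers (⟨x, hxN⟩ : N)) = 4 := by
      rw [Nat.card_zpowers, hox']
    have h3 : Nat.card ((Subgroup.zpowers (⟨x, hxN⟩ : N) : Subgroup N) : Set N) = 4 := h2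
    omega

end Q8Hyp

end Cfsg.Agent.Helper4.Zas
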