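import Mathlib
import Cfsg.Agent.Lib.Helper4.ZasHomog
import Cfsg.Agent.Lib.Helper4.ZasQ8b
import Cfsg.Agent.Lib.Helper4.BinOctA

/-!
# Solvable regular linear groups without irreducible cyclic normal subgroups (helper4)
-/

set_option autoImplicit false
set_option linter.style.haveILetI false
set_option linter.unusedSectionVars false

namespace Cfsg.Agent.Helper4.Zas

open Module

/-- arithmetic: `3 ^ k > 24 k` for `k ≥ 5` -/
theorem three_pow_gt (k : ℕ) (hk : 5 ≤ k) : 24 * k < 3 ^ k := by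
  induction k, hk using Nat.le_induction with
  | base => norm_num
  | succ k hk ih =>
    rw [pow_succ]
    have : 12 ≤ 3 ^ k := by
      calc 12 ≤ 3 ^ 5 := by norm_num
        _ ≤ 3 ^ k := Nat.pow_le_pow_right (by norm_num) hk
    omega

theorem arith_finite : ∀ p ∈ Finset.range 24, ∀ k ∈ Finset.range 5, ∀ d ∈ Finset.range 7,
    3 ≤ p → 1 ≤ k → 2 ≤ d → ((p ^ k) ^ d - 1 ∣ 24 * k * (p ^ k - 1)) →
    k = 1 ∧ d = 2 ∧ (p = 3 ∨ p = 5 ∨ p = 7 ∨ p = 11 ∨ p = 23) := by
  decide +kernel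

theorem arith_main (p k d : ℕ) (hp3 : 3 ≤ p) (hk : 1 ≤ k) (hd : 2 ≤ d)
    (hdvd : (p ^ k) ^ d - 1 ∣ 24 * k * (p ^ k - 1)) :
    k = 1 ∧ d = 2 ∧ (p = 3 ∨ p = 5 ∨ p = 7 ∨ p = 11 ∨ p = 23) := by
  have hdvd0 := hdvd
  obtain ⟨Q, hQ⟩ : ∃ Q, Q = p ^ k := ⟨_, rfl⟩
  rw [← hQ] at hdvd
  have hQ3 : 3 ^ k ≤ Q := by rw [hQ]; exact Nat.pow_le_pow_left hp3 k
  have hQ3' : 3 ≤ Q := by
    calc 3 = 3 ^ 1 := by norm_num
      _ ≤ 3 ^ k := Nat.pow_le_pow_right (by norm_num) hk
      _ ≤ Q := hQ3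
  have hpQ : p ≤ Q := by
    rw [hQ]
    calc p = p ^ 1 := (pow_one p).symm
      _ ≤ p ^ k := Nat.pow_le_pow_right (by omega) hk
  have hpos : 0 < 24 * k * (Q - 1) := by
    have : 0 < Q - 1 := by omega
    positivity
  have hle := Nat.le_of_dvd hpos hdvd
  have hQ2 : Q ^ 2 ≤ Q ^ d := Nat.pow_le_pow_right (by omega) hd
  -- `Q + 1 ≤ 24 k`
  have h1 : Q + 1 ≤ 24 * k := by
    by_contra hcon
    push Not at hcon
    have h2 : 24 * k * (Q - 1) < (Q + 1) * (Q - 1) :=
      Nat.mul_lt_mul_of_pos_right hcon (by omega)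
    have h3 : (Q + 1) * (Q - 1) = Q ^ 2 - 1 := by
      obtain ⟨q, hq⟩ : ∃ q, Q = q + 1 := ⟨Q - 1, by omega⟩
      rw [hq]
      simp only [Nat.add_sub_cancel]
      have : (q + 1) ^ 2 = (q + 1 + 1) * q + 1 := by ring
      rw [this, Nat.add_sub_cancel]
    omega
  have hk5 : k < 5 := by
    by_contra hcon
    push Not at hcon
    have := three_pow_gt k hcon
    omega
  have hp24 : p < 24 := by
    by_contra hcon
    push Not at hcon
    have h2 : 24 ^ k ≤ Q := by rw [hQ]; exact Nat.pow_le_pow_left hcon k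
    have h3 : 24 * k ≤ 24 ^ k := by
      interval_cases k <;> norm_num
    omega
  have hd7 : d < 7 := by
    by_contra hcon
    push Not at hcon
    have h2 : Q ^ 7 ≤ Q ^ d := Nat.pow_le_pow_right (by omega) hcon
    have h3 : 3 ^ 6 * Q ≤ Q ^ 7 := by
      calc 3 ^ 6 * Q ≤ Q ^ 6 * Q := Nat.mul_le_mul_right _ (Nat.pow_le_pow_left hQ3' 6)
        _ = Q ^ 7 := by ring
    have h4 : 24 * k * (Q - 1) ≤ 96 * Q := by
      have : 24 * k ≤ 96 := by omega
      calc 24 * k * (Q - 1) ≤ 96 * (Q - 1) := Nat.mul_le_mul_right _ this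
        _ ≤ 96 * Q := Nat.mul_le_mul_left _ (by omega)
    norm_num at h3
    omega
  exact arith_finite p (Finset.mem_range.2 hp24) k (Finset.mem_range.2 hk5) d
    (Finset.mem_range.2 hd7) hp3 hk hd hdvd0

variable {p : ℕ} [Fact p.Prime] {V : Type*} [AddCommGroup V] [Module (ZMod p) V] [Finite V]
variable {H : Subgroup (V ≃ₗ[ZMod p] V)}

/-- commutativity of a subgroup, elementwise -/
def Comm (B : Subgroup H) : Prop := ∀ a ∈ B, ∀ b ∈ B, a * b = b * a

/-- `A` is a maximal normal abelian subgroup -/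
structure MaxAb (A : Subgroup H) : Prop where
  normal : A.Normal
  comm : Comm A
  max : ∀ B : Subgroup H, B.Normal → Comm B → A ≤ B → B = A

theorem finite_H : Finite H := by
  haveI : Finite (V ≃ₗ[ZMod p] V) := finite_GL
  infer_instance

theorem exists_maxAb (H : Subgroup (V ≃ₗ[ZMod p] V)) : ∃ A : Subgroup H, MaxAb A := by
  haveI : Finite H := finite_H
  obtain ⟨A, hA, hmax⟩ := exists_maximal_of_wellFoundedGT
    (fun B : Subgroup H => B.Normal ∧ Comm B)
    ⟨⊥, inferInstance, fun a ha b hb => by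
      rw [Subgroup.mem_bot] at ha hb; rw [ha, hb]⟩
  refine ⟨A, hA.1, hA.2, fun B hBn hBc hAB => ?_⟩
  exact le_antisymm (hmax ⟨hBn, hBc⟩ hAB) hAB

/-- minimal normal nonabelian subgroups below a normal nonabelian subgroup -/
theorem exists_min_nonab (X : Subgroup H) (hXn : X.Normal) (hXc : ¬ Comm X) :
    ∃ N : Subgroup H, N.Normal ∧ N ≤ X ∧ ¬ Comm N ∧
      ∀ M : Subgroup H, M.Normal → M ≤ N → ¬ Comm M → M = N := by
  haveI : Finite H := finite_H
  obtain ⟨N, hN, hmin⟩ := exists_minimal_of_wellFoundedLT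
    (fun B : Subgroup H => B.Normal ∧ B ≤ X ∧ ¬ Comm B) ⟨X, hXn, le_rfl, hXc⟩
  refine ⟨N, hN.1, hN.2.1, hN.2.2, fun M hMn hMN hMc => ?_⟩
  exact le_antisymm hMN (hmin ⟨hMn, hMN.trans hN.2.1, hMc⟩ hMN)

theorem comm_sup {M A : Subgroup H} (hM : Comm M) (hA : Comm A)
    (hMA : ∀ m ∈ M, ∀ a ∈ A, m * a = a * m) : Comm (M ⊔ A) := by
  rw [Subgroup.sup_eq_closure]
  have hk : ∀ a ∈ ((M : Set H) ∪ A), ∀ b ∈ ((M : Set H) ∪ A), a * b = b * a := by
    intro a ha b hb
    rcases ha with ha | ha <;> rcases hb with hb | hb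
    · exact hM a ha b hb
    · exact hMA a ha b hb
    · exact (hMA b hb a ha).symm
    · exact hA a ha b hb
  have := Subgroup.isMulCommutative_closure hk
  intro a ha b hb
  exact setLike_mul_comm ha hb

/-- the hypotheses of the quaternion lemma hold -/
theorem q8Hyp [Nontrivial V] (hreg : Reg H) (hsolv : Group.IsSolvable H) {A : Subgroup H} (hA : MaxAb A)
    {N : Subgroup H} (hNn : N.Normal) (hNC : N ≤ Subgroup.centralizer (A : Set H))
    (hNc : ¬ Comm N) (hNmin : ∀ M : Subgroup H, M.Normal → M ≤ N → ¬ Comm M → M = N) :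
    Q8Hyp N (N ⊓ A) := by
  haveI : Finite H := finite_H
  have hAn := hA.normal
  have h1 : ∀ M : Subgroup H, M.Normal → M ≤ N → M = N ∨ M ≤ N ⊓ A := by
    intro M hMn hMN
    by_cases hMc : Comm M
    · right
      have hMA : ∀ m ∈ M, ∀ a ∈ A, m * a = a * m := by
        intro m hm a ha
        exact (Subgroup.mem_centralizer_iff.1 (hNC (hMN hm)) a ha).symm
      have h2 := hA.max (M ⊔ A) inferInstance (comm_sup hMc hA.comm hMA) le_sup_right
      exact le_inf hMN (by rw [← h2]; exact le_sup_left)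
    · exact Or.inl (hNmin M hMn hMN hMc)
  have hcomm_ne : ⁅N, N⁆ ≠ N := by
    intro h
    obtain ⟨n, hn⟩ := hsolv.solvable
    have h2 : ∀ n, N ≤ derivedSeries H n := by
      intro n
      induction n with
      | zero => exact le_top
      | succ n ih =>
        rw [derivedSeries_succ]
        calc N = ⁅N, N⁆ := h.symm
          _ ≤ ⁅derivedSeries H n, derivedSeries H n⁆ := Subgroup.commutator_mono ih ih
    apply hNc
    intro a ha b hb
    have ha' := h2 n ha
    have hb' := h2 n hb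
    rw [hn, Subgroup.mem_bot] at ha' hb'
    rw [ha', hb']
  have hcomm_le : ⁅N, N⁆ ≤ N := Subgroup.commutator_le_left N N
  refine
    { hZN := inf_le_left
      h1 := h1
      h2 := ?_
      h3 := ?_
      h4 := ?_
      h5 := fun B hB => hreg.isCyclic_of_comm B hB
      h6 := fun s t hs2 hs1 ht2 ht1 => hreg.invol_unique hs2 hs1 ht2 ht1 }
  · intro z hz g hg
    exact Subgroup.mem_centralizer_iff.1 (hNC hg) z hz.2
  · unfold Comm at hNc
    push Not at hNc
    obtain ⟨x, hx, y, hy, hxy⟩ := hNc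
    exact ⟨x, hx, y, hy, hxy⟩
  · intro g hg h hh
    rcases h1 ⁅N, N⁆ inferInstance hcomm_le with h2 | h2
    · exact absurd h2 hcomm_ne
    · have := Subgroup.commutator_mem_commutator hg hh
      rw [commutatorElement_def] at this
      exact h2 this

end Cfsg.Agent.Helper4.Zas
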