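import Mathlib
import Cfsg.Agent.Lib.Helper4.ZasMain

/-!
# Solvable regular linear groups without irreducible cyclic normal subgroups: structure (helper4)
-/

set_option autoImplicit false
set_option linter.style.haveILetI false
set_option linter.unusedSectionVars false

namespace Cfsg.Agent.Helper4.Zas

open Module

variable {p : ℕ} [Fact p.Prime] {V : Type*} [AddCommGroup V] [Module (ZMod p) V] [Finite V]
variable {H : Subgroup (V ≃ₗ[ZMod p] V)}

theorem MaxAb.le_centralizer {A : Subgroup H} (hA : MaxAb A) :
    A ≤ Subgroup.centralizer (A : Set H) := by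
  intro a ha
  rw [Subgroup.mem_centralizer_iff]
  intro b hb
  exact hA.comm b hb a ha

/-- an element of order four in `N` -/
theorem exists_order_four [Nontrivial V] {N Z : Subgroup H} [N.Normal] [Z.Normal]
    (hyp : Q8Hyp N Z) : ∃ x ∈ N, x * x ≠ 1 ∧ (x * x) * (x * x) = 1 := by
  haveI : Finite H := finite_H
  obtain ⟨x, hxN, y, hyN, hxy⟩ := hyp.h3
  have hxZ : x ∉ Z := fun h => hxy (hyp.h2 x h y hyN)
  refine ⟨x, hxN, fun h => hxZ (hyp.invol_mem h), ?_⟩
  have := hyp.pow_four hxN
  rw [← this]
  simp only [pow_succ, pow_zero, one_mul, mul_assoc]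

/-- the centraliser of `N` inside the centraliser of `A` is `A` -/
theorem cent_inf [Nontrivial V] (hreg : Reg H) (hsolv : Group.IsSolvable H) {A : Subgroup H}
    (hA : MaxAb A)
    {N : Subgroup H} (hNn : N.Normal) (hNC : N ≤ Subgroup.centralizer (A : Set H))
    (hNc : ¬ Comm N) (hNmin : ∀ M : Subgroup H, M.Normal → M ≤ N → ¬ Comm M → M = N) :
    Subgroup.centralizer (A : Set H) ⊓ Subgroup.centralizer (N : Set H) = A := by
  haveI : Finite H := finite_H
  have hAn := hA.normal
  have hAD : A ≤ Subgroup.centralizer (A : Set H) ⊓ Subgroup.centralizer (N : Set H) := by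
    refine le_inf hA.le_centralizer ?_
    intro a ha
    rw [Subgroup.mem_centralizer_iff]
    intro n hn
    exact (Subgroup.mem_centralizer_iff.1 (hNC hn) a ha).symm
  by_contra hne
  have hDc : ¬ Comm (Subgroup.centralizer (A : Set H) ⊓ Subgroup.centralizer (N : Set H)) := by
    intro hc
    exact hne (hA.max _ inferInstance hc hAD)
  obtain ⟨N₂, hN₂n, hN₂D, hN₂c, hN₂min⟩ := exists_min_nonab _ inferInstance hDc
  have hyp := q8Hyp hreg hsolv hA hNn hNC hNc hNmin
  have hyp₂ := q8Hyp hreg hsolv hA hN₂n (hN₂D.trans inf_le_left) hN₂c hN₂min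
  obtain ⟨x, hxN, hx2, hx4⟩ := exists_order_four hyp
  apply hN₂c
  have hle : N₂ ≤ N := by
    intro u hu
    have hu4 : (u * u) * (u * u) = 1 := by
      have := hyp₂.pow_four hu
      rw [← this]
      simp only [pow_succ, pow_zero, one_mul, mul_assoc]
    have hux : u * x = x * u := by
      have h1 : u ∈ Subgroup.centralizer (N : Set H) := (hN₂D hu).2
      exact (Subgroup.mem_centralizer_iff.1 h1 x hxN).symm
    by_cases hu2 : u * u = 1
    · by_cases hu1 : u = 1
      · rw [hu1]; exact N.one_mem
      · rw [hreg.invol_unique hu2 hu1 hx4 hx2]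
        exact N.mul_mem hxN hxN
    · have h1 : u * u = x * x := hreg.invol_unique hu4 hu2 hx4 hx2
      have h2 : (u * x⁻¹) * (u * x⁻¹) = 1 := by
        have h3 : x⁻¹ * u = u * x⁻¹ := by
          calc x⁻¹ * u = x⁻¹ * (u * x) * x⁻¹ := by group
            _ = x⁻¹ * (x * u) * x⁻¹ := by rw [hux]
            _ = u * x⁻¹ := by group
        calc (u * x⁻¹) * (u * x⁻¹) = u * (x⁻¹ * u) * x⁻¹ := by group
          _ = u * (u * x⁻¹) * x⁻¹ := by rw [h3]
          _ = (u * u) * (x * x)⁻¹ := by group
          _ = 1 := by rw [h1, mul_inv_cancel]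
      by_cases hw1 : u * x⁻¹ = 1
      · have : u = x := by
          calc u = (u * x⁻¹) * x := by group
            _ = x := by rw [hw1, one_mul]
        rw [this]; exact hxN
      · have h3 := hreg.invol_unique h2 hw1 hx4 hx2
        have : u = (x * x) * x := by
          calc u = (u * x⁻¹) * x := by group
            _ = (x * x) * x := by rw [h3]
        rw [this]
        exact N.mul_mem (N.mul_mem hxN hxN) hxN
  intro a ha b hb
  have h1 : a ∈ Subgroup.centralizer (N : Set H) := (hN₂D ha).2
  exact (Subgroup.mem_centralizer_iff.1 h1 b (hle hb)).symm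

/-- the index of the centraliser of a normal quaternion subgroup divides `24` -/
theorem index_centralizer_dvd {N : Subgroup H} (hNn : N.Normal)
    (e : N ≃* QuaternionGroup 2) : (Subgroup.centralizer (N : Set H)).index ∣ 24 := by
  haveI : Finite H := finite_H
  have hker : (Cfsg.Agent.Helper4.BinOct.kap N e).ker = Subgroup.centralizer (N : Set H) := by
    ext g
    rw [MonoidHom.mem_ker, Cfsg.Agent.Helper4.BinOct.kap_eq_one_iff, Subgroup.mem_centralizer_iff]
    constructor
    · intro h r hr
      have := h r hr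
      calc r * g = (g * r * g⁻¹) * g := by rw [this]
        _ = g * r := by group
    · intro h r hr
      rw [← h r hr]; group
  rw [← hker, Subgroup.index_ker, ← Cfsg.Agent.Helper4.BinOct.card_mulAut_Q]
  exact Subgroup.card_subgroup_dvd_card _

end Cfsg.Agent.Helper4.Zas
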