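import Mathlib
import Cfsg.Agent.Lib.Helper4.ZasMain2

/-!
# Solvable regular linear groups without irreducible cyclic normal subgroups: the degrees
(helper4)
-/

set_option autoImplicit false
set_option linter.style.haveILetI false
set_option linter.unusedSectionVars false

namespace Cfsg.Agent.Helper4.Zas

open Module

variable {p : ℕ} [Fact p.Prime] {V : Type*} [AddCommGroup V] [Module (ZMod p) V] [Finite V]
variable {H : Subgroup (V ≃ₗ[ZMod p] V)}

/-- the conclusion of the structure theorem -/
structure Exc (H : Subgroup (V ≃ₗ[ZMod p] V)) (A N : Subgroup H) : Prop where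
  normal : N.Normal
  iso : Nonempty (N ≃* QuaternionGroup 2)
  centA : Subgroup.centralizer (A : Set H) = ⊤
  centN : Subgroup.centralizer (N : Set H) = A
  cardV : Nat.card V = p ^ 2
  cardA : Nat.card A ∣ p - 1
  hp : p = 5 ∨ p = 7 ∨ p = 11 ∨ p = 23

theorem structure_thm [Nontrivial V] (hreg : Reg H) (hsolv : Group.IsSolvable H) {A : Subgroup H}
    (hA : MaxAb A) (hCc : ¬ Comm (Subgroup.centralizer (A : Set H)))
    (W : Submodule (ZMod p) V) (hW0 : W ≠ ⊥) (hWtop : W ≠ ⊤) (hW : Inv A W) :
    ∃ N : Subgroup H, Exc H A N := by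
  haveI : Finite H := finite_H
  have hAn := hA.normal
  obtain ⟨N, hNn, hNC, hNc, hNmin⟩ := exists_min_nonab _ inferInstance hCc
  have hyp := q8Hyp hreg hsolv hA hNn hNC hNc hNmin
  obtain ⟨e⟩ := hyp.nonempty_mulEquiv
  have hinf := cent_inf hreg hsolv hA hNn hNC hNc hNmin
  obtain ⟨x, hxN, hx2, hx4⟩ := exists_order_four hyp
  have hp3 : 3 ≤ p := hreg.two_lt hx4 hx2
  -- the field
  have hcommK := KA_comm hA.comm
  have hinjK := KA_inj hreg A hA.comm
  set k := Module.finrank (ZMod p) (KA A) with hk
  have hcardK : Nat.card (KA A) = p ^ k := card_K (KA A)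
  obtain ⟨d, hd⟩ := card_V_pow (KA A) hcommK hinjK
  have hlt := card_KA_lt hreg A hA.comm W hW0 hWtop hW
  have hcardH := hreg.card
  -- `|A|` divides `|K| - 1`
  have hAdvd : Nat.card A ∣ p ^ k - 1 := by
    rw [← hcardK]
    let f : A →* KA A :=
      { toFun := fun a => ⟨toEnd H a, toEnd_mem_KA a.2⟩
        map_one' := by apply Subtype.ext; simp
        map_mul' := by intro a b; apply Subtype.ext; simp }
    have hf : Function.Injective f := by
      intro a b hab
      apply Subtype.ext
      apply toEnd_injective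
      exact congrArg Subtype.val hab
    exact card_dvd_of_hom (KA A) hcommK hinjK f hf
  -- the index of the centraliser divides `k`
  have hCidx : (Subgroup.centralizer (A : Set H)).index ∣ k :=
    index_dvd_finrank (KA A) KA_conj hcommK hinjK _ mem_centralizer_iff_KA
  have hDidx := index_centralizer_dvd hNn e
  -- order of `H`
  have hHdvd : Nat.card H ∣ 24 * k * (p ^ k - 1) := by
    have h1 := Subgroup.index_mul_card (Subgroup.centralizer (N : Set H))
    have h2 := Subgroup.relIndex_inf_mul_relIndex (⊥ : Subgroup H)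
      (Subgroup.centralizer (A : Set H)) (Subgroup.centralizer (N : Set H))
    rw [Subgroup.relIndex_bot_left, bot_inf_eq, Subgroup.relIndex_bot_left, hinf] at h2
    have h3 : (Subgroup.centralizer (A : Set H)).relIndex (Subgroup.centralizer (N : Set H)) ∣ k :=
      (Subgroup.relIndex_dvd_index_of_normal _ _).trans hCidx
    rw [← h1, ← h2]
    calc (Subgroup.centralizer (N : Set H)).index *
          (Nat.card A * (Subgroup.centralizer (A : Set H)).relIndex
            (Subgroup.centralizer (N : Set H)))
        = (Subgroup.centralizer (N : Set H)).index *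
          (Subgroup.centralizer (A : Set H)).relIndex (Subgroup.centralizer (N : Set H)) *
            Nat.card A := by ring
      _ ∣ 24 * k * (p ^ k - 1) := Nat.mul_dvd_mul (Nat.mul_dvd_mul hDidx h3) hAdvd
  have hk1 : 1 ≤ k := by
    by_contra hcon
    have hk0 : k = 0 := by omega
    rw [hk0, pow_zero] at hcardK
    have hlt' : 1 < Nat.card V := Finite.one_lt_card
    rw [hd, hcardK, one_pow] at hlt'
    exact lt_irrefl _ hlt'
  have hd2 : 2 ≤ d := by
    by_contra hcon
    have hKpos : 0 < Nat.card (KA A) := by rw [hcardK]; positivity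
    rw [hd] at hlt
    have : d = 0 ∨ d = 1 := by omega
    rcases this with h | h
    · rw [h, pow_zero] at hlt; omega
    · rw [h, pow_one] at hlt; omega
  have hdvd : (p ^ k) ^ d - 1 ∣ 24 * k * (p ^ k - 1) := by
    have e1 : (p ^ k) ^ d - 1 = Nat.card H := by rw [hcardH, hd, hcardK]
    rw [e1]; exact hHdvd
  obtain ⟨hk1', hd2', hpcases⟩ := arith_main p k d hp3 hk1 hd2 hdvd
  have hcardV : Nat.card V = p ^ 2 := by rw [hd, hcardK, hk1', hd2', pow_one]
  have hcardA : Nat.card A ∣ p - 1 := by rw [hk1', pow_one] at hAdvd; exact hAdvd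
  have hCtop : Subgroup.centralizer (A : Set H) = ⊤ := by
    rw [hk1', Nat.dvd_one] at hCidx
    exact Subgroup.index_eq_one.1 hCidx
  have hcentN : Subgroup.centralizer (N : Set H) = A := by
    rw [hCtop, top_inf_eq] at hinf
    exact hinf
  refine ⟨N, hNn, ⟨e⟩, hCtop, hcentN, hcardV, hcardA, ?_⟩
  rcases hpcases with h3 | h | h | h | h
  · exfalso
    -- `p = 3`: then `H = N` and a cyclic subgroup of order four is normal abelian
    have hH8 : Nat.card H = 8 := by rw [hcardH, hcardV, h3]; norm_num
    have hN8 : Nat.card N = 8 := by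
      rw [Nat.card_congr e.toEquiv, Nat.card_eq_fintype_card, QuaternionGroup.card]
    have hNtop : N = ⊤ := Subgroup.eq_top_of_card_eq N (by rw [hN8, hH8])
    have hA2 : Nat.card A ∣ 2 := by
      have e2 : p - 1 = 2 := by omega
      rw [e2] at hcardA; exact hcardA
    haveI : Fact (Nat.Prime 2) := ⟨Nat.prime_two⟩
    have hx2' : ¬ x ^ 2 ^ 1 = 1 := by
      intro h; apply hx2; rw [← pow_two]; simpa using h
    have hx4' : x ^ 2 ^ (1 + 1) = 1 := by
      rw [← hx4]; simp only [pow_succ, pow_zero, one_mul, mul_assoc]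
      norm_num
      simp only [pow_succ, pow_zero, one_mul, mul_assoc]
    have hox : orderOf x = 2 ^ (1 + 1) := orderOf_eq_prime_pow hx2' hx4'
    have hidx : (Subgroup.zpowers x).index = 2 := by
      have h1 := Subgroup.index_mul_card (Subgroup.zpowers x)
      rw [Nat.card_zpowers, hox, hH8] at h1
      omega
    have hBn : (Subgroup.zpowers x).Normal := Subgroup.normal_of_index_eq_two hidx
    have hBc : Comm (Subgroup.zpowers x) := by
      intro a ha b hb
      obtain ⟨i, rfl⟩ := Subgroup.mem_zpowers_iff.1 ha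
      obtain ⟨j, rfl⟩ := Subgroup.mem_zpowers_iff.1 hb
      exact ((Commute.refl x).zpow_zpow i j).eq
    have hAB : A ≤ Subgroup.zpowers x := by
      intro a ha
      have h1 : orderOf (⟨a, ha⟩ : A) ∣ 2 := (orderOf_dvd_natCard _).trans hA2
      have h2 : (⟨a, ha⟩ : A) ^ 2 = 1 := orderOf_dvd_iff_pow_eq_one.1 h1
      have h3 : a * a = 1 := by
        have := congrArg Subtype.val h2
        rwa [Subgroup.coe_pow, Subgroup.coe_one, pow_two] at this
      by_cases ha1 : a = 1
      · rw [ha1]; exact Subgroup.one_mem _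
      · rw [hreg.invol_unique h3 ha1 hx4 hx2]
        exact Subgroup.mul_mem _ (Subgroup.mem_zpowers x) (Subgroup.mem_zpowers x)
    have hBA := hA.max _ hBn hBc hAB
    have : Nat.card (Subgroup.zpowers x) = 4 := by rw [Nat.card_zpowers, hox]; norm_num
    rw [hBA] at this
    rw [this] at hA2
    omega
  · exact Or.inl h
  · exact Or.inr (Or.inl h)
  · exact Or.inr (Or.inr (Or.inl h))
  · exact Or.inr (Or.inr (Or.inr h))

end Cfsg.Agent.Helper4.Zas
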