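import Mathlib
import Cfsg.Agent.Lib.Helper4.ZasMain3
import Cfsg.Agent.Lib.Helper4.ZasIdx2
import Cfsg.Agent.Lib.Helper16.SL23Recog

/-!
# The exceptional solvable regular linear groups: subgroups of index two (helper4)
-/

set_option autoImplicit false
set_option linter.style.haveILetI false
set_option linter.unusedSectionVars false

namespace Cfsg.Agent.Helper4.Zas

open QuaternionGroup Cfsg.Agent.S3742 Cfsg.Agent.Helper4.BinOct

set_option maxRecDepth 100000 in
/-- an automorphism of order three of `Q₈` -/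
theorem q8_order3 : ∀ u v : Q, valid u v →
    (∀ g : Q, f u v (f u v (f u v g)) = g) → (∃ g : Q, f u v g ≠ g) →
    ∃ x₀ : Q, x₀ * x₀ ≠ 1 ∧ (f u v x₀) ^ 2 = x₀ ^ 2 ∧
      f u v x₀ * x₀ * (f u v x₀)⁻¹ = x₀⁻¹ ∧ f u v (f u v x₀) = x₀ * f u v x₀ := by
  decide +kernel

theorem q8_pow_four : ∀ q : Q, q ^ 4 = 1 := by decide +kernel

/-- the version for automorphisms -/
theorem mulAut_order3 (φ : MulAut Q) (h3 : φ ^ 3 = 1) (h1 : φ ≠ 1) :
    ∃ x₀ : Q, x₀ * x₀ ≠ 1 ∧ (φ x₀) ^ 2 = x₀ ^ 2 ∧
      φ x₀ * x₀ * (φ x₀)⁻¹ = x₀⁻¹ ∧ φ (φ x₀) = x₀ * φ x₀ := by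
  have hf : ∀ g, φ g = f (φ (a 1)) (φ (xa 0)) g := apply_eq_f φ
  have hv := valid_apply φ
  have hcube : ∀ g : Q, f (φ (a 1)) (φ (xa 0)) (f (φ (a 1)) (φ (xa 0))
      (f (φ (a 1)) (φ (xa 0)) g)) = g := by
    intro g
    rw [← hf, ← hf, ← hf]
    have := congrArg (fun ψ : MulAut Q => ψ g) h3
    simpa [pow_succ, MulAut.mul_apply] using this
  have hne : ∃ g : Q, f (φ (a 1)) (φ (xa 0)) g ≠ g := by
    by_contra hcon
    push Not at hcon
    apply h1
    ext g
    rw [hf, hcon]; rfl
  obtain ⟨x₀, hx⟩ := q8_order3 _ _ hv hcube hne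
  refine ⟨x₀, ?_⟩
  simp only [← hf] at hx
  exact hx

variable {p : ℕ} [Fact p.Prime] {V : Type*} [AddCommGroup V] [Module (ZMod p) V] [Finite V]
variable {H : Subgroup (V ≃ₗ[ZMod p] V)} {A N : Subgroup H}

theorem ker_kap_eq (N : Subgroup H) [hNn : N.Normal] (e : N ≃* QuaternionGroup 2) :
    (kap N e).ker = Subgroup.centralizer (N : Set H) := by
  ext g
  rw [MonoidHom.mem_ker, kap_eq_one_iff, Subgroup.mem_centralizer_iff]
  constructor
  · intro h r hr
    have := h r hr
    calc r * g = (g * r * g⁻¹) * g := by rw [this]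
      _ = g * r := by group
  · intro h r hr
    rw [← h r hr]; group

/-- the embedding of `Q₈` -/
def jQ (N : Subgroup H) (e : N ≃* QuaternionGroup 2) : Q →* H :=
  N.subtype.comp e.symm.toMonoidHom

theorem jQ_injective (N : Subgroup H) (e : N ≃* QuaternionGroup 2) :
    Function.Injective (jQ N e) :=
  N.subtype_injective.comp e.symm.injective

theorem jQ_mem (N : Subgroup H) (e : N ≃* QuaternionGroup 2) (q : Q) : jQ N e q ∈ N :=
  (e.symm q).2

theorem jQ_kap (N : Subgroup H) [hNn : N.Normal] (e : N ≃* QuaternionGroup 2) (g : H) (q : Q) :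
    jQ N e (kap N e g q) = g * jQ N e q * g⁻¹ := symm_kap_apply N e g q

theorem jQ_surj (N : Subgroup H) (e : N ≃* QuaternionGroup 2) {n : H} (hn : n ∈ N) :
    ∃ q : Q, jQ N e q = n :=
  ⟨e ⟨n, hn⟩, by show ((e.symm (e ⟨n, hn⟩) : N) : H) = n; rw [e.symm_apply_apply]⟩

/-- the index of the centraliser of `N` is divisible by four -/
theorem four_dvd_index (N : Subgroup H) [hNn : N.Normal] (e : N ≃* QuaternionGroup 2) :
    4 ∣ (Subgroup.centralizer (N : Set H)).index := by
  haveI : Finite H := finite_H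
  set A := Subgroup.centralizer (N : Set H) with hA
  have h1 : A.relIndex N ∣ A.index := Subgroup.relIndex_dvd_index_of_normal A N
  refine Dvd.dvd.trans ?_ h1
  have h2 := Subgroup.index_mul_card (A.subgroupOf N)
  have hN8 : Nat.card N = 8 := by
    rw [Nat.card_congr e.toEquiv, Nat.card_eq_fintype_card, QuaternionGroup.card]
  have h3 : Nat.card (A.subgroupOf N) = 2 := by
    rw [Nat.card_eq_two_iff' (1 : A.subgroupOf N)]
    have hz : (e.symm (a 2) : N) ∈ A.subgroupOf N := by
      rw [Subgroup.mem_subgroupOf, hA, Subgroup.mem_centralizer_iff]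
      intro n hn
      obtain ⟨q, rfl⟩ := jQ_surj N e hn
      show jQ N e q * jQ N e (a 2) = jQ N e (a 2) * jQ N e q
      rw [← map_mul, ← map_mul, a2_central]
    refine ⟨⟨e.symm (a 2), hz⟩, ?_, ?_⟩
    · intro h
      have h' : e.symm (a 2) = 1 := congrArg Subtype.val h
      rw [MulEquiv.symm_apply_eq, map_one] at h'
      exact a2_ne_one h'
    · intro y hy
      have hyc : ∀ v : Q, e (y : N) * v = v * e (y : N) := by
        intro v
        have h4 : ((y : N) : H) ∈ A := Subgroup.mem_subgroupOf.1 y.2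
        have h4' : ((y : N) : H) ∈ Subgroup.centralizer (N : Set H) := h4
        rw [Subgroup.mem_centralizer_iff] at h4'
        have h5 := h4' _ (jQ_mem N e v)
        have h6 : (e.symm v : N) * (y : N) = (y : N) * (e.symm v : N) := Subtype.ext h5
        have h7 := congrArg e h6
        rw [map_mul, map_mul, e.apply_symm_apply] at h7
        exact h7.symm
      rcases center_facts _ hyc with h4 | h4
      · exfalso
        apply hy
        apply Subtype.ext
        have : (y : N) = 1 := by rw [← e.symm_apply_apply (y : N), h4, map_one]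
        exact this
      · apply Subtype.ext
        show (y : N) = e.symm (a 2)
        rw [← h4, e.symm_apply_apply]
  rw [h3, hN8] at h2
  have h4 : (A.subgroupOf N).index = 4 := by omega
  exact dvd_of_eq h4.symm

/-- the involution lies in the centraliser -/
theorem two_dvd_card_centralizer (N : Subgroup H) [hNn : N.Normal]
    (e : N ≃* QuaternionGroup 2) : 2 ∣ Nat.card (Subgroup.centralizer (N : Set H)) := by
  haveI : Finite H := finite_H
  have hz : jQ N e (a 2) ∈ Subgroup.centralizer (N : Set H) := by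
    rw [Subgroup.mem_centralizer_iff]
    intro n hn
    obtain ⟨q, rfl⟩ := jQ_surj N e hn
    rw [← map_mul, ← map_mul, a2_central]
  have h1 : orderOf (jQ N e (a 2)) = 2 := by
    haveI : Fact (Nat.Prime 2) := ⟨Nat.prime_two⟩
    apply orderOf_eq_prime
    · rw [pow_two, ← map_mul, a2_sq, map_one]
    · intro h
      rw [← map_one (jQ N e)] at h
      exact a2_ne_one (jQ_injective N e h)
  have h2 : orderOf (⟨_, hz⟩ : Subgroup.centralizer (N : Set H)) = 2 := by
    rw [← Subgroup.orderOf_coe]; exact h1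
  rw [← h2]
  exact orderOf_dvd_natCard _

/-- if `8` divides the order of the image in `Aut(Q₈) = S₄` there is a subgroup of index two -/
theorem index_two_of_eight_dvd {G : Type*} [Group G] (κ : G →* MulAut Q)
    (h8 : 8 ∣ Nat.card κ.range) : ∃ N₀ : Subgroup G, N₀.Normal ∧ N₀.index = 2 := by
  obtain ⟨ι⟩ := Cfsg.Agent.S3742.result
  let sg : MulAut Q →* ℤˣ := Equiv.Perm.sign.comp ι.toMonoidHom
  let s : G →* ℤˣ := sg.comp κ
  by_cases hs : ∃ g, s g = -1
  · obtain ⟨g, hg⟩ := hs
    apply exists_index_two_of_surjective s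
    intro u
    rcases Int.units_eq_one_or u with hu | hu
    · exact ⟨1, by rw [map_one, hu]⟩
    · exact ⟨g, by rw [hg, hu]⟩
  · exfalso
    push Not at hs
    have hs1 : ∀ g, s g = 1 := fun g => (Int.units_eq_one_or (s g)).resolve_right (hs g)
    have hle : κ.range ≤ sg.ker := by
      rintro _ ⟨g, rfl⟩
      exact hs1 g
    have hsgsurj : Function.Surjective sg :=
      (Equiv.Perm.sign_surjective (Fin 4)).comp ι.surjective
    have hidx : sg.ker.index = 2 := by
      rw [Subgroup.index_ker, MonoidHom.range_eq_top.2 hsgsurj, Subgroup.card_top,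
        Nat.card_eq_fintype_card, Fintype.card_units_int]
    have h24 := Subgroup.index_mul_card sg.ker
    rw [hidx, card_mulAut_Q] at h24
    have h12 : Nat.card sg.ker = 12 := by omega
    haveI : Finite (MulAut Q) := Nat.finite_of_card_ne_zero (by rw [card_mulAut_Q]; norm_num)
    have h1 := Subgroup.card_dvd_of_le hle
    rw [h12] at h1
    have h2 := h8.trans h1
    omega

/-- the relations of `SL(2,3)` from an element of order three acting nontrivially -/
theorem exists_rel (N : Subgroup H) [hNn : N.Normal] (e : N ≃* QuaternionGroup 2) (c : H)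
    (hc3 : orderOf c = 3) (hcN : c ∉ Subgroup.centralizer (N : Set H)) :
    ∃ x y : H, Cfsg.Agent.Helper16.SL23.Rel x y c := by
  set φ := kap N e c with hφ
  have h3 : φ ^ 3 = 1 := by
    rw [hφ, ← map_pow, ← hc3, pow_orderOf_eq_one, map_one]
  have h1 : φ ≠ 1 := by
    intro h
    apply hcN
    rw [← ker_kap_eq N e, MonoidHom.mem_ker]
    exact h
  obtain ⟨x₀, hx1, hx2, hx3, hx4⟩ := mulAut_order3 φ h3 h1
  have hj : ∀ q : Q, jQ N e (φ q) = c * jQ N e q * c⁻¹ := fun q => jQ_kap N e c q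
  refine ⟨jQ N e x₀, jQ N e (φ x₀), ?_, ?_, ?_, hc3, ?_, ?_⟩
  · rw [orderOf_injective (jQ N e) (jQ_injective N e)]
    haveI : Fact (Nat.Prime 2) := ⟨Nat.prime_two⟩
    have h2 : ¬ x₀ ^ 2 ^ 1 = 1 := by
      intro h; apply hx1; rw [← pow_two]; simpa using h
    have h4 : x₀ ^ 2 ^ (1 + 1) = 1 := by
      have := q8_pow_four x₀
      simpa using this
    have := orderOf_eq_prime_pow h2 h4
    simpa using this
  · rw [← map_pow (jQ N e), ← map_pow (jQ N e), hx2]
  · rw [← map_mul (jQ N e), ← map_inv (jQ N e), ← map_mul (jQ N e), hx3, map_inv]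
  · rw [hj]
  · rw [← hj, hx4, map_mul]

/-- `H = T × C` for commuting subgroups of coprime orders whose product of orders is `|H|` -/
theorem nonempty_mulEquiv_prod {G : Type*} [Group G] [Finite G] (T C : Subgroup G)
    (hcomm : ∀ t ∈ T, ∀ z ∈ C, t * z = z * t) (hcop : (Nat.card T).Coprime (Nat.card C))
    (hcard : Nat.card T * Nat.card C = Nat.card G) : Nonempty (G ≃* T × C) := by
  let Φ : T × C →* G := MonoidHom.noncommCoprod T.subtype C.subtype
    (fun t z => hcomm t t.2 z z.2)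
  have hinj : Function.Injective Φ := by
    rw [injective_iff_map_eq_one]
    rintro ⟨t, z⟩ htz
    have h1 : (t : G) * (z : G) = 1 := htz
    have h2 : (t : G) ∈ T ⊓ C := by
      refine ⟨t.2, ?_⟩
      have : (t : G) = (z : G)⁻¹ := eq_inv_of_mul_eq_one_left h1
      rw [this]
      exact C.inv_mem z.2
    rw [Subgroup.inf_eq_bot_of_coprime hcop, Subgroup.mem_bot] at h2
    have h3 : (z : G) = 1 := by rw [h2, one_mul] at h1; exact h1
    exact Prod.ext (Subtype.ext h2) (Subtype.ext h3)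
  have hbij : Function.Bijective Φ := by
    rw [Nat.bijective_iff_injective_and_card]
    exact ⟨hinj, by rw [Nat.card_prod, hcard]⟩
  exact ⟨(MulEquiv.ofBijective Φ hbij).symm⟩

theorem idx_cases (d : ℕ) (h24 : d ∣ 24) (h4 : 4 ∣ d) (h8 : ¬ 8 ∣ d) : d = 4 ∨ d = 12 := by
  have hle : d ≤ 24 := Nat.le_of_dvd (by norm_num) h24
  interval_cases d <;> omega

theorem arith_exc (p cA d t cH : ℕ) (hp : p = 5 ∨ p = 7 ∨ p = 11 ∨ p = 23)
    (hd : d = 4 ∨ d = 12) (hdt : d = t * (p + 1)) (hmul : d * cA = p ^ 2 - 1)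
    (hcardH : cH = p ^ 2 - 1) :
    (p = 5 ∧ cA = 2 ∧ cH = 24) ∨ (p = 11 ∧ cA = 10 ∧ cH = 120) := by
  rcases hp with rfl | rfl | rfl | rfl <;> rcases hd with rfl | rfl <;>
    norm_num at hdt hmul hcardH ⊢ <;> omega

theorem exc_index_two [Nontrivial V] (hreg : Reg H) (N A : Subgroup H) [hNn : N.Normal]
    (e : N ≃* QuaternionGroup 2) (hcentA : Subgroup.centralizer (A : Set H) = ⊤)
    (hcentN : Subgroup.centralizer (N : Set H) = A)
    (hcardV : Nat.card V = p ^ 2) (hcardA : Nat.card A ∣ p - 1)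
    (hp : p = 5 ∨ p = 7 ∨ p = 11 ∨ p = 23) :
    (∃ N₀ : Subgroup H, N₀.Normal ∧ N₀.index = 2) ∨
    (p = 5 ∧ Nonempty (H ≃* Matrix.SpecialLinearGroup (Fin 2) (ZMod 3))) ∨
    (p = 11 ∧ Nonempty (H ≃* Matrix.SpecialLinearGroup (Fin 2) (ZMod 3) ×
      Multiplicative (ZMod 5))) := by
  haveI : Finite H := finite_H
  have hker : (kap N e).ker = A := by rw [ker_kap_eq, hcentN]
  have hidx : A.index = Nat.card (kap N e).range := by rw [← hker, Subgroup.index_ker]
  have hd24 : A.index ∣ 24 := by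
    rw [← hcentN]; exact index_centralizer_dvd hNn e
  have hd4 : 4 ∣ A.index := by rw [← hcentN]; exact four_dvd_index N e
  have hA2 : 2 ∣ Nat.card A := by rw [← hcentN]; exact two_dvd_card_centralizer N e
  have hcardH : Nat.card H = p ^ 2 - 1 := by rw [hreg.card, hcardV]
  have hmul : A.index * Nat.card A = p ^ 2 - 1 := by rw [Subgroup.index_mul_card, hcardH]
  by_cases h8 : 8 ∣ A.index
  · left
    rw [hidx] at h8
    exact index_two_of_eight_dvd (kap N e) h8
  right
  have hd : A.index = 4 ∨ A.index = 12 := idx_cases _ hd24 hd4 h8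
  -- `p + 1` divides the index
  obtain ⟨t, ht⟩ := hcardA
  have hApos : 0 < Nat.card A := Nat.card_pos
  have hp5 : 5 ≤ p := by rcases hp with h | h | h | h <;> omega
  have hfac : p ^ 2 - 1 = (p - 1) * (p + 1) := by
    obtain ⟨r, hr⟩ : ∃ r, p = r + 1 := ⟨p - 1, by omega⟩
    rw [hr]
    simp only [Nat.add_sub_cancel]
    have : (r + 1) ^ 2 = r * (r + 1 + 1) + 1 := by ring
    rw [this, Nat.add_sub_cancel]
  have hdt : A.index = t * (p + 1) := by
    have h1 : Nat.card A * A.index = Nat.card A * (t * (p + 1)) := by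
      rw [mul_comm, hmul, hfac, ht]; ring
    exact Nat.eq_of_mul_eq_mul_left hApos h1
  have hcase := arith_exc p (Nat.card A) A.index t (Nat.card H) hp hd hdt hmul hcardH
  -- an element of order three
  haveI : Fact (Nat.Prime 3) := ⟨by norm_num⟩
  have h3H : 3 ∣ Nat.card H := by
    rcases hcase with ⟨-, -, h⟩ | ⟨-, -, h⟩ <;> rw [h] <;> norm_num
  obtain ⟨c, hc3⟩ := exists_prime_orderOf_dvd_card' 3 h3H
  have hcA : c ∉ Subgroup.centralizer (N : Set H) := by
    rw [hcentN]
    intro hc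
    have h1 : orderOf (⟨c, hc⟩ : A) ∣ Nat.card A := orderOf_dvd_natCard _
    rw [Subgroup.orderOf_mk, hc3] at h1
    rcases hcase with ⟨-, h, -⟩ | ⟨-, h, -⟩ <;> rw [h] at h1 <;> omega
  obtain ⟨x, y, hrel⟩ := exists_rel N e c hc3 hcA
  rcases hcase with ⟨hp5', hA2', hH24⟩ | ⟨hp11, hA10, hH120⟩
  · left
    exact ⟨hp5', Cfsg.Agent.Helper16.SL23.nonempty_mulEquiv_SL23_of_card hrel hH24⟩
  · right
    refine ⟨hp11, ?_⟩
    haveI : Fact (Nat.Prime 5) := ⟨by norm_num⟩
    have h5A : 5 ∣ Nat.card A := by rw [hA10]; norm_num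
    obtain ⟨a₅, ha₅⟩ := exists_prime_orderOf_dvd_card' 5 h5A
    have ha₅' : orderOf (a₅ : H) = 5 := by rw [Subgroup.orderOf_coe]; exact ha₅
    have hcentral : ∀ h : H, h * (a₅ : H) = (a₅ : H) * h := by
      intro h
      have h1 : h ∈ Subgroup.centralizer (A : Set H) := by rw [hcentA]; exact Subgroup.mem_top h
      exact (Subgroup.mem_centralizer_iff.1 h1 _ a₅.2).symm
    have hTcard : Nat.card hrel.hom.range = 24 := hrel.card_range
    have hCcard : Nat.card (Subgroup.zpowers (a₅ : H)) = 5 := by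
      rw [Nat.card_zpowers, ha₅']
    obtain ⟨iso⟩ := nonempty_mulEquiv_prod hrel.hom.range (Subgroup.zpowers (a₅ : H))
      (by
        intro t _ z hz
        obtain ⟨k, rfl⟩ := Subgroup.mem_zpowers_iff.1 hz
        exact ((Commute.zpow_right (hcentral t) k)).eq)
      (by rw [hTcard, hCcard]; norm_num) (by rw [hTcard, hCcard, hH120])
    obtain ⟨e₂⟩ := Cfsg.Agent.Helper16.SL23.nonempty_model_mulEquiv_SL23
    let eT : hrel.hom.range ≃* Cfsg.Agent.Helper16.SL23.Model :=
      (MonoidHom.ofInjective hrel.hom_injective).symm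
    have h5card : Nat.card (Multiplicative (ZMod 5)) = 5 := by
      rw [Nat.card_eq_fintype_card]; rfl
    let eC : Subgroup.zpowers (a₅ : H) ≃* Multiplicative (ZMod 5) :=
      mulEquivOfPrimeCardEq (p := 5) hCcard h5card
    exact ⟨iso.trans (MulEquiv.prodCongr (eT.trans e₂) eC)⟩

end Cfsg.Agent.Helper4.Zas
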