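import Mathlib
import Cfsg.Agent.Lib.Lead.IcosAlg

/-!
Quaternion coordinates over a (non-commutative) centraliser: `i, j, k` a quaternion frame in a
ring `R`, coefficients commuting with the frame but not with each other.  Basic definitions for
the ring-theoretic part of Zassenhaus' theorem on perfect fixed-point-free groups.
-/

set_option autoImplicit false
set_option linter.unusedSimpArgs false
set_option linter.unusedSectionVars false

namespace Cfsg.Agent.Helper4.Zass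

open Cfsg.Agent.Lead.IcosAlg

variable {R : Type*} [Ring R]

/-- `c` centralises the frame `i, j, k`. -/
structure Cz (i j k c : R) : Prop where
  ci : Commute c i
  cj : Commute c j
  ck : Commute c k

namespace Cz

variable {i j k c d : R}

theorem of_two (hf : Frame i j k) (h1 : Commute c i) (h2 : Commute c j) : Cz i j k c :=
  ⟨h1, h2, hf.commute_k h1 h2⟩
theorem zero : Cz i j k (0 : R) := ⟨Commute.zero_left _, Commute.zero_left _, Commute.zero_left _⟩
theorem one : Cz i j k (1 : R) := ⟨Commute.one_left _, Commute.one_left _, Commute.one_left _⟩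
theorem add (hc : Cz i j k c) (hd : Cz i j k d) : Cz i j k (c + d) :=
  ⟨hc.1.add_left hd.1, hc.2.add_left hd.2, hc.3.add_left hd.3⟩
theorem sub (hc : Cz i j k c) (hd : Cz i j k d) : Cz i j k (c - d) :=
  ⟨hc.1.sub_left hd.1, hc.2.sub_left hd.2, hc.3.sub_left hd.3⟩
theorem neg (hc : Cz i j k c) : Cz i j k (-c) := ⟨hc.1.neg_left, hc.2.neg_left, hc.3.neg_left⟩
theorem mul (hc : Cz i j k c) (hd : Cz i j k d) : Cz i j k (c * d) :=
  ⟨hc.1.mul_left hd.1, hc.2.mul_left hd.2, hc.3.mul_left hd.3⟩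
theorem natCast (n : ℕ) : Cz i j k (n : R) :=
  ⟨Nat.cast_commute n _, Nat.cast_commute n _, Nat.cast_commute n _⟩
theorem intCast (n : ℤ) : Cz i j k (n : R) :=
  ⟨Int.cast_commute n _, Int.cast_commute n _, Int.cast_commute n _⟩
theorem ofNat (n : ℕ) [n.AtLeastTwo] : Cz i j k (OfNat.ofNat n : R) :=
  ⟨Commute.ofNat_left n _, Commute.ofNat_left n _, Commute.ofNat_left n _⟩
/-- rotation of the frame -/
theorem rot (hc : Cz i j k c) : Cz j k i c := ⟨hc.2, hc.3, hc.1⟩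

end Cz

/-- the quaternion with coefficients `c0, c1, c2, c3` -/
def ev (i j k c0 c1 c2 c3 : R) : R := c0 + c1 * i + c2 * j + c3 * k

theorem ev_rot (i j k c0 c1 c2 c3 : R) : ev i j k c0 c1 c2 c3 = ev j k i c0 c2 c3 c1 := by
  unfold ev; abel

/-- the rotated frame -/
theorem frame_rot {i j k : R} (hf : Frame i j k) : Frame j k i :=
  ⟨hf.jj, hf.kk, hf.jk, hf.kj⟩

theorem term_r (c p d : R) (hd : Commute d p) : (c * p) * d = c * d * p := by
  rw [mul_assoc, ← hd.eq, mul_assoc]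

section frame

variable {i j k : R} (hf : Frame i j k)
include hf

/-- product formula -/
theorem ev_mul {c0 c1 c2 c3 d0 d1 d2 d3 : R} (h0 : Cz i j k d0) (h1 : Cz i j k d1)
    (h2 : Cz i j k d2) (h3 : Cz i j k d3) :
    ev i j k c0 c1 c2 c3 * ev i j k d0 d1 d2 d3 =
      ev i j k (c0 * d0 - c1 * d1 - c2 * d2 - c3 * d3)
        (c0 * d1 + c1 * d0 + c2 * d3 - c3 * d2)
        (c0 * d2 + c2 * d0 + c3 * d1 - c1 * d3)
        (c0 * d3 + c3 * d0 + c1 * d2 - c2 * d1) := by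
  unfold ev
  simp only [add_mul, mul_add]
  rw [Frame.term c1 d1 i i h1.1, Frame.term c1 d2 i j h2.1, Frame.term c1 d3 i k h3.1,
    Frame.term c2 d1 j i h1.2, Frame.term c2 d2 j j h2.2, Frame.term c2 d3 j k h3.2,
    Frame.term c3 d1 k i h1.3, Frame.term c3 d2 k j h2.3,
    Frame.term c3 d3 k k h3.3,
    term_r c1 i d0 h0.1, term_r c2 j d0 h0.2, term_r c3 k d0 h0.3,
    hf.ii, hf.jj, hf.kk, hf.ij, hf.ji, hf.jk, hf.kj, hf.ik, hf.ki]
  noncomm_ring

end frame

/-- the averaging operator -/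
def P0 (i j k r : R) : R := r - i * r * i - j * r * j - k * r * k

/-- a central inverse of `4` -/
theorem exists_quarter (h2 : IsUnit (2 : R)) :
    ∃ q : R, q * 4 = 1 ∧ 4 * q = 1 ∧ ∀ r : R, Commute q r := by
  obtain ⟨u, hu⟩ := h2
  refine ⟨((u⁻¹ * u⁻¹ : Rˣ) : R), ?_, ?_, ?_⟩
  · have : (4 : R) = (u * u : Rˣ) := by rw [Units.val_mul, hu]; norm_num
    rw [this, ← Units.val_mul]; simp
  · have : (4 : R) = (u * u : Rˣ) := by rw [Units.val_mul, hu]; norm_num
    rw [this, ← Units.val_mul]; simp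
  · intro r
    have h : Commute (u : R) r := by rw [hu]; exact Commute.ofNat_left 2 r
    rw [Units.val_mul]
    exact (h.units_inv_left).mul_left (h.units_inv_left)

namespace Cz
variable {i j k c : R}
theorem li (hc : Cz i j k c) (z : R) : i * (c * z) = c * (i * z) := by
  rw [← mul_assoc, ← hc.1.eq, mul_assoc]
theorem lj (hc : Cz i j k c) (z : R) : j * (c * z) = c * (j * z) := by
  rw [← mul_assoc, ← hc.2.eq, mul_assoc]
theorem lk (hc : Cz i j k c) (z : R) : k * (c * z) = c * (k * z) := by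
  rw [← mul_assoc, ← hc.3.eq, mul_assoc]
end Cz

section frame

variable {i j k : R} (hf : Frame i j k)
include hf

theorem ii' (z : R) : i * (i * z) = -z := by rw [← mul_assoc, hf.ii]; simp
theorem jj' (z : R) : j * (j * z) = -z := by rw [← mul_assoc, hf.jj]; simp
theorem kk' (z : R) : k * (k * z) = -z := by rw [← mul_assoc, hf.kk]; simp
theorem ij' (z : R) : i * (j * z) = k * z := by rw [← mul_assoc, hf.ij]
theorem ji' (z : R) : j * (i * z) = -(k * z) := by rw [← mul_assoc, hf.ji]; simp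
theorem jk' (z : R) : j * (k * z) = i * z := by rw [← mul_assoc, hf.jk]
theorem kj' (z : R) : k * (j * z) = -(i * z) := by rw [← mul_assoc, hf.kj]; simp
theorem ki' (z : R) : k * (i * z) = j * z := by rw [← mul_assoc, hf.ki]
theorem ik' (z : R) : i * (k * z) = -(j * z) := by rw [← mul_assoc, hf.ik]; simp

theorem P0_cz (r : R) : Cz i j k (P0 i j k r) := by
  refine ⟨?_, ?_, ?_⟩ <;>
  · unfold P0 Commute SemiconjBy
    simp only [mul_assoc, mul_sub, sub_mul, hf.ii, hf.jj, hf.kk, hf.ij, hf.ji, hf.jk, hf.kj, hf.ik,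
      hf.ki, ii' hf, jj' hf, kk' hf, ij' hf, ji' hf, jk' hf, kj' hf, ki' hf, ik' hf,
      mul_neg, neg_mul, neg_neg, mul_one, one_mul]
    abel

theorem P0_decomp (r : R) :
    P0 i j k r - P0 i j k (r * i) * i - P0 i j k (r * j) * j - P0 i j k (r * k) * k = 4 * r := by
  unfold P0
  simp only [mul_assoc, mul_sub, sub_mul, hf.ii, hf.jj, hf.kk, hf.ij, hf.ji, hf.jk, hf.kj, hf.ik,
    hf.ki, ii' hf, jj' hf, kk' hf, ij' hf, ji' hf, jk' hf, kj' hf, ki' hf, ik' hf,
    mul_neg, neg_mul, neg_neg, mul_one, one_mul]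
  have : (4 : R) * r = r + r + r + r := by
    have : (4 : R) = 1 + 1 + 1 + 1 := by norm_num
    rw [this]; noncomm_ring
  rw [this]
  abel

/-- every element has coordinates -/
theorem exists_coords (h2 : IsUnit (2 : R)) (r : R) :
    ∃ c0 c1 c2 c3 : R, Cz i j k c0 ∧ Cz i j k c1 ∧ Cz i j k c2 ∧ Cz i j k c3 ∧
      r = ev i j k c0 c1 c2 c3 := by
  obtain ⟨q, hq4, h4q, hqc⟩ := exists_quarter h2
  have hqz : Cz i j k q := ⟨hqc i, hqc j, hqc k⟩
  refine ⟨q * P0 i j k r, -(q * P0 i j k (r * i)), -(q * P0 i j k (r * j)),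
    -(q * P0 i j k (r * k)), hqz.mul (P0_cz hf _), (hqz.mul (P0_cz hf _)).neg,
    (hqz.mul (P0_cz hf _)).neg, (hqz.mul (P0_cz hf _)).neg, ?_⟩
  unfold ev
  have : q * P0 i j k r + -(q * P0 i j k (r * i)) * i + -(q * P0 i j k (r * j)) * j
      + -(q * P0 i j k (r * k)) * k
      = q * (P0 i j k r - P0 i j k (r * i) * i - P0 i j k (r * j) * j - P0 i j k (r * k) * k) := by
    noncomm_ring
  rw [this, P0_decomp hf, ← mul_assoc, hq4, one_mul]

theorem P0_ev {c0 c1 c2 c3 : R} (h0 : Cz i j k c0) (h1 : Cz i j k c1)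
    (h2 : Cz i j k c2) (h3 : Cz i j k c3) :
    P0 i j k (ev i j k c0 c1 c2 c3) = 4 * c0 := by
  unfold P0 ev
  simp only [mul_add, add_mul, mul_assoc, mul_sub, sub_mul,
    h0.li, h0.lj, h0.lk, h1.li, h1.lj, h1.lk, h2.li, h2.lj, h2.lk, h3.li, h3.lj, h3.lk,
    hf.ii, hf.jj, hf.kk, hf.ij, hf.ji, hf.jk, hf.kj, hf.ik,
    hf.ki, ii' hf, jj' hf, kk' hf, ij' hf, ji' hf, jk' hf, kj' hf, ki' hf, ik' hf,
    mul_neg, neg_mul, neg_neg, mul_one, one_mul]
  have : (4 : R) * c0 = c0 + c0 + c0 + c0 := by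
    have : (4 : R) = 1 + 1 + 1 + 1 := by norm_num
    rw [this]; noncomm_ring
  rw [this]
  abel

/-- uniqueness of coordinates -/
theorem ev_inj (hu : IsUnit (2 : R)) {c0 c1 c2 c3 d0 d1 d2 d3 : R}
    (h0 : Cz i j k c0) (h1 : Cz i j k c1) (h2 : Cz i j k c2) (h3 : Cz i j k c3)
    (g0 : Cz i j k d0) (g1 : Cz i j k d1) (g2 : Cz i j k d2) (g3 : Cz i j k d3)
    (h : ev i j k c0 c1 c2 c3 = ev i j k d0 d1 d2 d3) :
    c0 = d0 ∧ c1 = d1 ∧ c2 = d2 ∧ c3 = d3 := by
  obtain ⟨q, hq4, h4q, hqc⟩ := exists_quarter hu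
  have canc : ∀ x y : R, 4 * x = 4 * y → x = y := by
    intro x y hxy
    have := congrArg (fun t => q * t) hxy
    simpa only [← mul_assoc, hq4, one_mul] using this
  have e1 : ∀ a0 a1 a2 a3 : R, Cz i j k a0 → Cz i j k a1 → Cz i j k a2 → Cz i j k a3 →
      ev i j k a0 a1 a2 a3 * i = ev i j k (-a1) a0 a3 (-a2) := by
    intro a0 a1 a2 a3 _ _ _ _
    have hq : ev i j k 0 1 0 0 = i := by unfold ev; simp
    calc ev i j k a0 a1 a2 a3 * i = ev i j k a0 a1 a2 a3 * ev i j k 0 1 0 0 := by rw [hq]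
      _ = _ := by
        rw [ev_mul hf Cz.zero Cz.one Cz.zero Cz.zero]
        unfold ev; simp
  have e2 : ∀ a0 a1 a2 a3 : R, Cz i j k a0 → Cz i j k a1 → Cz i j k a2 → Cz i j k a3 →
      ev i j k a0 a1 a2 a3 * j = ev i j k (-a2) (-a3) a0 a1 := by
    intro a0 a1 a2 a3 _ _ _ _
    have hq : ev i j k 0 0 1 0 = j := by unfold ev; simp
    calc ev i j k a0 a1 a2 a3 * j = ev i j k a0 a1 a2 a3 * ev i j k 0 0 1 0 := by rw [hq]
      _ = _ := by
        rw [ev_mul hf Cz.zero Cz.zero Cz.one Cz.zero]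
        unfold ev; simp
  have e3 : ∀ a0 a1 a2 a3 : R, Cz i j k a0 → Cz i j k a1 → Cz i j k a2 → Cz i j k a3 →
      ev i j k a0 a1 a2 a3 * k = ev i j k (-a3) a2 (-a1) a0 := by
    intro a0 a1 a2 a3 _ _ _ _
    have hq : ev i j k 0 0 0 1 = k := by unfold ev; simp
    calc ev i j k a0 a1 a2 a3 * k = ev i j k a0 a1 a2 a3 * ev i j k 0 0 0 1 := by rw [hq]
      _ = _ := by
        rw [ev_mul hf Cz.zero Cz.zero Cz.zero Cz.one]
        unfold ev; simp
  refine ⟨?_, ?_, ?_, ?_⟩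
  · apply canc
    rw [← P0_ev hf h0 h1 h2 h3, ← P0_ev hf g0 g1 g2 g3, h]
  · have := congrArg (fun t => P0 i j k (t * i)) h
    simp only [e1 _ _ _ _ h0 h1 h2 h3, e1 _ _ _ _ g0 g1 g2 g3] at this
    rw [P0_ev hf h1.neg h0 h3 h2.neg, P0_ev hf g1.neg g0 g3 g2.neg] at this
    have := canc _ _ this
    exact neg_injective this
  · have := congrArg (fun t => P0 i j k (t * j)) h
    simp only [e2 _ _ _ _ h0 h1 h2 h3, e2 _ _ _ _ g0 g1 g2 g3] at this
    rw [P0_ev hf h2.neg h3.neg h0 h1, P0_ev hf g2.neg g3.neg g0 g1] at this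
    have := canc _ _ this
    exact neg_injective this
  · have := congrArg (fun t => P0 i j k (t * k)) h
    simp only [e3 _ _ _ _ h0 h1 h2 h3, e3 _ _ _ _ g0 g1 g2 g3] at this
    rw [P0_ev hf h3.neg h2 h1.neg h0, P0_ev hf g3.neg g2 g1.neg g0] at this
    have := canc _ _ this
    exact neg_injective this

end frame


/-! ### The ring-level setting -/

/-- ring-level hypotheses on the image `M` of the group in the ring -/
structure Fpf (M : Submonoid R) : Prop where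
  u2 : IsUnit (2 : R)
  u3 : IsUnit (3 : R)
  inv : ∀ g ∈ M, ∃ h ∈ M, g * h = 1 ∧ h * g = 1
  fpf : ∀ g ∈ M, ∀ h ∈ M, g ≠ h → IsUnit (g - h)
  n1 : ∀ x ∈ M, ∀ y ∈ M, x ^ 3 = 1 → y ^ 3 = 1 →
    (x * y) ^ 4 = 1 ∨ (x * y) ^ 6 = 1 ∨ (x * y) ^ 10 = 1

/-- the elements of order three -/
def IsX (M : Submonoid R) (x : R) : Prop := x ∈ M ∧ x * x + x + 1 = 0

/-- `x - x⁻¹` for `x` of order three -/
def sv (x : R) : R := 2 * x + 1

/-- the anticommutator of `sv x` and `sv y` -/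
def bt (x y : R) : R := sv x * sv y + sv y * sv x

/-- a sign -/
def sg (s : Bool) : R := if s then 1 else -1

/-- `sv` of the eight elements of order three of the frame group -/
def lform (i j k : R) (e1 e2 e3 : Bool) : R := sg e1 * i + sg e2 * j + sg e3 * k

/-- twice `sv` of the golden elements with vanishing `i`-coordinate -/
def G0 (i j k ϑ : R) (s1 s2 : Bool) : R := sg s1 * (1 + ϑ) * j + sg s2 * (1 - ϑ) * k

/-- `s` is `sv` of a golden element with parameter `ϑ` -/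
def IsGold (i j k ϑ s : R) : Prop :=
  ∃ s1 s2 : Bool, 2 * s = G0 i j k ϑ s1 s2 ∨ 2 * s = G0 j k i ϑ s1 s2 ∨ 2 * s = G0 k i j ϑ s1 s2

theorem IsGold.rot {i j k ϑ s : R} (h : IsGold i j k ϑ s) : IsGold j k i ϑ s := by
  obtain ⟨s1, s2, h | h | h⟩ := h
  · exact ⟨s1, s2, Or.inr (Or.inr h)⟩
  · exact ⟨s1, s2, Or.inl h⟩
  · exact ⟨s1, s2, Or.inr (Or.inl h)⟩

theorem sg_mul_self (s : Bool) : (sg s : R) * sg s = 1 := by
  cases s <;> simp [sg]

theorem sg_commute (s : Bool) (r : R) : Commute (sg s : R) r := by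
  cases s <;> simp [sg]

end Cfsg.Agent.Helper4.Zass
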