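import Mathlib
import Cfsg.Agent.Lib.Helper4.ZassB

/-!
Basic consequences of the ring-level hypotheses `Fpf M`: involutions, elements of order three,
the eight elements of order three attached to a quaternion frame.
-/

set_option autoImplicit false
set_option linter.unusedSimpArgs false
set_option linter.unusedSectionVars false
set_option linter.unusedVariables false

namespace Cfsg.Agent.Helper4.Zass

open Cfsg.Agent.Lead.IcosAlg

variable {R : Type*} [Ring R] {M : Submonoid R}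

theorem two_cancel (hM : Fpf M) {x y : R} (h : 2 * x = 2 * y) : x = y := by
  obtain ⟨u, hu⟩ := hM.u2
  have := congrArg (fun t => ((u⁻¹ : Rˣ) : R) * t) h
  simpa only [← mul_assoc, ← hu, Units.inv_mul, one_mul] using this

theorem four_cancel (hM : Fpf M) {x y : R} (h : 4 * x = 4 * y) : x = y := by
  apply two_cancel hM; apply two_cancel hM
  have e : ∀ t : R, 2 * (2 * t) = 4 * t := by intro t; rw [← mul_assoc]; norm_num
  rw [e, e, h]

theorem three_cancel (hM : Fpf M) {x y : R} (h : 3 * x = 3 * y) : x = y := by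
  obtain ⟨u, hu⟩ := hM.u3
  have := congrArg (fun t => ((u⁻¹ : Rˣ) : R) * t) h
  simpa only [← mul_assoc, ← hu, Units.inv_mul, one_mul] using this

theorem two_ne_zero' (hM : Fpf M) [Nontrivial R] : (2 : R) ≠ 0 := hM.u2.ne_zero

/-- an element of `M` of square one is `1` or `-1` -/
theorem Fpf.sq_eq_one (hM : Fpf M) {g : R} (hg : g ∈ M) (h : g * g = 1) : g = 1 ∨ g = -1 := by
  by_cases h1 : g = 1
  · exact Or.inl h1
  · right
    have hu := hM.fpf g hg 1 M.one_mem h1
    have : (g - 1) * (g + 1) = 0 := by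
      have : (g - 1) * (g + 1) = g * g - 1 := by noncomm_ring
      rw [this, h, sub_self]
    have := (hu.mul_right_eq_zero).mp this
    exact eq_neg_of_add_eq_zero_left this

namespace IsX

variable {x y g g' : R}

theorem mem (hx : IsX M x) : x ∈ M := hx.1

theorem sq (hx : IsX M x) : x * x = -1 - x := by
  have := hx.2
  have h : x * x = x * x + x + 1 - x - 1 := by abel
  rw [h, this]; abel

theorem mul_inv (hx : IsX M x) : x * (x * x) = 1 := by
  rw [hx.sq, mul_sub, mul_neg, mul_one, hx.sq]; abel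

theorem inv_mul (hx : IsX M x) : (x * x) * x = 1 := by
  rw [mul_assoc]; exact hx.mul_inv

theorem inv (hx : IsX M x) : IsX M (x * x) := by
  refine ⟨M.mul_mem hx.1 hx.1, ?_⟩
  have : x * x * (x * x) = x := by
    rw [← mul_assoc, hx.inv_mul, one_mul]
  rw [this, hx.sq]; abel

theorem cube (hx : IsX M x) : x ^ 3 = 1 := by
  rw [pow_succ, pow_two]; exact hx.inv_mul

theorem sv_sq (hx : IsX M x) : sv x * sv x = -3 := by
  unfold sv
  have : (2 * x + 1) * (2 * x + 1) = 4 * (x * x + x + 1) - 3 := by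
    have h4 : (4 : R) = 2 * 2 := by norm_num
    have h3 : (3 : R) = 2 * 2 - 1 := by norm_num
    have hc : x * 2 = 2 * x := (Commute.ofNat_right x 2).eq
    rw [h4, h3]
    calc (2 * x + 1) * (2 * x + 1) = 2 * (x * 2) * x + 2 * x + 2 * x + 1 := by noncomm_ring
      _ = 2 * (2 * x) * x + 2 * x + 2 * x + 1 := by rw [hc]
      _ = _ := by noncomm_ring
  rw [this, hx.2, mul_zero, zero_sub]

theorem sv_inv (hx : IsX M x) : sv (x * x) = -sv x := by
  unfold sv; rw [hx.sq]; noncomm_ring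

/-- conjugates of elements of order three -/
theorem conj (hx : IsX M x) (hg : g ∈ M) (hg' : g' ∈ M) (h : g' * g = 1) (h' : g * g' = 1) :
    IsX M (g * x * g') := by
  refine ⟨M.mul_mem (M.mul_mem hg hx.1) hg', ?_⟩
  have e : g * x * g' * (g * x * g') = g * (x * x) * g' := by
    calc g * x * g' * (g * x * g') = g * x * (g' * g) * x * g' := by noncomm_ring
      _ = g * (x * x) * g' := by rw [h]; noncomm_ring
  rw [e]
  have : g * (x * x) * g' + g * x * g' + 1 = g * (x * x + x + 1) * g' := by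
    have e1 : g * (x * x + x + 1) * g' = g * (x * x) * g' + g * x * g' + g * g' := by
      noncomm_ring
    rw [e1, h']
  rw [this, hx.2, mul_zero, zero_mul]

theorem sv_conj (x : R) (h' : g * g' = 1) : sv (g * x * g') = g * sv x * g' := by
  unfold sv
  have hc : g * 2 = 2 * g := (Commute.ofNat_right g 2).eq
  calc 2 * (g * x * g') + 1 = (2 * g) * x * g' + g * g' := by rw [h']; noncomm_ring
    _ = (g * 2) * x * g' + g * g' := by rw [hc]
    _ = g * (2 * x + 1) * g' := by noncomm_ring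

end IsX

theorem sv_inj (hM : Fpf M) {x y : R} (h : sv x = sv y) : x = y := by
  unfold sv at h
  exact two_cancel hM (add_right_cancel h)

section frame

variable {i j k : R} (hf : Frame i j k)
include hf

theorem neg_one_mem (hi : i ∈ M) : (-1 : R) ∈ M := by
  rw [← hf.ii]; exact M.mul_mem hi hi

theorem k_mem (hi : i ∈ M) (hj : j ∈ M) : k ∈ M := by
  rw [← hf.ij]; exact M.mul_mem hi hj

theorem neg_mem (hi : i ∈ M) {g : R} (hg : g ∈ M) : -g ∈ M := by
  have : -g = (-1) * g := by simp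
  rw [this]; exact M.mul_mem (neg_one_mem hf hi) hg

theorem i_inv : i * (-i) = 1 ∧ (-i) * i = 1 := by
  constructor <;> simp [hf.ii]

theorem j_inv : j * (-j) = 1 ∧ (-j) * j = 1 := by
  constructor <;> simp [hf.jj]

theorem k_inv : k * (-k) = 1 ∧ (-k) * k = 1 := by
  constructor <;> simp [hf.kk]

/-- conjugation by `i` in coordinates -/
theorem conj_i_ev {c0 c1 c2 c3 : R} (h0 : Cz i j k c0) (h1 : Cz i j k c1)
    (h2 : Cz i j k c2) (h3 : Cz i j k c3) :
    i * ev i j k c0 c1 c2 c3 * (-i) = ev i j k c0 c1 (-c2) (-c3) := by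
  unfold ev
  simp only [mul_add, add_mul, mul_assoc, mul_neg, neg_mul, h0.li, h1.li, h2.li, h3.li,
    hf.ii, hf.jj, hf.kk, hf.ij, hf.ji, hf.jk, hf.kj, hf.ik,
    hf.ki, ii' hf, jj' hf, kk' hf, ij' hf, ji' hf, jk' hf, kj' hf, ki' hf, ik' hf,
    neg_neg, mul_one, one_mul]
  abel

/-- conjugation by `j` in coordinates -/
theorem conj_j_ev {c0 c1 c2 c3 : R} (h0 : Cz i j k c0) (h1 : Cz i j k c1)
    (h2 : Cz i j k c2) (h3 : Cz i j k c3) :
    j * ev i j k c0 c1 c2 c3 * (-j) = ev i j k c0 (-c1) c2 (-c3) := by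
  unfold ev
  simp only [mul_add, add_mul, mul_assoc, mul_neg, neg_mul, h0.lj, h1.lj, h2.lj, h3.lj,
    hf.ii, hf.jj, hf.kk, hf.ij, hf.ji, hf.jk, hf.kj, hf.ik,
    hf.ki, ii' hf, jj' hf, kk' hf, ij' hf, ji' hf, jk' hf, kj' hf, ki' hf, ik' hf,
    neg_neg, mul_one, one_mul]
  abel

/-- conjugation by `k` in coordinates -/
theorem conj_k_ev {c0 c1 c2 c3 : R} (h0 : Cz i j k c0) (h1 : Cz i j k c1)
    (h2 : Cz i j k c2) (h3 : Cz i j k c3) :
    k * ev i j k c0 c1 c2 c3 * (-k) = ev i j k c0 (-c1) (-c2) c3 := by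
  unfold ev
  simp only [mul_add, add_mul, mul_assoc, mul_neg, neg_mul, h0.lk, h1.lk, h2.lk, h3.lk,
    hf.ii, hf.jj, hf.kk, hf.ij, hf.ji, hf.jk, hf.kj, hf.ik,
    hf.ki, ii' hf, jj' hf, kk' hf, ij' hf, ji' hf, jk' hf, kj' hf, ki' hf, ik' hf,
    neg_neg, mul_one, one_mul]
  abel

theorem lform_eq_ev (e1 e2 e3 : Bool) :
    lform i j k e1 e2 e3 = ev i j k 0 (sg e1) (sg e2) (sg e3) := by
  unfold lform ev; simp

theorem sg_cz (e : Bool) : Cz i j k (sg e : R) :=
  ⟨sg_commute e i, sg_commute e j, sg_commute e k⟩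

theorem lform_sq (e1 e2 e3 : Bool) :
    lform i j k e1 e2 e3 * lform i j k e1 e2 e3 = -3 := by
  rw [lform_eq_ev hf, ev_mul hf Cz.zero (sg_cz hf e1) (sg_cz hf e2) (sg_cz hf e3)]
  unfold ev
  cases e1 <;> cases e2 <;> cases e3 <;> simp [sg] <;> norm_num

/-- the base element of order three -/
theorem isX_x0 (hM : Fpf M) {x0 : R} (hx0 : x0 ∈ M) (h2x0 : 2 * x0 = -1 + i + j + k) :
    IsX M x0 ∧ sv x0 = lform i j k true true true := by
  have hs : sv x0 = lform i j k true true true := by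
    unfold sv lform; rw [h2x0]; simp [sg]; abel
  refine ⟨⟨hx0, ?_⟩, hs⟩
  have h1 : sv x0 * sv x0 = -3 := by rw [hs]; exact lform_sq hf _ _ _
  apply four_cancel hM
  rw [mul_zero]
  have : (2 * x0 + 1) * (2 * x0 + 1) = 4 * (x0 * x0 + x0 + 1) - 3 := by
    have h4 : (4 : R) = 2 * 2 := by norm_num
    have h3 : (3 : R) = 2 * 2 - 1 := by norm_num
    have hc : x0 * 2 = 2 * x0 := (Commute.ofNat_right x0 2).eq
    rw [h4, h3]
    calc (2 * x0 + 1) * (2 * x0 + 1) = 2 * (x0 * 2) * x0 + 2 * x0 + 2 * x0 + 1 := by noncomm_ring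
      _ = 2 * (2 * x0) * x0 + 2 * x0 + 2 * x0 + 1 := by rw [hc]
      _ = _ := by noncomm_ring
  unfold sv at h1
  rw [this] at h1
  have := sub_eq_iff_eq_add.mp h1
  rw [this]; abel

/-- the eight elements of order three of the frame group -/
theorem exists_axis (hM : Fpf M) (hi : i ∈ M) (hj : j ∈ M) {x0 : R} (hx0 : x0 ∈ M)
    (h2x0 : 2 * x0 = -1 + i + j + k) (e1 e2 e3 : Bool) :
    ∃ x : R, IsX M x ∧ sv x = lform i j k e1 e2 e3 := by
  obtain ⟨hX0, hs0⟩ := isX_x0 hf hM hx0 h2x0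
  have hk := k_mem hf hi hj
  have hni := neg_mem hf hi hi
  have hnj := neg_mem hf hi hj
  have hnk := neg_mem hf hi hk
  -- the four axes
  have h1 : ∃ x : R, IsX M x ∧ sv x = lform i j k true false false := by
    refine ⟨i * x0 * (-i), hX0.conj hi hni (i_inv hf).2 (i_inv hf).1, ?_⟩
    rw [IsX.sv_conj x0 (i_inv hf).1, hs0, lform_eq_ev hf,
      conj_i_ev hf Cz.zero (sg_cz hf _) (sg_cz hf _) (sg_cz hf _), lform_eq_ev hf]
    simp [sg]
  have h2 : ∃ x : R, IsX M x ∧ sv x = lform i j k false true false := by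
    refine ⟨j * x0 * (-j), hX0.conj hj hnj (j_inv hf).2 (j_inv hf).1, ?_⟩
    rw [IsX.sv_conj x0 (j_inv hf).1, hs0, lform_eq_ev hf,
      conj_j_ev hf Cz.zero (sg_cz hf _) (sg_cz hf _) (sg_cz hf _), lform_eq_ev hf]
    simp [sg]
  have h3 : ∃ x : R, IsX M x ∧ sv x = lform i j k false false true := by
    refine ⟨k * x0 * (-k), hX0.conj hk hnk (k_inv hf).2 (k_inv hf).1, ?_⟩
    rw [IsX.sv_conj x0 (k_inv hf).1, hs0, lform_eq_ev hf,
      conj_k_ev hf Cz.zero (sg_cz hf _) (sg_cz hf _) (sg_cz hf _), lform_eq_ev hf]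
    simp [sg]
  have hneg : ∀ a b c : Bool, (∃ x : R, IsX M x ∧ sv x = lform i j k a b c) →
      ∃ x : R, IsX M x ∧ sv x = lform i j k (!a) (!b) (!c) := by
    rintro a b c ⟨x, hx, hs⟩
    refine ⟨x * x, hx.inv, ?_⟩
    rw [hx.sv_inv, hs]
    unfold lform
    cases a <;> cases b <;> cases c <;> simp [sg] <;> abel
  cases e1 <;> cases e2 <;> cases e3
  · exact hneg _ _ _ ⟨x0, hX0, hs0⟩
  · exact h3
  · exact h2
  · exact hneg _ _ _ h1
  · exact h1
  · exact hneg _ _ _ h2
  · exact hneg _ _ _ h3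
  · exact ⟨x0, hX0, hs0⟩

end frame

end Cfsg.Agent.Helper4.Zass
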