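import Mathlib
import Cfsg.Agent.Lib.Helper4.ZassA

/-!
Theorem A of the Zassenhaus development: an element of order three outside the frame group
`L0 = Q8 ⋊ C3` has golden coordinates with respect to the quaternion frame.
-/

set_option autoImplicit false
set_option linter.unusedSimpArgs false
set_option linter.unusedSectionVars false
set_option linter.unusedVariables false
set_option linter.unreachableTactic false
set_option linter.unusedTactic false
set_option linter.unnecessarySeqFocus false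

namespace Cfsg.Agent.Helper4.Zass

open Cfsg.Agent.Lead.IcosAlg

variable {R : Type*} [Ring R] {M : Submonoid R}


theorem ev_add (i j k c0 c1 c2 c3 d0 d1 d2 d3 : R) :
    ev i j k c0 c1 c2 c3 + ev i j k d0 d1 d2 d3 = ev i j k (c0 + d0) (c1 + d1) (c2 + d2) (c3 + d3) := by
  unfold ev; simp only [add_mul]; abel

theorem ev_neg (i j k c0 c1 c2 c3 : R) :
    -ev i j k c0 c1 c2 c3 = ev i j k (-c0) (-c1) (-c2) (-c3) := by
  unfold ev; simp only [neg_mul]; abel

theorem ev_scalar (i j k c : R) : ev i j k c 0 0 0 = c := by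
  unfold ev; simp


/-- the alternatives for the anticommutator of two elements of order three -/
def N1B (M : Submonoid R) : Prop := ∀ x y : R, IsX M x → IsX M y →
  (bt x y = -6 ∧ y = x) ∨ (bt x y = 6 ∧ x * y = 1) ∨ bt x y = 2 ∨ bt x y = -2 ∨
    (bt x y * bt x y = 20 ∧ IsUnit (5 : R))


theorem sg_eq (a : Bool) : (sg a : R) = 1 ∨ (sg a : R) = -1 := by
  cases a <;> simp [sg]

theorem cross_aux {σ1 σ2 σ3 γ c0 : R} (h1 : σ1 = 1 ∨ σ1 = -1) (h2 : σ2 = 1 ∨ σ2 = -1)
    (h3 : σ3 = 1 ∨ σ3 = -1)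
    (e1 : -(2 * γ) * (2 * (σ1 * c0)) + 2 * (σ1 * c0) * -(2 * γ) + 2 * (σ2 * c0) * (2 * (σ3 * c0))
      - 2 * (σ3 * c0) * (2 * (σ2 * c0)) = 0) : 4 * (γ * c0 + c0 * γ) = 0 := by
  rcases h1 with rfl | rfl
  · rcases h2 with rfl | rfl <;> rcases h3 with rfl | rfl <;>
      linear_combination (norm := noncomm_ring) (-1 : R) * e1
  · rcases h2 with rfl | rfl <;> rcases h3 with rfl | rfl <;>
      linear_combination (norm := noncomm_ring) e1


/-- type three: the axis is collinear with `w` -/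
def T3 (c0 g : R) : Prop := c0 = 0 ∧ (g = 1 ∨ g = -1)

/-- type five -/
def T5 (c0 g : R) : Prop := g * g - 3 * (c0 * c0) = 5 ∧ g * c0 + c0 * g = 0

section frame

variable {i j k : R} (hf : Frame i j k)
include hf

/-- the anticommutator with an axis -/
theorem anti_axis {c0 c1 c2 c3 : R} (h0 : Cz i j k c0) (h1 : Cz i j k c1)
    (h2 : Cz i j k c2) (h3 : Cz i j k c3) (e1 e2 e3 : Bool) :
    ev i j k c0 c1 c2 c3 * lform i j k e1 e2 e3 + lform i j k e1 e2 e3 * ev i j k c0 c1 c2 c3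
      = ev i j k (-(2 * (sg e1 * c1 + sg e2 * c2 + sg e3 * c3)))
          (2 * (sg e1 * c0)) (2 * (sg e2 * c0)) (2 * (sg e3 * c0)) := by
  rw [lform_eq_ev hf, ev_mul hf Cz.zero (sg_cz hf e1) (sg_cz hf e2) (sg_cz hf e3),
    ev_mul hf h0 h1 h2 h3, ev_add]
  unfold ev
  cases e1 <;> cases e2 <;> cases e3 <;> simp [sg] <;> noncomm_ring


/-- reading off the coordinates of a product -/
theorem ev_mul_inj (hu : IsUnit (2 : R)) {c0 c1 c2 c3 d0 d1 d2 d3 e0 e1 e2 e3 : R}
    (hc0 : Cz i j k c0) (hc1 : Cz i j k c1) (hc2 : Cz i j k c2) (hc3 : Cz i j k c3)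
    (hd0 : Cz i j k d0) (hd1 : Cz i j k d1) (hd2 : Cz i j k d2) (hd3 : Cz i j k d3)
    (he0 : Cz i j k e0) (he1 : Cz i j k e1) (he2 : Cz i j k e2) (he3 : Cz i j k e3)
    (h : ev i j k c0 c1 c2 c3 * ev i j k d0 d1 d2 d3 = ev i j k e0 e1 e2 e3) :
    c0 * d0 - c1 * d1 - c2 * d2 - c3 * d3 = e0 ∧
    c0 * d1 + c1 * d0 + c2 * d3 - c3 * d2 = e1 ∧
    c0 * d2 + c2 * d0 + c3 * d1 - c1 * d3 = e2 ∧
    c0 * d3 + c3 * d0 + c1 * d2 - c2 * d1 = e3 := by
  rw [ev_mul hf hd0 hd1 hd2 hd3] at h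
  exact ev_inj hf hu
    ((((hc0.mul hd0).sub (hc1.mul hd1)).sub (hc2.mul hd2)).sub (hc3.mul hd3))
    ((((hc0.mul hd1).add (hc1.mul hd0)).add (hc2.mul hd3)).sub (hc3.mul hd2))
    ((((hc0.mul hd2).add (hc2.mul hd0)).add (hc3.mul hd1)).sub (hc1.mul hd3))
    ((((hc0.mul hd3).add (hc3.mul hd0)).add (hc1.mul hd2)).sub (hc2.mul hd1))
    he0 he1 he2 he3 h

/-- reading off the coordinates of the anticommutator with an axis -/
theorem anti_axis_inj (hu : IsUnit (2 : R)) {c0 c1 c2 c3 e0 e1 e2 e3 : R}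
    (hc0 : Cz i j k c0) (hc1 : Cz i j k c1) (hc2 : Cz i j k c2) (hc3 : Cz i j k c3)
    (he0 : Cz i j k e0) (he1 : Cz i j k e1) (he2 : Cz i j k e2) (he3 : Cz i j k e3)
    (a1 a2 a3 : Bool)
    (h : ev i j k c0 c1 c2 c3 * lform i j k a1 a2 a3 + lform i j k a1 a2 a3 * ev i j k c0 c1 c2 c3
      = ev i j k e0 e1 e2 e3) :
    -(2 * (sg a1 * c1 + sg a2 * c2 + sg a3 * c3)) = e0 ∧ 2 * (sg a1 * c0) = e1 ∧
      2 * (sg a2 * c0) = e2 ∧ 2 * (sg a3 * c0) = e3 := by
  rw [anti_axis hf hc0 hc1 hc2 hc3] at h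
  have s1 := sg_cz hf (i := i) (j := j) (k := k) a1
  have s2 := sg_cz hf (i := i) (j := j) (k := k) a2
  have s3 := sg_cz hf (i := i) (j := j) (k := k) a3
  have t2 : Cz i j k (2 : R) := Cz.ofNat 2
  exact ev_inj hf hu
    ((t2.mul (((s1.mul hc1).add (s2.mul hc2)).add (s3.mul hc3))).neg)
    (t2.mul (s1.mul hc0)) (t2.mul (s2.mul hc0)) (t2.mul (s3.mul hc0))
    he0 he1 he2 he3 h


/-- the alternatives for one axis -/
theorem axis_alt (hM : Fpf M) (hN : N1B M) {w xa : R} (hw : IsX M w) (a1 a2 a3 : Bool)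
    (hxa : IsX M xa) (hsa : sv xa = lform i j k a1 a2 a3)
    {c0 c1 c2 c3 : R} (hc0 : Cz i j k c0) (hc1 : Cz i j k c1) (hc2 : Cz i j k c2)
    (hc3 : Cz i j k c3) (hs : sv w = ev i j k c0 c1 c2 c3)
    {γ : R} (hγ : γ = sg a1 * c1 + sg a2 * c2 + sg a3 * c3) :
    sv w = lform i j k a1 a2 a3 ∨ sv w = -lform i j k a1 a2 a3 ∨ T3 c0 γ ∨ T5 c0 γ := by
  unfold T3 T5
  have hu := hM.u2
  have hbt : bt w xa = ev i j k c0 c1 c2 c3 * lform i j k a1 a2 a3
      + lform i j k a1 a2 a3 * ev i j k c0 c1 c2 c3 := by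
    unfold bt; rw [hs, hsa]
  have hγz : Cz i j k γ := by
    rw [hγ]
    exact (((sg_cz hf a1).mul hc1).add ((sg_cz hf a2).mul hc2)).add ((sg_cz hf a3).mul hc3)
  have t2 : Cz i j k (2 : R) := Cz.ofNat 2
  have hc0_of : 2 * (sg a1 * c0) = 0 → c0 = 0 := by
    intro h
    have h' : sg a1 * c0 = 0 := by
      apply two_cancel hM; rw [h, mul_zero]
    have := congrArg (fun t => sg a1 * t) h'
    simpa only [← mul_assoc, sg_mul_self, one_mul, mul_zero] using this
  rcases hN w xa hw hxa with ⟨-, heq⟩ | ⟨-, hinv⟩ | hb | hb | ⟨hb, -⟩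
  · left; rw [← hsa, heq]
  · right; left
    have : xa = w * w := by
      have := congrArg (fun t => w * w * t) hinv
      simp only [mul_one] at this
      rw [← mul_assoc, hw.inv_mul, one_mul] at this
      exact this
    rw [← hsa, this, hw.sv_inv, neg_neg]
  · right; right; left
    rw [hbt, ← ev_scalar i j k (2 : R)] at hb
    obtain ⟨e0, e1, -, -⟩ := anti_axis_inj hf hu hc0 hc1 hc2 hc3 t2 Cz.zero Cz.zero Cz.zero _ _ _ hb
    refine ⟨hc0_of e1, Or.inr ?_⟩
    apply two_cancel hM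
    rw [← hγ] at e0
    rw [neg_eq_iff_eq_neg.mp e0]; norm_num
  · right; right; left
    rw [hbt, ← ev_scalar i j k (-2 : R)] at hb
    obtain ⟨e0, e1, -, -⟩ := anti_axis_inj hf hu hc0 hc1 hc2 hc3 t2.neg Cz.zero Cz.zero Cz.zero _ _ _ hb
    refine ⟨hc0_of e1, Or.inl ?_⟩
    apply two_cancel hM
    rw [← hγ] at e0
    rw [mul_one]
    exact neg_injective e0
  · right; right; right
    rw [hbt, anti_axis hf hc0 hc1 hc2 hc3, ← hγ, ← ev_scalar i j k (20 : R)] at hb
    have s1 := sg_cz hf (i := i) (j := j) (k := k) a1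
    have s2 := sg_cz hf (i := i) (j := j) (k := k) a2
    have s3 := sg_cz hf (i := i) (j := j) (k := k) a3
    obtain ⟨e0, e1, -, -⟩ := ev_mul_inj hf hu (t2.mul hγz).neg (t2.mul (s1.mul hc0))
      (t2.mul (s2.mul hc0)) (t2.mul (s3.mul hc0)) (t2.mul hγz).neg (t2.mul (s1.mul hc0))
      (t2.mul (s2.mul hc0)) (t2.mul (s3.mul hc0)) (Cz.ofNat 20) Cz.zero Cz.zero Cz.zero hb
    have q1 := sg_mul_self (R := R) a1
    have q2 := sg_mul_self (R := R) a2
    have q3 := sg_mul_self (R := R) a3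
    have k1 : ∀ r : R, sg a1 * r = r * sg a1 := fun r => (sg_commute a1 r).eq
    have k2 : ∀ r : R, sg a2 * r = r * sg a2 := fun r => (sg_commute a2 r).eq
    have k3 : ∀ r : R, sg a3 * r = r * sg a3 := fun r => (sg_commute a3 r).eq
    have sq : ∀ (σ : R), σ * σ = 1 → (∀ r : R, σ * r = r * σ) →
        2 * (σ * c0) * (2 * (σ * c0)) = 4 * (c0 * c0) := by
      intro σ hσ hk
      have h4 : (4 : R) = 2 * 2 := by norm_num
      have hc : c0 * 2 = 2 * c0 := (Commute.ofNat_right c0 2).eq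
      calc 2 * (σ * c0) * (2 * (σ * c0)) = 2 * (σ * (c0 * 2)) * (σ * c0) := by noncomm_ring
        _ = 2 * (σ * (2 * c0)) * (σ * c0) := by rw [hc]
        _ = 2 * 2 * ((σ * c0) * σ) * c0 := by noncomm_ring
        _ = 2 * 2 * (σ * (σ * c0)) * c0 := by rw [← hk (σ * c0)]
        _ = 2 * 2 * ((σ * σ) * c0) * c0 := by noncomm_ring
        _ = 4 * (c0 * c0) := by rw [hσ, h4]; noncomm_ring
    constructor
    · apply four_cancel hM
      have hg : -(2 * γ) * -(2 * γ) = 4 * (γ * γ) := by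
        have h4 : (4 : R) = 2 * 2 := by norm_num
        have hc : γ * 2 = 2 * γ := (Commute.ofNat_right γ 2).eq
        calc -(2 * γ) * -(2 * γ) = 2 * (γ * 2) * γ := by noncomm_ring
          _ = 2 * (2 * γ) * γ := by rw [hc]
          _ = 4 * (γ * γ) := by rw [h4]; noncomm_ring
      rw [hg, sq _ q1 k1, sq _ q2 k2, sq _ q3 k3] at e0
      have : (4 : R) * 5 = 20 := by norm_num
      rw [this, ← e0]
      noncomm_ring
    · apply four_cancel hM
      rw [mul_zero]
      exact cross_aux (sg_eq a1) (sg_eq a2) (sg_eq a3) e1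

end frame



/-- in the zero ring everything holds -/
theorem all_eq_of_four (hM : Fpf M) (h : (4 : R) = 0) (a b : R) : a = b := by
  apply four_cancel hM; rw [h, zero_mul, zero_mul]

/-- two collinear axes have opposite signs and the two others opposite golden values -/
theorem pairing (hM : Fpf M) {u v p q : R} (hsum : u + v + p + q = 0) (hu : u = 1 ∨ u = -1)
    (hv : v = 1 ∨ v = -1) (hp : p * p = 5) (hq : q * q = 5) : v = -u ∧ q = -p := by
  have hq' : q = -(u + v) - p := by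
    have : q = (u + v + p + q) - (u + v) - p := by abel
    rw [this, hsum]; abel
  rcases hu with rfl | rfl <;> rcases hv with rfl | rfl
  · -- 1, 1
    have h4 : (4 : R) = 0 := by
      rw [hq'] at hq
      have e1 : (4 : R) * p = 4 * (-1) := by linear_combination (norm := noncomm_ring) hq - hp
      have hp1 := four_cancel hM e1
      rw [hp1] at hp
      have h15 : (1 : R) = 5 := by simpa using hp
      have : (4 : R) = 5 - 1 := by norm_num
      rw [this, ← h15, sub_self]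
    exact ⟨all_eq_of_four hM h4 _ _, all_eq_of_four hM h4 _ _⟩
  · exact ⟨rfl, by rw [hq']; abel⟩
  · exact ⟨by simp, by rw [hq']; abel⟩
  · have h4 : (4 : R) = 0 := by
      rw [hq'] at hq
      have e1 : (4 : R) * p = 4 * 1 := by linear_combination (norm := noncomm_ring) hp - hq
      have hp1 := four_cancel hM e1
      rw [hp1] at hp
      have h15 : (1 : R) = 5 := by simpa using hp
      have : (4 : R) = 5 - 1 := by norm_num
      rw [this, ← h15, sub_self]
    exact ⟨all_eq_of_four hM h4 _ _, all_eq_of_four hM h4 _ _⟩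


theorem four_of_eight (hM : Fpf M) (h : (8 : R) = 0) : (4 : R) = 0 := by
  have h2 : (2 : R) = 0 := by
    apply four_cancel hM
    rw [mul_zero]; norm_num; exact h
  have : (4 : R) = 2 * 2 := by norm_num
  rw [this, h2, mul_zero]

/-- numerical contradictions -/
theorem four_of_sum (hM : Fpf M) {n : R} (h : n = 12)
    (hn : n = 4 ∨ n = 8 ∨ n = 16 ∨ n = 20) : (4 : R) = 0 := by
  rcases hn with rfl | rfl | rfl | rfl
  · apply four_of_eight hM
    have : (8 : R) = 12 - 4 := by norm_num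
    rw [this, ← h, sub_self]
  · have : (4 : R) = 12 - 8 := by norm_num
    rw [this, ← h, sub_self]
  · have : (4 : R) = 16 - 12 := by norm_num
    rw [this, h, sub_self]
  · apply four_of_eight hM
    have : (8 : R) = 20 - 12 := by norm_num
    rw [this, h, sub_self]

theorem sq_pm {g : R} (h : g = 1 ∨ g = -1) : g * g = 1 := by
  rcases h with rfl | rfl <;> simp

theorem triv_gold (hM : Fpf M) (h4 : (4 : R) = 0) (i j k s : R) :
    ∃ ϑ : R, Cz i j k ϑ ∧ ϑ * ϑ = 5 ∧ IsGold i j k ϑ s :=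
  ⟨0, Cz.zero, all_eq_of_four hM h4 _ _, true, true, Or.inl (all_eq_of_four hM h4 _ _)⟩

theorem gold_p0 {i j k c1 c2 c3 ϑ : R} (s1 s2 : Bool) (h1 : 2 * c1 = 0)
    (h2 : 2 * c2 = sg s1 * (1 + ϑ)) (h3 : 2 * c3 = sg s2 * (1 - ϑ)) :
    IsGold i j k ϑ (ev i j k 0 c1 c2 c3) := by
  refine ⟨s1, s2, Or.inl ?_⟩
  unfold G0 ev
  rw [← h2, ← h3]
  have : 2 * (0 + c1 * i + c2 * j + c3 * k) = (2 * c1) * i + 2 * c2 * j + 2 * c3 * k := by
    noncomm_ring
  rw [this, h1, zero_mul, zero_add]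

theorem gold_p1 {i j k c1 c2 c3 ϑ : R} (s1 s2 : Bool) (h2 : 2 * c2 = 0)
    (h3 : 2 * c3 = sg s1 * (1 + ϑ)) (h1 : 2 * c1 = sg s2 * (1 - ϑ)) :
    IsGold i j k ϑ (ev i j k 0 c1 c2 c3) := by
  refine ⟨s1, s2, Or.inr (Or.inl ?_)⟩
  unfold G0 ev
  rw [← h1, ← h3]
  have : 2 * (0 + c1 * i + c2 * j + c3 * k) = 2 * c3 * k + 2 * c1 * i + (2 * c2) * j := by
    noncomm_ring
  rw [this, h2, zero_mul, add_zero]

theorem gold_p2 {i j k c1 c2 c3 ϑ : R} (s1 s2 : Bool) (h3 : 2 * c3 = 0)
    (h1 : 2 * c1 = sg s1 * (1 + ϑ)) (h2 : 2 * c2 = sg s2 * (1 - ϑ)) :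
    IsGold i j k ϑ (ev i j k 0 c1 c2 c3) := by
  refine ⟨s1, s2, Or.inr (Or.inr ?_)⟩
  unfold G0 ev
  rw [← h1, ← h2]
  have : 2 * (0 + c1 * i + c2 * j + c3 * k) = 2 * c1 * i + 2 * c2 * j + (2 * c3) * k := by
    noncomm_ring
  rw [this, h3, zero_mul, add_zero]


/-- Case 1 of Theorem A: exactly two collinear axes, golden coordinates -/
theorem case1_core (hM : Fpf M) {i j k c1 c2 c3 g0 g1 g2 g3 : R}
    (hz0 : Cz i j k g0) (hz1 : Cz i j k g1) (hz2 : Cz i j k g2) (hz3 : Cz i j k g3)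
    (k1 : 2 * c1 = g0 + g1) (k2 : 2 * c2 = g0 + g2) (k3 : 2 * c3 = g0 + g3)
    (hsum : g0 + g1 + g2 + g3 = 0)
    (hsq : g0 * g0 + g1 * g1 + g2 * g2 + g3 * g3 = 12)
    (a0 : (g0 = 1 ∨ g0 = -1) ∨ g0 * g0 = 5) (a1 : (g1 = 1 ∨ g1 = -1) ∨ g1 * g1 = 5)
    (a2 : (g2 = 1 ∨ g2 = -1) ∨ g2 * g2 = 5) (a3 : (g3 = 1 ∨ g3 = -1) ∨ g3 * g3 = 5) :
    ∃ ϑ : R, Cz i j k ϑ ∧ ϑ * ϑ = 5 ∧ IsGold i j k ϑ (ev i j k 0 c1 c2 c3) := by
  have triv : ∀ n : R, g0 * g0 + g1 * g1 + g2 * g2 + g3 * g3 = n →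
      (n = 4 ∨ n = 8 ∨ n = 16 ∨ n = 20) →
      ∃ ϑ : R, Cz i j k ϑ ∧ ϑ * ϑ = 5 ∧ IsGold i j k ϑ (ev i j k 0 c1 c2 c3) := by
    intro n hn hcase
    exact triv_gold hM (four_of_sum hM (hn.symm.trans hsq) hcase) _ _ _ _
  rcases a0 with h0 | h0 <;> rcases a1 with h1 | h1 <;> rcases a2 with h2 | h2 <;>
    rcases a3 with h3 | h3
  · exact triv 4 (by rw [sq_pm h0, sq_pm h1, sq_pm h2, sq_pm h3]; norm_num) (Or.inl rfl)
  · exact triv 8 (by rw [sq_pm h0, sq_pm h1, sq_pm h2, h3]; norm_num) (Or.inr (Or.inl rfl))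
  · exact triv 8 (by rw [sq_pm h0, sq_pm h1, h2, sq_pm h3]; norm_num) (Or.inr (Or.inl rfl))
  · obtain ⟨hb, hq⟩ := pairing hM (u := g0) (v := g1) (p := g2) (q := g3)
      (by first | exact hsum | (rw [← hsum]; abel)) h0 h1 h2 h3
    rcases h0 with ha | ha
    · exact ⟨g2, hz2, h2, gold_p0 true true
        (by rw [k1]; rw [ha] at hb; simp only [ha, hb, hq]; first | (simp [sg]; done) | (simp [sg]; abel) | abel)
        (by rw [k2]; rw [ha] at hb; simp only [ha, hb, hq]; first | (simp [sg]; done) | (simp [sg]; abel) | abel)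
        (by rw [k3]; rw [ha] at hb; simp only [ha, hb, hq]; first | (simp [sg]; done) | (simp [sg]; abel) | abel)⟩
    · exact ⟨-g2, hz2.neg, (by rw [neg_mul_neg]; exact h2), gold_p0 false false
        (by rw [k1]; rw [ha] at hb; simp only [ha, hb, hq]; first | (simp [sg]; done) | (simp [sg]; abel) | abel)
        (by rw [k2]; rw [ha] at hb; simp only [ha, hb, hq]; first | (simp [sg]; done) | (simp [sg]; abel) | abel)
        (by rw [k3]; rw [ha] at hb; simp only [ha, hb, hq]; first | (simp [sg]; done) | (simp [sg]; abel) | abel)⟩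
  · exact triv 8 (by rw [sq_pm h0, h1, sq_pm h2, sq_pm h3]; norm_num) (Or.inr (Or.inl rfl))
  · obtain ⟨hb, hq⟩ := pairing hM (u := g0) (v := g2) (p := g1) (q := g3)
      (by first | exact hsum | (rw [← hsum]; abel)) h0 h2 h1 h3
    rcases h0 with ha | ha
    · exact ⟨-g1, hz1.neg, (by rw [neg_mul_neg]; exact h1), gold_p1 true true
        (by rw [k2]; rw [ha] at hb; simp only [ha, hb, hq]; first | (simp [sg]; done) | (simp [sg]; abel) | abel)
        (by rw [k3]; rw [ha] at hb; simp only [ha, hb, hq]; first | (simp [sg]; done) | (simp [sg]; abel) | abel)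
        (by rw [k1]; rw [ha] at hb; simp only [ha, hb, hq]; first | (simp [sg]; done) | (simp [sg]; abel) | abel)⟩
    · exact ⟨g1, hz1, h1, gold_p1 false false
        (by rw [k2]; rw [ha] at hb; simp only [ha, hb, hq]; first | (simp [sg]; done) | (simp [sg]; abel) | abel)
        (by rw [k3]; rw [ha] at hb; simp only [ha, hb, hq]; first | (simp [sg]; done) | (simp [sg]; abel) | abel)
        (by rw [k1]; rw [ha] at hb; simp only [ha, hb, hq]; first | (simp [sg]; done) | (simp [sg]; abel) | abel)⟩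
  · obtain ⟨hb, hq⟩ := pairing hM (u := g0) (v := g3) (p := g1) (q := g2)
      (by first | exact hsum | (rw [← hsum]; abel)) h0 h3 h1 h2
    rcases h0 with ha | ha
    · exact ⟨g1, hz1, h1, gold_p2 true true
        (by rw [k3]; rw [ha] at hb; simp only [ha, hb, hq]; first | (simp [sg]; done) | (simp [sg]; abel) | abel)
        (by rw [k1]; rw [ha] at hb; simp only [ha, hb, hq]; first | (simp [sg]; done) | (simp [sg]; abel) | abel)
        (by rw [k2]; rw [ha] at hb; simp only [ha, hb, hq]; first | (simp [sg]; done) | (simp [sg]; abel) | abel)⟩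
    · exact ⟨-g1, hz1.neg, (by rw [neg_mul_neg]; exact h1), gold_p2 false false
        (by rw [k3]; rw [ha] at hb; simp only [ha, hb, hq]; first | (simp [sg]; done) | (simp [sg]; abel) | abel)
        (by rw [k1]; rw [ha] at hb; simp only [ha, hb, hq]; first | (simp [sg]; done) | (simp [sg]; abel) | abel)
        (by rw [k2]; rw [ha] at hb; simp only [ha, hb, hq]; first | (simp [sg]; done) | (simp [sg]; abel) | abel)⟩
  · exact triv 16 (by rw [sq_pm h0, h1, h2, h3]; norm_num) (Or.inr (Or.inr (Or.inl rfl)))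
  · exact triv 8 (by rw [h0, sq_pm h1, sq_pm h2, sq_pm h3]; norm_num) (Or.inr (Or.inl rfl))
  · obtain ⟨hb, hq⟩ := pairing hM (u := g1) (v := g2) (p := g0) (q := g3)
      (by first | exact hsum | (rw [← hsum]; abel)) h1 h2 h0 h3
    rcases h1 with ha | ha
    · exact ⟨g0, hz0, h0, gold_p2 true false
        (by rw [k3]; rw [ha] at hb; simp only [ha, hb, hq]; first | (simp [sg]; done) | (simp [sg]; abel) | abel)
        (by rw [k1]; rw [ha] at hb; simp only [ha, hb, hq]; first | (simp [sg]; done) | (simp [sg]; abel) | abel)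
        (by rw [k2]; rw [ha] at hb; simp only [ha, hb, hq]; first | (simp [sg]; done) | (simp [sg]; abel) | abel)⟩
    · exact ⟨-g0, hz0.neg, (by rw [neg_mul_neg]; exact h0), gold_p2 false true
        (by rw [k3]; rw [ha] at hb; simp only [ha, hb, hq]; first | (simp [sg]; done) | (simp [sg]; abel) | abel)
        (by rw [k1]; rw [ha] at hb; simp only [ha, hb, hq]; first | (simp [sg]; done) | (simp [sg]; abel) | abel)
        (by rw [k2]; rw [ha] at hb; simp only [ha, hb, hq]; first | (simp [sg]; done) | (simp [sg]; abel) | abel)⟩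
  · obtain ⟨hb, hq⟩ := pairing hM (u := g1) (v := g3) (p := g0) (q := g2)
      (by first | exact hsum | (rw [← hsum]; abel)) h1 h3 h0 h2
    rcases h1 with ha | ha
    · exact ⟨-g0, hz0.neg, (by rw [neg_mul_neg]; exact h0), gold_p1 false true
        (by rw [k2]; rw [ha] at hb; simp only [ha, hb, hq]; first | (simp [sg]; done) | (simp [sg]; abel) | abel)
        (by rw [k3]; rw [ha] at hb; simp only [ha, hb, hq]; first | (simp [sg]; done) | (simp [sg]; abel) | abel)
        (by rw [k1]; rw [ha] at hb; simp only [ha, hb, hq]; first | (simp [sg]; done) | (simp [sg]; abel) | abel)⟩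
    · exact ⟨g0, hz0, h0, gold_p1 true false
        (by rw [k2]; rw [ha] at hb; simp only [ha, hb, hq]; first | (simp [sg]; done) | (simp [sg]; abel) | abel)
        (by rw [k3]; rw [ha] at hb; simp only [ha, hb, hq]; first | (simp [sg]; done) | (simp [sg]; abel) | abel)
        (by rw [k1]; rw [ha] at hb; simp only [ha, hb, hq]; first | (simp [sg]; done) | (simp [sg]; abel) | abel)⟩
  · exact triv 16 (by rw [h0, sq_pm h1, h2, h3]; norm_num) (Or.inr (Or.inr (Or.inl rfl)))
  · obtain ⟨hb, hq⟩ := pairing hM (u := g2) (v := g3) (p := g0) (q := g1)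
      (by first | exact hsum | (rw [← hsum]; abel)) h2 h3 h0 h1
    rcases h2 with ha | ha
    · exact ⟨g0, hz0, h0, gold_p0 true false
        (by rw [k1]; rw [ha] at hb; simp only [ha, hb, hq]; first | (simp [sg]; done) | (simp [sg]; abel) | abel)
        (by rw [k2]; rw [ha] at hb; simp only [ha, hb, hq]; first | (simp [sg]; done) | (simp [sg]; abel) | abel)
        (by rw [k3]; rw [ha] at hb; simp only [ha, hb, hq]; first | (simp [sg]; done) | (simp [sg]; abel) | abel)⟩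
    · exact ⟨-g0, hz0.neg, (by rw [neg_mul_neg]; exact h0), gold_p0 false true
        (by rw [k1]; rw [ha] at hb; simp only [ha, hb, hq]; first | (simp [sg]; done) | (simp [sg]; abel) | abel)
        (by rw [k2]; rw [ha] at hb; simp only [ha, hb, hq]; first | (simp [sg]; done) | (simp [sg]; abel) | abel)
        (by rw [k3]; rw [ha] at hb; simp only [ha, hb, hq]; first | (simp [sg]; done) | (simp [sg]; abel) | abel)⟩
  · exact triv 16 (by rw [h0, h1, sq_pm h2, h3]; norm_num) (Or.inr (Or.inr (Or.inl rfl)))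
  · exact triv 16 (by rw [h0, h1, h2, sq_pm h3]; norm_num) (Or.inr (Or.inr (Or.inl rfl)))
  · exact triv 20 (by rw [h0, h1, h2, h3]; norm_num) (Or.inr (Or.inr (Or.inr rfl)))



/-- Case 2 of Theorem A, the algebra: all four axes of type five -/
theorem case2_alg (hM : Fpf M) {c0 c1 c2 c3 : R}
    (E0 : c0 * c0 - c1 * c1 - c2 * c2 - c3 * c3 = -3)
    (E1 : c0 * c1 + c1 * c0 + c2 * c3 - c3 * c2 = 0)
    (E2 : c0 * c2 + c2 * c0 + c3 * c1 - c1 * c3 = 0)
    (E3 : c0 * c3 + c3 * c0 + c1 * c2 - c2 * c1 = 0)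
    (t0 : T5 c0 (c1 + c2 + c3)) (t1 : T5 c0 (c1 - c2 - c3)) (t2 : T5 c0 (-c1 + c2 - c3))
    (t3 : T5 c0 (-c1 - c2 + c3)) :
    c0 * c0 = -1 ∧ (c0 * c1 + c1 * c0 = 0 ∧ c0 * c2 + c2 * c0 = 0 ∧ c0 * c3 + c3 * c0 = 0) ∧
    (c1 * c2 = 0 ∧ c2 * c1 = 0 ∧ c1 * c3 = 0 ∧ c3 * c1 = 0 ∧ c2 * c3 = 0 ∧ c3 * c2 = 0) ∧
    c1 * c1 + c2 * c2 + c3 * c3 = 2 := by
  obtain ⟨t0a, t0b⟩ := t0
  obtain ⟨t1a, t1b⟩ := t1
  obtain ⟨t2a, t2b⟩ := t2
  obtain ⟨t3a, t3b⟩ := t3
  have h00 : c0 * c0 = -1 := by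
    apply two_cancel hM; apply four_cancel hM
    linear_combination (norm := (noncomm_ring <;> norm_num)) (-1 : R) * t0a - t1a - t2a - t3a - 4 * E0
  have a1 : c0 * c1 + c1 * c0 = 0 := by
    apply two_cancel hM
    linear_combination (norm := noncomm_ring) t0b + t1b
  have a2 : c0 * c2 + c2 * c0 = 0 := by
    apply two_cancel hM
    linear_combination (norm := noncomm_ring) t0b + t2b
  have a3 : c0 * c3 + c3 * c0 = 0 := by
    apply two_cancel hM
    linear_combination (norm := noncomm_ring) t0b + t3b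
  have k23 : c2 * c3 = c3 * c2 := by
    linear_combination (norm := noncomm_ring) E1 - a1
  have k31 : c3 * c1 = c1 * c3 := by
    linear_combination (norm := noncomm_ring) E2 - a2
  have k12 : c1 * c2 = c2 * c1 := by
    linear_combination (norm := noncomm_ring) E3 - a3
  have p12 : c1 * c2 = 0 := by
    apply two_cancel hM; apply four_cancel hM
    linear_combination (norm := noncomm_ring) t0a - t1a - t2a + t3a + 4 * k12
  have p13 : c1 * c3 = 0 := by
    apply two_cancel hM; apply four_cancel hM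
    linear_combination (norm := noncomm_ring) t0a - t1a + t2a - t3a - 4 * k31
  have p23 : c2 * c3 = 0 := by
    apply two_cancel hM; apply four_cancel hM
    linear_combination (norm := noncomm_ring) t0a - t2a + t1a - t3a + 4 * k23
  refine ⟨h00, ⟨a1, a2, a3⟩, ⟨p12, ?_, p13, ?_, p23, ?_⟩, ?_⟩
  · rw [← k12]; exact p12
  · rw [k31]; exact p13
  · rw [← k23]; exact p23
  · linear_combination (norm := (noncomm_ring <;> norm_num)) h00 - E0


/-- Case 2 of Theorem A: the conjugate by a frame element -/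
theorem case2_pos (hM : Fpf M) (hN : N1B M) {i j k : R} (hf : Frame i j k) (hi : i ∈ M)
    {w : R} (hw : IsX M w) {c0 c1 c2 c3 : R} (hc0 : Cz i j k c0) (hc1 : Cz i j k c1)
    (hc2 : Cz i j k c2) (hc3 : Cz i j k c3) (hs : sv w = ev i j k c0 c1 c2 c3)
    (h00 : c0 * c0 = -1) (a1 : c0 * c1 + c1 * c0 = 0) (k23 : c2 * c3 = c3 * c2)
    (hS : c1 * c1 + c2 * c2 + c3 * c3 = 2) (p12 : c1 * c2 = 0) (p13 : c1 * c3 = 0) :
    (c1 * c1 = 2 ∧ c2 = 0 ∧ c3 = 0) ∨ c1 * c1 = 0 ∨ (4 : R) = 0 := by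
  have hni := neg_mem hf hi hi
  have hw' : IsX M (i * w * (-i)) := hw.conj hi hni (i_inv hf).2 (i_inv hf).1
  have hs' : sv (i * w * (-i)) = ev i j k c0 c1 (-c2) (-c3) := by
    rw [IsX.sv_conj w (i_inv hf).1, hs, conj_i_ev hf hc0 hc1 hc2 hc3]
  have hbt : bt w (i * w * (-i)) = 2 - 4 * (c1 * c1) := by
    unfold bt
    rw [hs', hs, ev_mul hf hc0 hc1 hc2.neg hc3.neg, ev_mul hf hc0 hc1 hc2 hc3, ev_add,
      ← ev_scalar i j k (2 - 4 * (c1 * c1))]
    congr 1
    · linear_combination (norm := (noncomm_ring <;> norm_num)) 2 * h00 + 2 * hS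
    · linear_combination (norm := noncomm_ring) 2 * a1 - 2 * k23
    · noncomm_ring
    · noncomm_ring
  have huu : (c1 * c1) * (c1 * c1) = 2 * (c1 * c1) := by
    linear_combination (norm := noncomm_ring) (c1 * c1) * hS - c1 * p12 * c2 - c1 * p13 * c3
  have triv1 : c1 * c1 = 1 → (4 : R) = 0 := by
    intro h1
    rw [h1] at huu
    have h12 : (1 : R) = 2 := by simpa using huu
    have h10 : (1 : R) = 0 := by
      have : (1 : R) = 2 - 1 := by norm_num
      rw [this, ← h12, sub_self]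
    have : (4 : R) = 4 * 1 := by norm_num
    rw [this, h10, mul_zero]
  rcases hN w _ hw hw' with ⟨hb, heq⟩ | ⟨hb, -⟩ | hb | hb | ⟨hb, -⟩
  · left
    rw [hbt] at hb
    refine ⟨?_, ?_, ?_⟩
    · apply four_cancel hM
      linear_combination (norm := (noncomm_ring <;> norm_num)) (-1 : R) * hb
    · have := congrArg sv heq
      rw [hs', hs] at this
      obtain ⟨-, -, e2, -⟩ := ev_inj hf hM.u2 hc0 hc1 hc2.neg hc3.neg hc0 hc1 hc2 hc3 this
      apply two_cancel hM
      linear_combination (norm := noncomm_ring) (-1 : R) * e2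
    · have := congrArg sv heq
      rw [hs', hs] at this
      obtain ⟨-, -, -, e3⟩ := ev_inj hf hM.u2 hc0 hc1 hc2.neg hc3.neg hc0 hc1 hc2 hc3 this
      apply two_cancel hM
      linear_combination (norm := noncomm_ring) (-1 : R) * e3
  · right; right
    rw [hbt] at hb
    have hu1 : c1 * c1 = -1 := by
      apply four_cancel hM
      linear_combination (norm := (noncomm_ring <;> norm_num)) (-1 : R) * hb
    rw [hu1] at huu
    have h3 : (3 : R) = 0 := by
      have : (3 : R) = (-1) * (-1) - 2 * (-1) := by norm_num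
      rw [this, huu, sub_self]
    apply three_cancel hM
    rw [h3, zero_mul, zero_mul]
  · right; left
    rw [hbt] at hb
    apply four_cancel hM
    linear_combination (norm := (noncomm_ring <;> norm_num)) (-1 : R) * hb
  · right; right
    rw [hbt] at hb
    apply triv1
    apply four_cancel hM
    linear_combination (norm := (noncomm_ring <;> norm_num)) (-1 : R) * hb
  · right; right
    rw [hbt] at hb
    apply triv1
    apply four_cancel hM; apply four_cancel hM
    linear_combination (norm := (noncomm_ring <;> norm_num)) hb - 16 * huu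


theorem ev_sub_one (i j k c0 c1 c2 c3 : R) :
    ev i j k c0 c1 c2 c3 - 1 = ev i j k (c0 - 1) c1 c2 c3 := by
  unfold ev; abel

/-- Case 2 of Theorem A: the final contradiction -/
theorem case2_final (hM : Fpf M) {i j k : R} (hf : Frame i j k) (hi : i ∈ M) (hj : j ∈ M)
    {w : R} (hw : IsX M w) {c0 c1 : R} (hc0 : Cz i j k c0) (hc1 : Cz i j k c1)
    (hs : sv w = ev i j k c0 c1 0 0)
    (h00 : c0 * c0 = -1) (h11 : c1 * c1 = 2) (a1 : c0 * c1 + c1 * c0 = 0) : (4 : R) = 0 := by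
  have hnj := neg_mem hf hi hj
  have hw' : IsX M (j * w * (-j)) := hw.conj hj hnj (j_inv hf).2 (j_inv hf).1
  have hs' : sv (j * w * (-j)) = ev i j k c0 (-c1) 0 0 := by
    rw [IsX.sv_conj w (j_inv hf).1, hs, conj_j_ev hf hc0 hc1 Cz.zero Cz.zero, neg_zero]
  set v := (j * w * (-j)) * (j * w * (-j)) with hv
  have hvX : IsX M v := hw'.inv
  have hsv : sv v = ev i j k (-c0) c1 0 0 := by
    rw [hv, hw'.sv_inv, hs', ev_neg, neg_neg, neg_zero]
  set h := w * v with hh
  have hhM : h ∈ M := M.mul_mem hw.1 hvX.1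
  set e := (c0 - 1) * c1 with he
  have hez : Cz i j k e := (hc0.sub Cz.one).mul hc1
  -- 4 h = (sv w - 1)(sv v - 1)
  have h4 : 4 * h = (sv w - 1) * (sv v - 1) := by
    unfold sv
    have hc : w * 2 = 2 * w := (Commute.ofNat_right w 2).eq
    have e4 : (4 : R) = 2 * 2 := by norm_num
    calc 4 * h = 2 * (2 * w) * v := by rw [hh, e4]; noncomm_ring
      _ = 2 * (w * 2) * v := by rw [hc]
      _ = (2 * w + 1 - 1) * (2 * v + 1 - 1) := by noncomm_ring
  have h2 : 2 * h = e * i := by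
    apply two_cancel hM
    have : 2 * (2 * h) = 4 * h := by rw [← mul_assoc]; norm_num
    rw [this, h4, hs, hsv, ev_sub_one, ev_sub_one,
      ev_mul hf (hc0.neg.sub Cz.one) hc1 Cz.zero Cz.zero]
    have : 2 * (e * i) = ev i j k 0 (2 * e) 0 0 := by unfold ev; noncomm_ring
    rw [this]
    congr 1
    · linear_combination (norm := (noncomm_ring <;> norm_num)) (-1 : R) * h00 - h11
    · rw [he]; linear_combination (norm := noncomm_ring) (-1 : R) * a1
    · noncomm_ring
    · noncomm_ring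
  have hee : e * e = 4 := by
    rw [he]
    linear_combination (norm := (noncomm_ring <;> norm_num))
      (c0 - 1) * a1 * c1 - (c0 - 1) * c0 * h11 - (c0 - 1) * h11 - 2 * h00
  -- h commutes with i
  have hcomm : i * h = h * i := by
    apply two_cancel hM
    have c2 : ∀ t : R, 2 * (i * t) = i * (2 * t) := by
      intro t; rw [← mul_assoc, ← mul_assoc, (Commute.ofNat_left 2 i).eq]
    rw [c2, h2, ← mul_assoc 2 h i, h2, ← mul_assoc, ← hez.1.eq]
  have hhh : h * h = -1 := by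
    apply four_cancel hM
    have : 4 * (h * h) = (2 * h) * (2 * h) := by
      have e4 : (4 : R) = 2 * 2 := by norm_num
      have hc : h * 2 = 2 * h := (Commute.ofNat_right h 2).eq
      calc 4 * (h * h) = 2 * (2 * h) * h := by rw [e4]; noncomm_ring
        _ = 2 * (h * 2) * h := by rw [hc]
        _ = (2 * h) * (2 * h) := by noncomm_ring
    rw [this, h2]
    calc e * i * (e * i) = e * (i * e) * i := by noncomm_ring
      _ = e * (e * i) * i := by rw [← hez.1.eq]
      _ = (e * e) * (i * i) := by noncomm_ring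
      _ = 4 * -1 := by rw [hee, hf.ii]
  have hhi : (h * i) * (h * i) = 1 := by
    calc (h * i) * (h * i) = h * (i * h) * i := by noncomm_ring
      _ = h * (h * i) * i := by rw [hcomm]
      _ = (h * h) * (i * i) := by noncomm_ring
      _ = 1 := by rw [hhh, hf.ii]; simp
  have hhi2 : 2 * (h * i) = -e := by
    rw [← mul_assoc, h2, mul_assoc, hf.ii]; simp
  have he2 : e = 2 ∨ e = -2 := by
    rcases hM.sq_eq_one (M.mul_mem hhM hi) hhi with h1 | h1
    · right; rw [h1] at hhi2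
      have := neg_eq_iff_eq_neg.mp hhi2.symm
      rw [this]; simp
    · left; rw [h1] at hhi2
      have : e = -(2 * (-1 : R)) := by rw [hhi2, neg_neg]
      rw [this]; simp
  -- e c1 = 2 (c0 - 1)
  have hec : e * c1 = 2 * (c0 - 1) := by
    rw [he, mul_assoc, h11, (Commute.ofNat_right (c0 - 1) 2).eq]
  have hfin : ∀ σ : R, (σ = 1 ∨ σ = -1) → e = 2 * σ → (4 : R) = 0 := by
    intro σ hσ heσ
    have h1 : c0 - 1 = σ * c1 := by
      apply two_cancel hM
      rw [← hec, heσ, mul_assoc]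
    have hσσ : σ * σ = 1 := by rcases hσ with rfl | rfl <;> simp
    have hσc : ∀ t : R, σ * t = t * σ := by
      intro t; rcases hσ with rfl | rfl <;> simp
    have h3 : (c0 - 1) * (c0 - 1) = 2 := by
      rw [h1]
      calc σ * c1 * (σ * c1) = σ * (c1 * σ) * c1 := by noncomm_ring
        _ = σ * (σ * c1) * c1 := by rw [← hσc c1]
        _ = (σ * σ) * (c1 * c1) := by noncomm_ring
        _ = 2 := by rw [hσσ, h11, one_mul]
    have h5 : c0 = -1 := by
      apply two_cancel hM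
      linear_combination (norm := (noncomm_ring <;> norm_num)) (-1 : R) * h3 + h00
    rw [h5] at h00
    have h20 : (2 : R) = 0 := by
      have : (2 : R) = (-1) * (-1) - (-1) := by norm_num
      rw [this, h00, sub_self]
    have : (4 : R) = 2 * 2 := by norm_num
    rw [this, h20, mul_zero]
  rcases he2 with h | h
  · exact hfin 1 (Or.inl rfl) (by rw [h, mul_one])
  · exact hfin (-1) (Or.inr rfl) (by rw [h]; simp)


theorem neg_lform (i j k : R) (a b c : Bool) :
    -lform i j k a b c = lform i j k (!a) (!b) (!c) := by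
  unfold lform
  cases a <;> cases b <;> cases c <;> simp [sg] <;> abel

/-- **Theorem A.** -/
theorem thmA (hM : Fpf M) (hN : N1B M) {i j k : R} (hf : Frame i j k) (hi : i ∈ M) (hj : j ∈ M)
    {x0 : R} (hx0 : x0 ∈ M) (h2x0 : 2 * x0 = -1 + i + j + k) {w : R} (hw : IsX M w) :
    (∃ e1 e2 e3 : Bool, sv w = lform i j k e1 e2 e3) ∨
      ∃ ϑ : R, Cz i j k ϑ ∧ ϑ * ϑ = 5 ∧ IsGold i j k ϑ (sv w) := by
  have hu := hM.u2
  have hk := k_mem hf hi hj
  obtain ⟨c0, c1, c2, c3, hc0, hc1, hc2, hc3, hs⟩ := exists_coords hf hu (sv w)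
  -- the square
  have hsq := hw.sv_sq
  rw [hs, ← ev_scalar i j k (-3 : R)] at hsq
  obtain ⟨E0, E1, E2, E3⟩ := ev_mul_inj hf hu hc0 hc1 hc2 hc3 hc0 hc1 hc2 hc3
    (Cz.ofNat 3).neg Cz.zero Cz.zero Cz.zero hsq
  -- the four axes
  obtain ⟨y0, hY0, hy0⟩ := exists_axis hf hM hi hj hx0 h2x0 true true true
  obtain ⟨y1, hY1, hy1⟩ := exists_axis hf hM hi hj hx0 h2x0 true false false
  obtain ⟨y2, hY2, hy2⟩ := exists_axis hf hM hi hj hx0 h2x0 false true false
  obtain ⟨y3, hY3, hy3⟩ := exists_axis hf hM hi hj hx0 h2x0 false false true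
  have A0 := axis_alt hf hM hN hw true true true hY0 hy0 hc0 hc1 hc2 hc3 hs
    (γ := c1 + c2 + c3) (by simp [sg])
  have A1 := axis_alt hf hM hN hw true false false hY1 hy1 hc0 hc1 hc2 hc3 hs
    (γ := c1 - c2 - c3) (by simp [sg]; abel)
  have A2 := axis_alt hf hM hN hw false true false hY2 hy2 hc0 hc1 hc2 hc3 hs
    (γ := -c1 + c2 - c3) (by simp [sg]; abel)
  have A3 := axis_alt hf hM hN hw false false true hY3 hy3 hc0 hc1 hc2 hc3 hs
    (γ := -c1 - c2 + c3) (by simp [sg]; abel)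
  -- dispose of the frame-group cases
  have inL : ∀ a b c : Bool, (sv w = lform i j k a b c ∨ sv w = -lform i j k a b c) →
      ∃ e1 e2 e3 : Bool, sv w = lform i j k e1 e2 e3 := by
    intro a b c h
    rcases h with h | h
    · exact ⟨a, b, c, h⟩
    · exact ⟨!a, !b, !c, by rw [h, neg_lform]⟩
  rcases A0 with h | h | A0
  · exact Or.inl (inL _ _ _ (Or.inl h))
  · exact Or.inl (inL _ _ _ (Or.inr h))
  rcases A1 with h | h | A1
  · exact Or.inl (inL _ _ _ (Or.inl h))
  · exact Or.inl (inL _ _ _ (Or.inr h))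
  rcases A2 with h | h | A2
  · exact Or.inl (inL _ _ _ (Or.inl h))
  · exact Or.inl (inL _ _ _ (Or.inr h))
  rcases A3 with h | h | A3
  · exact Or.inl (inL _ _ _ (Or.inl h))
  · exact Or.inl (inL _ _ _ (Or.inr h))
  right
  -- Case 1: some axis is collinear
  have case1 : c0 = 0 → ∃ ϑ : R, Cz i j k ϑ ∧ ϑ * ϑ = 5 ∧ IsGold i j k ϑ (sv w) := by
    intro h0
    have conv : ∀ g : R, T3 c0 g ∨ T5 c0 g → (g = 1 ∨ g = -1) ∨ g * g = 5 := by
      intro g h
      rcases h with h | h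
      · exact Or.inl h.2
      · right
        have := h.1
        rw [h0] at this
        simpa using this
    rw [hs, h0]
    rw [h0] at E0
    exact case1_core hM ((hc1.add hc2).add hc3) ((hc1.sub hc2).sub hc3)
      ((hc1.neg.add hc2).sub hc3) ((hc1.neg.sub hc2).add hc3)
      (by noncomm_ring) (by noncomm_ring) (by noncomm_ring) (by abel)
      (by linear_combination (norm := (noncomm_ring <;> norm_num)) (-4 : R) * E0)
      (conv _ A0) (conv _ A1) (conv _ A2) (conv _ A3)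
  rcases A0 with A0 | A0
  · exact case1 A0.1
  rcases A1 with A1 | A1
  · exact case1 A1.1
  rcases A2 with A2 | A2
  · exact case1 A2.1
  rcases A3 with A3 | A3
  · exact case1 A3.1
  -- Case 2: all four axes of type five
  obtain ⟨h00, ⟨a1, a2, a3⟩, ⟨p12, p21, p13, p31, p23, p32⟩, hS⟩ :=
    case2_alg hM E0 E1 E2 E3 A0 A1 A2 A3
  have fin : (4 : R) = 0 → ∃ ϑ : R, Cz i j k ϑ ∧ ϑ * ϑ = 5 ∧ IsGold i j k ϑ (sv w) :=
    fun h4 => triv_gold hM h4 _ _ _ _
  have P1 := case2_pos hM hN hf hi hw hc0 hc1 hc2 hc3 hs h00 a1 (by rw [p23, p32]) hS p12 p13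
  have P2 := case2_pos hM hN (frame_rot hf) hj hw hc0.rot hc2.rot hc3.rot hc1.rot
    (by rw [hs, ev_rot]) h00 a2 (by rw [p31, p13])
    (by rw [← hS]; abel) p23 p21
  have P3 := case2_pos hM hN (frame_rot (frame_rot hf)) hk hw hc0.rot.rot hc3.rot.rot
    hc1.rot.rot hc2.rot.rot (by rw [hs, ev_rot, ev_rot]) h00 a3 (by rw [p12, p21])
    (by rw [← hS]; abel) p31 p32
  rcases P1 with ⟨h11, h2z, h3z⟩ | P1 | h4
  · apply fin
    exact case2_final hM hf hi hj hw hc0 hc1 (by rw [hs, h2z, h3z]) h00 h11 a1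
  rcases P2 with ⟨h22, h3z, h1z⟩ | P2 | h4
  · apply fin
    exact case2_final hM (frame_rot hf) hj hk hw hc0.rot hc2.rot
      (by rw [hs, ev_rot, h3z, h1z]) h00 h22 a2
  rcases P3 with ⟨h33, h1z, h2z⟩ | P3 | h4
  · apply fin
    exact case2_final hM (frame_rot (frame_rot hf)) hk hi hw hc0.rot.rot hc3.rot.rot
      (by rw [hs, ev_rot, ev_rot, h1z, h2z]) h00 h33 a3
  · apply fin
    rw [P1, P2, P3] at hS
    have h20 : (2 : R) = 0 := by rw [← hS]; simp
    have : (4 : R) = 2 * 2 := by norm_num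
    rw [this, h20, mul_zero]
  · exact fin h4
  · exact fin h4
  · exact fin h4

end Cfsg.Agent.Helper4.Zass
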