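import Mathlib
import Cfsg.Agent.Lib.Helper4.ZassD
import Cfsg.Agent.Lib.Helper19.ZassN1B

/-!
Zassenhaus development: the bridge between a finite subgroup `H` of the unit group of a ring
and the ring-level setting `Fpf M`; the twenty candidates for the elements of order three.
-/

set_option autoImplicit false
set_option linter.unusedSimpArgs false
set_option linter.unusedSectionVars false
set_option linter.unusedVariables false

namespace Cfsg.Agent.Helper4.Zass

open Cfsg.Agent.Lead.IcosAlg

variable {R : Type*} [Ring R]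

/-- the image of a subgroup of the unit group in the ring -/
def toM (H : Subgroup Rˣ) : Submonoid R := H.toSubmonoid.map (Units.coeHom R)

theorem mem_toM {H : Subgroup Rˣ} {r : R} : r ∈ toM H ↔ ∃ g ∈ H, ((g : Rˣ) : R) = r := by
  unfold toM
  rw [Submonoid.mem_map]
  constructor
  · rintro ⟨g, hg, rfl⟩; exact ⟨g, hg, rfl⟩
  · rintro ⟨g, hg, rfl⟩; exact ⟨g, hg, rfl⟩

/-- the ring element of a group element -/
def rv {H : Subgroup Rˣ} (g : H) : R := ((g : Rˣ) : R)

section rv

variable {H : Subgroup Rˣ}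

theorem rv_mem (g : H) : rv g ∈ toM H := mem_toM.mpr ⟨g, g.2, rfl⟩
theorem rv_mul (g h : H) : rv (g * h) = rv g * rv h := rfl
theorem rv_one : rv (1 : H) = 1 := rfl
theorem rv_pow (g : H) (n : ℕ) : rv (g ^ n) = rv g ^ n := by
  unfold rv; simp
theorem rv_inj {g h : H} (e : rv g = rv h) : g = h := Subtype.ext (Units.ext e)
theorem exists_rv {r : R} (hr : r ∈ toM H) : ∃ g : H, rv g = r := by
  obtain ⟨g, hg, rfl⟩ := mem_toM.mp hr
  exact ⟨⟨g, hg⟩, rfl⟩
theorem rv_inv_mul (g : H) : rv g⁻¹ * rv g = 1 := by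
  rw [← rv_mul, inv_mul_cancel, rv_one]
theorem rv_mul_inv (g : H) : rv g * rv g⁻¹ = 1 := by
  rw [← rv_mul, mul_inv_cancel, rv_one]

end rv

/-- the ring-level hypotheses hold for the image of `H` -/
theorem fpf_toM (H : Subgroup Rˣ) (h2 : IsUnit (2 : R)) (h3 : IsUnit (3 : R))
    (hfpf : ∀ g ∈ H, ∀ h ∈ H, g ≠ h → IsUnit ((g : R) - (h : R)))
    (hN1 : ∀ x ∈ H, ∀ y ∈ H, x ^ 3 = 1 → y ^ 3 = 1 →
      (x * y) ^ 4 = 1 ∨ (x * y) ^ 6 = 1 ∨ (x * y) ^ 10 = 1) : Fpf (toM H) := by
  refine ⟨h2, h3, ?_, ?_, ?_⟩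
  · intro g hg
    obtain ⟨u, hu, rfl⟩ := mem_toM.mp hg
    exact ⟨((u⁻¹ : Rˣ) : R), mem_toM.mpr ⟨u⁻¹, H.inv_mem hu, rfl⟩, by simp, by simp⟩
  · intro g hg h hh hne
    obtain ⟨u, hu, rfl⟩ := mem_toM.mp hg
    obtain ⟨v, hv, rfl⟩ := mem_toM.mp hh
    exact hfpf u hu v hv (fun e => hne (by rw [e]))
  · intro x hx y hy hx3 hy3
    obtain ⟨u, hu, rfl⟩ := mem_toM.mp hx
    obtain ⟨v, hv, rfl⟩ := mem_toM.mp hy
    have hu3 : u ^ 3 = 1 := Units.ext (by simpa using hx3)
    have hv3 : v ^ 3 = 1 := Units.ext (by simpa using hy3)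
    rcases hN1 u hu v hv hu3 hv3 with h | h | h
    · left
      have := congrArg (fun t : Rˣ => (t : R)) h
      simpa using this
    · right; left
      have := congrArg (fun t : Rˣ => (t : R)) h
      simpa using this
    · right; right
      have := congrArg (fun t : Rˣ => (t : R)) h
      simpa using this

section order

variable {H : Subgroup Rˣ} (hM : Fpf (toM H))
include hM

theorem one_ne_neg_one [Nontrivial R] : (1 : R) ≠ -1 := by
  intro h
  have : (2 : R) = 0 := by
    have : (2 : R) = 1 + 1 := by norm_num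
    rw [this]; nth_rewrite 2 [h]; simp
  exact hM.u2.ne_zero this

theorem three_ne_zero'' [Nontrivial R] : (3 : R) ≠ 0 := hM.u3.ne_zero

/-- elements of order three give `IsX` -/
theorem isX_of_orderOf {g : H} (hg : orderOf g = 3) : IsX (toM H) (rv g) := by
  refine ⟨rv_mem g, ?_⟩
  have h3 : g ^ 3 = 1 := by rw [← hg]; exact pow_orderOf_eq_one g
  have h1 : g ≠ 1 := by
    intro h; rw [h, orderOf_one] at hg; omega
  apply Cfsg.Agent.Helper19.ZassN1B.order3 hM (rv_mem g)
  · intro h; exact h1 (rv_inj (by rw [h, rv_one]))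
  · have := congrArg rv h3
    rw [rv_pow, rv_one] at this
    rw [← this]; noncomm_ring

/-- `IsX` elements come from elements of order three -/
theorem orderOf_of_isX [Nontrivial R] {g : H} (hg : IsX (toM H) (rv g)) : orderOf g = 3 := by
  have h3 : g ^ 3 = 1 := by
    apply rv_inj
    rw [rv_pow, rv_one]
    exact hg.cube
  have h1 : g ≠ 1 := by
    intro h
    have := hg.2
    rw [h, rv_one] at this
    have h30 : (3 : R) = 0 := by
      have : (3 : R) = 1 * 1 + 1 + 1 := by norm_num
      rw [this, ‹(1 : R) * 1 + 1 + 1 = 0›]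
    exact hM.u3.ne_zero h30
  exact orderOf_eq_prime h3 h1

end order

/-! ### The twenty candidates -/

open Classical in
/-- the twenty candidates for `2 * sv w` -/
noncomputable def cand (i j k ϑ : R) : Finset R :=
  (Finset.univ.image fun e : Bool × Bool × Bool => 2 * lform i j k e.1 e.2.1 e.2.2) ∪
  ((Finset.univ.image fun s : Bool × Bool => G0 i j k ϑ s.1 s.2) ∪
  ((Finset.univ.image fun s : Bool × Bool => G0 j k i ϑ s.1 s.2) ∪
  (Finset.univ.image fun s : Bool × Bool => G0 k i j ϑ s.1 s.2)))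

open Classical in
/-- the eight candidates inside the frame group -/
noncomputable def cand8 (i j k : R) : Finset R :=
  Finset.univ.image fun e : Bool × Bool × Bool => lform i j k e.1 e.2.1 e.2.2

theorem card_cand8 (i j k : R) : (cand8 i j k).card ≤ 8 := by
  classical
  unfold cand8
  refine Finset.card_image_le.trans ?_
  simp

theorem card_cand (i j k ϑ : R) : (cand i j k ϑ).card ≤ 20 := by
  classical
  unfold cand
  have h8 : (Finset.univ.image fun e : Bool × Bool × Bool =>
      2 * lform i j k e.1 e.2.1 e.2.2).card ≤ 8 := by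
    refine Finset.card_image_le.trans ?_
    simp
  have h4 : ∀ f : Bool × Bool → R, (Finset.univ.image f).card ≤ 4 := by
    intro f
    refine Finset.card_image_le.trans ?_
    simp
  refine (Finset.card_union_le _ _).trans ?_
  have := (Finset.card_union_le
    (Finset.univ.image fun s : Bool × Bool => G0 i j k ϑ s.1 s.2)
    ((Finset.univ.image fun s : Bool × Bool => G0 j k i ϑ s.1 s.2) ∪
      (Finset.univ.image fun s : Bool × Bool => G0 k i j ϑ s.1 s.2)))
  have := (Finset.card_union_le
    (Finset.univ.image fun s : Bool × Bool => G0 j k i ϑ s.1 s.2)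
      (Finset.univ.image fun s : Bool × Bool => G0 k i j ϑ s.1 s.2))
  have := h4 (fun s : Bool × Bool => G0 i j k ϑ s.1 s.2)
  have := h4 (fun s : Bool × Bool => G0 j k i ϑ s.1 s.2)
  have := h4 (fun s : Bool × Bool => G0 k i j ϑ s.1 s.2)
  omega

theorem mem_cand_of_lform {i j k ϑ s : R} (h : ∃ e1 e2 e3 : Bool, s = lform i j k e1 e2 e3) :
    2 * s ∈ cand i j k ϑ := by
  classical
  obtain ⟨e1, e2, e3, rfl⟩ := h
  unfold cand
  apply Finset.mem_union_left
  exact Finset.mem_image.mpr ⟨(e1, e2, e3), Finset.mem_univ _, rfl⟩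

theorem mem_cand_of_gold {i j k ϑ s : R} (h : IsGold i j k ϑ s) : 2 * s ∈ cand i j k ϑ := by
  classical
  obtain ⟨s1, s2, h | h | h⟩ := h
  · unfold cand
    apply Finset.mem_union_right; apply Finset.mem_union_left
    exact Finset.mem_image.mpr ⟨(s1, s2), Finset.mem_univ _, h.symm⟩
  · unfold cand
    apply Finset.mem_union_right; apply Finset.mem_union_right; apply Finset.mem_union_left
    exact Finset.mem_image.mpr ⟨(s1, s2), Finset.mem_univ _, h.symm⟩
  · unfold cand
    apply Finset.mem_union_right; apply Finset.mem_union_right; apply Finset.mem_union_right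
    exact Finset.mem_image.mpr ⟨(s1, s2), Finset.mem_univ _, h.symm⟩

theorem mem_cand8_of_lform {i j k s : R} (h : ∃ e1 e2 e3 : Bool, s = lform i j k e1 e2 e3) :
    s ∈ cand8 i j k := by
  classical
  obtain ⟨e1, e2, e3, rfl⟩ := h
  exact Finset.mem_image.mpr ⟨(e1, e2, e3), Finset.mem_univ _, rfl⟩

/-- counting elements of order three through an injection into a finite set of ring elements -/
theorem card_order_three_le {H : Subgroup Rˣ} [Finite H] (hM : Fpf (toM H)) (S : Finset R) (n : ℕ)
    (hS : S.card ≤ n) (f : R → R) (hf : ∀ a b : R, f a = f b → a = b)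
    (hmem : ∀ g : H, orderOf g = 3 → f (rv g) ∈ S) :
    Nat.card {g : H // orderOf g = 3} ≤ n := by
  classical
  have : Nat.card {g : H // orderOf g = 3} ≤ Nat.card S := by
    apply Nat.card_le_card_of_injective (fun g => (⟨f (rv g.1), hmem g.1 g.2⟩ : S))
    intro a b hab
    have := congrArg Subtype.val hab
    exact Subtype.ext (rv_inj (hf _ _ this))
  refine this.trans ?_
  rw [Nat.card_eq_fintype_card, Fintype.card_coe]
  exact hS

end Cfsg.Agent.Helper4.Zass
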