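import Mathlib
import Cfsg.Agent.Lib.Helper4.ZassE
import Cfsg.Agent.Lib.Helper25.ZassOut
import Cfsg.Agent.Lib.Helper27.ZassIso
import Cfsg.Agent.Lib.Helper27.ZassCnt
import Cfsg.Agent.Lib.Helper27.ZassCyc
import Cfsg.Agent.Lib.Helper27.ZassGens
import Cfsg.Agent.Lib.Helper19.ZassEnd
import Cfsg.Agent.Lib.Helper19.ZassE3G
import Cfsg.Agent.Lib.Helper20.ZassStart
import Cfsg.Agent.Lib.Lead.ZassFrame
import Cfsg.Agent.Lib.Lead.ZassUniq
import Cfsg.Agent.Lib.Helper16.ZassGen3

/-!
Zassenhaus' theorem in ring form (`main`): assembly of Theorem A, the uniqueness of the golden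
parameter, the recognition of `SL(2,5)` by generators and the final group-theoretic step.
-/

set_option autoImplicit false
set_option linter.unusedSimpArgs false
set_option linter.unusedSectionVars false
set_option linter.unusedVariables false
set_option linter.style.haveILetI false

namespace Cfsg.Agent.Helper4.Zass

open Cfsg.Agent.Lead.IcosAlg

universe u

variable {R : Type u} [Ring R]

abbrev S25 := Matrix.SpecialLinearGroup (Fin 2) (ZMod 5)

theorem normal_closure_of_conj {G : Type*} [Group G] (S : Set G)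
    (hS : ∀ g s, s ∈ S → g * s * g⁻¹ ∈ S) : (Subgroup.closure S).Normal := by
  constructor
  intro n hn g
  have : (Subgroup.closure S).map (MulAut.conj g).toMonoidHom ≤ Subgroup.closure S := by
    rw [MonoidHom.map_closure, Subgroup.closure_le]
    rintro _ ⟨s, hs, rfl⟩
    exact Subgroup.subset_closure (hS g s hs)
  exact this (Subgroup.mem_map_of_mem _ hn)

theorem exists_order_three_S25 : ∃ g : S25, orderOf g = 3 := by
  have h := Cfsg.Agent.Helper27.Zass.card_order_three
  have hpos : 0 < (Finset.univ.filter (fun g : S25 => orderOf g = 3)).card := by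
    rw [h]; norm_num
  obtain ⟨g, hg⟩ := Finset.card_pos.mp hpos
  exact ⟨g, (Finset.mem_filter.mp hg).2⟩

/-- the induction step -/
theorem main_step (h2 : IsUnit (2 : R)) (h3 : IsUnit (3 : R)) (H : Subgroup Rˣ) [Finite H]
    (ih : ∀ (G : Type u) [Group G] [Finite G] (ι : G →* Rˣ), Function.Injective ι →
      Nat.card G < Nat.card H →
      (∀ g h : G, g ≠ h → IsUnit (((ι g : Rˣ) : R) - ((ι h : Rˣ) : R))) →
      (∀ x y : G, x ^ 3 = 1 → y ^ 3 = 1 → (x * y) ^ 4 = 1 ∨ (x * y) ^ 6 = 1 ∨ (x * y) ^ 10 = 1) →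
      commutator G = ⊤ → Nontrivial G → Nonempty (G ≃* S25))
    (hfpf : ∀ g ∈ H, ∀ h ∈ H, g ≠ h → IsUnit ((g : R) - (h : R)))
    (hN1 : ∀ x ∈ H, ∀ y ∈ H, x ^ 3 = 1 → y ^ 3 = 1 →
      (x * y) ^ 4 = 1 ∨ (x * y) ^ 6 = 1 ∨ (x * y) ^ 10 = 1)
    (hperf : commutator H = ⊤) (hne : H ≠ ⊥) : Nonempty (H ≃* S25) := by
  have hM : Fpf (toM H) := fpf_toM H h2 h3 hfpf hN1
  haveI : Nontrivial H := (Subgroup.nontrivial_iff_ne_bot H).mpr hne
  haveI : Nontrivial R := by
    by_contra hnt
    rw [not_nontrivial_iff_subsingleton] at hnt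
    apply hne
    rw [Subgroup.eq_bot_iff_forall]
    intro x _
    exact Units.ext (Subsingleton.elim _ _)
  have hN : N1B (toM H) := fun x y hx hy => Cfsg.Agent.Helper19.ZassN1B.n1b hM hx hy
  -- abelian subgroups are cyclic
  have hcyc : ∀ A : Subgroup H, (∀ a ∈ A, ∀ b ∈ A, a * b = b * a) → IsCyclic A := by
    intro A hA
    let e := Subgroup.equivMapOfInjective A H.subtype H.subtype_injective
    haveI : Finite (A.map H.subtype) := Finite.of_equiv _ e.toEquiv
    have hc : IsCyclic (A.map H.subtype) := by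
      apply Cfsg.Agent.Helper27.Zass.isCyclic_of_fpf
      · rintro _ ⟨a, ha, rfl⟩ _ ⟨b, hb, rfl⟩
        have := hA a ha b hb
        exact congrArg H.subtype this
      · rintro _ ⟨a, ha, rfl⟩ _ ⟨b, hb, rfl⟩ hab
        exact hfpf _ a.2 _ b.2 hab
    exact isCyclic_of_surjective e.symm e.symm.surjective
  -- a non-collinear pair of elements of order three
  obtain ⟨x, y, hx, hy, hyx, hyx'⟩ :=
    Cfsg.Agent.Helper20.ZassStart.exists_order_three_pair hperf hcyc
  have hX := isX_of_orderOf hM hx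
  have hY := isX_of_orderOf hM hy
  obtain ⟨x', y', hX', hY', hbt⟩ := Cfsg.Agent.Helper19.ZassN1B.exists_pair_neg_two hM hX hY
    (fun h => hyx (rv_inj h))
    (fun h => hyx' (by
      have : x * y = 1 := rv_inj (by rw [rv_mul, h, rv_one])
      exact eq_inv_of_mul_eq_one_right this))
  -- the frame
  obtain ⟨i, j, k, hf, hi, hj, h2x0⟩ := Cfsg.Agent.Lead.Zass.frame_of_pair hM hX' hY' hbt
  have hA : ∀ w : R, IsX (toM H) w → (∃ e1 e2 e3 : Bool, sv w = lform i j k e1 e2 e3) ∨
      ∃ ϑ : R, Cz i j k ϑ ∧ ϑ * ϑ = 5 ∧ IsGold i j k ϑ (sv w) :=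
    fun w hw => thmA hM hN hf hi hj hX'.1 h2x0 hw
  -- a golden element exists
  have hgold : ∃ w ϑ : R, IsX (toM H) w ∧ Cz i j k ϑ ∧ ϑ * ϑ = 5 ∧ IsGold i j k ϑ (sv w) := by
    by_contra hno
    have hall : ∀ w : R, IsX (toM H) w → ∃ e1 e2 e3 : Bool, sv w = lform i j k e1 e2 e3 := by
      intro w hw
      rcases hA w hw with h | ⟨ϑ, h1, h2, h3⟩
      · exact h
      · exact absurd ⟨w, ϑ, hw, h1, h2, h3⟩ hno
    have h8 : Nat.card {g : H // orderOf g = 3} ≤ 8 :=
      card_order_three_le hM (cand8 i j k) 8 (card_cand8 i j k) sv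
        (fun a b h => sv_inj hM h)
        (fun g hg => mem_cand8_of_lform (hall _ (isX_of_orderOf hM hg)))
    obtain ⟨gx, hgx⟩ := exists_rv hX'.1
    have hgx3 : orderOf gx = 3 := orderOf_of_isX hM (by rw [hgx]; exact hX')
    have hcen := Cfsg.Agent.Helper19.Zass.central_of_card_le_eight hperf h8 gx hgx3
    obtain ⟨gi, hgi⟩ := exists_rv hi
    have hcomm : i * x' = x' * i := by
      have := Subgroup.mem_center_iff.mp hcen gi
      have := congrArg rv this
      rw [rv_mul, rv_mul, hgx, hgi] at this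
      exact this
    have e1 : i * (2 * x') = (2 * x') * i := by
      have a1 : i * (2 * x') = 2 * (i * x') := by noncomm_ring
      have a2 : (2 * x') * i = 2 * (x' * i) := by noncomm_ring
      rw [a1, a2, hcomm]
    rw [h2x0] at e1
    simp only [mul_add, add_mul, mul_neg, neg_mul, mul_one, one_mul, hf.ii, hf.ij, hf.ik, hf.ji,
      hf.ki] at e1
    have hkj : k = j := by
      apply two_cancel hM
      linear_combination (norm := noncomm_ring) e1
    have hi1 : i = -1 := by
      have := hf.jk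
      rw [hkj, hf.jj] at this
      exact this.symm
    have := hf.ii
    rw [hi1] at this
    apply one_ne_neg_one hM
    simpa using this
  obtain ⟨w0, ϑ0, hw0, hz0, hs0, hg0⟩ := hgold
  -- at most twenty elements of order three
  have hall : ∀ w : R, IsX (toM H) w → 2 * sv w ∈ cand i j k ϑ0 := by
    intro w hw
    rcases hA w hw with h | ⟨ϑ, h1, h2', h3'⟩
    · exact mem_cand_of_lform h
    · have : ϑ = ϑ0 := Cfsg.Agent.Lead.Zass.gold_unique_of_n1b hM hN hf hi hj hX'.1 h2x0 hw hw0 h1 hz0 h2' hs0 h3' hg0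
      subst this
      exact mem_cand_of_gold h3'
  have h20 : Nat.card {g : H // orderOf g = 3} ≤ 20 :=
    card_order_three_le hM (cand i j k ϑ0) 20 (card_cand i j k ϑ0) (fun r => 2 * sv r)
      (fun a b h => sv_inj hM (two_cancel hM h))
      (fun g hg => hall _ (isX_of_orderOf hM hg))
  -- the generators
  obtain ⟨yv, hyM, hy5, hwy⟩ := Cfsg.Agent.Helper27.Zass.exists_gens hM hf hi hj hw0 hz0 hs0 hg0
  obtain ⟨a, ha⟩ := exists_rv hw0.1
  obtain ⟨b, hb⟩ := exists_rv hyM
  have ha3 : a ^ 3 = 1 := rv_inj (by rw [rv_pow, ha, rv_one]; exact hw0.cube)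
  have hb5 : b ^ 5 = 1 := rv_inj (by rw [rv_pow, hb, rv_one]; exact hy5)
  obtain ⟨z, hzdef⟩ : ∃ z : H, z = (a * b) ^ 2 := ⟨_, rfl⟩
  have hzv : rv z = -1 := by
    rw [hzdef, rv_pow, rv_mul, ha, hb, pow_two]; exact hwy
  have hz2 : z ^ 2 = 1 := rv_inj (by rw [rv_pow, hzv, rv_one]; simp)
  have hzc : ∀ g : H, z * g = g * z := fun g => rv_inj (by rw [rv_mul, rv_mul, hzv]; simp)
  have hz1 : z ≠ 1 := by
    intro h
    apply one_ne_neg_one hM
    rw [← hzv, h, rv_one]
  obtain ⟨e⟩ := Cfsg.Agent.Helper27.Zass.sl25_of_gens a b z ha3 hb5 hz2 (hzc a) (hzc b)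
    hzdef.symm hz1
  obtain ⟨N', hN'def⟩ : ∃ N' : Subgroup H, N' = Subgroup.closure ({a, b} : Set H) := ⟨_, rfl⟩
  have e' : N' ≃* S25 := (MulEquiv.subgroupCongr hN'def).trans e
  have hmem : ∀ g : H, orderOf g = 3 → g ∈ N' :=
    Cfsg.Agent.Helper27.Zass.mem_of_order_three N' ⟨e'⟩ h20
  -- normality
  have hN'T : N' = Subgroup.closure {g : H | orderOf g = 3} :=
    le_antisymm (Cfsg.Agent.Helper16.ZassGen3.le_closure_order_three N' ⟨e'⟩) ((Subgroup.closure_le _).mpr hmem)
  haveI : N'.Normal := by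
    rw [hN'T]
    apply normal_closure_of_conj
    intro g s hs
    show orderOf (g * s * g⁻¹) = 3
    rw [← hs]
    exact Cfsg.Agent.Helper19.Zass.orderOf_conj' g s
  -- the end
  have htop : N' = ⊤ := by
    apply Cfsg.Agent.Helper19.Zass.eq_top_of_normal_sl25 hperf N' ⟨e'⟩ hmem
    intro P hPtop hPbot hPP
    haveI : Nontrivial P := (Subgroup.nontrivial_iff_ne_bot P).mpr hPbot
    have hcard : Nat.card P < Nat.card H := by
      have hle : Nat.card P ≤ Nat.card H := Subgroup.card_le_card_group P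
      rcases hle.lt_or_eq with h | h
      · exact h
      · exact absurd (Subgroup.eq_top_of_card_eq P h) hPtop
    have hperfP : commutator P = ⊤ := by
      apply Subgroup.map_injective P.subtype_injective
      rw [Subgroup.map_subtype_commutator, hPP, ← MonoidHom.range_eq_map, Subgroup.range_subtype]
    obtain ⟨eP⟩ := ih P (H.subtype.comp P.subtype)
      (H.subtype_injective.comp P.subtype_injective) hcard
      (fun g h hgh => hfpf _ g.1.2 _ h.1.2 (fun e =>
        hgh (Subtype.ext (Subtype.ext e))))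
      (fun x y hx3 hy3 => by
        have hx3' : (x.1.1 : Rˣ) ^ 3 = 1 := by
          have := congrArg (fun t : P => (t.1.1 : Rˣ)) hx3
          simpa using this
        have hy3' : (y.1.1 : Rˣ) ^ 3 = 1 := by
          have := congrArg (fun t : P => (t.1.1 : Rˣ)) hy3
          simpa using this
        rcases hN1 _ x.1.2 _ y.1.2 hx3' hy3' with h | h | h
        · left; exact Subtype.ext (Subtype.ext (by simpa using h))
        · right; left; exact Subtype.ext (Subtype.ext (by simpa using h))
        · right; right; exact Subtype.ext (Subtype.ext (by simpa using h)))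
      hperfP inferInstance
    obtain ⟨g0, hg0⟩ := exists_order_three_S25
    refine ⟨((eP.symm g0 : P) : H), (eP.symm g0).2, ?_⟩
    rw [Subgroup.orderOf_coe, MulEquiv.orderOf_eq, hg0]
  exact ⟨(Subgroup.topEquiv.symm.trans (MulEquiv.subgroupCongr htop.symm)).trans e'⟩


theorem commutator_eq_top_of_equiv {G G' : Type*} [Group G] [Group G'] (e : G ≃* G')
    (h : commutator G = ⊤) : commutator G' = ⊤ := by
  have hs : Function.Surjective e.toMonoidHom := e.surjective
  have h1 : (commutator G).map e.toMonoidHom = commutator G' := by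
    rw [commutator_def, Subgroup.map_commutator, Subgroup.map_top_of_surjective _ hs,
      ← commutator_def]
  rw [← h1, h, Subgroup.map_top_of_surjective _ hs]

/-- the general form, by strong induction on the order -/
theorem main_gen (h2 : IsUnit (2 : R)) (h3 : IsUnit (3 : R)) :
    ∀ n : ℕ, ∀ (G : Type u) [Group G] [Finite G] (ι : G →* Rˣ), Function.Injective ι →
      Nat.card G = n →
      (∀ g h : G, g ≠ h → IsUnit (((ι g : Rˣ) : R) - ((ι h : Rˣ) : R))) →
      (∀ x y : G, x ^ 3 = 1 → y ^ 3 = 1 → (x * y) ^ 4 = 1 ∨ (x * y) ^ 6 = 1 ∨ (x * y) ^ 10 = 1) →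
      commutator G = ⊤ → Nontrivial G → Nonempty (G ≃* S25) := by
  intro n
  induction n using Nat.strong_induction_on with
  | _ n IH =>
    intro G _ _ ι hι hcard hfpf hN1 hperf hnt
    let e0 : G ≃* ι.range := MonoidHom.ofInjective hι
    haveI : Finite ι.range := Finite.of_equiv _ e0.toEquiv
    have hcardH : Nat.card ι.range = n := by
      rw [← hcard]; exact (Nat.card_congr e0.toEquiv).symm
    have key : Nonempty (ι.range ≃* S25) := by
      apply main_step h2 h3 ι.range
      · intro G' _ _ ι' hι' hlt hfpf' hN1' hperf' hnt'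
        exact IH (Nat.card G') (by omega) G' ι' hι' rfl hfpf' hN1' hperf' hnt'
      · rintro _ ⟨a, rfl⟩ _ ⟨b, rfl⟩ hab
        exact hfpf a b (fun h => hab (by rw [h]))
      · rintro _ ⟨a, rfl⟩ _ ⟨b, rfl⟩ ha3 hb3
        have ha3' : a ^ 3 = 1 := hι (by rw [map_pow, ha3, map_one])
        have hb3' : b ^ 3 = 1 := hι (by rw [map_pow, hb3, map_one])
        rcases hN1 a b ha3' hb3' with h | h | h
        · left; rw [← map_mul, ← map_pow, h, map_one]
        · right; left; rw [← map_mul, ← map_pow, h, map_one]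
        · right; right; rw [← map_mul, ← map_pow, h, map_one]
      · exact commutator_eq_top_of_equiv e0 hperf
      · intro hbot
        obtain ⟨a, ha⟩ := exists_ne (1 : G)
        apply ha
        apply hι
        rw [map_one]
        have : ι a ∈ ι.range := ⟨a, rfl⟩
        rw [hbot] at this
        exact Subgroup.mem_bot.mp this
    obtain ⟨e1⟩ := key
    exact ⟨e0.trans e1⟩

/-- **Zassenhaus' theorem, ring form.** A non-trivial perfect finite group of units of an algebra
over a field of characteristic not 2 or 3, acting fixed-point-freely (differences of distinct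
elements are units) and such that the product of two elements of order three has order dividing
4, 6 or 10, is isomorphic to `SL(2,5)`. -/
theorem main {F : Type*} [Field F] {R : Type u} [Ring R] [Algebra F R] (h2 : (2 : F) ≠ 0)
    (h3 : (3 : F) ≠ 0) (H : Subgroup Rˣ) [Finite H]
    (hfpf : ∀ g ∈ H, ∀ h ∈ H, g ≠ h → IsUnit ((g : R) - (h : R)))
    (hN1 : ∀ x ∈ H, ∀ y ∈ H, x ^ 3 = 1 → y ^ 3 = 1 →
      (x * y) ^ 4 = 1 ∨ (x * y) ^ 6 = 1 ∨ (x * y) ^ 10 = 1)
    (hperf : commutator H = ⊤) (hne : H ≠ ⊥) :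
    Nonempty (H ≃* Matrix.SpecialLinearGroup (Fin 2) (ZMod 5)) := by
  have u2 : IsUnit (2 : R) := by
    have := (IsUnit.mk0 (2 : F) h2).map (algebraMap F R)
    rwa [map_ofNat] at this
  have u3 : IsUnit (3 : R) := by
    have := (IsUnit.mk0 (3 : F) h3).map (algebraMap F R)
    rwa [map_ofNat] at this
  haveI : Nontrivial H := (Subgroup.nontrivial_iff_ne_bot H).mpr hne
  refine main_gen u2 u3 (Nat.card H) H H.subtype H.subtype_injective rfl ?_ ?_ hperf inferInstance
  · intro g h hgh
    exact hfpf _ g.2 _ h.2 (fun e => hgh (Subtype.ext e))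
  · intro x y hx3 hy3
    have hx3' : (x.1 : Rˣ) ^ 3 = 1 := by
      have := congrArg (fun t : H => (t.1 : Rˣ)) hx3
      simpa using this
    have hy3' : (y.1 : Rˣ) ^ 3 = 1 := by
      have := congrArg (fun t : H => (t.1 : Rˣ)) hy3
      simpa using this
    rcases hN1 _ x.2 _ y.2 hx3' hy3' with h | h | h
    · left; exact Subtype.ext (by simpa using h)
    · right; left; exact Subtype.ext (by simpa using h)
    · right; right; exact Subtype.ext (by simpa using h)

end Cfsg.Agent.Helper4.Zass
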