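import Mathlib
import Cfsg.Agent.Lib.Helper4.ZassF

/-!
Zassenhaus' theorem for a homomorphism `ι : G →* Rˣ` with `ι g - 1` a unit for `g ≠ 1`:
the units `2`, `3` and the injectivity come for free.
-/

set_option autoImplicit false
set_option linter.unusedSimpArgs false
set_option linter.unusedSectionVars false
set_option linter.unusedVariables false
set_option linter.style.haveILetI false

namespace Cfsg.Agent.Helper4.Zass

universe u

variable {R : Type u} [Ring R]

section hom

variable {G : Type u} [Group G] (ι : G →* Rˣ)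

theorem sub_eq_of_hom (g h : G) :
    ((ι g : Rˣ) : R) - ((ι h : Rˣ) : R) = (((ι (g * h⁻¹) : Rˣ) : R) - 1) * ((ι h : Rˣ) : R) := by
  rw [sub_mul, one_mul, ← Units.val_mul, ← map_mul, inv_mul_cancel_right]

theorem isUnit_sub_of_fpf (hfpf : ∀ g : G, g ≠ 1 → IsUnit (((ι g : Rˣ) : R) - 1)) {g h : G}
    (hgh : g ≠ h) : IsUnit (((ι g : Rˣ) : R) - ((ι h : Rˣ) : R)) := by
  rw [sub_eq_of_hom]
  exact (hfpf _ (fun e => hgh (mul_inv_eq_one.mp e))).mul (ι h).isUnit

theorem injective_of_fpf [Nontrivial R] (hfpf : ∀ g : G, g ≠ 1 → IsUnit (((ι g : Rˣ) : R) - 1)) :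
    Function.Injective ι := by
  rw [injective_iff_map_eq_one]
  intro g hg
  by_contra h1
  have := hfpf g h1
  rw [hg, Units.val_one, sub_self] at this
  exact not_isUnit_zero this

/-- an involution maps to `-1`, so `2` is a unit -/
theorem isUnit_two_of_fpf (hfpf : ∀ g : G, g ≠ 1 → IsUnit (((ι g : Rˣ) : R) - 1)) {z : G}
    (hz : z * z = 1) (hz1 : z ≠ 1) : IsUnit (2 : R) := by
  have hu := hfpf z hz1
  set a : R := ((ι z : Rˣ) : R) with ha
  have haa : a * a = 1 := by
    rw [ha, ← Units.val_mul, ← map_mul, hz, map_one, Units.val_one]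
  have h0 : (a - 1) * (a + 1) = 0 := by
    have : (a - 1) * (a + 1) = a * a - 1 := by noncomm_ring
    rw [this, haa, sub_self]
  have h1 : a + 1 = 0 := (hu.mul_right_eq_zero).mp h0
  have h2 : a = -1 := eq_neg_of_add_eq_zero_left h1
  rw [h2] at hu
  have : (-1 : R) - 1 = -2 := by norm_num
  rw [this] at hu
  exact (IsUnit.neg_iff (2 : R)).mp hu

/-- an element of order three gives that `3` is a unit -/
theorem isUnit_three_of_fpf (hfpf : ∀ g : G, g ≠ 1 → IsUnit (((ι g : Rˣ) : R) - 1)) {x : G}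
    (hx : x ^ 3 = 1) (hx1 : x ≠ 1) : IsUnit (3 : R) := by
  have hu := hfpf x hx1
  set a : R := ((ι x : Rˣ) : R) with ha
  have ha3 : a * (a * a) = 1 := by
    have : a * (a * a) = ((ι (x ^ 3) : Rˣ) : R) := by
      rw [map_pow, Units.val_pow_eq_pow_val]; noncomm_ring
    rw [this, hx, map_one, Units.val_one]
  have h0 : (a - 1) * (a * a + a + 1) = 0 := by
    have : (a - 1) * (a * a + a + 1) = a * (a * a) - 1 := by noncomm_ring
    rw [this, ha3, sub_self]
  have h1 : a * a + a + 1 = 0 := (hu.mul_right_eq_zero).mp h0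
  have h3 : (a - 1) * (a - 1) = -(3 * a) := by
    have : (a - 1) * (a - 1) = (a * a + a + 1) - 3 * a := by noncomm_ring
    rw [this, h1, zero_sub]
  have hu3 : IsUnit (3 * a) := by
    have := hu.mul hu
    rw [h3] at this
    exact (IsUnit.neg_iff _).mp this
  have hau : IsUnit a := (ι x).isUnit
  have h3a : (3 : R) * a = a * 3 := (Commute.ofNat_left 3 a).eq
  rw [h3a] at hu3
  exact (hau.mul_left_iff ..).mp hu3

end hom


section final

open Cfsg.Agent.Helper16

/-- a non-trivial perfect group whose abelian subgroups are cyclic has even order -/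
theorem two_dvd_card {H : Type*} [Group H] [Finite H] [Nontrivial H] (hperf : commutator H = ⊤)
    (hcyc : ∀ A : Subgroup H, (∀ a ∈ A, ∀ b ∈ A, a * b = b * a) → IsCyclic A) :
    2 ∣ Nat.card H := by
  haveI : Fact (Nat.Prime 2) := ⟨Nat.prime_two⟩
  by_contra h2
  have hall : ∀ P : Sylow 2 H, IsCyclic P := by
    intro P
    have h1 : Nat.card P = 1 := by
      rw [Sylow.card_eq_multiplicity]
      have : (Nat.card H).factorization 2 = 0 := Nat.factorization_eq_zero_of_not_dvd h2
      rw [this, pow_zero]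
    haveI : Subsingleton P := (Nat.card_eq_one_iff_unique.mp h1).1
    exact isCyclic_of_subsingleton
  haveI : IsZGroup H := by
    constructor
    intro p hp P
    haveI : Fact p.Prime := ⟨hp⟩
    rcases hp.eq_two_or_odd' with h2' | hodd
    · subst h2'
      exact hall P
    · exact isCyclic_of_uniqueOrderP_odd hodd P.isPGroup'
        (Cfsg.Agent.Helper20.ZassStart.uniqueOrderP_sylow hcyc p P)
  have := IsZGroup.commutator_lt (G := H)
  rw [hperf] at this
  exact lt_irrefl _ this

/-- **Zassenhaus' theorem** for a fixed-point-free homomorphism into the units of a ring. -/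
theorem of_fpf_hom [Nontrivial R] {G : Type u} [Group G] [Finite G] [Nontrivial G] (ι : G →* Rˣ)
    (hfpf : ∀ g : G, g ≠ 1 → IsUnit (((ι g : Rˣ) : R) - 1))
    (hN1 : ∀ x y : G, x ^ 3 = 1 → y ^ 3 = 1 →
      (x * y) ^ 4 = 1 ∨ (x * y) ^ 6 = 1 ∨ (x * y) ^ 10 = 1)
    (hperf : commutator G = ⊤) :
    Nonempty (G ≃* Matrix.SpecialLinearGroup (Fin 2) (ZMod 5)) := by
  have hinj := injective_of_fpf ι hfpf
  -- abelian subgroups are cyclic
  have hcyc : ∀ A : Subgroup G, (∀ a ∈ A, ∀ b ∈ A, a * b = b * a) → IsCyclic A := by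
    intro A hA
    let e := Subgroup.equivMapOfInjective A ι hinj
    haveI : Finite (A.map ι) := Finite.of_equiv _ e.toEquiv
    have hc : IsCyclic (A.map ι) := by
      apply Cfsg.Agent.Helper27.Zass.isCyclic_of_fpf
      · rintro _ ⟨a, ha, rfl⟩ _ ⟨b, hb, rfl⟩
        rw [← map_mul, ← map_mul, hA a ha b hb]
      · rintro _ ⟨a, ha, rfl⟩ _ ⟨b, hb, rfl⟩ hab
        exact isUnit_sub_of_fpf ι hfpf (fun h => hab (by rw [h]))
    exact isCyclic_of_surjective e.symm e.symm.surjective
  -- elements of order two and three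
  haveI : Fact (Nat.Prime 2) := ⟨Nat.prime_two⟩
  haveI : Fact (Nat.Prime 3) := ⟨Nat.prime_three⟩
  obtain ⟨z, hz⟩ := exists_prime_orderOf_dvd_card' 2 (two_dvd_card hperf hcyc)
  obtain ⟨x, hx⟩ := exists_prime_orderOf_dvd_card' 3
    (Cfsg.Agent.Helper20.ZassStart.three_dvd_card hperf hcyc)
  have hz2 : z * z = 1 := by rw [← pow_two, ← hz]; exact pow_orderOf_eq_one z
  have hz1 : z ≠ 1 := by intro h; rw [h, orderOf_one] at hz; omega
  have hx3 : x ^ 3 = 1 := by rw [← hx]; exact pow_orderOf_eq_one x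
  have hx1 : x ≠ 1 := by intro h; rw [h, orderOf_one] at hx; omega
  exact main_gen (isUnit_two_of_fpf ι hfpf hz2 hz1) (isUnit_three_of_fpf ι hfpf hx3 hx1)
    (Nat.card G) G ι hinj rfl (fun g h hgh => isUnit_sub_of_fpf ι hfpf hgh) hN1 hperf inferInstance

end final

end Cfsg.Agent.Helper4.Zass
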