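import Mathlib
import Cfsg.Agent.Lib.Helper3.BSWDefs

/-! S3282, piece HSTRUCT: the structure of `H = C(t) = K ∪ Ks`. -/

set_option autoImplicit false
set_option linter.unusedSectionVars false

namespace Cfsg.Agent.Helper3.BSW

universe u

variable {G : Type u} [Group G] [Finite G] {t s : G} {K : Subgroup G}

namespace HSTRUCT

/-- an element of order two squares to one -/
theorem mul_self_of_order_two {G : Type u} [Group G] {a : G} (ha : orderOf a = 2) : a * a = 1 := by
  have h := pow_orderOf_eq_one a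
  rw [ha, sq] at h
  exact h

theorem inv_of_order_two {G : Type u} [Group G] {a : G} (ha : orderOf a = 2) : a⁻¹ = a :=
  inv_eq_of_mul_eq_one_left (mul_self_of_order_two ha)

theorem ne_one_of_order_two {G : Type u} [Group G] {a : G} (ha : orderOf a = 2) : a ≠ 1 := by
  intro h
  rw [h, orderOf_one] at ha
  omega

/-- the elements of the cyclic group generated by an involution -/
theorem mem_zpowers_of_order_two {G : Type u} [Group G] {a z : G} (ha : orderOf a = 2)
    (hz : z ∈ Subgroup.zpowers a) : z = 1 ∨ z = a := by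
  obtain ⟨n, rfl⟩ := Subgroup.mem_zpowers_iff.1 hz
  have h := zpow_mod_orderOf a n
  rw [ha] at h
  rcases Int.emod_two_eq_zero_or_one n with h0 | h1
  · left
    have : (n % ((2 : ℕ) : ℤ)) = 0 := by simpa using h0
    rw [this, zpow_zero] at h
    exact h.symm
  · right
    have : (n % ((2 : ℕ) : ℤ)) = 1 := by simpa using h1
    rw [this, zpow_one] at h
    exact h.symm

/-- `s x = x⁻¹ s` for `x ∈ K` -/
theorem s_mul (h : Hyp t s K) {x : G} (hx : x ∈ K) : s * x = x⁻¹ * s := by
  have := h.hinv x hx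
  rw [← this]
  group

theorem s_mem_normalizer (h : Hyp t s K) : s ∈ Subgroup.normalizer (K : Set G) := by
  rw [Subgroup.mem_normalizer_iff]
  intro n
  constructor
  · intro hn
    rw [h.hinv n hn]
    exact K.inv_mem hn
  · intro hn
    have h1 := h.hinv _ hn
    have hs2 := mul_self_of_order_two h.hs
    have hsi := inv_of_order_two h.hs
    have e : s * (s * n * s⁻¹) * s⁻¹ = n := by
      rw [hsi]
      calc s * (s * n * s) * s = (s * s) * n * (s * s) := by group
        _ = n := by rw [hs2, one_mul, mul_one]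
    rw [e] at h1
    rw [h1]
    exact K.inv_mem hn

/-- conjugation by an element of `Ks` inverts `K` -/
theorem conj_coset (h : Hyp t s K) {x y : G} (hx : x ∈ K) (hy : y ∈ K) :
    (x * s) * y * (x * s)⁻¹ = y⁻¹ := by
  have h1 : (x * s) * y * (x * s)⁻¹ = x * (s * y * s⁻¹) * x⁻¹ := by group
  rw [h1, h.hinv y hy, h.hKab x hx y⁻¹ (K.inv_mem hy), mul_assoc, mul_inv_cancel, mul_one]

end HSTRUCT

open HSTRUCT

/-- PIECE HSTRUCT (G1, G2). `x = s x s⁻¹` so `x ∈ K ⊓ C(s) = zpowers t = {1, t}`. -/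
theorem sq_eq_one_mem (h : Hyp t s K) {x : G} (hx : x ∈ K) (h2 : x * x = 1) : x = 1 ∨ x = t := by
  have hxi : x⁻¹ = x := inv_eq_of_mul_eq_one_left h2
  have h1 := h.hinv x hx
  rw [hxi] at h1
  have hxs : x ∈ Subgroup.centralizer ({s} : Set G) := by
    rw [Subgroup.mem_centralizer_singleton_iff]
    calc x * s = (s * x * s⁻¹) * s := by rw [h1]
      _ = s * x := by group
  have hmem : x ∈ K ⊓ Subgroup.centralizer ({s} : Set G) := ⟨hx, hxs⟩
  rw [h.hCK] at hmem
  exact mem_zpowers_of_order_two h.ht hmem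

/-- PIECE HSTRUCT. -/
theorem mem_H_iff (h : Hyp t s K) (g : G) :
    g ∈ Subgroup.centralizer ({t} : Set G) ↔ g ∈ K ∨ ∃ x ∈ K, g = x * s := by
  constructor
  · intro hg
    rw [← h.hH] at hg
    have hle : Subgroup.zpowers s ≤ Subgroup.normalizer (K : Set G) :=
      Subgroup.zpowers_le.2 (s_mem_normalizer h)
    have hcoe := Subgroup.coe_mul_of_right_le_normalizer_left K (Subgroup.zpowers s) hle
    have hg' : g ∈ ((K ⊔ Subgroup.zpowers s : Subgroup G) : Set G) := hg
    rw [hcoe] at hg'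
    obtain ⟨k, hk, z, hz, rfl⟩ := Set.mem_mul.1 hg'
    rcases mem_zpowers_of_order_two h.hs hz with rfl | rfl
    · left; rw [mul_one]; exact hk
    · right; exact ⟨k, hk, rfl⟩
  · rintro (hg | ⟨x, hx, rfl⟩)
    · exact h.hKH hg
    · exact Subgroup.mul_mem _ (h.hKH hx) h.hsH

/-- PIECE HSTRUCT. -/
theorem coset_props (h : Hyp t s K) {x : G} (hx : x ∈ K) :
    orderOf (x * s) = 2 ∧ x * s ∉ K ∧ ∀ y ∈ K, (x * s) * y * (x * s)⁻¹ = y⁻¹ := by
  have hnot : x * s ∉ K := by
    intro hxs
    apply h.hsK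
    have : s = x⁻¹ * (x * s) := by group
    rw [this]
    exact K.mul_mem (K.inv_mem hx) hxs
  refine ⟨?_, hnot, fun y hy => conj_coset h hx hy⟩
  have : Fact (Nat.Prime 2) := ⟨Nat.prime_two⟩
  apply orderOf_eq_prime
  · rw [sq]
    calc (x * s) * (x * s) = x * (s * x) * s := by group
      _ = x * (x⁻¹ * s) * s := by rw [s_mul h hx]
      _ = s * s := by group
      _ = 1 := mul_self_of_order_two h.hs
  · intro h1
    apply hnot
    rw [h1]
    exact K.one_mem

/-- PIECE HSTRUCT. -/
theorem card_H (h : Hyp t s K) :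
    Nat.card (Subgroup.centralizer ({t} : Set G)) = 2 * Nat.card K := by
  let f : K ⊕ K → Subgroup.centralizer ({t} : Set G) := fun p =>
    match p with
    | Sum.inl k => ⟨(k : G), h.hKH k.2⟩
    | Sum.inr k => ⟨(k : G) * s, Subgroup.mul_mem _ (h.hKH k.2) h.hsH⟩
  have hinj : Function.Injective f := by
    rintro (a | a) (b | b) hab
    · have h' := congrArg (fun z : Subgroup.centralizer ({t} : Set G) => (z : G)) hab
      have h'' : (a : G) = (b : G) := h'
      exact congrArg Sum.inl (Subtype.ext h'')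
    · exfalso
      have h' := congrArg (fun z : Subgroup.centralizer ({t} : Set G) => (z : G)) hab
      have h'' : (a : G) = (b : G) * s := h'
      exact (coset_props h b.2).2.1 (h'' ▸ a.2)
    · exfalso
      have h' := congrArg (fun z : Subgroup.centralizer ({t} : Set G) => (z : G)) hab
      have h'' : (a : G) * s = (b : G) := h'
      exact (coset_props h a.2).2.1 (h''.symm ▸ b.2)
    · have h' := congrArg (fun z : Subgroup.centralizer ({t} : Set G) => (z : G)) hab
      have h'' : (a : G) * s = (b : G) * s := h'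
      exact congrArg Sum.inr (Subtype.ext (mul_right_cancel h''))
  have hsurj : Function.Surjective f := by
    rintro ⟨g, hg⟩
    rcases (mem_H_iff h g).1 hg with hk | ⟨x, hx, rfl⟩
    · exact ⟨Sum.inl ⟨g, hk⟩, rfl⟩
    · exact ⟨Sum.inr ⟨x, hx⟩, rfl⟩
  rw [← Nat.card_congr (Equiv.ofBijective f ⟨hinj, hsurj⟩), Nat.card_sum]
  ring

/-- PIECE HSTRUCT. `k` is even and `k ≥ 2`. -/
theorem even_card_K (h : Hyp t s K) : Even (Nat.card K) ∧ 2 ≤ Nat.card K := by
  have hdvd : 2 ∣ Nat.card K := by
    have h1 := orderOf_dvd_natCard (⟨t, h.htK⟩ : K)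
    rw [Subgroup.orderOf_mk, h.ht] at h1
    exact h1
  have hpos : 0 < Nat.card K := Nat.card_pos
  exact ⟨even_iff_two_dvd.2 hdvd, Nat.le_of_dvd hpos hdvd⟩

end Cfsg.Agent.Helper3.BSW
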