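import Mathlib
import Cfsg.Agent.Lib.Helper3.BSWDefs
import Cfsg.Agent.Lib.Helper4.BSWHSTRUCT

/-! S3282, piece CENT: centralizers of the elements of `K`. -/

set_option autoImplicit false
set_option linter.unusedSectionVars false

namespace Cfsg.Agent.Helper3.BSW

universe u

variable {G : Type u} [Group G] [Finite G] {t s : G} {K : Subgroup G}

namespace CENT

/-- `g x g⁻¹` lies in the conjugate `g K g⁻¹` -/
theorem conj_mem_map {G : Type u} [Group G] (K : Subgroup G) (g : G) {x : G} (hx : x ∈ K) :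
    g * x * g⁻¹ ∈ K.map (MulAut.conj g).toMonoidHom := by
  rw [Subgroup.mem_map]
  exact ⟨x, hx, by simp [MulAut.conj_apply]⟩

end CENT

/-- PIECE CENT (G3). `g ∈ C(x)`, `g ∉ C(t)` would give `x ∈ K ⊓ K^g = ⊥`. -/
theorem cent_le (h : Hyp t s K) {x : G} (hx : x ∈ K) (h1 : x ≠ 1) :
    Subgroup.centralizer ({x} : Set G) ≤ Subgroup.centralizer ({t} : Set G) := by
  intro g hg
  by_contra hgt
  have hTI := h.hTI g hgt
  have hgx : g * x = x * g := Subgroup.mem_centralizer_singleton_iff.1 hg
  have hconj : g * x * g⁻¹ = x := by rw [hgx, mul_assoc, mul_inv_cancel, mul_one]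
  have hmem : x ∈ K ⊓ K.map (MulAut.conj g).toMonoidHom := by
    refine ⟨hx, ?_⟩
    have := CENT.conj_mem_map K g hx
    rwa [hconj] at this
  rw [hTI, Subgroup.mem_bot] at hmem
  exact h1 hmem

/-- PIECE CENT (G3). `C(x) ≤ C(t) = K ∪ Ks` and `ks ∈ C(x)` forces `x = x⁻¹`, so `x ∈ {1,t}` (HSTRUCT). -/
theorem cent_eq (h : Hyp t s K) {x : G} (hx : x ∈ K) (h1 : x ≠ 1) (hxt : x ≠ t) :
    Subgroup.centralizer ({x} : Set G) = K := by
  apply le_antisymm
  · intro g hg
    have hgt := cent_le h hx h1 hg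
    rcases (mem_H_iff h g).1 hgt with hk | ⟨k, hk, rfl⟩
    · exact hk
    · exfalso
      have hgx : (k * s) * x = x * (k * s) := Subgroup.mem_centralizer_singleton_iff.1 hg
      have hconj : (k * s) * x * (k * s)⁻¹ = x := by rw [hgx, mul_assoc, mul_inv_cancel, mul_one]
      have hinv := (coset_props h hk).2.2 x hx
      rw [hconj] at hinv
      have h2 : x * x = 1 := by
        nth_rewrite 1 [hinv]
        exact inv_mul_cancel x
      rcases sq_eq_one_mem h hx h2 with h' | h'
      · exact h1 h'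
      · exact hxt h'
  · intro k hk
    rw [Subgroup.mem_centralizer_singleton_iff]
    exact h.hKab k hk x hx

end Cfsg.Agent.Helper3.BSW
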