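import Mathlib
import Cfsg.Agent.Lib.Helper3.BSWDefs
import Cfsg.Agent.Lib.Helper4.BSWHSTRUCT
import Cfsg.Agent.Lib.Helper4.BSWCENT

/-! S3282, piece FUS: fusion in `K` is controlled by `H = C(t)`. -/

set_option autoImplicit false
set_option linter.unusedSectionVars false

namespace Cfsg.Agent.Helper3.BSW

universe u

variable {G : Type u} [Group G] [Finite G] {t s : G} {K : Subgroup G}

namespace FUS

/-- an element of `C(t)` centralizes or inverts every element of `K` -/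
theorem conj_of_mem_H (h : Hyp t s K) {g x : G} (hg : g ∈ Subgroup.centralizer ({t} : Set G))
    (hx : x ∈ K) : g * x * g⁻¹ = x ∨ g * x * g⁻¹ = x⁻¹ := by
  rcases (mem_H_iff h g).1 hg with hk | ⟨k, hk, rfl⟩
  · left
    rw [h.hKab g hk x hx, mul_assoc, mul_inv_cancel, mul_one]
  · right
    exact (coset_props h hk).2.2 x hx

end FUS

/-- PIECE FUS (G4). `g x g⁻¹ ∈ K ⊓ K^g`, TI gives `g ∈ C(t) = K ∪ Ks`. -/
theorem conj_mem (h : Hyp t s K) {x g : G} (hx : x ∈ K) (h1 : x ≠ 1) (hg : g * x * g⁻¹ ∈ K) :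
    g ∈ Subgroup.centralizer ({t} : Set G) ∧ (g * x * g⁻¹ = x ∨ g * x * g⁻¹ = x⁻¹) := by
  have hgt : g ∈ Subgroup.centralizer ({t} : Set G) := by
    by_contra hgt
    have hTI := h.hTI g hgt
    have hmem : g * x * g⁻¹ ∈ K ⊓ K.map (MulAut.conj g).toMonoidHom :=
      ⟨hg, CENT.conj_mem_map K g hx⟩
    rw [hTI, Subgroup.mem_bot] at hmem
    apply h1
    have : x = g⁻¹ * (g * x * g⁻¹) * g := by group
    rw [this, hmem]
    group
  exact ⟨hgt, FUS.conj_of_mem_H h hgt hx⟩

/-- PIECE FUS (G4). `⊇`: `K` centralizes, `ks` inverts `K`.  `⊆`: `conj_mem`. -/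
theorem normalizer_eq (h : Hyp t s K) {X : Subgroup G} (hX : X ≤ K) (hne : X ≠ ⊥) :
    Subgroup.normalizer (X : Set G) = Subgroup.centralizer ({t} : Set G) := by
  apply le_antisymm
  · intro g hg
    obtain ⟨⟨x, hxX⟩, hx1⟩ := Subgroup.ne_bot_iff_exists_ne_one.1 hne
    have hx1' : x ≠ 1 := fun h' => hx1 (Subtype.ext h')
    have hgx : g * x * g⁻¹ ∈ X := (Subgroup.mem_normalizer_iff.1 hg x).1 hxX
    exact (conj_mem h (hX hxX) hx1' (hX hgx)).1
  · intro g hg
    rw [Subgroup.mem_normalizer_iff]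
    intro n
    constructor
    · intro hn
      rcases FUS.conj_of_mem_H h hg (hX hn) with h' | h'
      · rw [h']; exact hn
      · rw [h']; exact X.inv_mem hn
    · intro hn
      have hg' : g⁻¹ ∈ Subgroup.centralizer ({t} : Set G) := Subgroup.inv_mem _ hg
      have e : n = g⁻¹ * (g * n * g⁻¹) * g⁻¹⁻¹ := by group
      rw [e]
      rcases FUS.conj_of_mem_H h hg' (hX hn) with h' | h'
      · rw [h']; exact hn
      · rw [h']; exact X.inv_mem hn

end Cfsg.Agent.Helper3.BSW
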