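import Mathlib
import Cfsg.Agent.Lib.Helper15.S74Defs
import Cfsg.Agent.Lib.Helper15.S74ADJ
import Cfsg.Agent.Lib.Helper9.S74RND

/-!
# S74-INVFORMM core (S2474): an irreducible `g`, `g^2 ≠ 1`, with a nonzero invariant form
(helper4).  MODEL and SIGMA enter as hypotheses (`hmodel`, `hsigma`).
-/

set_option autoImplicit false

open Cfsg.Agent.Helper15.S62

namespace Cfsg.Agent.Helper15.S74

universe u

variable {F : Type u} [Field F]

/-- the left radical of an invariant form is invariant -/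
theorem s74_invformm_lnd {U : Type u} [AddCommGroup U] [Module F U]
    (g : Module.End F U) (hirr : Irred g) (N : ℕ) (hN : 0 < N)
    (hgN : g ^ N = 1) (β : LinearMap.BilinForm F U) (hβ : β ≠ 0)
    (hinv : Isom β g) : LND β := by
  -- the left radical
  let R : Submodule F U :=
    { carrier := {x | ∀ y, β x y = 0}
      add_mem' := by
        intro a b ha hb y
        simp only [Set.mem_ofPred_eq] at ha hb
        rw [map_add, LinearMap.add_apply, ha y, hb y, add_zero]
      zero_mem' := by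
        intro y
        simp
      smul_mem' := by
        intro c x hx y
        simp only [Set.mem_ofPred_eq] at hx
        rw [map_smul, LinearMap.smul_apply, hx y, smul_zero] }
  have hRmem : ∀ x, x ∈ R ↔ ∀ y, β x y = 0 := fun x => Iff.rfl
  have hgg : ∀ y, g ((g ^ (N - 1)) y) = y := by
    intro y
    have h1 : g * g ^ (N - 1) = 1 := by
      rw [← pow_succ', Nat.sub_add_cancel hN, hgN]
    have h2 := congrArg (fun f : Module.End F U => f y) h1
    simpa using h2
  have hRinv : Invar g R := by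
    intro x hx
    rw [hRmem] at hx ⊢
    intro y
    rw [← hgg y, hinv]
    exact hx _
  rcases hirr.2 R hRinv with h | h
  · intro x hx
    have : x ∈ R := (hRmem x).2 hx
    rw [h] at this
    exact (Submodule.mem_bot F).1 this
  · exfalso
    apply hβ
    ext x y
    have : x ∈ R := by rw [h]; exact Submodule.mem_top
    simpa using (hRmem x).1 this y

/-- S74-INVFORMM, with MODEL and SIGMA as hypotheses. -/
theorem invform_model_core [Fintype F] {U : Type u} [AddCommGroup U] [Module F U]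
    [FiniteDimensional F U]
    (hmodel : ∀ (g : Module.End F U), Irred g →
      ∃ (L : Type u) (_ : Field L) (_ : Algebra F L) (_ : Module.Finite F L) (φ : L ≃ₗ[F] U)
        (ζ : L), Algebra.adjoin F {ζ} = ⊤ ∧ ∀ x : L, φ (ζ * x) = g (φ x))
    (hsigma : ∀ {L : Type u} [Field L] [Algebra F L] [Finite L] (σ : L →ₐ[F] L),
      (∀ x, σ (σ x) = x) → (∃ x, σ x ≠ x) →
      ∃ k : ℕ, 1 ≤ k ∧ Module.finrank F L = 2 * k ∧ ∀ x : L, σ x = x ^ (Fintype.card F ^ k))
    (g : Module.End F U) (hirr : Irred g) (N : ℕ) (hN : 0 < N)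
    (hgN : g ^ N = 1) (hg2 : g ^ 2 ≠ 1) (β : LinearMap.BilinForm F U) (hβ : β ≠ 0)
    (hinv : Isom β g) :
    ∃ (k : ℕ) (L : Type u) (_ : Field L) (_ : Algebra F L) (_ : Module.Finite F L)
      (φ : L ≃ₗ[F] U) (ζ : L),
      1 ≤ k ∧ Module.finrank F L = 2 * k ∧ Algebra.adjoin F {ζ} = ⊤ ∧
      (∀ x : L, φ (ζ * x) = g (φ x)) ∧ LND β ∧
      ∀ a x y : L, β (φ (a * x)) (φ y) = β (φ x) (φ (a ^ (Fintype.card F ^ k) * y)) := by
  classical
  have hlnd : LND β := s74_invformm_lnd g hirr N hN hgN β hβ hinv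
  have hrnd := rnd_of_lnd β hlnd
  obtain ⟨L, instL, instA, instM, φ, ζ, hζ, hφ⟩ := hmodel g hirr
  have : Finite L := Module.finite_of_finite F
  have : Nontrivial U := hirr.1
  -- powers of ζ
  have hφpow : ∀ (j : ℕ) (x : L), φ (ζ ^ j * x) = (g ^ j) (φ x) := by
    intro j
    induction j with
    | zero => intro x; simp
    | succ j ih =>
      intro x
      rw [pow_succ', mul_assoc, hφ, ih, pow_succ']
      rfl
  have hζ0 : ζ ≠ 0 := by
    intro h0
    obtain ⟨v, hv⟩ := exists_ne (0 : U)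
    apply hv
    have h1 := hφpow N (φ.symm v)
    rw [hgN, h0, zero_pow hN.ne', zero_mul, map_zero, LinearEquiv.apply_symm_apply] at h1
    simpa using h1.symm
  have hζ2 : ζ ^ 2 ≠ 1 := by
    intro h1
    apply hg2
    ext v
    have h3 := hφpow 2 (φ.symm v)
    rw [h1, one_mul, LinearEquiv.apply_symm_apply] at h3
    simpa using h3.symm
  -- the transported form
  let B' : LinearMap.BilinForm F L := β.compl₁₂ (φ : L →ₗ[F] U) (φ : L →ₗ[F] U)
  have hB' : ∀ x y : L, B' x y = β (φ x) (φ y) := fun x y => rfl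
  have hndr : ∀ y, (∀ x, B' x y = 0) → y = 0 := by
    intro y hy
    have h1 : φ y = 0 := by
      apply hrnd
      intro w
      have := hy (φ.symm w)
      rwa [hB', LinearEquiv.apply_symm_apply] at this
    exact φ.map_eq_zero_iff.1 h1
  have hinv' : ∀ x y, B' (ζ * x) (ζ * y) = B' x y := by
    intro x y
    rw [hB', hB', hφ, hφ, hinv]
  obtain ⟨σ, hσζ, hσ⟩ := exists_adjoint' B' hndr ζ hζ0 hζ hinv'
  have hσσ : σ.comp σ = AlgHom.id F L := by
    apply AlgHom.ext_of_adjoin_eq_top hζ
    intro x hx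
    rw [Set.mem_singleton_iff] at hx
    subst hx
    rw [AlgHom.comp_apply, hσζ, map_inv₀, hσζ, inv_inv]
    rfl
  have hσinv : ∀ x, σ (σ x) = x := by
    intro x
    have := congrArg (fun f : L →ₐ[F] L => f x) hσσ
    simpa using this
  have hσne : ∃ x, σ x ≠ x := by
    refine ⟨ζ, ?_⟩
    rw [hσζ]
    intro h1
    apply hζ2
    rw [pow_two]
    calc ζ * ζ = ζ⁻¹ * ζ := by rw [h1]
      _ = 1 := inv_mul_cancel₀ hζ0
  obtain ⟨k, hk1, hk2, hk3⟩ := hsigma σ hσinv hσne
  refine ⟨k, L, instL, instA, instM, φ, ζ, hk1, hk2, hζ, hφ, hlnd, ?_⟩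
  intro a x y
  have := hσ a x y
  rw [hB', hB', hk3] at this
  exact this

end Cfsg.Agent.Helper15.S74
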