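import Mathlib
import Cfsg.Agent.Lib.Helper4.S74INVFORMMCore
import Cfsg.Agent.Lib.Helper19.S74MODEL
import Cfsg.Agent.Lib.Helper5.S74SIGMA

/-!
# S74-INVFORMM (S2474): exact-signature wrapper (helper4)
-/

set_option autoImplicit false

open Cfsg.Agent.Helper15.S62

namespace Cfsg.Agent.Helper15.S74

universe u

variable {F : Type u} [Field F]

/-- S74-INVFORMM (uses MODEL, RND, ADJ, SIGMA): an irreducible `g` of finite order with `g^2 ≠ 1`
preserving a NONZERO bilinear form `β` (no symmetry assumed): the left radical is invariant, hence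
zero; in the field model the adjoint `σ` satisfies `σ ζ = ζ⁻¹ ≠ ζ`, `σ ∘ σ = id`, so `σ = Frob^k`
with `finrank = 2k`. -/
theorem invform_model [Fintype F] {U : Type u} [AddCommGroup U] [Module F U]
    [FiniteDimensional F U] (g : Module.End F U) (hirr : Irred g) (N : ℕ) (hN : 0 < N)
    (hgN : g ^ N = 1) (hg2 : g ^ 2 ≠ 1) (β : LinearMap.BilinForm F U) (hβ : β ≠ 0)
    (hinv : Isom β g) :
    ∃ (k : ℕ) (L : Type u) (_ : Field L) (_ : Algebra F L) (_ : Module.Finite F L)
      (φ : L ≃ₗ[F] U) (ζ : L),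
      1 ≤ k ∧ Module.finrank F L = 2 * k ∧ Algebra.adjoin F {ζ} = ⊤ ∧
      (∀ x : L, φ (ζ * x) = g (φ x)) ∧ LND β ∧
      ∀ a x y : L, β (φ (a * x)) (φ y) = β (φ x) (φ (a ^ (Fintype.card F ^ k) * y)) :=
  invform_model_core (fun g h => exists_model g h)
    (fun σ h1 h2 => sigma_eq_pow' σ h1 h2) g hirr N hN hgN hg2 β hβ hinv

end Cfsg.Agent.Helper15.S74
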