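import Mathlib
import Cfsg.Prelude
import Cfsg.Agent.Lib.Helper4.Thompson

set_option autoImplicit false

namespace Cfsg.Agent.Helper4

section transport

variable {S S' : Type*} [Group S] [Group S'] {p : ℕ}

theorem isElementaryAbelian_map (e : S ≃* S') {A : Subgroup S}
    (hA : Cfsg.IsElementaryAbelian p A) : Cfsg.IsElementaryAbelian p (A.map e.toMonoidHom) := by
  obtain ⟨hAc, hAp⟩ := hA
  have := hAc
  refine ⟨inferInstance, ?_⟩
  rintro _ ⟨a, ha, rfl⟩
  rw [← map_pow, hAp a ha, map_one]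

theorem map_symm_map (e : S ≃* S') (A : Subgroup S) :
    (A.map e.toMonoidHom).map e.symm.toMonoidHom = A := by
  ext x
  constructor
  · rintro ⟨_, ⟨a, ha, rfl⟩, rfl⟩
    simpa using ha
  · intro hx
    exact ⟨e x, ⟨x, hx, rfl⟩, by simp⟩

theorem map_mem_maxElementaryAbelianSubgroups (e : S ≃* S') {A : Subgroup S}
    (hA : A ∈ Cfsg.maxElementaryAbelianSubgroups p S) :
    A.map e.toMonoidHom ∈ Cfsg.maxElementaryAbelianSubgroups p S' := by
  obtain ⟨hAe, hAmax⟩ := hA
  refine ⟨isElementaryAbelian_map e hAe, ?_⟩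
  intro B hB
  have h1 := hAmax (B.map e.symm.toMonoidHom) (isElementaryAbelian_map e.symm hB)
  have h2 : Nat.card (B.map e.symm.toMonoidHom) = Nat.card B :=
    Subgroup.card_map_of_injective e.symm.injective
  have h3 : Nat.card (A.map e.toMonoidHom) = Nat.card A :=
    Subgroup.card_map_of_injective e.injective
  omega

theorem thompsonSubgroup_map_le (e : S ≃* S') :
    (Cfsg.thompsonSubgroup p S).map e.toMonoidHom ≤ Cfsg.thompsonSubgroup p S' := by
  unfold Cfsg.thompsonSubgroup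
  rw [Subgroup.map_le_iff_le_comap]
  apply sSup_le
  intro A hA
  rw [← Subgroup.map_le_iff_le_comap]
  exact le_sSup (map_mem_maxElementaryAbelianSubgroups e hA)

theorem map_eq_of_le_of_symm_le (e : S ≃* S') {A : Subgroup S} {A' : Subgroup S'}
    (h1 : A.map e.toMonoidHom ≤ A') (h2 : A'.map e.symm.toMonoidHom ≤ A) :
    A.map e.toMonoidHom = A' := by
  apply le_antisymm h1
  intro x hx
  exact ⟨e.symm x, h2 ⟨x, hx, rfl⟩, by simp⟩

theorem thompsonSubgroup_map (e : S ≃* S') :
    (Cfsg.thompsonSubgroup p S).map e.toMonoidHom = Cfsg.thompsonSubgroup p S' :=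
  map_eq_of_le_of_symm_le e (thompsonSubgroup_map_le e) (thompsonSubgroup_map_le e.symm)

theorem omegaCenterThompson_map_le (e : S ≃* S') :
    (Cfsg.omegaCenterThompson p S).map e.toMonoidHom ≤ Cfsg.omegaCenterThompson p S' := by
  unfold Cfsg.omegaCenterThompson Cfsg.omegaOne
  rw [MonoidHom.map_closure]
  apply Subgroup.closure_mono
  rintro _ ⟨x, ⟨hxJC, hxp⟩, rfl⟩
  obtain ⟨hxJ, hxC⟩ := Subgroup.mem_inf.1 hxJC
  refine ⟨Subgroup.mem_inf.2 ⟨thompsonSubgroup_map_le e ⟨x, hxJ, rfl⟩, ?_⟩, ?_⟩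
  · rw [Subgroup.mem_centralizer_iff]
    intro j hj
    have hj' : e.symm j ∈ Cfsg.thompsonSubgroup p S :=
      thompsonSubgroup_map_le e.symm ⟨j, hj, rfl⟩
    have := (Subgroup.mem_centralizer_iff.1 hxC) _ hj'
    have h2 := congrArg e this
    simpa using h2
  · show (e x) ^ p = 1
    rw [← map_pow, hxp, map_one]

theorem omegaCenterThompson_map (e : S ≃* S') :
    (Cfsg.omegaCenterThompson p S).map e.toMonoidHom = Cfsg.omegaCenterThompson p S' :=
  map_eq_of_le_of_symm_le e (omegaCenterThompson_map_le e) (omegaCenterThompson_map_le e.symm)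

theorem omegaOne_center_map_le (e : S ≃* S') :
    (Cfsg.omegaOne p (Subgroup.center S)).map e.toMonoidHom ≤
      Cfsg.omegaOne p (Subgroup.center S') := by
  unfold Cfsg.omegaOne
  rw [MonoidHom.map_closure]
  apply Subgroup.closure_mono
  rintro _ ⟨x, ⟨hxZ, hxp⟩, rfl⟩
  refine ⟨?_, ?_⟩
  · rw [Subgroup.mem_center_iff]
    intro y
    have := (Subgroup.mem_center_iff.1 hxZ) (e.symm y)
    have h2 := congrArg e this
    simpa using h2
  · show (e x) ^ p = 1
    rw [← map_pow, hxp, map_one]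

end transport

section stable

universe u

variable {S S' H : Type u} [Group S] [Group S'] [Group H] {p : ℕ}

theorem isStableEmbedding_comp (e : S' ≃* S) {τ : S →* H} (hτ : Cfsg.IsStableEmbedding p τ) :
    Cfsg.IsStableEmbedding p (τ.comp e.toMonoidHom) := by
  obtain ⟨hinj, hfin, ⟨P, hP⟩, hcent, hJn, hstab⟩ := hτ
  refine ⟨hinj.comp e.injective, hfin, ⟨P, ?_⟩, hcent, ?_, ?_⟩
  · rw [hP]
    ext h
    constructor
    · rintro ⟨s, rfl⟩
      exact ⟨e.symm s, by simp⟩
    · rintro ⟨s', rfl⟩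
      exact ⟨e s', rfl⟩
  · rw [← Subgroup.map_map, thompsonSubgroup_map e]
    exact hJn
  · intro V hVn hV
    apply hstab V
    rw [← Subgroup.map_map, omegaCenterThompson_map e] at hV
    exact hV

end stable

end Cfsg.Agent.Helper4
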