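import Mathlib
import Cfsg.Prelude.Def_PLocal

/-!
# Best offenders: conjugation and commutator basics (helper4)
-/

set_option autoImplicit false
set_option linter.unusedSectionVars false
set_option linter.unusedVariables false

namespace Cfsg.Agent.Helper4.OG

open scoped commutatorElement

variable {G : Type*} [Group G]

/-- the conjugate `x A x⁻¹` -/
abbrev cj (x : G) (A : Subgroup G) : Subgroup G := A.map (MulAut.conj x).toMonoidHom

theorem mem_cj {x y : G} {A : Subgroup G} : y ∈ cj x A ↔ x⁻¹ * y * x ∈ A := by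
  unfold cj
  rw [Subgroup.mem_map_equiv, MulAut.conj_symm_apply]

theorem conj_mem_cj {x a : G} {A : Subgroup G} (ha : a ∈ A) : x * a * x⁻¹ ∈ cj x A :=
  ⟨a, ha, rfl⟩

theorem cj_one (A : Subgroup G) : cj 1 A = A := by
  ext y; rw [mem_cj]; simp

theorem cj_cj (x y : G) (A : Subgroup G) : cj x (cj y A) = cj (x * y) A := by
  ext z
  rw [mem_cj, mem_cj, mem_cj]
  have : y⁻¹ * (x⁻¹ * z * x) * y = (x * y)⁻¹ * z * (x * y) := by group
  rw [this]

theorem cj_inv_cj (x : G) (A : Subgroup G) : cj x⁻¹ (cj x A) = A := by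
  rw [cj_cj, inv_mul_cancel, cj_one]

theorem cj_cj_inv (x : G) (A : Subgroup G) : cj x (cj x⁻¹ A) = A := by
  rw [cj_cj, mul_inv_cancel, cj_one]

theorem cj_mono (x : G) {A B : Subgroup G} (h : A ≤ B) : cj x A ≤ cj x B := Subgroup.map_mono h

theorem cj_le_iff (x : G) {A B : Subgroup G} : cj x A ≤ B ↔ A ≤ cj x⁻¹ B := by
  constructor
  · intro h
    have := cj_mono x⁻¹ h
    rwa [cj_inv_cj] at this
  · intro h
    have := cj_mono x h
    rwa [cj_cj_inv] at this

theorem card_cj (x : G) (A : Subgroup G) : Nat.card ↥(cj x A) = Nat.card ↥A :=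
  Subgroup.card_map_of_injective (MulAut.conj x).injective

theorem cj_commutator (x : G) (A B : Subgroup G) : cj x ⁅A, B⁆ = ⁅cj x A, cj x B⁆ :=
  Subgroup.map_commutator A B _

theorem cj_inf (x : G) (A B : Subgroup G) : cj x (A ⊓ B) = cj x A ⊓ cj x B :=
  Subgroup.map_inf A B _ (MulAut.conj x).injective

theorem cj_sup (x : G) (A B : Subgroup G) : cj x (A ⊔ B) = cj x A ⊔ cj x B :=
  Subgroup.map_sup A B _

theorem cj_bot (x : G) : cj x (⊥ : Subgroup G) = ⊥ := Subgroup.map_bot _

theorem cj_eq_bot_iff (x : G) (A : Subgroup G) : cj x A = ⊥ ↔ A = ⊥ :=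
  Subgroup.map_eq_bot_iff_of_injective A (MulAut.conj x).injective

theorem cj_eq_self_of_mem_normalizer {x : G} {V : Subgroup G}
    (hx : x ∈ Subgroup.normalizer (V : Set G)) : cj x V = V :=
  Subgroup.mem_normalizer_iff_map_conj_eq.mp hx

theorem cj_eq_self_of_mem {x : G} {V : Subgroup G} (hx : x ∈ V) : cj x V = V :=
  cj_eq_self_of_mem_normalizer (Subgroup.le_normalizer hx)

theorem cj_centralizer (x : G) (A : Subgroup G) :
    cj x (Subgroup.centralizer (A : Set G)) = Subgroup.centralizer ((cj x A : Subgroup G) : Set G) := by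
  ext y
  rw [mem_cj, Subgroup.mem_centralizer_iff, Subgroup.mem_centralizer_iff]
  constructor
  · intro h z hz
    have hz' := mem_cj.mp hz
    have := h _ hz'
    calc z * y = x * ((x⁻¹ * z * x) * (x⁻¹ * y * x)) * x⁻¹ := by group
      _ = x * ((x⁻¹ * y * x) * (x⁻¹ * z * x)) * x⁻¹ := by rw [this]
      _ = y * z := by group
  · intro h a ha
    have := h _ (conj_mem_cj (x := x) ha)
    calc a * (x⁻¹ * y * x) = x⁻¹ * ((x * a * x⁻¹) * y) * x := by group
      _ = x⁻¹ * (y * (x * a * x⁻¹)) * x := by rw [this]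
      _ = x⁻¹ * y * x * a := by group

theorem isPGroup_cj {p : ℕ} (x : G) {A : Subgroup G} (h : IsPGroup p ↥A) : IsPGroup p ↥(cj x A) :=
  h.map _

/-- best offenders are permuted by the normalizer of `V` -/
theorem isBestOffenderOn_cj {p : ℕ} {V A : Subgroup G} (h : Cfsg.IsBestOffenderOn p V A) {x : G}
    (hx : x ∈ Subgroup.normalizer (V : Set G)) : Cfsg.IsBestOffenderOn p V (cj x A) := by
  obtain ⟨h1, h2, h3⟩ := h
  have hV : cj x V = V := cj_eq_self_of_mem_normalizer hx
  have hcard : ∀ B : Subgroup G, Nat.card ↥(V ⊓ Subgroup.centralizer ((cj x B : Subgroup G) : Set G))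
      = Nat.card ↥(V ⊓ Subgroup.centralizer (B : Set G)) := by
    intro B
    rw [← cj_centralizer]
    nth_rewrite 1 [← hV]
    rw [← cj_inf, card_cj]
  have hCV : cj x (Subgroup.centralizer (V : Set G)) = Subgroup.centralizer (V : Set G) := by
    rw [cj_centralizer, hV]
  refine ⟨?_, ?_, ?_⟩
  · intro B hB
    have hB' : cj x⁻¹ B ≤ A := by
      rw [cj_le_iff, inv_inv]; exact hB
    have := h1 _ hB'
    rw [← hcard (cj x⁻¹ B), cj_cj_inv, card_cj] at this
    rw [hcard A, card_cj]
    exact this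
  · rw [← cj_commutator, ← hCV]
    exact cj_mono x h2
  · intro a ha
    have ha' := mem_cj.mp ha
    have h4 := h3 _ ha'
    have h5 : a ^ p = x * (x⁻¹ * a * x) ^ p * x⁻¹ := by
      have h6 : (x⁻¹ * a * x) ^ p = x⁻¹ * a ^ p * x := by
        have := conj_pow (a := x⁻¹) (b := a) (i := p)
        rwa [inv_inv] at this
      rw [h6]; group
    rw [h5, ← hCV]
    exact conj_mem_cj h4

/-- `[V, A ⊔ B] = [V, A][V, B]` when `A` and `B` normalize `V` -/
theorem commutator_sup_right {V A B : Subgroup G} (hA : A ≤ Subgroup.normalizer (V : Set G))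
    (hB : B ≤ Subgroup.normalizer (V : Set G)) : ⁅V, A ⊔ B⁆ = ⁅V, A⁆ ⊔ ⁅V, B⁆ := by
  apply le_antisymm
  · set N : Subgroup G := ⁅V, A⁆ ⊔ ⁅V, B⁆ with hN
    have hNV : N ≤ V := by
      refine sup_le ?_ ?_
      · rw [Subgroup.commutator_le]
        intro v hv a ha
        have := (Subgroup.mem_normalizer_iff.mp (hA ha) v⁻¹).mp (V.inv_mem hv)
        rw [commutatorElement_def]
        have e : v * a * v⁻¹ * a⁻¹ = v * (a * v⁻¹ * a⁻¹) := by group
        rw [e]; exact V.mul_mem hv this
      · rw [Subgroup.commutator_le]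
        intro v hv a ha
        have := (Subgroup.mem_normalizer_iff.mp (hB ha) v⁻¹).mp (V.inv_mem hv)
        rw [commutatorElement_def]
        have e : v * a * v⁻¹ * a⁻¹ = v * (a * v⁻¹ * a⁻¹) := by group
        rw [e]; exact V.mul_mem hv this
    -- the subgroup of elements acting trivially on `V / N`
    let K : Subgroup G :=
      { carrier := {g | g ∈ Subgroup.normalizer (V : Set G) ∧ ∀ v ∈ V, ⁅v, g⁆ ∈ N}
        one_mem' := by
          refine ⟨Subgroup.one_mem _, fun v _ => ?_⟩
          rw [commutatorElement_one_right]; exact N.one_mem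
        mul_mem' := by
          rintro g h ⟨hg, hg'⟩ ⟨hh, hh'⟩
          refine ⟨Subgroup.mul_mem _ hg hh, fun v hv => ?_⟩
          have e : ⁅v, g * h⁆ = ⁅v, g⁆ * (⁅v, h⁆ * ⁅(⁅v, h⁆)⁻¹, g⁆) := by
            simp only [commutatorElement_def]; group
          rw [e]
          exact N.mul_mem (hg' v hv) (N.mul_mem (hh' v hv)
            (hg' _ (V.inv_mem (hNV (hh' v hv)))))
        inv_mem' := by
          rintro g ⟨hg, hg'⟩
          refine ⟨Subgroup.inv_mem _ hg, fun v hv => ?_⟩
          have hv' : g⁻¹ * v * g ∈ V := by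
            have := (Subgroup.mem_normalizer_iff.mp (Subgroup.inv_mem _ hg) v).mp hv
            simpa using this
          have e : ⁅v, g⁻¹⁆ = (⁅g⁻¹ * v * g, g⁆)⁻¹ := by
            simp only [commutatorElement_def]; group
          rw [e]
          exact N.inv_mem (hg' _ hv') }
    have hAK : A ≤ K := fun a ha =>
      ⟨hA ha, fun v hv => le_sup_left (a := ⁅V, A⁆) (Subgroup.commutator_mem_commutator hv ha)⟩
    have hBK : B ≤ K := fun b hb =>
      ⟨hB hb, fun v hv => le_sup_right (b := ⁅V, B⁆) (Subgroup.commutator_mem_commutator hv hb)⟩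
    rw [Subgroup.commutator_le]
    intro v hv g hg
    exact ((sup_le hAK hBK) hg).2 v hv
  · exact sup_le (Subgroup.commutator_mono le_rfl le_sup_left)
      (Subgroup.commutator_mono le_rfl le_sup_right)

/-- `[V, A] ≤ V` when `A` normalizes `V` -/
theorem commutator_le_left_of_normalizer {V A : Subgroup G}
    (hA : A ≤ Subgroup.normalizer (V : Set G)) : ⁅V, A⁆ ≤ V := by
  rw [Subgroup.commutator_le]
  intro v hv a ha
  have := (Subgroup.mem_normalizer_iff.mp (hA ha) v⁻¹).mp (V.inv_mem hv)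
  rw [commutatorElement_def]
  have e : v * a * v⁻¹ * a⁻¹ = v * (a * v⁻¹ * a⁻¹) := by group
  rw [e]; exact V.mul_mem hv this

end Cfsg.Agent.Helper4.OG
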