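import Mathlib
import Cfsg.Prelude.Def_PLocal
import Cfsg.Agent.Lib.Helper4.OffBasic
import Cfsg.Agent.Lib.Helper10.Cores

/-!
# Best offenders: the setting of a group generated by best offenders with self-centralizing
`p'`-core (helper4)
-/

set_option autoImplicit false
set_option linter.unusedSectionVars false
set_option linter.unusedVariables false
set_option linter.style.haveILetI false

namespace Cfsg.Agent.Helper4.OG

open scoped commutatorElement

variable {G : Type*} [Group G]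

/-- the standing hypotheses -/
structure Setting (p : ℕ) (V H : Subgroup G) : Prop where
  hV : Cfsg.IsElementaryAbelian p V
  hHV : H ≤ Subgroup.normalizer (V : Set G)
  hf : H ⊓ Subgroup.centralizer (V : Set G) = ⊥
  hS1 : Subgroup.centralizer (Cfsg.pPrimeCore p ↥H : Set ↥H) ≤ Cfsg.pPrimeCore p ↥H
  hS3 : H = ⨆ A : {A : Subgroup G // A ≤ H ∧ Cfsg.IsBestOffenderOn p V A}, (A : Subgroup G)
  hH1 : H ≠ ⊥

/-- minimal nontrivially acting best offenders in `H` -/
def MinOff (p : ℕ) (V H A : Subgroup G) : Prop :=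
  A ≤ H ∧ Cfsg.IsBestOffenderOn p V A ∧ ⁅V, A⁆ ≠ ⊥ ∧
    ∀ B : Subgroup G, B ≤ A → Cfsg.IsBestOffenderOn p V B → ⁅V, B⁆ ≠ ⊥ → B = A

/-- `O_{p'}(H)` inside the ambient group -/
def XX (p : ℕ) (H : Subgroup G) : Subgroup G := (Cfsg.pPrimeCore p ↥H).map H.subtype

section setting

variable {p : ℕ} [hp : Fact p.Prime] {V H : Subgroup G}

theorem XX_le (p : ℕ) (H : Subgroup G) : XX p H ≤ H := Subgroup.map_subtype_le _

theorem mem_XX {x : G} : x ∈ XX p H ↔ ∃ h : x ∈ H, (⟨x, h⟩ : ↥H) ∈ Cfsg.pPrimeCore p ↥H := by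
  unfold XX
  constructor
  · rintro ⟨y, hy, rfl⟩
    exact ⟨y.2, hy⟩
  · rintro ⟨h, hx⟩
    exact ⟨⟨x, h⟩, hx, rfl⟩

/-- `X` is normalized by `H` -/
theorem cj_XX {h : G} (hh : h ∈ H) : cj h (XX p H) = XX p H := by
  haveI : (Cfsg.pPrimeCore p ↥H).Normal := Cfsg.Agent.Helper10.pPrimeCore_normal p
  have key : ∀ g ∈ H, cj g (XX p H) ≤ XX p H := by
    intro g hg y hy
    rw [mem_cj, mem_XX] at hy
    obtain ⟨hy1, hy2⟩ := hy
    rw [mem_XX]
    have hyH : y ∈ H := by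
      have := H.mul_mem (H.mul_mem hg hy1) (H.inv_mem hg)
      have e : g * (g⁻¹ * y * g) * g⁻¹ = y := by group
      rwa [e] at this
    refine ⟨hyH, ?_⟩
    have := (inferInstance : (Cfsg.pPrimeCore p ↥H).Normal).conj_mem _ hy2 ⟨g, hg⟩
    have e : (⟨g, hg⟩ : ↥H) * ⟨g⁻¹ * y * g, hy1⟩ * (⟨g, hg⟩ : ↥H)⁻¹ = ⟨y, hyH⟩ := by
      apply Subtype.ext
      show g * (g⁻¹ * y * g) * g⁻¹ = y
      group
    rwa [e] at this
  apply le_antisymm (key h hh)
  have := key h⁻¹ (H.inv_mem hh)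
  rw [cj_le_iff, inv_inv] at this
  exact this

theorem conj_mem_XX {h x : G} (hh : h ∈ H) (hx : x ∈ XX p H) : h * x * h⁻¹ ∈ XX p H := by
  have := conj_mem_cj (x := h) hx
  rwa [cj_XX hh] at this

theorem H_le_normalizer_XX : H ≤ Subgroup.normalizer (XX p H : Set G) := by
  intro h hh
  rw [Subgroup.mem_normalizer_iff_map_conj_eq]
  exact cj_XX hh

theorem card_XX_coprime [Finite G] : (Nat.card ↥(XX p H)).Coprime p := by
  unfold XX
  rw [Subgroup.card_map_of_injective H.subtype_injective]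
  exact Cfsg.Agent.Helper10.card_pPrimeCore_coprime p

/-- a `p`-subgroup meets `X` trivially -/
theorem inf_XX_eq_bot [Finite G] {A : Subgroup G} (hA : IsPGroup p ↥A) : A ⊓ XX p H = ⊥ := by
  obtain ⟨n, hn⟩ := IsPGroup.iff_card.mp hA
  apply (Subgroup.disjoint_of_coprime_natCard ?_).eq_bot
  rw [hn]
  exact Nat.Coprime.pow_left n (card_XX_coprime (p := p) (H := H)).symm

variable (hS : Setting p V H)
include hS

/-- `C_H(X) ≤ X` -/
theorem mem_XX_of_centralizes {h : G} (hh : h ∈ H) (hc : ∀ x ∈ XX p H, h * x = x * h) :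
    h ∈ XX p H := by
  rw [mem_XX]
  refine ⟨hh, hS.hS1 ?_⟩
  rw [Subgroup.mem_centralizer_iff]
  intro y hy
  apply Subtype.ext
  have hyX : (y : G) ∈ XX p H := mem_XX.mpr ⟨y.2, hy⟩
  exact (hc _ hyX).symm

/-- a nontrivial `p`-subgroup of `H` does not centralize `X` -/
theorem exists_not_centralize [Finite G] {A : Subgroup G} (hAH : A ≤ H) (hA : IsPGroup p ↥A)
    (hA1 : A ≠ ⊥) : ∃ x ∈ XX p H, x ∉ Subgroup.centralizer (A : Set G) := by
  by_contra hcon
  push Not at hcon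
  apply hA1
  rw [eq_bot_iff]
  intro a ha
  have h1 : a ∈ XX p H := by
    apply mem_XX_of_centralizes hS (hAH ha)
    intro x hx
    exact (Subgroup.mem_centralizer_iff.mp (hcon x hx) a ha)
  have h2 : a ∈ A ⊓ XX p H := ⟨ha, h1⟩
  rw [inf_XX_eq_bot hA] at h2
  exact h2

/-- `H` acts faithfully on `V` -/
theorem eq_one_of_centralizes {h : G} (hh : h ∈ H) (hc : ∀ v ∈ V, h * v = v * h) : h = 1 := by
  have h1 : h ∈ H ⊓ Subgroup.centralizer (V : Set G) := by
    refine Subgroup.mem_inf.mpr ⟨hh, ?_⟩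
    rw [Subgroup.mem_centralizer_iff]
    intro v hv
    exact (hc v hv).symm
  rw [hS.hf] at h1
  exact h1

theorem eq_bot_of_le_centralizer {A : Subgroup G} (hAH : A ≤ H)
    (hc : A ≤ Subgroup.centralizer (V : Set G)) : A = ⊥ := by
  rw [eq_bot_iff, ← hS.hf]
  exact le_inf hAH hc

/-- in `H`, best offenders are elementary abelian -/
theorem offender_comm {A : Subgroup G} (hAH : A ≤ H) (hA : Cfsg.IsBestOffenderOn p V A) :
    ∀ a ∈ A, ∀ b ∈ A, a * b = b * a := by
  intro a ha b hb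
  have h1 : ⁅a, b⁆ ∈ ⁅A, A⁆ := Subgroup.commutator_mem_commutator ha hb
  have h2 : ⁅A, A⁆ = ⊥ :=
    eq_bot_of_le_centralizer hS ((Subgroup.commutator_le.mpr (fun a ha b hb =>
      A.mul_mem (A.mul_mem (A.mul_mem ha hb) (A.inv_mem ha)) (A.inv_mem hb))).trans hAH) hA.2.1
  rw [h2, Subgroup.mem_bot, commutatorElement_def] at h1
  calc a * b = (a * b * a⁻¹ * b⁻¹) * (b * a) := by group
    _ = b * a := by rw [h1, one_mul]

theorem offender_pow {A : Subgroup G} (hAH : A ≤ H) (hA : Cfsg.IsBestOffenderOn p V A) :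
    ∀ a ∈ A, a ^ p = 1 := by
  intro a ha
  have h1 : a ^ p ∈ H ⊓ Subgroup.centralizer (V : Set G) :=
    ⟨H.pow_mem (hAH ha) p, hA.2.2 a ha⟩
  rw [hS.hf] at h1
  exact h1

theorem offender_isPGroup {A : Subgroup G} (hAH : A ≤ H) (hA : Cfsg.IsBestOffenderOn p V A) :
    IsPGroup p ↥A := by
  intro a
  refine ⟨1, ?_⟩
  rw [pow_one]
  exact Subtype.ext (offender_pow hS hAH hA a a.2)

omit hS in
/-- conjugates of minimal offenders are minimal offenders -/
theorem MinOff.cj {A : Subgroup G} (hA : MinOff p V H A) (hHV : H ≤ Subgroup.normalizer (V : Set G))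
    {h : G} (hh : h ∈ H) : MinOff p V H (cj h A) := by
  obtain ⟨h1, h2, h3, h4⟩ := hA
  have hhV := hHV hh
  have hV : OG.cj h V = V := cj_eq_self_of_mem_normalizer hhV
  refine ⟨?_, isBestOffenderOn_cj h2 hhV, ?_, ?_⟩
  · rw [cj_le_iff]
    have : OG.cj h⁻¹ H = H := cj_eq_self_of_mem (H.inv_mem hh)
    rw [this]; exact h1
  · intro hb
    apply h3
    have : OG.cj h ⁅V, A⁆ = ⊥ := by
      rw [cj_commutator, hV]; exact hb
    rwa [cj_eq_bot_iff] at this
  · intro B hB hB1 hB2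
    have hB' : OG.cj h⁻¹ B ≤ A := by
      rw [cj_le_iff, inv_inv]; exact hB
    have hh' : h⁻¹ ∈ Subgroup.normalizer (V : Set G) := Subgroup.inv_mem _ hhV
    have hV' : OG.cj h⁻¹ V = V := cj_eq_self_of_mem_normalizer hh'
    have := h4 _ hB' (isBestOffenderOn_cj hB1 hh') (by
      intro hb
      apply hB2
      have : OG.cj h⁻¹ ⁅V, B⁆ = ⊥ := by
        rw [cj_commutator, hV']; exact hb
      rwa [cj_eq_bot_iff] at this)
    rw [← this, cj_cj_inv]

end setting

end Cfsg.Agent.Helper4.OG
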