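import Mathlib
import Cfsg.Prelude.Def_PLocal
import Cfsg.Agent.Lib.Helper4.OffSetting

/-!
# Best offenders: minimal offenders as transvection groups (helper4)
-/

set_option autoImplicit false
set_option linter.unusedSectionVars false
set_option linter.unusedVariables false
set_option linter.style.haveILetI false

namespace Cfsg.Agent.Helper4.OG

open scoped commutatorElement

variable {G : Type*} [Group G]

section general

variable {p : ℕ} [hp : Fact p.Prime]

/-- a subgroup of prime order lies in any subgroup containing one of its nontrivial elements -/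
theorem le_of_prime_card {U K : Subgroup G} (hU : Nat.card U = p) {u : G} (hu : u ∈ U)
    (hu1 : u ≠ 1) (huK : u ∈ K) : U ≤ K := by
  intro u' hu'
  have h1 : (⟨u', hu'⟩ : ↥U) ∈ Subgroup.zpowers (⟨u, hu⟩ : ↥U) :=
    mem_zpowers_of_prime_card hU (by intro h; apply hu1; exact congrArg Subtype.val h)
  obtain ⟨k, hk⟩ := Subgroup.mem_zpowers_iff.mp h1
  have h2 : u ^ k = u' := by
    have := congrArg Subtype.val hk
    simpa using this
  rw [← h2]; exact K.zpow_mem huK k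

theorem eq_of_prime_card [Finite G] {U U' : Subgroup G} (hU : Nat.card U = p)
    (hU' : Nat.card U' = p) {u : G} (hu : u ∈ U) (hu' : u ∈ U') (hu1 : u ≠ 1) : U = U' := by
  have h1 : U ≤ U' := le_of_prime_card hU hu hu1 hu'
  exact Subgroup.eq_of_le_of_card_ge h1 (by rw [hU, hU'])

theorem exists_ne_one_of_prime_card {U : Subgroup G} (hU : Nat.card U = p) :
    ∃ u ∈ U, u ≠ 1 := by
  by_contra hcon
  push Not at hcon
  have : U = ⊥ := by
    rw [eq_bot_iff]; intro u hu; exact hcon u hu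
  rw [this, Subgroup.card_bot] at hU
  exact hp.1.one_lt.ne hU

theorem ne_bot_of_prime_card {U : Subgroup G} (hU : Nat.card U = p) : U ≠ ⊥ := by
  intro h
  rw [h, Subgroup.card_bot] at hU
  exact hp.1.one_lt.ne hU

/-- a nontrivial homomorphism onto a group of prime order is onto -/
theorem exists_of_hom_prime {K L : Subgroup G} (f : G → G) (hL : Nat.card L = p)
    (hmem : ∀ k ∈ K, f k ∈ L) (hmul : ∀ k₁ ∈ K, ∀ k₂ ∈ K, f (k₁ * k₂) = f k₁ * f k₂)
    (hne : ∃ k ∈ K, f k ≠ 1) : ∀ l ∈ L, ∃ k ∈ K, f k = l := by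
  have h1 : f 1 = 1 := by
    have := hmul 1 K.one_mem 1 K.one_mem
    rw [mul_one] at this
    exact left_eq_mul.mp this
  let φ : ↥K →* ↥L :=
    { toFun := fun k => ⟨f k, hmem k k.2⟩
      map_one' := Subtype.ext h1
      map_mul' := fun a b => Subtype.ext (hmul a a.2 b b.2) }
  haveI : Fact (Nat.card ↥L).Prime := ⟨by rw [hL]; exact hp.1⟩
  have h2 : φ.range = ⊤ := by
    rcases φ.range.eq_bot_or_eq_top_of_prime_card with h | h
    · exfalso
      obtain ⟨k, hk, hk1⟩ := hne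
      have : φ ⟨k, hk⟩ ∈ φ.range := ⟨_, rfl⟩
      rw [h, Subgroup.mem_bot] at this
      exact hk1 (congrArg Subtype.val this)
    · exact h
  intro l hl
  have : (⟨l, hl⟩ : ↥L) ∈ φ.range := by rw [h2]; trivial
  obtain ⟨k, hk⟩ := this
  exact ⟨k, k.2, congrArg Subtype.val hk⟩

/-- a homomorphism into a smaller group has a nontrivial kernel -/
theorem exists_ker_of_card_lt [Finite G] {K L : Subgroup G} (f : G → G)
    (hmem : ∀ k ∈ K, f k ∈ L) (hmul : ∀ k₁ ∈ K, ∀ k₂ ∈ K, f (k₁ * k₂) = f k₁ * f k₂)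
    (hcard : Nat.card L < Nat.card K) : ∃ k ∈ K, k ≠ 1 ∧ f k = 1 := by
  by_contra hcon
  push Not at hcon
  have hinj : Function.Injective (fun k : ↥K => (⟨f k, hmem k k.2⟩ : ↥L)) := by
    intro x y hxy
    have h2 : f x = f y := congrArg Subtype.val hxy
    have h1 := hmul ((x : G) * (y : G)⁻¹) (K.mul_mem x.2 (K.inv_mem y.2)) (y : G) y.2
    rw [inv_mul_cancel_right, h2] at h1
    have h3 : f ((x : G) * (y : G)⁻¹) = 1 := right_eq_mul.mp h1
    by_contra hne
    apply hcon _ (K.mul_mem x.2 (K.inv_mem y.2)) _ h3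
    intro h
    apply hne
    exact Subtype.ext (mul_inv_eq_one.mp h)
  have := Nat.card_le_card_of_injective _ hinj
  omega

/-- an element of order dividing `p` normalizing a group of order `p` centralizes it -/
theorem conj_eq_of_prime_card {U : Subgroup G} (hU : Nat.card U = p) {a : G} (ha : a ^ p = 1)
    (hn : ∀ u ∈ U, a * u * a⁻¹ ∈ U) : ∀ u ∈ U, a * u * a⁻¹ = u := by
  intro u hu
  by_cases hu1 : u = 1
  · rw [hu1]; group
  haveI : Finite ↥U := Nat.finite_of_card_ne_zero (by rw [hU]; exact hp.1.ne_zero)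
  have h1 : (⟨a * u * a⁻¹, hn u hu⟩ : ↥U) ∈ Submonoid.powers (⟨u, hu⟩ : ↥U) :=
    mem_powers_of_prime_card hU (by intro h; apply hu1; exact congrArg Subtype.val h)
  obtain ⟨m, hm⟩ := h1
  have hm' : u ^ m = a * u * a⁻¹ := by
    have := congrArg Subtype.val hm
    simpa using this
  have hpow : ∀ n : ℕ, a ^ n * u * (a ^ n)⁻¹ = u ^ (m ^ n) := by
    intro n
    induction n with
    | zero => simp
    | succ n ih =>
      have e : a ^ (n + 1) * u * (a ^ (n + 1))⁻¹ = a * (a ^ n * u * (a ^ n)⁻¹) * a⁻¹ := by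
        rw [pow_succ']; group
      rw [e, ih, ← conj_pow, ← hm', ← pow_mul, pow_succ']
  have h2 := hpow p
  rw [ha] at h2
  have h3 : u ^ (m ^ p) = u ^ 1 := by rw [← h2]; simp
  have hord : orderOf u = p := by
    apply orderOf_eq_prime
    · have : (⟨u, hu⟩ : ↥U) ^ Nat.card ↥U = 1 := pow_card_eq_one'
      rw [hU] at this
      have := congrArg Subtype.val this
      simpa using this
    · exact hu1
  rw [pow_eq_pow_iff_modEq, hord] at h3
  have h4 : m ^ p ≡ m [MOD p] := by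
    rw [← ZMod.natCast_eq_natCast_iff, Nat.cast_pow, ZMod.pow_card]
  have h5 : m ≡ 1 [MOD p] := h4.symm.trans h3
  have h6 : u ^ m = u ^ 1 := by
    rw [pow_eq_pow_iff_modEq, hord]; exact h5
  rw [← hm', h6, pow_one]

/-- products in an abelian group -/
theorem mem_sup_of_le_comm {V U U' : Subgroup G} (hV : ∀ a ∈ V, ∀ b ∈ V, a * b = b * a)
    (hU : U ≤ V) (hU' : U' ≤ V) {r : G} :
    r ∈ U ⊔ U' ↔ ∃ u ∈ U, ∃ u' ∈ U', r = u * u' := by
  have h1 : U ≤ Subgroup.normalizer (U' : Set G) := by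
    refine le_trans ?_ (Subgroup.centralizer_le_normalizer _)
    intro u hu
    rw [Subgroup.mem_centralizer_iff]
    intro h hh
    exact hV h (hU' hh) u (hU hu)
  rw [← SetLike.mem_coe, Subgroup.coe_mul_of_left_le_normalizer_right U U' h1, Set.mem_mul]
  constructor
  · rintro ⟨u, hu, u', hu', rfl⟩
    exact ⟨u, hu, u', hu', rfl⟩
  · rintro ⟨u, hu, u', hu', rfl⟩
    exact ⟨u, hu, u', hu', rfl⟩

end general

section minoff

variable {p : ℕ} [hp : Fact p.Prime] {V H : Subgroup G}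

/-- the three earlier results of the chain, as hypotheses -/
structure Inputs (p : ℕ) (V H : Subgroup G) : Prop where
  i611 : ∀ A : Subgroup G, MinOff p V H A → Nat.card A = p ∧ Nat.card ↥(⁅V, A⁆) = p ∧
    (V ⊓ Subgroup.centralizer (A : Set G)).relIndex V = p
  i612 : ∀ A : Subgroup G, A ≤ H → Cfsg.IsBestOffenderOn p V A → A ≠ ⊥ →
    ∃ (k : ℕ) (B : Fin k → Subgroup G), (∀ i, B i ≤ A ∧ Cfsg.IsBestOffenderOn p V (B i) ∧
      ⁅V, B i⁆ ≠ ⊥ ∧ ∀ C : Subgroup G, C ≤ B i → Cfsg.IsBestOffenderOn p V C → ⁅V, C⁆ ≠ ⊥ →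
        C = B i) ∧ iSupIndep B ∧ ⨆ i, B i = A
  i613 : ∀ A : Subgroup G, MinOff p V H A → ∀ x ∈ XX p H,
    x ∉ Subgroup.centralizer (A : Set G) → (p = 2 ∨ p = 3) ∧
      Nat.card ↥(⁅V, A ⊔ cj x A⁆) = p ^ 2 ∧
      (A ⊔ cj x A) ⊓ Subgroup.centralizer ((⁅V, A ⊔ cj x A⁆ : Subgroup G) : Set G) = ⊥ ∧
      Nonempty (↥(A ⊔ cj x A) ≃* Matrix.SpecialLinearGroup (Fin 2) (ZMod p))

variable [Finite G] (hS : Setting p V H) (hI : Inputs p V H) {A : Subgroup G}
  (hA : MinOff p V H A)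
include hS hI hA

theorem mo_card : Nat.card A = p := (hI.i611 A hA).1

theorem mo_card_comm : Nat.card ↥(⁅V, A⁆) = p := (hI.i611 A hA).2.1

omit hI in
theorem mo_le_normalizer : A ≤ Subgroup.normalizer (V : Set G) := hA.1.trans hS.hHV

omit hI in
theorem mo_comm_le : ⁅V, A⁆ ≤ V := commutator_le_left_of_normalizer (mo_le_normalizer hS hA)

theorem mo_ne_bot : A ≠ ⊥ := ne_bot_of_prime_card (mo_card hS hI hA)

omit hI in
theorem mo_isPGroup : IsPGroup p ↥A := offender_isPGroup hS hA.1 hA.2.1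

omit hI in
theorem mo_pow {a : G} (ha : a ∈ A) : a ^ p = 1 := offender_pow hS hA.1 hA.2.1 a ha

theorem mo_card_V :
    Nat.card ↥V = Nat.card ↥(V ⊓ Subgroup.centralizer (A : Set G)) * p := by
  have h1 := Subgroup.relIndex_mul_relIndex (H := ⊥) (K := V ⊓ Subgroup.centralizer (A : Set G))
    (L := V) bot_le inf_le_left
  rw [Subgroup.relIndex_bot_left, Subgroup.relIndex_bot_left, (hI.i611 A hA).2.2] at h1
  exact h1.symm

omit hI hA in
theorem mo_V_comm : ∀ a ∈ V, ∀ b ∈ V, a * b = b * a := by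
  intro a ha b hb
  exact congrArg Subtype.val (hS.hV.1.is_comm.comm ⟨a, ha⟩ ⟨b, hb⟩)

omit hI in
/-- `A` normalizes `[V, A]` -/
theorem mo_cj_comm {a : G} (ha : a ∈ A) : cj a ⁅V, A⁆ = ⁅V, A⁆ := by
  rw [cj_commutator, cj_eq_self_of_mem ha,
    cj_eq_self_of_mem_normalizer (mo_le_normalizer hS hA ha)]

/-- `A` centralizes `[V, A]` -/
theorem mo_conj_comm {a w : G} (ha : a ∈ A) (hw : w ∈ ⁅V, A⁆) : a * w * a⁻¹ = w := by
  apply conj_eq_of_prime_card (mo_card_comm hS hI hA) (mo_pow hS hA ha) _ w hw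
  intro u hu
  have := conj_mem_cj (x := a) hu
  rwa [mo_cj_comm hS hA ha] at this

theorem mo_comm_le_centralizer : ⁅V, A⁆ ≤ V ⊓ Subgroup.centralizer (A : Set G) := by
  apply le_inf (mo_comm_le hS hA)
  intro w hw
  rw [Subgroup.mem_centralizer_iff]
  intro a ha
  have := mo_conj_comm hS hI hA ha hw
  calc a * w = a * w * a⁻¹ * a := by group
    _ = w * a := by rw [this]

omit hS hI hA in
/-- the transvection property -/
theorem mo_conj {a v : G} (ha : a ∈ A) (hv : v ∈ V) :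
    ∃ w ∈ ⁅V, A⁆, a * v * a⁻¹ = v * w := by
  refine ⟨⁅v⁻¹, a⁆, Subgroup.commutator_mem_commutator (V.inv_mem hv) ha, ?_⟩
  rw [commutatorElement_def]; group

omit hS hI hA in
theorem mo_conj_mem {a v : G} (ha : a ∈ A) (hv : v ∈ V) : a * v * a⁻¹ * v⁻¹ ∈ ⁅V, A⁆ := by
  have h1 : ⁅v, a⁆ ∈ ⁅V, A⁆ := Subgroup.commutator_mem_commutator hv ha
  have h2 := Subgroup.inv_mem _ h1
  rw [commutatorElement_inv, commutatorElement_def] at h2
  exact h2

omit hI in
theorem mo_conj_mem_V {a v : G} (ha : a ∈ A) (hv : v ∈ V) : a * v * a⁻¹ ∈ V := by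
  have := conj_mem_cj (x := a) hv
  rwa [cj_eq_self_of_mem_normalizer (mo_le_normalizer hS hA ha)] at this

omit hI hA in
/-- elements of `X` normalizing a `p`-subgroup of `H` centralize it -/
theorem mem_centralizer_of_cj_eq {B : Subgroup G} (hBH : B ≤ H) (hB : IsPGroup p ↥B) {x : G}
    (hx : x ∈ XX p H) (he : cj x B = B) : x ∈ Subgroup.centralizer (B : Set G) := by
  rw [Subgroup.mem_centralizer_iff]
  intro a ha
  have h1 : x * a * x⁻¹ ∈ B := by
    have := conj_mem_cj (x := x) ha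
    rwa [he] at this
  have h2 : x * a * x⁻¹ * a⁻¹ ∈ B := B.mul_mem h1 (B.inv_mem ha)
  have h3 : x * a * x⁻¹ * a⁻¹ ∈ XX p H := by
    have h4 : a * x⁻¹ * a⁻¹ ∈ XX p H := conj_mem_XX (hBH ha) (Subgroup.inv_mem _ hx)
    have := Subgroup.mul_mem _ hx h4
    have e : x * (a * x⁻¹ * a⁻¹) = x * a * x⁻¹ * a⁻¹ := by group
    rwa [e] at this
  have h5 : x * a * x⁻¹ * a⁻¹ ∈ B ⊓ XX p H := ⟨h2, h3⟩
  rw [inf_XX_eq_bot hB, Subgroup.mem_bot] at h5
  calc a * x = (x * a * x⁻¹ * a⁻¹)⁻¹ * (x * a) := by group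
    _ = x * a := by rw [h5, inv_one, one_mul]

omit hS hI hA in
theorem cj_eq_self_of_mem_centralizer {B : Subgroup G} {x : G}
    (hx : x ∈ Subgroup.centralizer (B : Set G)) : cj x B = B := by
  ext y
  rw [mem_cj]
  have hx' : x⁻¹ ∈ Subgroup.centralizer (B : Set G) := Subgroup.inv_mem _ hx
  constructor
  · intro hy
    have h1 := Subgroup.mem_centralizer_iff.mp hx _ hy
    have : y = x * (x⁻¹ * y * x) * x⁻¹ := by group
    rw [this, ← h1]
    simpa using hy
  · intro hy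
    have h1 := Subgroup.mem_centralizer_iff.mp hx _ hy
    have : x⁻¹ * y * x = x⁻¹ * (y * x) := by group
    rw [this, h1]
    simpa using hy

omit hI hA in
theorem comm_cj {B : Subgroup G} {h : G} (hh : h ∈ H) : ⁅V, cj h B⁆ = cj h ⁅V, B⁆ := by
  rw [cj_commutator, cj_eq_self_of_mem_normalizer (hS.hHV hh)]

omit hI hA in
theorem centralizer_cj_inf {B : Subgroup G} {h : G} (hh : h ∈ H) :
    V ⊓ Subgroup.centralizer ((cj h B : Subgroup G) : Set G)
      = cj h (V ⊓ Subgroup.centralizer (B : Set G)) := by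
  rw [cj_inf, cj_centralizer, cj_eq_self_of_mem_normalizer (hS.hHV hh)]

end minoff

end Cfsg.Agent.Helper4.OG
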