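import Mathlib
import Cfsg.Prelude.Def_PLocal
import Cfsg.Agent.Lib.Helper4.OffTransv

/-!
# Best offenders: pairs of conjugate minimal offenders (helper4)
-/

set_option autoImplicit false
set_option linter.unusedSectionVars false
set_option linter.unusedVariables false
set_option linter.style.haveILetI false

namespace Cfsg.Agent.Helper4.OG

open scoped commutatorElement

variable {G : Type*} [Group G]

/-- conjugacy under `O_{p'}(H)` -/
def XConj (p : ℕ) (H A B : Subgroup G) : Prop := ∃ x ∈ XX p H, B = cj x A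

section xconj

variable {p : ℕ} {H : Subgroup G}

theorem XConj.refl (A : Subgroup G) : XConj p H A A := ⟨1, Subgroup.one_mem _, (cj_one A).symm⟩

theorem XConj.symm {A B : Subgroup G} (h : XConj p H A B) : XConj p H B A := by
  obtain ⟨x, hx, rfl⟩ := h
  exact ⟨x⁻¹, Subgroup.inv_mem _ hx, (cj_inv_cj x A).symm⟩

theorem XConj.trans {A B C : Subgroup G} (h1 : XConj p H A B) (h2 : XConj p H B C) :
    XConj p H A C := by
  obtain ⟨x, hx, rfl⟩ := h1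
  obtain ⟨y, hy, rfl⟩ := h2
  exact ⟨y * x, Subgroup.mul_mem _ hy hx, (cj_cj y x A)⟩

end xconj

section pair

variable {p : ℕ} [hp : Fact p.Prime] {V H : Subgroup G}

variable [Finite G] (hS : Setting p V H) (hI : Inputs p V H)
include hS hI

omit hI [Finite G] in
theorem MinOff.xconj {A B : Subgroup G} (hA : MinOff p V H A) (h : XConj p H A B) :
    MinOff p V H B := by
  obtain ⟨x, hx, rfl⟩ := h
  exact MinOff.cj hA hS.hHV (XX_le p H hx)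

omit hI [Finite G] in
/-- commutator with `V` of a product of two subgroups of `H` -/
theorem comm_sup {B C : Subgroup G} (hB : B ≤ H) (hC : C ≤ H) :
    ⁅V, B ⊔ C⁆ = ⁅V, B⁆ ⊔ ⁅V, C⁆ :=
  commutator_sup_right (hB.trans hS.hHV) (hC.trans hS.hHV)

variable {B C : Subgroup G} (hB : MinOff p V H B) (hBC : XConj p H B C) (hne : B ≠ C)
include hB hBC hne

omit hI in
theorem xconj_data : ∃ y ∈ XX p H, C = cj y B ∧ y ∉ Subgroup.centralizer (B : Set G) := by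
  obtain ⟨y, hy, rfl⟩ := hBC
  refine ⟨y, hy, rfl, ?_⟩
  intro h
  exact hne (cj_eq_self_of_mem_centralizer h).symm

theorem pair_p : p = 2 ∨ p = 3 := by
  obtain ⟨y, hy, rfl, hyc⟩ := xconj_data hS hB hBC hne
  exact (hI.i613 B hB y hy hyc).1

theorem pair_card : Nat.card ↥(⁅V, B⁆ ⊔ ⁅V, C⁆) = p ^ 2 := by
  obtain ⟨y, hy, rfl, hyc⟩ := xconj_data hS hB hBC hne
  have hC := MinOff.xconj hS hB hBC
  rw [← comm_sup hS hB.1 hC.1]
  exact (hI.i613 B hB y hy hyc).2.1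

theorem pair_faithful :
    (B ⊔ C) ⊓ Subgroup.centralizer ((⁅V, B⁆ ⊔ ⁅V, C⁆ : Subgroup G) : Set G) = ⊥ := by
  obtain ⟨y, hy, rfl, hyc⟩ := xconj_data hS hB hBC hne
  have hC := MinOff.xconj hS hB hBC
  rw [← comm_sup hS hB.1 hC.1]
  exact (hI.i613 B hB y hy hyc).2.2.1

theorem pair_iso : Nonempty (↥(B ⊔ C) ≃* Matrix.SpecialLinearGroup (Fin 2) (ZMod p)) := by
  obtain ⟨y, hy, rfl, hyc⟩ := xconj_data hS hB hBC hne
  exact (hI.i613 B hB y hy hyc).2.2.2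

theorem pair_inf : ⁅V, B⁆ ⊓ ⁅V, C⁆ = ⊥ := by
  have hC := MinOff.xconj hS hB hBC
  by_contra hcon
  obtain ⟨u, hu, hu1⟩ : ∃ u ∈ ⁅V, B⁆ ⊓ ⁅V, C⁆, u ≠ 1 := by
    by_contra h
    push Not at h
    apply hcon
    rw [eq_bot_iff]
    intro u hu
    exact h u hu
  have h1 : ⁅V, B⁆ = ⁅V, C⁆ :=
    eq_of_prime_card (mo_card_comm hS hI hB) (mo_card_comm hS hI hC) hu.1 hu.2 hu1
  have h2 := pair_card hS hI hB hBC hne
  rw [h1, sup_idem, mo_card_comm hS hI hC] at h2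
  have := hp.1.one_lt
  nlinarith

theorem pair_not_le : ¬ ⁅V, B⁆ ≤ Subgroup.centralizer (C : Set G) := by
  have hC := MinOff.xconj hS hB hBC
  intro h
  have h1 : C ≤ Subgroup.centralizer ((⁅V, B⁆ ⊔ ⁅V, C⁆ : Subgroup G) : Set G) := by
    rw [Subgroup.le_centralizer_iff]
    apply sup_le h
    exact (mo_comm_le_centralizer hS hI hC).trans inf_le_right
  have h2 : C ≤ (B ⊔ C) ⊓ Subgroup.centralizer ((⁅V, B⁆ ⊔ ⁅V, C⁆ : Subgroup G) : Set G) :=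
    le_inf le_sup_right h1
  rw [pair_faithful hS hI hB hBC hne] at h2
  exact mo_ne_bot hS hI hC (eq_bot_iff.mpr h2)

theorem pair_not_le' : ¬ ⁅V, C⁆ ≤ Subgroup.centralizer (B : Set G) :=
  pair_not_le hS hI (MinOff.xconj hS hB hBC) hBC.symm hne.symm

omit hI hB hBC hne in
/-- the commutator map `v ↦ [b, v]` is multiplicative on `V` -/
theorem comm_map_mul {b : G} (hb : b ∈ Subgroup.normalizer (V : Set G)) {v₁ v₂ : G}
    (h1 : v₁ ∈ V) (h2 : v₂ ∈ V) :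
    b * (v₁ * v₂) * b⁻¹ * (v₁ * v₂)⁻¹ = (b * v₁ * b⁻¹ * v₁⁻¹) * (b * v₂ * b⁻¹ * v₂⁻¹) := by
  have hc := mo_V_comm (p := p) hS
  have hb1 : b * v₁ * b⁻¹ ∈ V := by
    have := conj_mem_cj (x := b) h1
    rwa [cj_eq_self_of_mem_normalizer hb] at this
  have hb2 : b * v₂ * b⁻¹ ∈ V := by
    have := conj_mem_cj (x := b) h2
    rwa [cj_eq_self_of_mem_normalizer hb] at this
  have e1 : (b * v₂ * b⁻¹) * v₂⁻¹ * v₁⁻¹ = v₁⁻¹ * ((b * v₂ * b⁻¹) * v₂⁻¹) :=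
    hc _ (V.mul_mem hb2 (V.inv_mem h2)) _ (V.inv_mem h1)
  calc b * (v₁ * v₂) * b⁻¹ * (v₁ * v₂)⁻¹
      = (b * v₁ * b⁻¹) * ((b * v₂ * b⁻¹) * v₂⁻¹ * v₁⁻¹) := by group
    _ = (b * v₁ * b⁻¹) * (v₁⁻¹ * ((b * v₂ * b⁻¹) * v₂⁻¹)) := by rw [e1]
    _ = _ := by group

/-- every element of the plane `[V,B][V,C]` lies in the commutator of a conjugate inside
`⟨B, C⟩` -/
theorem pair_cover {r : G} (hr : r ∈ ⁅V, B⁆ ⊔ ⁅V, C⁆) :
    ∃ F : Subgroup G, XConj p H B F ∧ F ≤ B ⊔ C ∧ r ∈ ⁅V, F⁆ := by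
  have hC := MinOff.xconj hS hB hBC
  have hc := mo_V_comm (p := p) hS
  obtain ⟨u, hu, u', hu', rfl⟩ :=
    (mem_sup_of_le_comm hc (mo_comm_le hS hB) (mo_comm_le hS hC)).mp hr
  by_cases hu1 : u = 1
  · refine ⟨C, hBC, le_sup_right, ?_⟩
    rw [hu1, one_mul]; exact hu'
  have huV : u ∈ V := mo_comm_le hS hB hu
  -- the map `c ↦ [c, u]` from `C` onto `[V, C]`
  have hsurj := exists_of_hom_prime (K := C) (L := ⁅V, C⁆) (fun c => c * u * c⁻¹ * u⁻¹)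
    (mo_card_comm hS hI hC) (fun c hc' => mo_conj_mem hc' huV) ?_ ?_ u' hu'
  · obtain ⟨c, hcC, hcu⟩ := hsurj
    have hcu' : c * u * c⁻¹ * u⁻¹ = u' := hcu
    have hcH : c ∈ H := hC.1 hcC
    refine ⟨cj c B, ?_, ?_, ?_⟩
    · obtain ⟨y, hy, rfl⟩ := hBC
      rw [mem_cj] at hcC
      have hbH : y⁻¹ * c * y ∈ H := hB.1 hcC
      refine ⟨c * (y⁻¹ * c * y)⁻¹, ?_, ?_⟩
      · have h4 : (y⁻¹ * c * y) * y⁻¹ * (y⁻¹ * c * y)⁻¹ ∈ XX p H :=
          conj_mem_XX hbH (Subgroup.inv_mem _ hy)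
        have := Subgroup.mul_mem _ hy h4
        have e : y * ((y⁻¹ * c * y) * y⁻¹ * (y⁻¹ * c * y)⁻¹) = c * (y⁻¹ * c * y)⁻¹ := by group
        rwa [e] at this
      · have e : c = (c * (y⁻¹ * c * y)⁻¹) * (y⁻¹ * c * y) := by group
        conv_lhs => rw [e]
        rw [← cj_cj, cj_eq_self_of_mem hcC]
    · have h1 : cj c B ≤ cj c (B ⊔ C) := cj_mono c le_sup_left
      rwa [cj_eq_self_of_mem (Subgroup.mem_sup_right hcC)] at h1
    · rw [comm_cj hS hcH]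
      have h1 := conj_mem_cj (x := c) hu
      have e : u * u' = c * u * c⁻¹ := by
        rw [← hcu', hc u huV _ (mo_comm_le hS hC (mo_conj_mem hcC huV))]
        group
      rw [e]; exact h1
  · -- multiplicativity
    intro c₁ hc₁ c₂ hc₂
    have h2 : c₂ * u * c₂⁻¹ * u⁻¹ ∈ ⁅V, C⁆ := mo_conj_mem hc₂ huV
    have h1 : c₁ * u * c₁⁻¹ * u⁻¹ ∈ ⁅V, C⁆ := mo_conj_mem hc₁ huV
    have h3 := mo_conj_comm hS hI hC hc₁ h2
    show c₁ * c₂ * u * (c₁ * c₂)⁻¹ * u⁻¹ = (c₁ * u * c₁⁻¹ * u⁻¹) * (c₂ * u * c₂⁻¹ * u⁻¹)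
    rw [hc _ (mo_comm_le hS hC h1) _ (mo_comm_le hS hC h2)]
    calc c₁ * c₂ * u * (c₁ * c₂)⁻¹ * u⁻¹
        = (c₁ * (c₂ * u * c₂⁻¹ * u⁻¹) * c₁⁻¹) * (c₁ * u * c₁⁻¹ * u⁻¹) := by group
      _ = _ := by rw [h3]
  · -- nontriviality
    by_contra hcon
    push Not at hcon
    apply pair_not_le hS hI hB hBC hne
    apply le_of_prime_card (mo_card_comm hS hI hB) hu hu1
    rw [Subgroup.mem_centralizer_iff]
    intro c hcC
    have := hcon c hcC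
    calc c * u = (c * u * c⁻¹ * u⁻¹) * (u * c) := by group
      _ = u * c := by rw [this, one_mul]

end pair

end Cfsg.Agent.Helper4.OG
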