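import Mathlib
import Cfsg.Prelude.Def_PLocal
import Cfsg.Agent.Lib.Helper4.OffPair

/-!
# Best offenders: the conjugates of a minimal offender under `O_{p'}(H)` generate `SL(2,p)`
(helper4)
-/

set_option autoImplicit false
set_option linter.unusedSectionVars false
set_option linter.unusedVariables false
set_option linter.style.haveILetI false

namespace Cfsg.Agent.Helper4.OG

open scoped commutatorElement

variable {G : Type*} [Group G]

/-- `[O_{p'}(H), A]` -/
def TT (p : ℕ) (H A : Subgroup G) : Subgroup G := ⁅XX p H, A⁆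

/-- `[O_{p'}(H), A] A` -/
def EE (p : ℕ) (H A : Subgroup G) : Subgroup G := ⁅XX p H, A⁆ ⊔ A

/-- `[V, [O_{p'}(H), A] A]` -/
def RR (p : ℕ) (V H A : Subgroup G) : Subgroup G := ⁅V, EE p H A⁆

/-- `C_H([V, [O_{p'}(H), A] A])` -/
def FF (p : ℕ) (V H A : Subgroup G) : Subgroup G :=
  H ⊓ Subgroup.centralizer ((RR p V H A : Subgroup G) : Set G)

section geom

variable {p : ℕ} [hp : Fact p.Prime] {V H : Subgroup G}

variable [Finite G] (hS : Setting p V H) (hI : Inputs p V H)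
include hS hI

/-- three pairwise distinct conjugates have coplanar centers -/
theorem three_coplanar {B C D : Subgroup G} (hB : MinOff p V H B) (hBC : XConj p H B C)
    (hBD : XConj p H B D) (h1 : B ≠ C) (h2 : B ≠ D) (h3 : C ≠ D) :
    ⁅V, D⁆ ≤ ⁅V, B⁆ ⊔ ⁅V, C⁆ := by
  have hC := MinOff.xconj hS hB hBC
  have hD := MinOff.xconj hS hB hBD
  have hCD : XConj p H C D := hBC.symm.trans hBD
  have hc := mo_V_comm (p := p) hS
  obtain ⟨b, hb, hb1⟩ := exists_ne_one_of_prime_card (mo_card hS hI hB)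
  have hbN : b ∈ Subgroup.normalizer (V : Set G) := mo_le_normalizer hS hB hb
  have hP'V : ⁅V, C⁆ ⊔ ⁅V, D⁆ ≤ V := sup_le (mo_comm_le hS hC) (mo_comm_le hS hD)
  obtain ⟨l, hl, hl1, hlb⟩ := exists_ker_of_card_lt (K := ⁅V, C⁆ ⊔ ⁅V, D⁆) (L := ⁅V, B⁆)
    (fun v => b * v * b⁻¹ * v⁻¹) (fun v hv => mo_conj_mem hb (hP'V hv))
    (fun v₁ hv₁ v₂ hv₂ => comm_map_mul hS hbN (hP'V hv₁) (hP'V hv₂))
    (by
      rw [pair_card hS hI hC hCD h3, mo_card_comm hS hI hB]
      have := hp.1.one_lt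
      nlinarith)
  have hlb' : b * l * b⁻¹ * l⁻¹ = 1 := hlb
  obtain ⟨F, hCF, hFle, hlF⟩ := pair_cover hS hI hC hCD h3 hl
  have hF := MinOff.xconj hS hC hCF
  have hFB : F = B := by
    by_contra hFB
    have hFBc : XConj p H F B := hCF.symm.trans hBC.symm
    apply pair_not_le hS hI hF hFBc hFB
    rw [Subgroup.le_centralizer_iff]
    apply le_of_prime_card (mo_card hS hI hB) hb hb1
    have h4 : ⁅V, F⁆ ≤ Subgroup.centralizer ({b} : Set G) := by
      apply le_of_prime_card (mo_card_comm hS hI hF) hlF hl1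
      rw [Subgroup.mem_centralizer_iff]
      intro h hh
      rw [Set.mem_singleton_iff] at hh
      rw [hh]
      calc b * l = (b * l * b⁻¹ * l⁻¹) * (l * b) := by group
        _ = l * b := by rw [hlb', one_mul]
    rw [Subgroup.mem_centralizer_iff]
    intro w hw
    have := Subgroup.mem_centralizer_iff.mp (h4 hw) b (Set.mem_singleton b)
    exact this.symm
  rw [hFB] at hlF
  obtain ⟨c, hcC, d, hdD, rfl⟩ :=
    (mem_sup_of_le_comm hc (mo_comm_le hS hC) (mo_comm_le hS hD)).mp hl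
  have hd1 : d ≠ 1 := by
    intro hd1
    rw [hd1, mul_one] at hlF hl1
    have : c ∈ ⁅V, B⁆ ⊓ ⁅V, C⁆ := ⟨hlF, hcC⟩
    rw [pair_inf hS hI hB hBC h1, Subgroup.mem_bot] at this
    exact hl1 this
  apply le_of_prime_card (mo_card_comm hS hI hD) hdD hd1
  have e : d = c⁻¹ * (c * d) := by group
  rw [e]
  exact Subgroup.mul_mem _ (Subgroup.inv_mem _ (Subgroup.mem_sup_right hcC))
    (Subgroup.mem_sup_left hlF)

variable {A : Subgroup G} (hA : MinOff p V H A)
include hA

omit hI in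
theorem cj_ne_of_not_centralizer {x₀ : G} (hx₀ : x₀ ∈ XX p H)
    (hx₀c : x₀ ∉ Subgroup.centralizer (A : Set G)) : A ≠ cj x₀ A := by
  intro h
  exact hx₀c (mem_centralizer_of_cj_eq hS hA.1 (mo_isPGroup hS hA) hx₀ h.symm)

/-- every conjugate lies in the group generated by two distinct ones -/
theorem conj_le_pair {x₀ : G} (hx₀ : x₀ ∈ XX p H)
    (hx₀c : x₀ ∉ Subgroup.centralizer (A : Set G)) {D : Subgroup G} (hD : XConj p H A D) :
    D ≤ A ⊔ cj x₀ A := by
  have hAA' : XConj p H A (cj x₀ A) := ⟨x₀, hx₀, rfl⟩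
  have hne : A ≠ cj x₀ A := cj_ne_of_not_centralizer hS hA hx₀ hx₀c
  by_cases h1 : A = D
  · rw [← h1]; exact le_sup_left
  by_cases h2 : cj x₀ A = D
  · rw [← h2]; exact le_sup_right
  have hDm := MinOff.xconj hS hA hD
  have h3 := three_coplanar hS hI hA hAA' hD hne h1 h2
  obtain ⟨d, hd, hd1⟩ := exists_ne_one_of_prime_card (mo_card_comm hS hI hDm)
  obtain ⟨F, hAF, hFle, hdF⟩ := pair_cover hS hI hA hAA' hne (h3 hd)
  have hDF : D = F := by
    by_contra hDF
    have := pair_inf hS hI hDm (hD.symm.trans hAF) hDF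
    have h4 : d ∈ ⁅V, D⁆ ⊓ ⁅V, F⁆ := ⟨hd, hdF⟩
    rw [this, Subgroup.mem_bot] at h4
    exact hd1 h4
  rw [hDF]; exact hFle

theorem EE_eq {x₀ : G} (hx₀ : x₀ ∈ XX p H)
    (hx₀c : x₀ ∉ Subgroup.centralizer (A : Set G)) : EE p H A = A ⊔ cj x₀ A := by
  unfold EE
  apply le_antisymm
  · apply sup_le _ le_sup_left
    rw [Subgroup.commutator_le]
    intro x hx a ha
    rw [commutatorElement_def]
    have h1 : x * a * x⁻¹ ∈ A ⊔ cj x₀ A :=
      conj_le_pair hS hI hA hx₀ hx₀c ⟨x, hx, rfl⟩ (conj_mem_cj ha)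
    exact Subgroup.mul_mem _ h1 (Subgroup.inv_mem _ (Subgroup.mem_sup_left ha))
  · apply sup_le le_sup_right
    intro y hy
    rw [mem_cj] at hy
    have e : y = ⁅x₀, x₀⁻¹ * y * x₀⁆ * (x₀⁻¹ * y * x₀) := by
      rw [commutatorElement_def]; group
    rw [e]
    exact Subgroup.mul_mem _
      (Subgroup.mem_sup_left (Subgroup.commutator_mem_commutator hx₀ hy))
      (Subgroup.mem_sup_right hy)

end geom

end Cfsg.Agent.Helper4.OG
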