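import Mathlib
import Cfsg.Prelude.Def_PLocal
import Cfsg.Agent.Lib.Helper4.OffGeom

/-!
# Best offenders: the group `E = [O_{p'}(H), A] A` of a minimal offender (helper4)
-/

set_option autoImplicit false
set_option linter.unusedSectionVars false
set_option linter.unusedVariables false
set_option linter.style.haveILetI false

namespace Cfsg.Agent.Helper4.OG

open scoped commutatorElement

variable {G : Type*} [Group G]

/-- `[X, A]` is normalized by `X` -/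
theorem cj_commutator_of_mem {X A : Subgroup G} {x' : G} (hx' : x' ∈ X) :
    cj x' ⁅X, A⁆ = ⁅X, A⁆ := by
  have key : ∀ z ∈ X, cj z ⁅X, A⁆ ≤ ⁅X, A⁆ := by
    intro z hz
    rw [cj_le_iff, Subgroup.commutator_le]
    intro x hx a ha
    rw [mem_cj, inv_inv]
    have e : z * ⁅x, a⁆ * z⁻¹ = ⁅z * x, a⁆ * ⁅z, a⁆⁻¹ := by
      simp only [commutatorElement_def]; group
    rw [e]
    exact Subgroup.mul_mem _ (Subgroup.commutator_mem_commutator (X.mul_mem hz hx) ha)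
      (Subgroup.inv_mem _ (Subgroup.commutator_mem_commutator hz ha))
  apply le_antisymm (key x' hx')
  have := key x'⁻¹ (X.inv_mem hx')
  rwa [cj_le_iff, inv_inv] at this

/-- product of cardinalities of two subgroups meeting trivially -/
theorem card_mul_le_card_sup [Finite G] {R K : Subgroup G} (h : R ⊓ K = ⊥) :
    Nat.card ↥R * Nat.card ↥K ≤ Nat.card ↥(R ⊔ K) := by
  rw [← Nat.card_prod]
  apply Nat.card_le_card_of_injective
    (fun x : ↥R × ↥K => (⟨(x.1 : G) * (x.2 : G),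
      Subgroup.mul_mem _ (Subgroup.mem_sup_left x.1.2) (Subgroup.mem_sup_right x.2.2)⟩ : ↥(R ⊔ K)))
  rintro ⟨r, k⟩ ⟨r', k'⟩ hxy
  have h1 : (r : G) * (k : G) = (r' : G) * (k' : G) := congrArg Subtype.val hxy
  have h2 : (r' : G)⁻¹ * (r : G) = (k' : G) * (k : G)⁻¹ := by
    calc (r' : G)⁻¹ * (r : G) = (r' : G)⁻¹ * ((r : G) * (k : G)) * (k : G)⁻¹ := by group
      _ = (k' : G) * (k : G)⁻¹ := by rw [h1]; group
  have h3 : (r' : G)⁻¹ * (r : G) ∈ R ⊓ K :=
    ⟨R.mul_mem (R.inv_mem r'.2) r.2, by rw [h2]; exact K.mul_mem k'.2 (K.inv_mem k.2)⟩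
  rw [h, Subgroup.mem_bot] at h3
  have h4 : (r : G) = (r' : G) := by
    calc (r : G) = (r' : G) * ((r' : G)⁻¹ * (r : G)) := by group
      _ = (r' : G) := by rw [h3, mul_one]
  have h5 : (k : G) = (k' : G) := by
    rw [h4] at h1
    exact mul_left_cancel h1
  exact Prod.ext (Subtype.ext h4) (Subtype.ext h5)

section edata

variable {p : ℕ} [hp : Fact p.Prime] {V H : Subgroup G}

omit hp in
theorem TT_le_EE (A : Subgroup G) : TT p H A ≤ EE p H A := le_sup_left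

omit hp in
theorem le_EE (A : Subgroup G) : A ≤ EE p H A := le_sup_right

theorem TT_le_XX {A : Subgroup G} (hAH : A ≤ H) : TT p H A ≤ XX p H := by
  unfold TT
  rw [Subgroup.commutator_le]
  intro x hx a ha
  rw [commutatorElement_def]
  have h4 : a * x⁻¹ * a⁻¹ ∈ XX p H := conj_mem_XX (hAH ha) (Subgroup.inv_mem _ hx)
  have := Subgroup.mul_mem _ hx h4
  have e : x * (a * x⁻¹ * a⁻¹) = x * a * x⁻¹ * a⁻¹ := by group
  rwa [e] at this

theorem EE_le {A : Subgroup G} (hAH : A ≤ H) : EE p H A ≤ H :=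
  sup_le ((TT_le_XX hAH).trans (XX_le p H)) hAH

theorem cj_TT_of_mem_XX {A : Subgroup G} {x : G} (hx : x ∈ XX p H) :
    cj x (TT p H A) = TT p H A := cj_commutator_of_mem hx

theorem cj_TT {A : Subgroup G} {h : G} (hh : h ∈ H) : cj h (TT p H A) = TT p H (cj h A) := by
  unfold TT
  rw [cj_commutator, cj_XX hh]

theorem cj_EE {A : Subgroup G} {h : G} (hh : h ∈ H) : cj h (EE p H A) = EE p H (cj h A) := by
  unfold EE
  rw [cj_sup, cj_commutator, cj_XX hh]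

theorem cj_RR {A : Subgroup G} {h : G} (hh : h ∈ H)
    (hHV : H ≤ Subgroup.normalizer (V : Set G)) :
    cj h (RR p V H A) = RR p V H (cj h A) := by
  unfold RR
  rw [cj_commutator, cj_EE hh, cj_eq_self_of_mem_normalizer (hHV hh)]

theorem RR_le {A : Subgroup G} (hAH : A ≤ H) (hHV : H ≤ Subgroup.normalizer (V : Set G)) :
    RR p V H A ≤ V :=
  commutator_le_left_of_normalizer ((EE_le hAH).trans hHV)

variable [Finite G] (hS : Setting p V H) (hI : Inputs p V H) {A : Subgroup G}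
  (hA : MinOff p V H A)
include hS hI hA

omit hI in
theorem exists_x0 (hI : Inputs p V H) :
    ∃ x₀ ∈ XX p H, x₀ ∉ Subgroup.centralizer (A : Set G) :=
  exists_not_centralize hS hA.1 (mo_isPGroup hS hA) (mo_ne_bot hS hI hA)

theorem EE_p : p = 2 ∨ p = 3 := by
  obtain ⟨x₀, hx₀, hx₀c⟩ := exists_x0 hS hA hI
  exact (hI.i613 A hA x₀ hx₀ hx₀c).1

theorem EE_iso : Nonempty (↥(EE p H A) ≃* Matrix.SpecialLinearGroup (Fin 2) (ZMod p)) := by
  obtain ⟨x₀, hx₀, hx₀c⟩ := exists_x0 hS hA hI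
  rw [EE_eq hS hI hA hx₀ hx₀c]
  exact (hI.i613 A hA x₀ hx₀ hx₀c).2.2.2

theorem RR_eq {x₀ : G} (hx₀ : x₀ ∈ XX p H)
    (hx₀c : x₀ ∉ Subgroup.centralizer (A : Set G)) :
    RR p V H A = ⁅V, A⁆ ⊔ ⁅V, cj x₀ A⁆ := by
  unfold RR
  rw [EE_eq hS hI hA hx₀ hx₀c]
  exact comm_sup hS hA.1 (MinOff.cj hA hS.hHV (XX_le p H hx₀)).1

theorem RR_card : Nat.card ↥(RR p V H A) = p ^ 2 := by
  obtain ⟨x₀, hx₀, hx₀c⟩ := exists_x0 hS hA hI
  unfold RR
  rw [EE_eq hS hI hA hx₀ hx₀c]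
  exact (hI.i613 A hA x₀ hx₀ hx₀c).2.1

theorem EE_faithful :
    EE p H A ⊓ Subgroup.centralizer ((RR p V H A : Subgroup G) : Set G) = ⊥ := by
  obtain ⟨x₀, hx₀, hx₀c⟩ := exists_x0 hS hA hI
  unfold RR
  rw [EE_eq hS hI hA hx₀ hx₀c]
  exact (hI.i613 A hA x₀ hx₀ hx₀c).2.2.1

theorem conj_le_EE {D : Subgroup G} (hD : XConj p H A D) : D ≤ EE p H A := by
  obtain ⟨x₀, hx₀, hx₀c⟩ := exists_x0 hS hA hI
  rw [EE_eq hS hI hA hx₀ hx₀c]
  exact conj_le_pair hS hI hA hx₀ hx₀c hD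

theorem comm_le_RR {D : Subgroup G} (hD : XConj p H A D) : ⁅V, D⁆ ≤ RR p V H A :=
  Subgroup.commutator_mono le_rfl (conj_le_EE hS hI hA hD)

theorem RR_cover {r : G} (hr : r ∈ RR p V H A) :
    ∃ F : Subgroup G, XConj p H A F ∧ r ∈ ⁅V, F⁆ := by
  obtain ⟨x₀, hx₀, hx₀c⟩ := exists_x0 hS hA hI
  rw [RR_eq hS hI hA hx₀ hx₀c] at hr
  obtain ⟨F, hF, -, hrF⟩ := pair_cover hS hI hA ⟨x₀, hx₀, rfl⟩
    (cj_ne_of_not_centralizer hS hA hx₀ hx₀c) hr
  exact ⟨F, hF, hrF⟩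

theorem EE_xconj {B : Subgroup G} (hAB : XConj p H A B) : EE p H B = EE p H A := by
  have key : ∀ {A B : Subgroup G}, MinOff p V H A → XConj p H A B → EE p H B ≤ EE p H A := by
    intro A B hA hAB
    have hB := MinOff.xconj hS hA hAB
    obtain ⟨y₀, hy₀, hy₀c⟩ := exists_x0 hS hB hI
    rw [EE_eq hS hI hB hy₀ hy₀c]
    exact sup_le (conj_le_EE hS hI hA hAB) (conj_le_EE hS hI hA (hAB.trans ⟨y₀, hy₀, rfl⟩))
  exact le_antisymm (key hA hAB) (key (MinOff.xconj hS hA hAB) hAB.symm)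

theorem RR_xconj {B : Subgroup G} (hAB : XConj p H A B) : RR p V H B = RR p V H A := by
  unfold RR
  rw [EE_xconj hS hI hA hAB]

theorem cj_EE_of_mem_XX {x : G} (hx : x ∈ XX p H) : cj x (EE p H A) = EE p H A := by
  rw [cj_EE (XX_le p H hx)]
  exact EE_xconj hS hI hA ⟨x, hx, rfl⟩

theorem cj_RR_of_mem_XX {x : G} (hx : x ∈ XX p H) : cj x (RR p V H A) = RR p V H A := by
  rw [cj_RR (XX_le p H hx) hS.hHV]
  exact RR_xconj hS hI hA ⟨x, hx, rfl⟩

theorem TT_xconj {B : Subgroup G} (hAB : XConj p H A B) : TT p H B = TT p H A := by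
  obtain ⟨z, hz, rfl⟩ := hAB
  rw [← cj_TT (XX_le p H hz), cj_TT_of_mem_XX hz]

/-- `[X, A]` does not normalize `A` -/
theorem TT_not_normalize : ¬ (∀ t ∈ TT p H A, cj t A = A) := by
  intro h
  obtain ⟨x₀, hx₀, hx₀c⟩ := exists_x0 hS hA hI
  obtain ⟨a, ha, hax⟩ : ∃ a ∈ A, a * x₀ ≠ x₀ * a := by
    by_contra hcon
    push Not at hcon
    exact hx₀c (Subgroup.mem_centralizer_iff.mpr hcon)
  have ht₀ : ⁅x₀, a⁆ ∈ TT p H A := Subgroup.commutator_mem_commutator hx₀ ha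
  have ht₀X : ⁅x₀, a⁆ ∈ XX p H := TT_le_XX hA.1 ht₀
  have hc : ⁅x₀, a⁆ ∈ Subgroup.centralizer (A : Set G) :=
    mem_centralizer_of_cj_eq hS hA.1 (mo_isPGroup hS hA) ht₀X (h _ ht₀)
  have hcomm : a * ⁅x₀, a⁆ = ⁅x₀, a⁆ * a := Subgroup.mem_centralizer_iff.mp hc a ha
  have e1 : x₀ * a * x₀⁻¹ = ⁅x₀, a⁆ * a := by rw [commutatorElement_def]; group
  have e2 : (x₀ * a * x₀⁻¹) ^ p = 1 := by
    rw [conj_pow, mo_pow hS hA ha]; group
  have e3 : (⁅x₀, a⁆ * a) ^ p = ⁅x₀, a⁆ ^ p * a ^ p := (Commute.mul_pow hcomm.symm p)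
  rw [e1, e3, mo_pow hS hA ha, mul_one] at e2
  have h1 : orderOf ⁅x₀, a⁆ ∣ p := orderOf_dvd_of_pow_eq_one e2
  have h2 : orderOf ⁅x₀, a⁆ ∣ Nat.card ↥(XX p H) := Subgroup.orderOf_dvd_natCard _ ht₀X
  have h3 : (orderOf ⁅x₀, a⁆).Coprime p :=
    Nat.Coprime.coprime_dvd_left h2 (card_XX_coprime (p := p) (H := H))
  have h4 : orderOf ⁅x₀, a⁆ = 1 := Nat.Coprime.eq_one_of_dvd h3 h1
  rw [orderOf_eq_one_iff, commutatorElement_def] at h4
  apply hax
  calc a * x₀ = (x₀ * a * x₀⁻¹ * a⁻¹)⁻¹ * (x₀ * a) := by group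
    _ = x₀ * a := by rw [h4, inv_one, one_mul]

/-- `[X, A]` acts irreducibly on the plane -/
theorem TT_irred {U : Subgroup G} (hU : U ≤ RR p V H A)
    (hT : TT p H A ≤ Subgroup.normalizer (U : Set G)) : U = ⊥ ∨ U = RR p V H A := by
  by_contra hcon
  push Not at hcon
  obtain ⟨hU1, hU2⟩ := hcon
  have hcard : Nat.card ↥U = p := by
    have hdvd : Nat.card ↥U ∣ p ^ 2 := by
      rw [← RR_card hS hI hA]; exact Subgroup.card_dvd_of_le hU
    obtain ⟨k, hk, hk'⟩ := (Nat.dvd_prime_pow hp.1).mp hdvd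
    interval_cases k
    · exfalso; apply hU1
      rw [pow_zero] at hk'
      exact Subgroup.eq_bot_of_card_eq U hk'
    · rw [pow_one] at hk'; exact hk'
    · exfalso; apply hU2
      exact Subgroup.eq_of_le_of_card_ge hU (by rw [hk', RR_card hS hI hA])
  obtain ⟨u, hu, hu1⟩ := exists_ne_one_of_prime_card hcard
  obtain ⟨F, hAF, huF⟩ := RR_cover hS hI hA (hU hu)
  have hF := MinOff.xconj hS hA hAF
  have hUF : U = ⁅V, F⁆ := eq_of_prime_card hcard (mo_card_comm hS hI hF) hu huF hu1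
  apply TT_not_normalize hS hI hF
  rw [TT_xconj hS hI hA hAF]
  intro t ht
  by_contra hne
  have hFt : XConj p H F (cj t F) := ⟨t, TT_le_XX hA.1 ht, rfl⟩
  have h1 := pair_inf hS hI hF hFt (Ne.symm hne)
  rw [comm_cj hS (XX_le p H (TT_le_XX hA.1 ht)), ← hUF,
    cj_eq_self_of_mem_normalizer (hT ht), inf_idem] at h1
  exact hU1 h1

theorem RR_inf_centralizer :
    RR p V H A ⊓ (V ⊓ Subgroup.centralizer ((EE p H A : Subgroup G) : Set G)) = ⊥ := by
  obtain ⟨x₀, hx₀, hx₀c⟩ := exists_x0 hS hA hI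
  have hA' := MinOff.cj hA hS.hHV (XX_le p H hx₀)
  have hAA' : XConj p H A (cj x₀ A) := ⟨x₀, hx₀, rfl⟩
  have hne := cj_ne_of_not_centralizer hS hA hx₀ hx₀c
  have hc := mo_V_comm (p := p) hS
  rw [eq_bot_iff]
  intro r hr
  obtain ⟨hr1, hr2, hr3⟩ := hr
  rw [RR_eq hS hI hA hx₀ hx₀c] at hr1
  obtain ⟨w, hw, w', hw', rfl⟩ :=
    (mem_sup_of_le_comm hc (mo_comm_le hS hA) (mo_comm_le hS hA')).mp hr1
  have hcE : ∀ e ∈ EE p H A, e * (w * w') = (w * w') * e :=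
    fun e he => Subgroup.mem_centralizer_iff.mp hr3 e he
  have hw'1 : w' = 1 := by
    by_contra hw'1
    apply pair_not_le' hS hI hA hAA' hne
    apply le_of_prime_card (mo_card_comm hS hI hA') hw' hw'1
    rw [Subgroup.mem_centralizer_iff]
    intro a ha
    have h1 := hcE a (le_EE A ha)
    have h2 : a * w = w * a := by
      have := mo_conj_comm hS hI hA ha hw
      calc a * w = a * w * a⁻¹ * a := by group
        _ = w * a := by rw [this]
    calc a * w' = w⁻¹ * (a * w) * w' := by rw [h2]; group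
      _ = w⁻¹ * (a * (w * w')) := by group
      _ = w⁻¹ * ((w * w') * a) := by rw [h1]
      _ = w' * a := by group
  rw [hw'1, mul_one] at hcE ⊢
  by_contra hw1
  apply pair_not_le hS hI hA hAA' hne
  apply le_of_prime_card (mo_card_comm hS hI hA) hw hw1
  rw [Subgroup.mem_centralizer_iff]
  intro a' ha'
  exact hcE a' (conj_le_EE hS hI hA hAA' ha')

theorem RR_sup_centralizer :
    RR p V H A ⊔ (V ⊓ Subgroup.centralizer ((EE p H A : Subgroup G) : Set G)) = V := by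
  obtain ⟨x₀, hx₀, hx₀c⟩ := exists_x0 hS hA hI
  have hA' := MinOff.cj hA hS.hHV (XX_le p H hx₀)
  have hle : RR p V H A ⊔ (V ⊓ Subgroup.centralizer ((EE p H A : Subgroup G) : Set G)) ≤ V :=
    sup_le (RR_le hA.1 hS.hHV) inf_le_left
  -- the common centralizer of `A` and its conjugate
  obtain ⟨K, hK⟩ : ∃ K : Subgroup G, K = (V ⊓ Subgroup.centralizer (A : Set G)) ⊓
      (V ⊓ Subgroup.centralizer ((cj x₀ A : Subgroup G) : Set G)) := ⟨_, rfl⟩
  have hKV : K ≤ V := by rw [hK]; exact inf_le_left.trans inf_le_left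
  have hKE : K ≤ V ⊓ Subgroup.centralizer ((EE p H A : Subgroup G) : Set G) := by
    apply le_inf hKV
    rw [Subgroup.le_centralizer_iff, EE_eq hS hI hA hx₀ hx₀c]
    apply sup_le
    · rw [Subgroup.le_centralizer_iff, hK]
      exact inf_le_left.trans inf_le_right
    · rw [Subgroup.le_centralizer_iff, hK]
      exact inf_le_right.trans inf_le_right
  have hidx : K.relIndex V ≤ p * p := by
    have := Subgroup.relIndex_inf_le (H := V ⊓ Subgroup.centralizer (A : Set G))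
      (K := V ⊓ Subgroup.centralizer ((cj x₀ A : Subgroup G) : Set G)) (L := V)
    rw [(hI.i611 A hA).2.2, (hI.i611 _ hA').2.2, ← hK] at this
    exact this
  have hcardV : Nat.card ↥K * K.relIndex V = Nat.card ↥V := by
    have h1 := Subgroup.relIndex_mul_relIndex (H := ⊥) (K := K) (L := V) bot_le hKV
    rwa [Subgroup.relIndex_bot_left, Subgroup.relIndex_bot_left] at h1
  have hdisj : RR p V H A ⊓ K = ⊥ := by
    rw [eq_bot_iff, ← RR_inf_centralizer hS hI hA]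
    exact inf_le_inf_left _ hKE
  have h1 := card_mul_le_card_sup hdisj
  rw [RR_card hS hI hA] at h1
  have hle2 : RR p V H A ⊔ K ≤ V := sup_le (RR_le hA.1 hS.hHV) hKV
  have h2 : RR p V H A ⊔ K = V := by
    apply Subgroup.eq_of_le_of_card_ge hle2
    calc Nat.card ↥V = Nat.card ↥K * K.relIndex V := hcardV.symm
      _ ≤ Nat.card ↥K * (p * p) := Nat.mul_le_mul_left _ hidx
      _ = p ^ 2 * Nat.card ↥K := by ring
      _ ≤ _ := h1
  apply le_antisymm hle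
  calc V = RR p V H A ⊔ K := h2.symm
    _ ≤ _ := sup_le_sup_left hKE _

end edata

end Cfsg.Agent.Helper4.OG
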