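import Mathlib
import Cfsg.Prelude.Def_PLocal
import Cfsg.Agent.Lib.Helper4.OffE

/-!
# Best offenders: `H = E × C_H([V, E])` (helper4)
-/

set_option autoImplicit false
set_option linter.unusedSectionVars false
set_option linter.unusedVariables false
set_option linter.style.haveILetI false

namespace Cfsg.Agent.Helper4.OG

open scoped commutatorElement

variable {G : Type*} [Group G]

section hlevel

variable {p : ℕ} [hp : Fact p.Prime] {V H : Subgroup G}

/-- a subgroup of a group of order `p²` strictly containing a subgroup of order `p` is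
everything -/
theorem eq_of_lt_plane [Finite G] {U K R : Subgroup G} (hUK : U ≤ K) (hKR : K ≤ R)
    (hU : Nat.card ↥U = p) (hR : Nat.card ↥R = p ^ 2) {s : G} (hs : s ∈ K) (hsU : s ∉ U) :
    K = R := by
  have hdvd : Nat.card ↥K ∣ p ^ 2 := by
    rw [← hR]; exact Subgroup.card_dvd_of_le hKR
  obtain ⟨k, hk, hk'⟩ := (Nat.dvd_prime_pow hp.1).mp hdvd
  have h1 : Nat.card ↥U ≤ Nat.card ↥K := Nat.le_of_dvd Nat.card_pos (Subgroup.card_dvd_of_le hUK)
  interval_cases k
  · exfalso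
    rw [hk', hU, pow_zero] at h1
    have := hp.1.one_lt
    omega
  · exfalso
    apply hsU
    have : U = K := Subgroup.eq_of_le_of_card_ge hUK (by rw [hk', hU, pow_one])
    rw [this]; exact hs
  · exact Subgroup.eq_of_le_of_card_ge hKR (by rw [hk', hR])

variable [Finite G] (hS : Setting p V H) (hI : Inputs p V H)
include hS hI

/-- `H` is generated by its minimal offenders -/
theorem H_le_of_minoff {K : Subgroup G} (h : ∀ B, MinOff p V H B → B ≤ K) : H ≤ K := by
  refine (le_of_eq hS.hS3).trans (iSup_le ?_)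
  rintro ⟨A', hA'H, hA'⟩
  show A' ≤ K
  by_cases h1 : A' = ⊥
  · rw [h1]; exact bot_le
  obtain ⟨k, B, hB, -, hsup⟩ := hI.i612 A' hA'H hA' h1
  rw [← hsup]
  apply iSup_le
  intro i
  exact h (B i) ⟨(hB i).1.trans hA'H, (hB i).2.1, (hB i).2.2.1, (hB i).2.2.2⟩

variable {A : Subgroup G} (hA : MinOff p V H A)
include hA

/-- every minimal offender normalizes the plane of `A` -/
theorem minoff_normalizes_RR {B : Subgroup G} (hB : MinOff p V H B) :
    B ≤ Subgroup.normalizer ((RR p V H A : Subgroup G) : Set G) := by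
  intro b hb
  rw [Subgroup.mem_normalizer_iff_map_conj_eq]
  show cj b (RR p V H A) = RR p V H A
  have hbH : b ∈ H := hB.1 hb
  have hAb : MinOff p V H (cj b A) := MinOff.cj hA hS.hHV hbH
  have hinv : TT p H A ≤ Subgroup.normalizer ((RR p V H A ⊓ cj b (RR p V H A) : Subgroup G) : Set G) := by
    intro t ht
    have htX := TT_le_XX hA.1 ht
    rw [Subgroup.mem_normalizer_iff_map_conj_eq]
    show cj t (RR p V H A ⊓ cj b (RR p V H A)) = RR p V H A ⊓ cj b (RR p V H A)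
    rw [cj_inf, cj_RR_of_mem_XX hS hI hA htX, cj_RR hbH hS.hHV, cj_RR_of_mem_XX hS hI hAb htX]
  rcases TT_irred hS hI hA (U := RR p V H A ⊓ cj b (RR p V H A)) inf_le_left hinv with h | h
  · exfalso
    obtain ⟨r, hr, hr1, hrb⟩ := exists_ker_of_card_lt (K := RR p V H A) (L := ⁅V, B⁆)
      (fun v => b * v * b⁻¹ * v⁻¹) (fun v hv => mo_conj_mem hb (RR_le hA.1 hS.hHV hv))
      (fun v₁ hv₁ v₂ hv₂ => comm_map_mul hS (hS.hHV hbH) (RR_le hA.1 hS.hHV hv₁)
        (RR_le hA.1 hS.hHV hv₂))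
      (by
        rw [RR_card hS hI hA, mo_card_comm hS hI hB]
        have := hp.1.one_lt
        nlinarith)
    have hrb' : b * r * b⁻¹ * r⁻¹ = 1 := hrb
    have h2 : b * r * b⁻¹ = r := by
      calc b * r * b⁻¹ = (b * r * b⁻¹ * r⁻¹) * r := by group
        _ = r := by rw [hrb', one_mul]
    have h3 : r ∈ cj b (RR p V H A) := by
      have := conj_mem_cj (x := b) hr
      rwa [h2] at this
    have h4 : r ∈ RR p V H A ⊓ cj b (RR p V H A) := ⟨hr, h3⟩
    rw [h, Subgroup.mem_bot] at h4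
    exact hr1 h4
  · have h1 : RR p V H A ≤ cj b (RR p V H A) := by
      calc RR p V H A = RR p V H A ⊓ cj b (RR p V H A) := h.symm
        _ ≤ _ := inf_le_right
    exact (Subgroup.eq_of_le_of_card_ge h1 (by rw [card_cj])).symm

theorem H_le_normalizer_RR :
    H ≤ Subgroup.normalizer ((RR p V H A : Subgroup G) : Set G) :=
  H_le_of_minoff hS hI (fun B hB => minoff_normalizes_RR hS hI hA hB)

omit hS hI hA in
theorem FF_le (A : Subgroup G) : FF p V H A ≤ H := inf_le_left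

theorem cj_FF {h : G} (hh : h ∈ H) : cj h (FF p V H A) = FF p V H A := by
  unfold FF
  rw [cj_inf, cj_centralizer, cj_eq_self_of_mem hh,
    cj_eq_self_of_mem_normalizer (H_le_normalizer_RR hS hI hA hh)]

theorem conj_mem_FF {h f : G} (hh : h ∈ H) (hf : f ∈ FF p V H A) :
    h * f * h⁻¹ ∈ FF p V H A := by
  have := conj_mem_cj (x := h) hf
  rwa [cj_FF hS hI hA hh] at this

theorem EE_inf_FF : EE p H A ⊓ FF p V H A = ⊥ := by
  rw [eq_bot_iff, ← EE_faithful hS hI hA]
  exact inf_le_inf_left _ inf_le_right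

/-- if `[X, B]` centralizes the plane of `A` then the planes of `A` and `B` meet trivially -/
theorem RR_inf_of_TT_le {B : Subgroup G} (hB : MinOff p V H B)
    (h : TT p H B ≤ Subgroup.centralizer ((RR p V H A : Subgroup G) : Set G)) :
    RR p V H B ⊓ RR p V H A = ⊥ := by
  have hinv : TT p H B ≤ Subgroup.normalizer ((RR p V H B ⊓ RR p V H A : Subgroup G) : Set G) := by
    intro t ht
    have htX := TT_le_XX hB.1 ht
    rw [Subgroup.mem_normalizer_iff_map_conj_eq]
    show cj t (RR p V H B ⊓ RR p V H A) = RR p V H B ⊓ RR p V H A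
    rw [cj_inf, cj_RR_of_mem_XX hS hI hB htX, cj_eq_self_of_mem_centralizer (h ht)]
  rcases TT_irred hS hI hB (U := RR p V H B ⊓ RR p V H A) inf_le_left hinv with h1 | h1
  · exact h1
  · exfalso
    have h2 : RR p V H B ≤ RR p V H A := by
      calc RR p V H B = RR p V H B ⊓ RR p V H A := h1.symm
        _ ≤ _ := inf_le_right
    have h3 : TT p H B ≤ EE p H B ⊓ Subgroup.centralizer ((RR p V H B : Subgroup G) : Set G) :=
      le_inf (TT_le_EE B) (h.trans (Subgroup.centralizer_le h2))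
    rw [EE_faithful hS hI hB] at h3
    apply TT_not_normalize hS hI hB
    intro t ht
    have := h3 ht
    rw [Subgroup.mem_bot] at this
    rw [this, cj_one]

omit hA in
/-- two minimal offenders with the same commutator on `V` commute elementwise -/
theorem transv_commute {B F : Subgroup G} (hB : MinOff p V H B) (hF : MinOff p V H F)
    (hBF : ⁅V, B⁆ = ⁅V, F⁆) {b f : G} (hb : b ∈ B) (hf : f ∈ F) : b * f = f * b := by
  have hc := mo_V_comm (p := p) hS
  have hbH := hB.1 hb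
  have hfH := hF.1 hf
  have key : ∀ v ∈ V, (b * f) * v * (b * f)⁻¹ = (f * b) * v * (f * b)⁻¹ := by
    intro v hv
    obtain ⟨w₁, hw₁, e₁⟩ := mo_conj (A := F) hf hv
    obtain ⟨w₂, hw₂, e₂⟩ := mo_conj (A := B) hb hv
    have hw₁B : w₁ ∈ ⁅V, B⁆ := by rw [hBF]; exact hw₁
    have hw₂F : w₂ ∈ ⁅V, F⁆ := by rw [← hBF]; exact hw₂
    have e₃ : b * w₁ * b⁻¹ = w₁ := mo_conj_comm hS hI hB hb hw₁B
    have e₄ : f * w₂ * f⁻¹ = w₂ := mo_conj_comm hS hI hF hf hw₂F
    have hw₁V := mo_comm_le hS hF hw₁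
    have hw₂V := mo_comm_le hS hB hw₂
    calc (b * f) * v * (b * f)⁻¹ = b * (f * v * f⁻¹) * b⁻¹ := by group
      _ = b * (v * w₁) * b⁻¹ := by rw [e₁]
      _ = (b * v * b⁻¹) * (b * w₁ * b⁻¹) := by group
      _ = (v * w₂) * w₁ := by rw [e₂, e₃]
      _ = v * (w₂ * w₁) := by group
      _ = v * (w₁ * w₂) := by rw [hc w₂ hw₂V w₁ hw₁V]
      _ = (v * w₁) * w₂ := by group
      _ = (f * v * f⁻¹) * (f * w₂ * f⁻¹) := by rw [e₁, e₄]
      _ = f * (v * w₂) * f⁻¹ := by group
      _ = f * (b * v * b⁻¹) * f⁻¹ := by rw [e₂]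
      _ = _ := by group
  have h1 : (f * b)⁻¹ * (b * f) = 1 := by
    apply eq_one_of_centralizes hS (H.mul_mem (H.inv_mem (H.mul_mem hfH hbH)) (H.mul_mem hbH hfH))
    intro v hv
    have := key v hv
    calc (f * b)⁻¹ * (b * f) * v
        = (f * b)⁻¹ * ((b * f) * v * (b * f)⁻¹) * (b * f) := by group
      _ = (f * b)⁻¹ * ((f * b) * v * (f * b)⁻¹) * (b * f) := by rw [this]
      _ = _ := by group
  calc b * f = (f * b) * ((f * b)⁻¹ * (b * f)) := by group
    _ = f * b := by rw [h1, mul_one]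

omit hI hA in
/-- the centralizer in `V` of an element with small commutator is large -/
theorem card_le_of_comm_mem {d : G} (hdH : d ∈ H) {W : Subgroup G}
    (hW : ∀ v ∈ V, d * v * d⁻¹ * v⁻¹ ∈ W) :
    Nat.card ↥V ≤ Nat.card ↥W *
      Nat.card ↥(V ⊓ Subgroup.centralizer ((Subgroup.zpowers d : Subgroup G) : Set G)) := by
  let φ : ↥V →* ↥W :=
    { toFun := fun v => ⟨d * v * d⁻¹ * (v : G)⁻¹, hW v v.2⟩
      map_one' := by
        apply Subtype.ext
        show d * ((1 : ↥V) : G) * d⁻¹ * ((1 : ↥V) : G)⁻¹ = 1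
        rw [Subgroup.coe_one]; group
      map_mul' := by
        intro a b
        apply Subtype.ext
        show d * ((a * b : ↥V) : G) * d⁻¹ * ((a * b : ↥V) : G)⁻¹
          = (d * (a : G) * d⁻¹ * (a : G)⁻¹) * (d * (b : G) * d⁻¹ * (b : G)⁻¹)
        rw [Subgroup.coe_mul]
        exact comm_map_mul hS (hS.hHV hdH) a.2 b.2 }
  have h1 : Nat.card ↥φ.ker * φ.ker.index = Nat.card ↥V := Subgroup.card_mul_index _
  rw [Subgroup.index_ker] at h1
  have h2 : Nat.card ↥φ.range ≤ Nat.card ↥W := Subgroup.card_le_card_group _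
  have h3 : Nat.card ↥φ.ker ≤
      Nat.card ↥(V ⊓ Subgroup.centralizer ((Subgroup.zpowers d : Subgroup G) : Set G)) := by
    apply Nat.card_le_card_of_injective (fun k : ↥φ.ker =>
      (⟨((k : ↥V) : G), ?_⟩ :
        ↥(V ⊓ Subgroup.centralizer ((Subgroup.zpowers d : Subgroup G) : Set G))))
    · intro x y hxy
      have : ((x : ↥V) : G) = ((y : ↥V) : G) := by
        have := congrArg Subtype.val hxy
        exact this
      exact Subtype.ext (Subtype.ext this)
    · refine Subgroup.mem_inf.mpr ⟨(k : ↥V).2, ?_⟩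
      have hk : φ (k : ↥V) = 1 := k.2
      have hk' : d * ((k : ↥V) : G) * d⁻¹ * ((k : ↥V) : G)⁻¹ = 1 := congrArg Subtype.val hk
      have hcomm : Commute d ((k : ↥V) : G) := by
        show d * ((k : ↥V) : G) = ((k : ↥V) : G) * d
        calc d * ((k : ↥V) : G)
            = (d * ((k : ↥V) : G) * d⁻¹ * ((k : ↥V) : G)⁻¹) * (((k : ↥V) : G) * d) := by group
          _ = ((k : ↥V) : G) * d := by rw [hk', one_mul]
      rw [Subgroup.mem_centralizer_iff]
      intro h hh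
      obtain ⟨n, rfl⟩ := Subgroup.mem_zpowers_iff.mp hh
      exact (hcomm.zpow_left n).eq
  calc Nat.card ↥V = Nat.card ↥φ.ker * Nat.card ↥φ.range := h1.symm
    _ ≤ Nat.card ↥(V ⊓ Subgroup.centralizer ((Subgroup.zpowers d : Subgroup G) : Set G))
        * Nat.card ↥W := Nat.mul_le_mul h3 h2
    _ = _ := by ring

omit hA in
/-- a nontrivial element of the product of two minimal offenders with the same commutator on
`V` generates a minimal offender -/
theorem minoff_zpowers {B F : Subgroup G} (hB : MinOff p V H B) (hF : MinOff p V H F)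
    (hBF : ⁅V, B⁆ = ⁅V, F⁆) {b f : G} (hb : b ∈ B) (hf : f ∈ F) (hd1 : f⁻¹ * b ≠ 1) :
    MinOff p V H (Subgroup.zpowers (f⁻¹ * b)) ∧
      ⁅V, Subgroup.zpowers (f⁻¹ * b)⁆ ≤ ⁅V, B⁆ := by
  have hbH := hB.1 hb
  have hfH := hF.1 hf
  have hdH : f⁻¹ * b ∈ H := H.mul_mem (H.inv_mem hfH) hbH
  have hDH : Subgroup.zpowers (f⁻¹ * b) ≤ H := (Subgroup.zpowers_le).mpr hdH
  have hcomm : Commute f⁻¹ b :=
    (show Commute b f from transv_commute hS hI hB hF hBF hb hf).symm.inv_left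
  have hdp : (f⁻¹ * b) ^ p = 1 := by
    rw [hcomm.mul_pow, inv_pow, mo_pow hS hF hf, mo_pow hS hB hb]; simp
  have hcard : Nat.card ↥(Subgroup.zpowers (f⁻¹ * b)) = p := by
    rw [Nat.card_zpowers]
    exact orderOf_eq_prime hdp hd1
  have hDle : Subgroup.zpowers (f⁻¹ * b) ≤ B ⊔ F := by
    rw [Subgroup.zpowers_le]
    exact Subgroup.mul_mem _ (Subgroup.inv_mem _ (Subgroup.mem_sup_right hf))
      (Subgroup.mem_sup_left hb)
  have hcomm_le : ⁅V, Subgroup.zpowers (f⁻¹ * b)⁆ ≤ ⁅V, B⁆ := by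
    calc ⁅V, Subgroup.zpowers (f⁻¹ * b)⁆ ≤ ⁅V, B ⊔ F⁆ := Subgroup.commutator_mono le_rfl hDle
      _ = ⁅V, B⁆ ⊔ ⁅V, F⁆ := comm_sup hS hB.1 hF.1
      _ = ⁅V, B⁆ := by rw [← hBF, sup_idem]
  have hne_bot : Subgroup.zpowers (f⁻¹ * b) ≠ ⊥ := ne_bot_of_prime_card hcard
  have hcomm_ne : ⁅V, Subgroup.zpowers (f⁻¹ * b)⁆ ≠ ⊥ := by
    intro h
    apply hne_bot
    apply eq_bot_of_le_centralizer hS hDH
    rw [Subgroup.le_centralizer_iff]
    exact Subgroup.commutator_eq_bot_iff_le_centralizer.mp h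
  have hsub : ∀ C' : Subgroup G, C' ≤ Subgroup.zpowers (f⁻¹ * b) →
      C' = ⊥ ∨ C' = Subgroup.zpowers (f⁻¹ * b) := by
    intro C' hC'
    have hdvd : Nat.card ↥C' ∣ p := by
      rw [← hcard]; exact Subgroup.card_dvd_of_le hC'
    rcases (Nat.dvd_prime hp.1).mp hdvd with h | h
    · left; exact Subgroup.eq_bot_of_card_eq C' h
    · right; exact Subgroup.eq_of_le_of_card_ge hC' (by rw [h, hcard])
  have hbest : Cfsg.IsBestOffenderOn p V (Subgroup.zpowers (f⁻¹ * b)) := by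
    refine ⟨?_, ?_, ?_⟩
    · intro B' hB'
      rcases hsub B' hB' with h | h
      · rw [h, Subgroup.card_bot, one_mul, hcard]
        have h1 := card_le_of_comm_mem hS hdH (W := ⁅V, B⁆) (fun v hv =>
          hcomm_le (mo_conj_mem (Subgroup.mem_zpowers _) hv))
        rw [mo_card_comm hS hI hB] at h1
        exact le_trans (Subgroup.card_le_of_le inf_le_left) h1
      · rw [h]
    · rw [Subgroup.commutator_le]
      intro x hx y hy
      obtain ⟨n, rfl⟩ := Subgroup.mem_zpowers_iff.mp hx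
      obtain ⟨m, rfl⟩ := Subgroup.mem_zpowers_iff.mp hy
      have : Commute ((f⁻¹ * b) ^ n) ((f⁻¹ * b) ^ m) :=
        ((Commute.refl (f⁻¹ * b)).zpow_left n).zpow_right m
      rw [commutatorElement_def, this.eq]
      have e : (f⁻¹ * b) ^ m * (f⁻¹ * b) ^ n * ((f⁻¹ * b) ^ n)⁻¹ * ((f⁻¹ * b) ^ m)⁻¹ = 1 := by
        group
      rw [e]; exact Subgroup.one_mem _
    · intro a ha
      obtain ⟨n, rfl⟩ := Subgroup.mem_zpowers_iff.mp ha
      have : ((f⁻¹ * b) ^ n) ^ p = 1 := by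
        rw [← zpow_natCast, ← _root_.zpow_mul, mul_comm, _root_.zpow_mul, zpow_natCast, hdp,
          _root_.one_zpow]
      rw [this]; exact Subgroup.one_mem _
  refine ⟨⟨hDH, hbest, hcomm_ne, ?_⟩, hcomm_le⟩
  intro C' hC' hC'b hC'c
  rcases hsub C' hC' with h | h
  · exfalso; apply hC'c; rw [h]; exact Subgroup.commutator_bot_right _
  · exact h

omit hA in
/-- for fixed `u ∈ V` the map `c ↦ [c, u]` is multiplicative on a minimal offender -/
theorem comm_map_mul_left {C : Subgroup G} (hC : MinOff p V H C) {u : G} (hu : u ∈ V)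
    {c₁ c₂ : G} (hc₁ : c₁ ∈ C) (hc₂ : c₂ ∈ C) :
    c₁ * c₂ * u * (c₁ * c₂)⁻¹ * u⁻¹ = (c₁ * u * c₁⁻¹ * u⁻¹) * (c₂ * u * c₂⁻¹ * u⁻¹) := by
  have hc := mo_V_comm (p := p) hS
  have h2 : c₂ * u * c₂⁻¹ * u⁻¹ ∈ ⁅V, C⁆ := mo_conj_mem hc₂ hu
  have h1 : c₁ * u * c₁⁻¹ * u⁻¹ ∈ ⁅V, C⁆ := mo_conj_mem hc₁ hu
  have h3 := mo_conj_comm hS hI hC hc₁ h2
  rw [hc _ (mo_comm_le hS hC h1) _ (mo_comm_le hS hC h2)]
  calc c₁ * c₂ * u * (c₁ * c₂)⁻¹ * u⁻¹
      = (c₁ * (c₂ * u * c₂⁻¹ * u⁻¹) * c₁⁻¹) * (c₁ * u * c₁⁻¹ * u⁻¹) := by group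
    _ = _ := by rw [h3]

/-- a minimal offender either centralizes the plane of `A` or is conjugate to `A` -/
theorem minoff_le_FF_or_xconj {B : Subgroup G} (hB : MinOff p V H B) :
    B ≤ FF p V H A ∨ XConj p H A B := by
  obtain ⟨b, hb, hb1⟩ := exists_ne_one_of_prime_card (mo_card hS hI hB)
  have hbH := hB.1 hb
  have hRV : RR p V H A ≤ V := RR_le hA.1 hS.hHV
  by_cases hcase : ∀ r ∈ RR p V H A, b * r * b⁻¹ * r⁻¹ = 1
  · left
    apply le_of_prime_card (mo_card hS hI hB) hb hb1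
    refine Subgroup.mem_inf.mpr ⟨hbH, ?_⟩
    rw [Subgroup.mem_centralizer_iff]
    intro r hr
    have := hcase r hr
    calc r * b = (b * r * b⁻¹ * r⁻¹)⁻¹ * (b * r) := by group
      _ = b * r := by rw [this, inv_one, one_mul]
  · right
    push Not at hcase
    obtain ⟨s, hs, hsb⟩ := hcase
    have hbN : cj b (RR p V H A) = RR p V H A :=
      cj_eq_self_of_mem_normalizer (minoff_normalizes_RR hS hI hA hB hb)
    have hw₀B : b * s * b⁻¹ * s⁻¹ ∈ ⁅V, B⁆ := mo_conj_mem hb (hRV hs)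
    have hw₀R : b * s * b⁻¹ * s⁻¹ ∈ RR p V H A := by
      apply Subgroup.mul_mem _ _ (Subgroup.inv_mem _ hs)
      have := conj_mem_cj (x := b) hs
      rwa [hbN] at this
    obtain ⟨F, hAF, hw₀F⟩ := RR_cover hS hI hA hw₀R
    have hF := MinOff.xconj hS hA hAF
    have hBF : ⁅V, B⁆ = ⁅V, F⁆ :=
      eq_of_prime_card (mo_card_comm hS hI hB) (mo_card_comm hS hI hF) hw₀B hw₀F hsb
    have hW'R : ⁅V, B⁆ ≤ RR p V H A := by rw [hBF]; exact comm_le_RR hS hI hA hAF
    suffices hsuff : B = F by rw [hsuff]; exact hAF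
    by_contra hne
    have hsW : s ∉ ⁅V, B⁆ := by
      intro h
      apply hsb
      rw [mo_conj_comm hS hI hB hb h]; group
    have hW'F : ⁅V, B⁆ ≤ Subgroup.centralizer (F : Set G) := by
      rw [hBF]; exact (mo_comm_le_centralizer hS hI hF).trans inf_le_right
    have hW'B : ⁅V, B⁆ ≤ Subgroup.centralizer (B : Set G) :=
      (mo_comm_le_centralizer hS hI hB).trans inf_le_right
    have hFs : ∃ f₁ ∈ F, f₁ * s * f₁⁻¹ * s⁻¹ ≠ 1 := by
      by_contra hcon
      push Not at hcon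
      have hsF : s ∈ RR p V H A ⊓ Subgroup.centralizer (F : Set G) := by
        refine Subgroup.mem_inf.mpr ⟨hs, ?_⟩
        rw [Subgroup.mem_centralizer_iff]
        intro f₁ hf₁
        have := hcon f₁ hf₁
        calc f₁ * s = (f₁ * s * f₁⁻¹ * s⁻¹) * (s * f₁) := by group
          _ = s * f₁ := by rw [this, one_mul]
      have hK : RR p V H A ⊓ Subgroup.centralizer (F : Set G) = RR p V H A :=
        eq_of_lt_plane (le_inf hW'R hW'F) inf_le_left (mo_card_comm hS hI hB)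
          (RR_card hS hI hA) hsF hsW
      have h1 : RR p V H A ≤ Subgroup.centralizer (F : Set G) := by
        calc RR p V H A = RR p V H A ⊓ Subgroup.centralizer (F : Set G) := hK.symm
          _ ≤ _ := inf_le_right
      have h2 : F ≤ EE p H A ⊓ Subgroup.centralizer ((RR p V H A : Subgroup G) : Set G) :=
        le_inf (conj_le_EE hS hI hA hAF) (Subgroup.le_centralizer_iff.mp h1)
      rw [EE_faithful hS hI hA] at h2
      exact mo_ne_bot hS hI hF (eq_bot_iff.mpr h2)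
    obtain ⟨f, hf, hfs⟩ := exists_of_hom_prime (K := F) (L := ⁅V, F⁆)
      (fun c => c * s * c⁻¹ * s⁻¹) (mo_card_comm hS hI hF)
      (fun c hc => mo_conj_mem hc (hRV hs))
      (fun c₁ hc₁ c₂ hc₂ => comm_map_mul_left hS hI hF (hRV hs) hc₁ hc₂) hFs
      (b * s * b⁻¹ * s⁻¹) hw₀F
    have hfs' : f * s * f⁻¹ * s⁻¹ = b * s * b⁻¹ * s⁻¹ := hfs
    have hfs'' : f * s * f⁻¹ = b * s * b⁻¹ := mul_right_cancel hfs'
    have hfH := hF.1 hf
    have hd1 : f⁻¹ * b ≠ 1 := by
      intro h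
      have hbf : b = f := by
        calc b = f * (f⁻¹ * b) := by group
          _ = f := by rw [h, mul_one]
      apply hne
      exact eq_of_prime_card (mo_card hS hI hB) (mo_card hS hI hF) hb (hbf ▸ hf) hb1
    obtain ⟨hD, hDcomm⟩ := minoff_zpowers hS hI hB hF hBF hb hf hd1
    have hdH : f⁻¹ * b ∈ H := H.mul_mem (H.inv_mem hfH) hbH
    -- `d` centralizes the plane
    have hds : Commute (f⁻¹ * b) s := by
      show (f⁻¹ * b) * s = s * (f⁻¹ * b)
      calc (f⁻¹ * b) * s = f⁻¹ * (b * s * b⁻¹) * b := by group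
        _ = f⁻¹ * (f * s * f⁻¹) * b := by rw [hfs'']
        _ = _ := by group
    have hsK : s ∈ RR p V H A ⊓
        Subgroup.centralizer ((Subgroup.zpowers (f⁻¹ * b) : Subgroup G) : Set G) := by
      refine Subgroup.mem_inf.mpr ⟨hs, ?_⟩
      rw [Subgroup.mem_centralizer_iff]
      intro h hh
      obtain ⟨n, rfl⟩ := Subgroup.mem_zpowers_iff.mp hh
      exact (hds.zpow_left n).eq
    have hW'd : ⁅V, B⁆ ≤
        Subgroup.centralizer ((Subgroup.zpowers (f⁻¹ * b) : Subgroup G) : Set G) := by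
      rw [Subgroup.le_centralizer_iff, Subgroup.zpowers_le]
      exact Subgroup.mul_mem _
        (Subgroup.inv_mem _ (Subgroup.le_centralizer_iff.mp hW'F hf))
        (Subgroup.le_centralizer_iff.mp hW'B hb)
    have hK : RR p V H A ⊓
        Subgroup.centralizer ((Subgroup.zpowers (f⁻¹ * b) : Subgroup G) : Set G)
          = RR p V H A :=
      eq_of_lt_plane (le_inf hW'R hW'd) inf_le_left (mo_card_comm hS hI hB)
        (RR_card hS hI hA) hsK hsW
    have hRd : RR p V H A ≤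
        Subgroup.centralizer ((Subgroup.zpowers (f⁻¹ * b) : Subgroup G) : Set G) := by
      calc RR p V H A = RR p V H A ⊓
            Subgroup.centralizer ((Subgroup.zpowers (f⁻¹ * b) : Subgroup G) : Set G) := hK.symm
        _ ≤ _ := inf_le_right
    have hDF : Subgroup.zpowers (f⁻¹ * b) ≤ FF p V H A :=
      le_inf hD.1 (Subgroup.le_centralizer_iff.mp hRd)
    have hTD : TT p H (Subgroup.zpowers (f⁻¹ * b)) ≤
        Subgroup.centralizer ((RR p V H A : Subgroup G) : Set G) := by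
      refine le_trans ?_ (inf_le_right : FF p V H A ≤ _)
      unfold TT
      rw [Subgroup.commutator_le]
      intro x hx y hy
      rw [commutatorElement_def]
      exact Subgroup.mul_mem _ (conj_mem_FF hS hI hA (XX_le p H hx) (hDF hy))
        (Subgroup.inv_mem _ (hDF hy))
    have h0 := RR_inf_of_TT_le hS hI hA hD hTD
    have h1 : ⁅V, Subgroup.zpowers (f⁻¹ * b)⁆ ≤ RR p V H (Subgroup.zpowers (f⁻¹ * b)) :=
      Subgroup.commutator_mono le_rfl (le_EE _)
    have h2 : ⁅V, Subgroup.zpowers (f⁻¹ * b)⁆ ≤ RR p V H A := hDcomm.trans hW'R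
    apply hD.2.2.1
    rw [eq_bot_iff, ← h0]
    exact le_inf h1 h2

theorem EE_sup_FF : EE p H A ⊔ FF p V H A = H := by
  apply le_antisymm (sup_le (EE_le hA.1) (FF_le A))
  apply H_le_of_minoff hS hI
  intro B hB
  rcases minoff_le_FF_or_xconj hS hI hA hB with h | h
  · exact h.trans le_sup_right
  · exact (conj_le_EE hS hI hA h).trans le_sup_left

/-- `C_H(R)` normalizes `E` -/
theorem cj_EE_le_of_mem_FF {f : G} (hf : f ∈ FF p V H A) : cj f (EE p H A) ≤ EE p H A := by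
  have hfH : f ∈ H := FF_le A hf
  have key : ∀ D : Subgroup G, XConj p H A D → cj f D ≤ EE p H A := by
    intro D hD
    have hDm := MinOff.xconj hS hA hD
    have hfD : MinOff p V H (cj f D) := MinOff.cj hDm hS.hHV hfH
    rcases minoff_le_FF_or_xconj hS hI hA hfD with h | h
    · exfalso
      have h1 : D ≤ FF p V H A := by
        have := cj_mono f⁻¹ h
        rwa [cj_inv_cj, cj_FF hS hI hA (H.inv_mem hfH)] at this
      have h2 : D ≤ EE p H A ⊓ FF p V H A := le_inf (conj_le_EE hS hI hA hD) h1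
      rw [EE_inf_FF hS hI hA] at h2
      exact mo_ne_bot hS hI hDm (eq_bot_iff.mpr h2)
    · exact conj_le_EE hS hI hA h
  obtain ⟨x₀, hx₀, hx₀c⟩ := exists_x0 hS hA hI
  rw [EE_eq hS hI hA hx₀ hx₀c, cj_sup]
  have h1 := key A (XConj.refl A)
  have h2 := key (cj x₀ A) ⟨x₀, hx₀, rfl⟩
  rw [EE_eq hS hI hA hx₀ hx₀c] at h1 h2
  exact sup_le h1 h2

theorem EE_comm_FF : ⁅EE p H A, FF p V H A⁆ = ⊥ := by
  rw [eq_bot_iff, ← EE_inf_FF hS hI hA, Subgroup.commutator_le]
  intro e he f hf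
  refine Subgroup.mem_inf.mpr ⟨?_, ?_⟩
  · have h1 : f * e⁻¹ * f⁻¹ ∈ EE p H A :=
      cj_EE_le_of_mem_FF hS hI hA hf (conj_mem_cj (Subgroup.inv_mem _ he))
    have e1 : ⁅e, f⁆ = e * (f * e⁻¹ * f⁻¹) := by rw [commutatorElement_def]; group
    rw [e1]
    exact Subgroup.mul_mem _ he h1
  · have h1 : e * f * e⁻¹ ∈ FF p V H A := conj_mem_FF hS hI hA (EE_le hA.1 he) hf
    rw [commutatorElement_def]
    exact Subgroup.mul_mem _ h1 (Subgroup.inv_mem _ hf)

theorem comm_FF_le :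
    ⁅V, FF p V H A⁆ ≤ V ⊓ Subgroup.centralizer ((EE p H A : Subgroup G) : Set G) := by
  apply le_inf (commutator_le_left_of_normalizer ((FF_le A).trans hS.hHV))
  rw [← Subgroup.commutator_eq_bot_iff_le_centralizer]
  apply Subgroup.commutator_commutator_eq_bot_of_rotate
  · rw [Subgroup.commutator_comm (FF p V H A), EE_comm_FF hS hI hA]
    exact Subgroup.commutator_bot_left _
  · rw [Subgroup.commutator_comm (EE p H A) V, Subgroup.commutator_eq_bot_iff_le_centralizer]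
    show RR p V H A ≤ _
    rw [Subgroup.le_centralizer_iff]
    exact inf_le_right

/-- the structure of `H` relative to a minimal offender -/
theorem main616 : (p = 2 ∨ p = 3) ∧
    Nonempty (↥(EE p H A) ≃* Matrix.SpecialLinearGroup (Fin 2) (ZMod p)) ∧
    Nat.card ↥(RR p V H A) = p ^ 2 ∧
    RR p V H A ⊓ (V ⊓ Subgroup.centralizer ((EE p H A : Subgroup G) : Set G)) = ⊥ ∧
    RR p V H A ⊔ (V ⊓ Subgroup.centralizer ((EE p H A : Subgroup G) : Set G)) = V ∧
    ⁅EE p H A, FF p V H A⁆ = ⊥ ∧ EE p H A ⊓ FF p V H A = ⊥ ∧ EE p H A ⊔ FF p V H A = H ∧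
    ⁅V, FF p V H A⁆ ≤ V ⊓ Subgroup.centralizer ((EE p H A : Subgroup G) : Set G) :=
  ⟨EE_p hS hI hA, EE_iso hS hI hA, RR_card hS hI hA, RR_inf_centralizer hS hI hA,
    RR_sup_centralizer hS hI hA, EE_comm_FF hS hI hA, EE_inf_FF hS hI hA, EE_sup_FF hS hI hA,
    comm_FF_le hS hI hA⟩

end hlevel

end Cfsg.Agent.Helper4.OG
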