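import Mathlib
import Cfsg.Prelude.Def_PLocal
import Cfsg.Agent.Lib.Helper4.OffStruct
import Cfsg.Agent.Lib.Helper12.SL2Upper

/-!
# Best offenders: the group `[O_{p'}(H), A]` of a minimal offender (helper4)
-/

set_option autoImplicit false
set_option linter.unusedSectionVars false
set_option linter.unusedVariables false
set_option linter.style.haveILetI false

namespace Cfsg.Agent.Helper4.OG

open scoped commutatorElement

variable {G : Type*} [Group G]

/-- order of a semidirect product inside a group -/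
theorem card_sup_eq_mul [Finite G] {N K : Subgroup G}
    (hK : K ≤ Subgroup.normalizer (N : Set G)) (h : N ⊓ K = ⊥) :
    Nat.card ↥(N ⊔ K) = Nat.card ↥N * Nat.card ↥K := by
  apply le_antisymm _ (card_mul_le_card_sup h)
  rw [← Nat.card_prod]
  apply Nat.card_le_card_of_surjective (fun x : ↥N × ↥K => (⟨(x.1 : G) * (x.2 : G),
      Subgroup.mul_mem _ (Subgroup.mem_sup_left x.1.2) (Subgroup.mem_sup_right x.2.2)⟩ : ↥(N ⊔ K)))
  rintro ⟨y, hy⟩
  have hy' : y ∈ ((N ⊔ K : Subgroup G) : Set G) := hy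
  rw [Subgroup.coe_mul_of_right_le_normalizer_left N K hK, Set.mem_mul] at hy'
  obtain ⟨n, hn, k, hk, rfl⟩ := hy'
  exact ⟨(⟨n, hn⟩, ⟨k, hk⟩), rfl⟩

/-- two non-commuting elements of order dividing 4 in `SL(2,3)` -/
def qi : Matrix.SpecialLinearGroup (Fin 2) (ZMod 3) := ⟨!![0, 1; -1, 0], by decide⟩

/-- two non-commuting elements of order dividing 4 in `SL(2,3)` -/
def qj : Matrix.SpecialLinearGroup (Fin 2) (ZMod 3) := ⟨!![1, 1; 1, -1], by decide⟩

theorem qi_pow : qi ^ 4 = 1 := by decide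

theorem qj_pow : qj ^ 4 = 1 := by decide

theorem qi_qj : qi * qj ≠ qj * qi := by decide

section tt

variable {p : ℕ} [hp : Fact p.Prime] {V H : Subgroup G}

variable [Finite G] (hS : Setting p V H) (hI : Inputs p V H) {A : Subgroup G}
  (hA : MinOff p V H A)
include hS hI hA

theorem card_EE : Nat.card ↥(EE p H A) = p * (p ^ 2 - 1) := by
  obtain ⟨φ⟩ := EE_iso hS hI hA
  rw [Nat.card_congr φ.toEquiv, Cfsg.Agent.Helper12.card_SL2, ZMod.card]

omit hI in
theorem EE_le_normalizer_TT : EE p H A ≤ Subgroup.normalizer ((TT p H A : Subgroup G) : Set G) := by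
  apply sup_le
  · intro t ht
    rw [Subgroup.mem_normalizer_iff_map_conj_eq]
    exact cj_TT_of_mem_XX (TT_le_XX hA.1 ht)
  · intro a ha
    rw [Subgroup.mem_normalizer_iff_map_conj_eq]
    show cj a (TT p H A) = TT p H A
    rw [cj_TT (hA.1 ha), cj_eq_self_of_mem ha]

omit hI in
theorem TT_inf : TT p H A ⊓ A = ⊥ := by
  rw [eq_bot_iff, ← inf_XX_eq_bot (p := p) (H := H) (mo_isPGroup hS hA), inf_comm]
  exact inf_le_inf_left _ (TT_le_XX hA.1)

theorem card_TT : Nat.card ↥(TT p H A) = p ^ 2 - 1 := by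
  have h1 : Nat.card ↥(EE p H A) = Nat.card ↥(TT p H A) * Nat.card ↥A :=
    card_sup_eq_mul ((le_EE A).trans (EE_le_normalizer_TT hS hA)) (TT_inf hS hA)
  rw [card_EE hS hI hA, mo_card hS hI hA, mul_comm] at h1
  exact (Nat.eq_of_mul_eq_mul_right hp.1.pos h1).symm

/-- in characteristic 3 every element of `E` of order dividing 4 lies in `[X, A]` -/
theorem mem_TT_of_pow_four (hp3 : p = 3) {g : G} (hg : g ∈ EE p H A) (hg4 : g ^ 4 = 1) :
    g ∈ TT p H A := by
  subst hp3
  have hN : ((TT 3 H A).subgroupOf (EE 3 H A)).Normal :=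
    (Subgroup.normal_subgroupOf_iff_le_normalizer (TT_le_EE A)).mpr (EE_le_normalizer_TT hS hA)
  have hcardN : Nat.card ↥((TT 3 H A).subgroupOf (EE 3 H A)) = 8 := by
    rw [Nat.card_congr (Subgroup.subgroupOfEquivOfLe (TT_le_EE A)).toEquiv, card_TT hS hI hA]
    norm_num
  have hidx : ((TT 3 H A).subgroupOf (EE 3 H A)).index = 3 := by
    have h1 := Subgroup.card_mul_index ((TT 3 H A).subgroupOf (EE 3 H A))
    rw [hcardN, card_EE hS hI hA] at h1
    have h2 : 3 * (3 ^ 2 - 1) = 24 := by norm_num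
    rw [h2] at h1
    omega
  have h3 : ∀ y : ↥(EE 3 H A), y ^ 3 ∈ (TT 3 H A).subgroupOf (EE 3 H A) := by
    intro y
    rw [← QuotientGroup.eq_one_iff, QuotientGroup.mk_pow]
    have : Nat.card (↥(EE 3 H A) ⧸ (TT 3 H A).subgroupOf (EE 3 H A)) = 3 := hidx
    have h := pow_card_eq_one' (G := ↥(EE 3 H A) ⧸ (TT 3 H A).subgroupOf (EE 3 H A))
      (x := (y : ↥(EE 3 H A) ⧸ (TT 3 H A).subgroupOf (EE 3 H A)))
    rw [this] at h
    exact h
  have h4 := h3 ⟨g, hg⟩
  have h5 := Subgroup.pow_mem _ h4 3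
  have e : ((⟨g, hg⟩ : ↥(EE 3 H A)) ^ 3) ^ 3 = ⟨g, hg⟩ := by
    apply Subtype.ext
    show (g ^ 3) ^ 3 = g
    calc (g ^ 3) ^ 3 = (g ^ 4) ^ 2 * g := by group
      _ = g := by rw [hg4]; group
  rw [e] at h5
  exact h5

theorem main614 : (p = 2 ∧ IsPGroup 3 ↥(TT p H A)) ∨
    (p = 3 ∧ IsPGroup 2 ↥(TT p H A) ∧ ¬ IsMulCommutative ↥(TT p H A)) := by
  rcases EE_p hS hI hA with h2 | h3
  · left
    refine ⟨h2, ?_⟩
    have := card_TT hS hI hA
    exact IsPGroup.of_card (n := 1) (by rw [this, h2]; norm_num)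
  · right
    refine ⟨h3, ?_, ?_⟩
    · have := card_TT hS hI hA
      exact IsPGroup.of_card (n := 3) (by rw [this, h3]; norm_num)
    · intro hcomm
      obtain ⟨φ⟩ := EE_iso hS hI hA
      subst h3
      have h1 : (φ.symm qi : G) ∈ TT 3 H A := by
        apply mem_TT_of_pow_four hS hI hA rfl (φ.symm qi).2
        have : (φ.symm qi) ^ 4 = 1 := by rw [← map_pow, qi_pow, map_one]
        have := congrArg Subtype.val this
        simpa using this
      have h2 : (φ.symm qj : G) ∈ TT 3 H A := by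
        apply mem_TT_of_pow_four hS hI hA rfl (φ.symm qj).2
        have : (φ.symm qj) ^ 4 = 1 := by rw [← map_pow, qj_pow, map_one]
        have := congrArg Subtype.val this
        simpa using this
      have h3 := hcomm.is_comm.comm (⟨_, h1⟩ : ↥(TT 3 H A)) ⟨_, h2⟩
      have h4 : (φ.symm qi : G) * (φ.symm qj : G) = (φ.symm qj : G) * (φ.symm qi : G) :=
        congrArg Subtype.val h3
      have h5 : φ.symm qi * φ.symm qj = φ.symm qj * φ.symm qi := Subtype.ext h4
      rw [← map_mul, ← map_mul] at h5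
      exact qi_qj (φ.symm.injective h5)

end tt

end Cfsg.Agent.Helper4.OG
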