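import Mathlib
import Cfsg.Prelude.Def_PLocal
import Cfsg.Agent.Lib.Helper4.OffStruct

/-!
# Best offenders: the direct decomposition of `H` and `V` (helper4)
-/

set_option autoImplicit false
set_option linter.unusedSectionVars false
set_option linter.unusedVariables false
set_option linter.style.haveILetI false

namespace Cfsg.Agent.Helper4.OG

open scoped commutatorElement

variable {G : Type*} [Group G]

section finset

variable {ι : Type*} [DecidableEq ι] {V : Subgroup G}

theorem finset_sup_inf_eq_bot (hc : ∀ a ∈ V, ∀ b ∈ V, a * b = b * a) (R C' : ι → Subgroup G)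
    (hR : ∀ i, R i ≤ V) (hRC : ∀ i, R i ⊓ C' i = ⊥) (hle : ∀ i j, i ≠ j → R j ≤ C' i)
    (s : Finset ι) : s.sup R ⊓ s.inf C' = ⊥ := by
  induction s using Finset.induction_on with
  | empty => simp
  | insert i s his ih =>
    rw [Finset.sup_insert, Finset.inf_insert, eq_bot_iff]
    intro x hx
    obtain ⟨hx1, hx23⟩ := hx
    obtain ⟨hx2, hx3⟩ := hx23
    have hsV : s.sup R ≤ V := Finset.sup_le (fun j _ => hR j)
    obtain ⟨r, hr, y, hy, rfl⟩ := (mem_sup_of_le_comm hc (hR i) hsV).mp hx1
    have hyC : y ∈ C' i := by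
      have h1 : s.sup R ≤ C' i := by
        apply Finset.sup_le
        intro j hj
        apply hle i j
        intro hij
        rw [hij] at his
        exact his hj
      exact h1 hy
    have hr1 : r = 1 := by
      have h1 : r ∈ R i ⊓ C' i := by
        refine ⟨hr, ?_⟩
        have e : r = (r * y) * y⁻¹ := by group
        rw [e]
        exact Subgroup.mul_mem _ hx2 (Subgroup.inv_mem _ hyC)
      rwa [hRC i, Subgroup.mem_bot] at h1
    rw [hr1, one_mul] at hx3 ⊢
    have h2 : y ∈ s.sup R ⊓ s.inf C' := ⟨hy, hx3⟩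
    rwa [ih] at h2

theorem finset_le_sup_sup_inf (hc : ∀ a ∈ V, ∀ b ∈ V, a * b = b * a) (R C' : ι → Subgroup G)
    (hR : ∀ i, R i ≤ V) (hC : ∀ i, C' i ≤ V) (hRC : ∀ i, V ≤ R i ⊔ C' i)
    (hle : ∀ i j, i ≠ j → R j ≤ C' i) (s : Finset ι) : V ≤ s.sup R ⊔ (V ⊓ s.inf C') := by
  induction s using Finset.induction_on with
  | empty => simp
  | insert i s his ih =>
    intro v hv
    have hsV : s.sup R ≤ V := Finset.sup_le (fun j _ => hR j)
    obtain ⟨y, hy, c, hc', rfl⟩ :=
      (mem_sup_of_le_comm hc hsV (inf_le_left : V ⊓ s.inf C' ≤ V)).mp (ih hv)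
    obtain ⟨hcV, hcs⟩ := hc'
    obtain ⟨r, hr, c', hc'', rfl⟩ := (mem_sup_of_le_comm hc (hR i) (hC i)).mp (hRC i hcV)
    have hrs : r ∈ s.inf C' := by
      have h1 : R i ≤ s.inf C' := by
        apply Finset.le_inf
        intro j hj
        apply hle j i
        intro hij
        rw [← hij] at his
        exact his hj
      exact h1 hr
    have hc's : c' ∈ s.inf C' := by
      have e : c' = r⁻¹ * (r * c') := by group
      rw [e]
      exact Subgroup.mul_mem _ (Subgroup.inv_mem _ hrs) hcs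
    rw [Finset.sup_insert, Finset.inf_insert]
    have e : y * (r * c') = (y * r) * c' := by group
    rw [e]
    apply Subgroup.mul_mem _ (Subgroup.mem_sup_left ?_) (Subgroup.mem_sup_right ?_)
    · exact Subgroup.mul_mem _ (Subgroup.mem_sup_right hy) (Subgroup.mem_sup_left hr)
    · exact ⟨hC i hc'', hc'', hc's⟩

end finset

section fam

variable {p : ℕ} [hp : Fact p.Prime] {V H : Subgroup G}

/-- the subgroups `[O_{p'}(H), A] A` for minimal offenders `A` -/
def IsEE (p : ℕ) (V H E : Subgroup G) : Prop :=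
  ∃ A : Subgroup G, A ≤ H ∧ Cfsg.IsBestOffenderOn p V A ∧ ⁅V, A⁆ ≠ ⊥ ∧
    (∀ B : Subgroup G, B ≤ A → Cfsg.IsBestOffenderOn p V B → ⁅V, B⁆ ≠ ⊥ → B = A) ∧
    E = ⁅XX p H, A⁆ ⊔ A

omit hp in
theorem isEE_iff {E : Subgroup G} :
    IsEE p V H E ↔ ∃ A : Subgroup G, MinOff p V H A ∧ E = EE p H A := by
  constructor
  · rintro ⟨A, h1, h2, h3, h4, h5⟩
    exact ⟨A, ⟨h1, h2, h3, h4⟩, h5⟩
  · rintro ⟨A, ⟨h1, h2, h3, h4⟩, h5⟩
    exact ⟨A, h1, h2, h3, h4, h5⟩

variable [Finite G] (hS : Setting p V H) (hI : Inputs p V H)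
include hS hI

theorem exists_minoff : ∃ A : Subgroup G, MinOff p V H A := by
  by_contra h
  push Not at h
  apply hS.hH1
  rw [eq_bot_iff]
  exact H_le_of_minoff hS hI (fun B hB => absurd hB (h B))

theorem H_le_normalizer_EE {A : Subgroup G} (hA : MinOff p V H A) :
    H ≤ Subgroup.normalizer ((EE p H A : Subgroup G) : Set G) := by
  have h1 : FF p V H A ≤ Subgroup.normalizer ((EE p H A : Subgroup G) : Set G) := by
    intro f hf
    rw [Subgroup.mem_normalizer_iff_map_conj_eq]
    show cj f (EE p H A) = EE p H A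
    apply le_antisymm (cj_EE_le_of_mem_FF hS hI hA hf)
    have := cj_EE_le_of_mem_FF hS hI hA (Subgroup.inv_mem _ hf)
    rwa [cj_le_iff, inv_inv] at this
  calc H = EE p H A ⊔ FF p V H A := (EE_sup_FF hS hI hA).symm
    _ ≤ _ := sup_le Subgroup.le_normalizer h1

theorem EE_le_FF_of_ne {A B : Subgroup G} (hA : MinOff p V H A) (hB : MinOff p V H B)
    (hne : EE p H B ≠ EE p H A) : EE p H B ≤ FF p V H A := by
  rcases minoff_le_FF_or_xconj hS hI hA hB with h | h
  · apply sup_le _ h
    rw [Subgroup.commutator_le]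
    intro x hx b hb
    rw [commutatorElement_def]
    exact Subgroup.mul_mem _ (conj_mem_FF hS hI hA (XX_le p H hx) (h hb))
      (Subgroup.inv_mem _ (h hb))
  · exact absurd (EE_xconj hS hI hA h) hne

theorem main617 : (p = 2 ∨ p = 3) ∧
    (∀ E : {E : Subgroup G // IsEE p V H E},
      H ≤ Subgroup.normalizer ((E : Subgroup G) : Set G) ∧
      Nonempty (↥(E : Subgroup G) ≃* Matrix.SpecialLinearGroup (Fin 2) (ZMod p)) ∧
      Nat.card ↥(⁅V, (E : Subgroup G)⁆) = p ^ 2) ∧
    iSupIndep (fun E : {E : Subgroup G // IsEE p V H E} => (E : Subgroup G)) ∧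
    (⨆ E : {E : Subgroup G // IsEE p V H E}, (E : Subgroup G)) = H ∧
    iSupIndep (fun o : Option {E : Subgroup G // IsEE p V H E} =>
      o.elim (V ⊓ Subgroup.centralizer (H : Set G)) (fun E => ⁅V, (E : Subgroup G)⁆)) ∧
    (V ⊓ Subgroup.centralizer (H : Set G)) ⊔
      (⨆ E : {E : Subgroup G // IsEE p V H E}, ⁅V, (E : Subgroup G)⁆) = V := by
  classical
  haveI : Fintype {E : Subgroup G // IsEE p V H E} := Fintype.ofFinite _
  have hc := mo_V_comm (p := p) hS
  -- the two families
  have hRle : ∀ i : {E : Subgroup G // IsEE p V H E}, ⁅V, (i : Subgroup G)⁆ ≤ V := by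
    rintro ⟨E, hE⟩
    obtain ⟨A, hA, rfl⟩ := isEE_iff.mp hE
    exact RR_le hA.1 hS.hHV
  have hRC : ∀ i : {E : Subgroup G // IsEE p V H E}, ⁅V, (i : Subgroup G)⁆ ⊓
      (V ⊓ Subgroup.centralizer ((i : Subgroup G) : Set G)) = ⊥ := by
    rintro ⟨E, hE⟩
    obtain ⟨A, hA, rfl⟩ := isEE_iff.mp hE
    exact RR_inf_centralizer hS hI hA
  have hRC' : ∀ i : {E : Subgroup G // IsEE p V H E}, V ≤ ⁅V, (i : Subgroup G)⁆ ⊔
      (V ⊓ Subgroup.centralizer ((i : Subgroup G) : Set G)) := by
    rintro ⟨E, hE⟩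
    obtain ⟨A, hA, rfl⟩ := isEE_iff.mp hE
    exact le_of_eq (RR_sup_centralizer hS hI hA).symm
  have hle : ∀ i j : {E : Subgroup G // IsEE p V H E}, i ≠ j → ⁅V, (j : Subgroup G)⁆ ≤
      V ⊓ Subgroup.centralizer ((i : Subgroup G) : Set G) := by
    rintro ⟨E, hE⟩ ⟨E', hE'⟩ hne
    obtain ⟨A, hA, rfl⟩ := isEE_iff.mp hE
    obtain ⟨B, hB, rfl⟩ := isEE_iff.mp hE'
    have hne' : EE p H B ≠ EE p H A := by
      intro h
      apply hne
      exact Subtype.ext h.symm
    exact (Subgroup.commutator_mono le_rfl (EE_le_FF_of_ne hS hI hA hB hne')).trans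
      (comm_FF_le hS hI hA)
  have hEH : ∀ i : {E : Subgroup G // IsEE p V H E}, (i : Subgroup G) ≤ H := by
    rintro ⟨E, hE⟩
    obtain ⟨A, hA, rfl⟩ := isEE_iff.mp hE
    exact EE_le hA.1
  have hsupE : (⨆ E : {E : Subgroup G // IsEE p V H E}, (E : Subgroup G)) = H := by
    apply le_antisymm (iSup_le hEH)
    apply H_le_of_minoff hS hI
    intro B hB
    exact (le_EE B).trans
      (le_iSup (fun E : {E : Subgroup G // IsEE p V H E} => (E : Subgroup G))
        ⟨EE p H B, isEE_iff.mpr ⟨B, hB, rfl⟩⟩)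
  have hCle : ∀ i : {E : Subgroup G // IsEE p V H E}, V ⊓ Subgroup.centralizer (H : Set G) ≤
      V ⊓ Subgroup.centralizer ((i : Subgroup G) : Set G) := by
    intro i
    exact inf_le_inf_left _ (Subgroup.centralizer_le (hEH i))
  have hinfC : V ⊓ (Finset.univ.inf (fun i : {E : Subgroup G // IsEE p V H E} =>
      V ⊓ Subgroup.centralizer ((i : Subgroup G) : Set G))) ≤
      V ⊓ Subgroup.centralizer (H : Set G) := by
    apply le_inf inf_le_left
    rw [Subgroup.le_centralizer_iff]
    calc H = ⨆ E : {E : Subgroup G // IsEE p V H E}, (E : Subgroup G) := hsupE.symm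
      _ ≤ _ := by
        apply iSup_le
        intro i
        rw [Subgroup.le_centralizer_iff]
        exact inf_le_right.trans ((Finset.inf_le (Finset.mem_univ i)).trans inf_le_right)
  refine ⟨?_, ?_, ?_, hsupE, ?_, ?_⟩
  · obtain ⟨A, hA⟩ := exists_minoff hS hI
    exact EE_p hS hI hA
  · rintro ⟨E, hE⟩
    obtain ⟨A, hA, rfl⟩ := isEE_iff.mp hE
    exact ⟨H_le_normalizer_EE hS hI hA, EE_iso hS hI hA, RR_card hS hI hA⟩
  · rintro ⟨E, hE⟩
    obtain ⟨A, hA, rfl⟩ := isEE_iff.mp hE
    apply Disjoint.mono_right _ (disjoint_iff.mpr (EE_inf_FF hS hI hA))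
    apply iSup_le
    rintro ⟨E', hE'⟩
    apply iSup_le
    intro hne
    obtain ⟨B, hB, rfl⟩ := isEE_iff.mp hE'
    apply EE_le_FF_of_ne hS hI hA hB
    intro h
    apply hne
    exact Subtype.ext h
  · intro o
    cases o with
    | none =>
      show Disjoint (V ⊓ Subgroup.centralizer (H : Set G)) _
      have h1 := finset_sup_inf_eq_bot hc
        (fun i : {E : Subgroup G // IsEE p V H E} => ⁅V, (i : Subgroup G)⁆)
        (fun i => V ⊓ Subgroup.centralizer ((i : Subgroup G) : Set G)) hRle hRC hle Finset.univ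
      apply Disjoint.mono _ _ (disjoint_iff.mpr h1).symm
      · exact Finset.le_inf (fun i _ => hCle i)
      · apply iSup_le
        intro o'
        apply iSup_le
        intro hne
        cases o' with
        | none => exact absurd rfl hne
        | some j =>
          exact Finset.le_sup (f := fun i : {E : Subgroup G // IsEE p V H E} =>
            ⁅V, (i : Subgroup G)⁆) (Finset.mem_univ j)
    | some i =>
      show Disjoint ⁅V, (i : Subgroup G)⁆ _
      apply Disjoint.mono_right _ (disjoint_iff.mpr (hRC i))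
      apply iSup_le
      intro o'
      apply iSup_le
      intro hne
      cases o' with
      | none => exact hCle i
      | some j =>
        apply hle i j
        intro h
        apply hne
        rw [h]
  · apply le_antisymm
    · apply sup_le inf_le_left
      exact iSup_le hRle
    · have h1 := finset_le_sup_sup_inf hc
        (fun i : {E : Subgroup G // IsEE p V H E} => ⁅V, (i : Subgroup G)⁆)
        (fun i => V ⊓ Subgroup.centralizer ((i : Subgroup G) : Set G)) hRle
        (fun i => inf_le_left) hRC' hle Finset.univ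
      refine h1.trans ?_
      rw [sup_comm]
      apply sup_le_sup hinfC
      rw [Finset.sup_univ_eq_iSup]

end fam

end Cfsg.Agent.Helper4.OG
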