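import Mathlib
import Cfsg.Prelude.Def_PLocal
import Cfsg.Agent.Lib.Helper4.OffSetting

/-!
# Transfer of offenders on a normal subgroup `V` to the holomorph `V ⋊ Aut(V)` (helper4)
-/

set_option autoImplicit false
set_option linter.unusedSectionVars false
set_option linter.unusedVariables false
set_option linter.style.haveILetI false

namespace Cfsg.Agent.Helper4.HOL

open scoped commutatorElement
open SemidirectProduct

variable {G : Type*} [Group G]

/-- the holomorph of `V` -/
abbrev Hol (V : Subgroup G) : Type _ := ↥V ⋊[MonoidHom.id (MulAut ↥V)] MulAut ↥V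

instance (V : Subgroup G) [Finite G] : Finite (Hol V) :=
  Finite.of_equiv _ (SemidirectProduct.equivProd (N := ↥V) (G := MulAut ↥V)
    (φ := MonoidHom.id (MulAut ↥V))).symm

variable (V : Subgroup G) [hVn : V.Normal]

/-- the conjugation action on `V`, into the holomorph -/
def psi : G →* Hol V := (SemidirectProduct.inr).comp (MulAut.conjNormal (H := V))

/-- `V` inside its holomorph -/
def VV : Subgroup (Hol V) := (SemidirectProduct.inl : ↥V →* Hol V).range

theorem psi_conj (g : G) (v : ↥V) :
    psi V g * inl v * (psi V g)⁻¹ = inl (MulAut.conjNormal g v) := by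
  unfold psi
  rw [MonoidHom.comp_apply, ← map_inv]
  exact (inl_aut (φ := MonoidHom.id (MulAut ↥V)) (MulAut.conjNormal g) v).symm

theorem psi_eq_one_iff (g : G) : psi V g = 1 ↔ g ∈ Subgroup.centralizer (V : Set G) := by
  unfold psi
  rw [MonoidHom.comp_apply, ← (SemidirectProduct.inr).map_one, inr_inj, Subgroup.mem_centralizer_iff]
  constructor
  · intro h v hv
    have h1 : MulAut.conjNormal g (⟨v, hv⟩ : ↥V) = ⟨v, hv⟩ := by rw [h]; rfl
    have h2 : g * v * g⁻¹ = v := by
      have := congrArg Subtype.val h1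
      rwa [MulAut.conjNormal_apply] at this
    calc v * g = (g * v * g⁻¹) * g := by rw [h2]
      _ = g * v := by group
  · intro h
    ext v
    rw [MulAut.conjNormal_apply, MulAut.one_apply]
    have := h v v.2
    calc g * (v : G) * g⁻¹ = ((v : G) * g) * g⁻¹ := by rw [this]
      _ = v := by group

theorem ker_psi : (psi V).ker = Subgroup.centralizer (V : Set G) := by
  ext g
  rw [MonoidHom.mem_ker, psi_eq_one_iff]

instance VV_normal : (VV V).Normal := by
  unfold VV
  rw [range_inl_eq_ker_rightHom]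
  infer_instance

theorem mem_VV {x : Hol V} : x ∈ VV V ↔ ∃ v : ↥V, inl v = x := Iff.rfl

theorem VV_elementary {p : ℕ} (hV : Cfsg.IsElementaryAbelian p V) :
    Cfsg.IsElementaryAbelian p (VV V) := by
  constructor
  · constructor
    constructor
    rintro ⟨x, ⟨v, rfl⟩⟩ ⟨y, ⟨w, rfl⟩⟩
    apply Subtype.ext
    show (inl v : Hol V) * inl w = inl w * inl v
    rw [← map_mul, ← map_mul, hV.1.is_comm.comm v w]
  · rintro x ⟨v, rfl⟩
    rw [← map_pow]
    have : v ^ p = 1 := by
      apply Subtype.ext
      rw [Subgroup.coe_pow, Subgroup.coe_one]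
      exact hV.2 v v.2
    rw [this, map_one]

theorem card_VV : Nat.card ↥(VV V) = Nat.card ↥V := by
  unfold VV
  exact (Nat.card_congr (MonoidHom.ofInjective (inl_injective (N := ↥V) (G := MulAut ↥V)
    (φ := MonoidHom.id (MulAut ↥V)))).toEquiv).symm

theorem map_psi_le_normalizer (K : Subgroup G) :
    K.map (psi V) ≤ Subgroup.normalizer ((VV V : Subgroup (Hol V)) : Set (Hol V)) := by
  rw [Subgroup.normalizer_eq_top]
  exact le_top

theorem map_psi_inf_centralizer (K : Subgroup G) :
    K.map (psi V) ⊓ Subgroup.centralizer ((VV V : Subgroup (Hol V)) : Set (Hol V)) = ⊥ := by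
  rw [eq_bot_iff]
  rintro x ⟨⟨k, hk, rfl⟩, hx⟩
  rw [Subgroup.mem_bot, psi_eq_one_iff, Subgroup.mem_centralizer_iff]
  intro v hv
  have h1 := Subgroup.mem_centralizer_iff.mp hx (inl ⟨v, hv⟩) ⟨_, rfl⟩
  have h2 : psi V k * inl (⟨v, hv⟩ : ↥V) * (psi V k)⁻¹ = inl ⟨v, hv⟩ := by
    rw [← h1]; group
  rw [psi_conj, inl_inj] at h2
  have h3 : k * v * k⁻¹ = v := by
    have := congrArg Subtype.val h2
    rwa [MulAut.conjNormal_apply] at this
  calc v * k = (k * v * k⁻¹) * k := by rw [h3]
    _ = k * v := by group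

/-- `inl v` commutes with `ψ k` iff `v` commutes with `k` -/
theorem inl_comm_psi_iff (k : G) (v : ↥V) :
    psi V k * inl v = inl v * psi V k ↔ k * (v : G) = (v : G) * k := by
  constructor
  · intro h
    have h2 : psi V k * inl v * (psi V k)⁻¹ = inl v := by rw [h]; group
    rw [psi_conj, inl_inj] at h2
    have h3 : k * (v : G) * k⁻¹ = v := by
      have := congrArg Subtype.val h2
      rwa [MulAut.conjNormal_apply] at this
    calc k * (v : G) = (k * (v : G) * k⁻¹) * k := by group
      _ = (v : G) * k := by rw [h3]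
  · intro h
    have h3 : MulAut.conjNormal k v = v := by
      apply Subtype.ext
      rw [MulAut.conjNormal_apply, h]; group
    have h2 := psi_conj V k v
    rw [h3] at h2
    calc psi V k * inl v = (psi V k * inl v * (psi V k)⁻¹) * psi V k := by group
      _ = inl v * psi V k := by rw [h2]

theorem card_centralizer_map [Finite G] (K : Subgroup G) :
    Nat.card ↥(VV V ⊓ Subgroup.centralizer ((K.map (psi V) : Subgroup (Hol V)) : Set (Hol V))) =
      Nat.card ↥(V ⊓ Subgroup.centralizer (K : Set G)) := by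
  symm
  apply Nat.card_congr
  refine Equiv.ofBijective (fun x => ⟨inl ⟨(x : G), x.2.1⟩, ?_⟩) ⟨?_, ?_⟩
  · refine Subgroup.mem_inf.mpr ⟨⟨_, rfl⟩, ?_⟩
    rw [Subgroup.mem_centralizer_iff]
    rintro y ⟨k, hk, rfl⟩
    rw [inl_comm_psi_iff]
    exact Subgroup.mem_centralizer_iff.mp x.2.2 k hk
  · intro x y hxy
    have h1 : (inl (⟨(x : G), x.2.1⟩ : ↥V) : Hol V) = inl ⟨(y : G), y.2.1⟩ :=
      congrArg Subtype.val hxy
    rw [inl_inj] at h1
    have h2 : (x : G) = (y : G) := by
      have := congrArg (Subtype.val : ↥V → G) h1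
      exact this
    exact Subtype.ext h2
  · rintro ⟨y, hy⟩
    obtain ⟨⟨v, rfl⟩, hy2⟩ := Subgroup.mem_inf.mp hy
    refine ⟨⟨(v : G), Subgroup.mem_inf.mpr ⟨v.2, ?_⟩⟩, ?_⟩
    · rw [Subgroup.mem_centralizer_iff]
      intro k hk
      rw [← inl_comm_psi_iff]
      exact Subgroup.mem_centralizer_iff.mp hy2 _ ⟨k, hk, rfl⟩
    · rfl

theorem card_map_psi [Finite G] (K : Subgroup G) :
    Nat.card ↥(K.map (psi V)) * Nat.card ↥(K ⊓ Subgroup.centralizer (V : Set G)) =
      Nat.card ↥K := by
  have h1 := Subgroup.card_mul_index ((psi V).domRestrict K).ker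
  rw [Subgroup.index_ker, MonoidHom.domRestrict_range] at h1
  have h2 : ((psi V).domRestrict K).ker = (Subgroup.centralizer (V : Set G)).subgroupOf K := by
    rw [MonoidHom.ker_domRestrict, ker_psi]
  have h3 : Nat.card ↥((Subgroup.centralizer (V : Set G)).subgroupOf K) =
      Nat.card ↥(K ⊓ Subgroup.centralizer (V : Set G)) := by
    rw [← Subgroup.inf_subgroupOf_left]
    exact Nat.card_congr (Subgroup.subgroupOfEquivOfLe inf_le_left).toEquiv
  rw [h2, h3, mul_comm] at h1
  exact h1

/-- best offenders are carried to best offenders in the holomorph -/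
theorem isBestOffenderOn_map [Finite G] {p : ℕ} {A : Subgroup G}
    (hA : Cfsg.IsBestOffenderOn p V A) : Cfsg.IsBestOffenderOn p (VV V) (A.map (psi V)) := by
  obtain ⟨h1, h2, h3⟩ := hA
  refine ⟨?_, ?_, ?_⟩
  · intro B' hB'
    obtain ⟨B, hB⟩ : ∃ B : Subgroup G, B = A ⊓ B'.comap (psi V) := ⟨_, rfl⟩
    have hBA : B ≤ A := by rw [hB]; exact inf_le_left
    have hBmap : B.map (psi V) = B' := by
      apply le_antisymm
      · rintro x ⟨b, hb, rfl⟩
        rw [hB] at hb
        exact hb.2
      · intro x hx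
        obtain ⟨a, ha, rfl⟩ := hB' hx
        refine ⟨a, ?_, rfl⟩
        rw [hB]
        exact ⟨ha, hx⟩
    have hBC : B ⊓ Subgroup.centralizer (V : Set G) = A ⊓ Subgroup.centralizer (V : Set G) := by
      apply le_antisymm (inf_le_inf_right _ hBA)
      rw [hB]
      apply le_inf (le_inf inf_le_left _) inf_le_right
      intro x hx
      rw [Subgroup.mem_comap, (psi_eq_one_iff V x).mpr hx.2]
      exact Subgroup.one_mem _
    have e1 := card_map_psi V B
    have e2 := card_map_psi V A
    have e3 := card_centralizer_map V B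
    have e4 := card_centralizer_map V A
    rw [hBmap] at e1 e3
    rw [hBC] at e1
    have h5 := h1 B hBA
    rw [← e1, ← e2, ← e3, ← e4] at h5
    have hpos : 0 < Nat.card ↥(A ⊓ Subgroup.centralizer (V : Set G)) := Nat.card_pos
    have h6 : (Nat.card ↥B' * Nat.card ↥(VV V ⊓ Subgroup.centralizer ((B' : Subgroup (Hol V)) :
        Set (Hol V)))) * Nat.card ↥(A ⊓ Subgroup.centralizer (V : Set G)) ≤
        (Nat.card ↥(A.map (psi V)) * Nat.card ↥(VV V ⊓ Subgroup.centralizer
          ((A.map (psi V) : Subgroup (Hol V)) : Set (Hol V)))) *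
          Nat.card ↥(A ⊓ Subgroup.centralizer (V : Set G)) := by
      calc _ = Nat.card ↥B' * Nat.card ↥(A ⊓ Subgroup.centralizer (V : Set G)) *
            Nat.card ↥(VV V ⊓ Subgroup.centralizer ((B' : Subgroup (Hol V)) : Set (Hol V))) := by
            ring
        _ ≤ _ := h5
        _ = _ := by ring
    exact Nat.le_of_mul_le_mul_right h6 hpos
  · rw [← Subgroup.map_commutator]
    have : ⁅A, A⁆.map (psi V) = ⊥ := by
      rw [eq_bot_iff]
      rintro x ⟨c, hc, rfl⟩
      rw [Subgroup.mem_bot, psi_eq_one_iff]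
      exact h2 hc
    rw [this]
    exact bot_le
  · rintro x ⟨a, ha, rfl⟩
    rw [← map_pow, (psi_eq_one_iff V (a ^ p)).mpr (h3 a ha)]
    exact Subgroup.one_mem _

theorem comap_map_psi (K : Subgroup G) :
    (K.map (psi V)).comap (psi V) = K ⊔ Subgroup.centralizer (V : Set G) := by
  rw [Subgroup.comap_map_eq, ker_psi]

end Cfsg.Agent.Helper4.HOL
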