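import Mathlib
import Cfsg.Prelude.Def_PLocal
import Cfsg.Agent.Lib.Helper4.OffStruct
import Cfsg.Agent.S0611
import Cfsg.Agent.S0612
import Cfsg.Agent.S0613

/-!
# Best offenders: the inputs from the earlier results of the chain (helper4)
-/

set_option autoImplicit false

namespace Cfsg.Agent.Helper4.OG

variable {G : Type*} [Group G]

theorem inputs_of_setting [Finite G] {p : ℕ} [Fact p.Prime] {V H : Subgroup G}
    (hS : Setting p V H) : Inputs p V H := by
  obtain ⟨hV, hHV, hf, hS1, hS3, hH1⟩ := hS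
  refine ⟨?_, ?_, ?_⟩
  · intro A hA
    exact Cfsg.Agent.S0611.result V H hV hHV hf hS1 hS3 hH1 A hA.1 hA.2.1 hA.2.2.1 hA.2.2.2
  · intro A hAH hA hA1
    exact Cfsg.Agent.S0612.result V H hV hHV hf hS1 hS3 hH1 A hAH hA hA1
  · intro A hA x hx hxc
    exact Cfsg.Agent.S0613.result V H hV hHV hf hS1 hS3 hH1 A hA.1 hA.2.1 hA.2.2.1 hA.2.2.2
      x hx hxc

end Cfsg.Agent.Helper4.OG
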