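import Mathlib
import Cfsg.Prelude.Def_PLocal
import Cfsg.Prelude.Def_Local
import Cfsg.Agent.Lib.Helper4.OffHol
import Cfsg.Agent.Lib.Helper4.HHDual
import Cfsg.Agent.Lib.Helper4.OffInputs
import Cfsg.Agent.Lib.Helper4.OffFam
import Cfsg.Agent.S0602
import Cfsg.Agent.S0606

/-!
# The image of the Thompson subgroup in the holomorph of a normal elementary abelian
subgroup satisfies the standing hypotheses of the best-offender structure theory (helper4)
-/

set_option autoImplicit false
set_option linter.unusedSectionVars false
set_option linter.unusedVariables false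
set_option linter.style.haveILetI false

namespace Cfsg.Agent.Helper4.HOL

open scoped commutatorElement
open Cfsg

variable {G : Type*} [Group G] [Finite G] {p : ℕ} [hp : Fact p.Prime]
  (V : Subgroup G) [hVn : V.Normal]

/-- `C_H(O_{p'}(H)) ≤ O_{p'}(H)` for the image `H` of a normal subgroup `J` in the holomorph -/
theorem selfCent_map (hsep : IsPSolvable p G)
    (hOp : pCore p (G ⧸ Subgroup.centralizer (V : Set G)) = ⊥) (J : Subgroup G) [hJn : J.Normal] :
    Subgroup.centralizer (pPrimeCore p ↥(J.map (psi V)) : Set ↥(J.map (psi V))) ≤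
      pPrimeCore p ↥(J.map (psi V)) := by
  obtain ⟨M, hM⟩ : ∃ M : Subgroup (G ⧸ Subgroup.centralizer (V : Set G)),
      M = J.map (QuotientGroup.mk' (Subgroup.centralizer (V : Set G))) := ⟨_, rfl⟩
  haveI hMn : M.Normal := by
    rw [hM]
    exact Subgroup.Normal.map hJn _ (QuotientGroup.mk'_surjective _)
  have h1 : IsPSolvable p ↥M :=
    Helper23.PSolv.isPSolvable_subgroup M (Helper23.PSolv.isPSolvable_quotient _ hsep)
  have h2 : pCore p ↥M = ⊥ := by
    have := Helper23.PSolv.pCore_subgroup_le p M
    rw [hOp, le_bot_iff, Subgroup.map_eq_bot_iff_of_injective _ M.subtype_injective] at this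
    exact this
  have h3 := HHD.centralizer_pPrimeCore_le h1 h2
  -- the induced injection of the quotient into the holomorph
  have hker : Subgroup.centralizer (V : Set G) ≤ (psi V).ker := by
    rw [ker_psi]
  have hinj : Function.Injective (QuotientGroup.lift (Subgroup.centralizer (V : Set G))
      (psi V) hker) := by
    rw [injective_iff_map_eq_one]
    intro x hx
    obtain ⟨g, rfl⟩ := QuotientGroup.mk_surjective x
    rw [QuotientGroup.lift_mk, psi_eq_one_iff] at hx
    exact (QuotientGroup.eq_one_iff g).mpr hx
  have hmap : M.map (QuotientGroup.lift (Subgroup.centralizer (V : Set G)) (psi V) hker) =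
      J.map (psi V) := by
    rw [hM, Subgroup.map_map, QuotientGroup.lift_comp_mk']
  exact HHD.centralizer_pPrimeCore_le_of_mulEquiv
    ((M.equivMapOfInjective _ hinj).trans (MulEquiv.subgroupCongr hmap)) h3

/-- the standing hypotheses for the image of the Thompson subgroup -/
theorem setting_thompson (hsep : IsPSolvable p G) (hV : IsElementaryAbelian p V)
    (hOp : pCore p (G ⧸ Subgroup.centralizer (V : Set G)) = ⊥)
    (hJ : ¬ thompsonSubgroup p G ≤ Subgroup.centralizer (V : Set G)) :
    OG.Setting p (VV V) ((thompsonSubgroup p G).map (psi V)) := by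
  haveI hJc : (thompsonSubgroup p G).Characteristic := (Cfsg.Agent.S0602.result (p := p)).1
  haveI hJn : (thompsonSubgroup p G).Normal := inferInstance
  refine ⟨VV_elementary V hV, map_psi_le_normalizer V _, map_psi_inf_centralizer V _,
    selfCent_map V hsep hOp _, ?_, ?_⟩
  · apply le_antisymm
    · rw [Subgroup.map_le_iff_le_comap]
      unfold thompsonSubgroup
      apply sSup_le
      intro A hA
      rw [← Subgroup.map_le_iff_le_comap]
      have hAJ : A ≤ thompsonSubgroup p G := le_sSup hA
      exact le_iSup (fun A' : {A' : Subgroup (Hol V) //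
          A' ≤ (thompsonSubgroup p G).map (psi V) ∧ IsBestOffenderOn p (VV V) A'} =>
          (A' : Subgroup (Hol V)))
        ⟨A.map (psi V), Subgroup.map_mono hAJ,
          isBestOffenderOn_map V (Cfsg.Agent.S0606.result V hV A hA)⟩
    · apply iSup_le
      rintro ⟨A', hA'H, -⟩
      exact hA'H
  · intro h
    apply hJ
    rw [← ker_psi V]
    intro x hx
    have : psi V x ∈ (thompsonSubgroup p G).map (psi V) := ⟨x, hx, rfl⟩
    rw [h, Subgroup.mem_bot] at this
    exact this

end Cfsg.Agent.Helper4.HOL
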