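import Mathlib
import Cfsg.Prelude.Def_PLocal
import Cfsg.Prelude.Def_Local
import Cfsg.Agent.Lib.Helper4.OffThompson
import Cfsg.Agent.Lib.Helper4.OffT

/-!
# KS12, PIECE F3 (helper4): the failure-of-factorization structure of a finite `2`-solvable group
`X` on a normal elementary abelian `2`-subgroup `V`, at TYPE level.
-/

set_option autoImplicit false
set_option linter.unusedSectionVars false
set_option linter.unusedVariables false
set_option linter.style.haveILetI false

namespace Cfsg.Agent.Helper4.JCF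

open scoped commutatorElement
open Cfsg Cfsg.Agent.Helper4.HOL SemidirectProduct

section s3

variable {G' : Type*} [Group G']

/-- a nonabelian group of order `6` with a normal subgroup of order `3` -/
theorem s3_struct [Finite G'] {E T : Subgroup G'} (hTE : T ≤ E)
    (hTn : E ≤ Subgroup.normalizer (T : Set G')) (hT : Nat.card ↥T = 3) (hE : Nat.card ↥E = 6)
    (hne : ¬ ∀ x ∈ E, ∀ y ∈ E, x * y = y * x) :
    ⁅E, E⁆ = T ∧ ∀ t ∈ E, t ∉ T → t * t = 1 ∧ ∀ d ∈ T, t * d * t⁻¹ * d = 1 := by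
  haveI : Fact (Nat.Prime 3) := ⟨by norm_num⟩
  -- the index two dichotomy
  have hidx : (T.subgroupOf E).index = 2 := by
    have h1 := Subgroup.card_mul_index (T.subgroupOf E)
    rw [Nat.card_congr (Subgroup.subgroupOfEquivOfLe hTE).toEquiv, hT, hE] at h1
    omega
  have key : ∀ a ∈ E, ∀ b ∈ E, (a * b ∈ T ↔ (a ∈ T ↔ b ∈ T)) := by
    intro a ha b hb
    have := Subgroup.mul_mem_iff_of_index_two hidx (a := (⟨a, ha⟩ : ↥E)) (b := ⟨b, hb⟩)
    simpa [Subgroup.mem_subgroupOf] using this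
  -- `T` is commutative
  have hTc : ∀ a ∈ T, ∀ b ∈ T, a * b = b * a := by
    intro a ha b hb
    haveI : IsCyclic ↥T := isCyclic_of_prime_card hT
    letI := IsCyclic.commGroup (α := ↥T)
    exact congrArg Subtype.val (mul_comm (⟨a, ha⟩ : ↥T) ⟨b, hb⟩)
  have hcube : ∀ d ∈ T, d * d * d = 1 := by
    intro d hd
    have h1 : (⟨d, hd⟩ : ↥T) ^ Nat.card ↥T = 1 := pow_card_eq_one'
    rw [hT] at h1
    have h2 := congrArg Subtype.val h1
    simpa [pow_succ] using h2
  have hsecond : ∀ t ∈ E, t ∉ T → t * t = 1 ∧ ∀ d ∈ T, t * d * t⁻¹ * d = 1 := by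
    intro t htE htT
    have htinv : t⁻¹ ∉ T := fun h => htT (by simpa using T.inv_mem h)
    have htt : t * t ∈ T := (key t htE t htE).mpr Iff.rfl
    -- the fixed points of `t` on `T`
    obtain ⟨K, hK⟩ : ∃ K : Subgroup G', K = T ⊓ Subgroup.centralizer ({t} : Set G') := ⟨_, rfl⟩
    have hKT : K ≤ T := hK ▸ inf_le_left
    have hKmem : ∀ x, x ∈ K ↔ x ∈ T ∧ t * x = x * t := by
      intro x
      rw [hK, Subgroup.mem_inf, Subgroup.mem_centralizer_iff]
      constructor
      · rintro ⟨h1, h2⟩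
        exact ⟨h1, h2 t rfl⟩
      · rintro ⟨h1, h2⟩
        refine ⟨h1, ?_⟩
        intro y hy
        rw [Set.mem_singleton_iff] at hy
        subst hy
        exact h2
    have hKcard : Nat.card ↥K = 1 ∨ Nat.card ↥K = 3 := by
      have hdvd : Nat.card ↥K ∣ 3 := by
        rw [← hT]; exact Subgroup.card_dvd_of_le hKT
      exact (Nat.dvd_prime (by norm_num)).mp hdvd
    rcases hKcard with h1 | h3
    · -- `t` acts without fixed points
      have hKbot : K = ⊥ := Subgroup.card_eq_one.mp h1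
      have hK1 : ∀ x, x ∈ T → t * x = x * t → x = 1 := by
        intro x hx hxt
        have : x ∈ K := (hKmem x).mpr ⟨hx, hxt⟩
        rwa [hKbot, Subgroup.mem_bot] at this
      have hconj : ∀ d ∈ T, t * d * t⁻¹ ∈ T := by
        intro d hd
        exact (Subgroup.mem_normalizer_iff.mp (hTn htE) d).mp hd
      refine ⟨?_, ?_⟩
      · apply hK1 _ htt
        group
      · intro d hd
        have hd' := hconj d hd
        have h2 : t * (t * d * t⁻¹) * t⁻¹ = d := by
          have e : t * (t * d * t⁻¹) * t⁻¹ = (t * t) * d * (t * t)⁻¹ := by group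
          rw [e, hTc (t * t) htt d hd]
          group
        have h3 : d * (t * d * t⁻¹) = 1 := by
          apply hK1 _ (T.mul_mem hd hd')
          have e : t * (d * (t * d * t⁻¹)) = (t * d * t⁻¹) * (t * (t * d * t⁻¹) * t⁻¹) * t := by
            group
          rw [e, h2, hTc _ hd' d hd]
        rw [← hTc d hd _ hd']
        exact h3
    · -- `t` centralizes `T`: then `E` is abelian
      exfalso
      have hKT' : K = T := by
        apply Subgroup.eq_of_le_of_card_ge hKT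
        rw [h3, hT]
      have hcomm : ∀ d ∈ T, t * d = d * t := by
        intro d hd
        have : d ∈ K := hKT'.symm ▸ hd
        exact ((hKmem d).mp this).2
      have hdec : ∀ x ∈ E, x ∈ T ∨ t⁻¹ * x ∈ T := by
        intro x hx
        by_cases hxT : x ∈ T
        · exact Or.inl hxT
        · right
          rw [key t⁻¹ (E.inv_mem htE) x hx]
          exact ⟨fun h => absurd h htinv, fun h => absurd h hxT⟩
      have hcomm' : ∀ d ∈ T, t⁻¹ * d = d * t⁻¹ := by
        intro d hd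
        have := hcomm d hd
        calc t⁻¹ * d = t⁻¹ * (d * t) * t⁻¹ := by group
          _ = t⁻¹ * (t * d) * t⁻¹ := by rw [this]
          _ = d * t⁻¹ := by group
      apply hne
      intro x hx y hy
      rcases hdec x hx with h1 | h1 <;> rcases hdec y hy with h2 | h2
      · exact hTc x h1 y h2
      · -- y = t * d
        have e : y = t * (t⁻¹ * y) := by group
        rw [e]
        calc x * (t * (t⁻¹ * y)) = (x * t) * (t⁻¹ * y) := by group
          _ = (t * x) * (t⁻¹ * y) := by rw [hcomm x h1]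
          _ = t * (x * (t⁻¹ * y)) := by group
          _ = t * ((t⁻¹ * y) * x) := by rw [hTc x h1 _ h2]
          _ = t * (t⁻¹ * y) * x := by group
      · have e : x = t * (t⁻¹ * x) := by group
        rw [e]
        calc t * (t⁻¹ * x) * y = t * ((t⁻¹ * x) * y) := by group
          _ = t * (y * (t⁻¹ * x)) := by rw [hTc _ h1 y h2]
          _ = (t * y) * (t⁻¹ * x) := by group
          _ = (y * t) * (t⁻¹ * x) := by rw [hcomm y h2]
          _ = y * (t * (t⁻¹ * x)) := by group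
      · have e1 : x = t * (t⁻¹ * x) := by group
        have e2 : y = t * (t⁻¹ * y) := by group
        rw [e1, e2]
        calc t * (t⁻¹ * x) * (t * (t⁻¹ * y)) = t * ((t⁻¹ * x) * t) * (t⁻¹ * y) := by group
          _ = t * (t * (t⁻¹ * x)) * (t⁻¹ * y) := by rw [hcomm _ h1]
          _ = t * t * ((t⁻¹ * x) * (t⁻¹ * y)) := by group
          _ = t * t * ((t⁻¹ * y) * (t⁻¹ * x)) := by rw [hTc _ h1 _ h2]
          _ = t * (t * (t⁻¹ * y)) * (t⁻¹ * x) := by group
          _ = t * ((t⁻¹ * y) * t) * (t⁻¹ * x) := by rw [hcomm _ h2]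
          _ = t * (t⁻¹ * y) * (t * (t⁻¹ * x)) := by group
  refine ⟨?_, hsecond⟩
  -- the commutator subgroup
  have hle : ⁅E, E⁆ ≤ T := by
    rw [Subgroup.commutator_le]
    intro x hx y hy
    rw [commutatorElement_def]
    have hxi : x⁻¹ ∈ E := E.inv_mem hx
    have hyi : y⁻¹ ∈ E := E.inv_mem hy
    have h1 := key (x * y * x⁻¹) (E.mul_mem (E.mul_mem hx hy) hxi) y⁻¹ hyi
    have h2 := key (x * y) (E.mul_mem hx hy) x⁻¹ hxi
    have h3 := key x hx y hy
    have h4 : x⁻¹ ∈ T ↔ x ∈ T := inv_mem_iff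
    have h5 : y⁻¹ ∈ T ↔ y ∈ T := inv_mem_iff
    rw [h1, h2, h3, h4, h5]
    by_cases hxT : x ∈ T <;> by_cases hyT : y ∈ T <;> simp [hxT, hyT]
  haveI : Fact (Nat.card ↥T).Prime := ⟨by rw [hT]; norm_num⟩
  have hsub := Subgroup.eq_bot_or_eq_top_of_prime_card ((⁅E, E⁆).subgroupOf T)
  rcases hsub with hb | ht
  · exfalso
    apply hne
    have h0 : ⁅E, E⁆ = ⊥ := by
      rw [eq_bot_iff]
      intro x hx
      have : (⟨x, hle hx⟩ : ↥T) ∈ (⁅E, E⁆).subgroupOf T := by
        rw [Subgroup.mem_subgroupOf]; exact hx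
      rw [hb, Subgroup.mem_bot] at this
      rw [Subgroup.mem_bot]
      exact congrArg Subtype.val this
    intro x hx y hy
    have h1 : ⁅x, y⁆ ∈ ⁅E, E⁆ := Subgroup.commutator_mem_commutator hx hy
    rw [h0, Subgroup.mem_bot, commutatorElement_eq_one_iff_mul_comm] at h1
    exact h1
  · apply le_antisymm hle
    rw [Subgroup.subgroupOf_eq_top] at ht
    exact ht

end s3

variable {X : Type*} [Group X] [Finite X] (V : Subgroup X) [hVn : V.Normal]

/-! ### transport between `V` and its copy in the holomorph -/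

theorem comm_mem_V (v : ↥V) (k : X) : ⁅(v : X), k⁆ ∈ V := by
  rw [commutatorElement_def]
  have h1 : k * (v : X)⁻¹ * k⁻¹ ∈ V := hVn.conj_mem _ (V.inv_mem v.2) k
  have e : (v : X) * k * (v : X)⁻¹ * k⁻¹ = (v : X) * (k * (v : X)⁻¹ * k⁻¹) := by group
  rw [e]
  exact V.mul_mem v.2 h1

theorem inl_commutator (v : ↥V) (k : X) :
    ⁅(inl v : Hol V), psi V k⁆ = inl ⟨⁅(v : X), k⁆, comm_mem_V V v k⟩ := by
  rw [commutatorElement_def]
  have e : (inl v : Hol V) * psi V k * (inl v)⁻¹ * (psi V k)⁻¹ =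
      inl v * (psi V k * inl v⁻¹ * (psi V k)⁻¹) := by
    rw [map_inv]; group
  rw [e, psi_conj, ← map_mul]
  congr 1
  apply Subtype.ext
  rw [Subgroup.coe_mul, MulAut.conjNormal_apply]
  show (v : X) * (k * ((v⁻¹ : ↥V) : X) * k⁻¹) = ⁅(v : X), k⁆
  rw [commutatorElement_def]
  push_cast
  group

theorem comm_le_V (K : Subgroup X) : ⁅V, K⁆ ≤ V := by
  rw [Subgroup.commutator_le]
  intro v hv k _
  exact comm_mem_V V ⟨v, hv⟩ k

/-- `[V, K]` computed in the holomorph -/
theorem inl_mem_comm_iff (K : Subgroup X) (x : ↥V) :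
    (inl x : Hol V) ∈ ⁅VV V, K.map (psi V)⁆ ↔ (x : X) ∈ ⁅V, K⁆ := by
  constructor
  · intro hx
    have h1 : ⁅VV V, K.map (psi V)⁆ ≤ ((⁅V, K⁆).subgroupOf V).map inl := by
      rw [Subgroup.commutator_le]
      rintro a ⟨v, rfl⟩ b ⟨k, hk, rfl⟩
      rw [inl_commutator]
      refine Subgroup.mem_map_of_mem _ ?_
      rw [Subgroup.mem_subgroupOf]
      exact Subgroup.commutator_mem_commutator v.2 hk
    obtain ⟨y, hy, hyx⟩ := h1 hx
    rw [inl_inj] at hyx
    rw [← hyx]
    exact Subgroup.mem_subgroupOf.mp hy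
  · intro hx
    have h1 : ⁅V, K⁆ ≤ ((⁅VV V, K.map (psi V)⁆).comap (inl : ↥V →* Hol V)).map V.subtype := by
      rw [Subgroup.commutator_le]
      intro v hv k hk
      refine ⟨⟨⁅v, k⁆, comm_mem_V V ⟨v, hv⟩ k⟩, ?_, rfl⟩
      rw [SetLike.mem_coe, Subgroup.mem_comap]
      have := inl_commutator V ⟨v, hv⟩ k
      rw [← this]
      exact Subgroup.commutator_mem_commutator ⟨⟨v, hv⟩, rfl⟩ ⟨k, hk, rfl⟩
    obtain ⟨y, hy, hyx⟩ := h1 hx
    have : y = x := Subtype.ext hyx
    rw [← this]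
    exact hy

theorem card_comm_map_psi (K : Subgroup X) :
    Nat.card ↥(⁅VV V, K.map (psi V)⁆) = Nat.card ↥(⁅V, K⁆) := by
  symm
  have hle : ⁅VV V, K.map (psi V)⁆ ≤ VV V := by
    apply OG.commutator_le_left_of_normalizer
    rw [Subgroup.normalizer_eq_top]
    exact le_top
  apply Nat.card_congr
  refine Equiv.ofBijective
    (fun x => ⟨inl ⟨(x : X), comm_le_V V K x.2⟩, (inl_mem_comm_iff V K _).mpr x.2⟩) ⟨?_, ?_⟩
  · intro x y hxy
    have h1 := congrArg Subtype.val hxy
    simp only [inl_inj, Subtype.mk.injEq] at h1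
    exact Subtype.ext h1
  · rintro ⟨y, hy⟩
    obtain ⟨v, rfl⟩ := hle hy
    exact ⟨⟨(v : X), (inl_mem_comm_iff V K v).mp hy⟩, rfl⟩

theorem inl_mem_centralizer_iff (K : Subgroup X) (x : ↥V) :
    (inl x : Hol V) ∈ Subgroup.centralizer ((K.map (psi V) : Subgroup (Hol V)) : Set (Hol V)) ↔
      (x : X) ∈ Subgroup.centralizer (K : Set X) := by
  rw [Subgroup.mem_centralizer_iff, Subgroup.mem_centralizer_iff]
  constructor
  · intro h k hk
    exact (inl_comm_psi_iff V k x).mp (h _ ⟨k, hk, rfl⟩)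
  · rintro h _ ⟨k, hk, rfl⟩
    exact (inl_comm_psi_iff V k x).mpr (h k hk)

/-! ### the definitions -/

/-- image of `J(X)` in the holomorph of `V` -/
def fH : Subgroup (Hol V) := (thompsonSubgroup 2 X).map (psi V)

/-- the index type of the `S_3`-factors of `J(X) C_X(V) / C_X(V)` -/
def fIdx : Type _ := {E : Subgroup (Hol V) // OG.IsEE 2 (VV V) (fH V) E}

/-- full preimage in `X` of the `i`-th factor (contains `C_X(V)`, index `6`) -/
def fD (i : fIdx V) : Subgroup X := (i.1).comap (psi V)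

/-- preimage of the `3`-part of the `i`-th factor (contains `C_X(V)`, index `3`) -/
def fO (i : fIdx V) : Subgroup X := ⁅fD V i, fD V i⁆ ⊔ Subgroup.centralizer (V : Set X)

/-- the four-group `[V, D_i]` -/
def fW (i : fIdx V) : Subgroup X := ⁅V, fD V i⁆

/-- the hypotheses -/
structure FFHyp : Prop where
  hsep : IsPSolvable 2 X
  hV : IsElementaryAbelian 2 V
  hOp : pCore 2 (X ⧸ Subgroup.centralizer (V : Set X)) = ⊥
  hJ : ¬ thompsonSubgroup 2 X ≤ Subgroup.centralizer (V : Set X)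

instance fIdx_finite : Finite (fIdx V) := by
  unfold fIdx; infer_instance

theorem cent_le_fD (i : fIdx V) : Subgroup.centralizer (V : Set X) ≤ fD V i := by
  unfold fD
  rw [← ker_psi V]
  exact Subgroup.ker_le_comap _ _

theorem cent_le_fO (i : fIdx V) : Subgroup.centralizer (V : Set X) ≤ fO V i := le_sup_right

theorem fO_le_fD (i : fIdx V) : fO V i ≤ fD V i :=
  sup_le (Subgroup.commutator_le_self _) (cent_le_fD V i)

theorem fW_le (i : fIdx V) : fW V i ≤ V := comm_le_V V _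

variable {V}

theorem FFHyp.setting (h : FFHyp V) : OG.Setting 2 (VV V) (fH V) :=
  setting_thompson V h.hsep h.hV h.hOp h.hJ

theorem FFHyp.inputs (h : FFHyp V) : OG.Inputs 2 (VV V) (fH V) :=
  OG.inputs_of_setting h.setting

theorem fIdx_exists (i : fIdx V) : ∃ A : Subgroup (Hol V), OG.MinOff 2 (VV V) (fH V) A ∧
    i.1 = OG.EE 2 (fH V) A := OG.isEE_iff.mp i.2

theorem fIdx_le (i : fIdx V) : i.1 ≤ fH V := by
  obtain ⟨A, hA, hE⟩ := fIdx_exists i
  rw [hE]
  exact OG.EE_le hA.1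

theorem map_fD (i : fIdx V) : (fD V i).map (psi V) = i.1 := by
  unfold fD
  rw [Subgroup.map_comap_eq, inf_eq_right]
  refine (fIdx_le i).trans ?_
  unfold fH
  exact Subgroup.map_le_range _ _

theorem mem_fD_iff (i : fIdx V) {x : X} : x ∈ fD V i ↔ psi V x ∈ i.1 := Iff.rfl

theorem mem_cent_iff {x : X} : x ∈ Subgroup.centralizer (V : Set X) ↔ psi V x = 1 :=
  (psi_eq_one_iff V x).symm

theorem map_cent : (Subgroup.centralizer (V : Set X)).map (psi V) = ⊥ := by
  rw [← ker_psi V, Subgroup.map_eq_bot_iff]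

theorem comap_fH : (fH V).comap (psi V) =
    thompsonSubgroup 2 X ⊔ Subgroup.centralizer (V : Set X) := comap_map_psi V _

theorem fIdx_nonempty (h : FFHyp V) : Nonempty (fIdx V) := by
  obtain ⟨A, hA⟩ := OG.exists_minoff h.setting h.inputs
  exact ⟨⟨OG.EE 2 (fH V) A, OG.isEE_iff.mpr ⟨A, hA, rfl⟩⟩⟩

theorem fD_le (h : FFHyp V) (i : fIdx V) :
    fD V i ≤ thompsonSubgroup 2 X ⊔ Subgroup.centralizer (V : Set X) := by
  rw [← comap_fH]
  exact Subgroup.comap_mono (fIdx_le i)

theorem psi_mem_fH {g : X}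
    (hg : g ∈ thompsonSubgroup 2 X ⊔ Subgroup.centralizer (V : Set X)) : psi V g ∈ fH V := by
  rw [← comap_fH] at hg
  exact hg

/-- `J(X) C` normalizes each `D_i` -/
theorem le_normalizer_fD (h : FFHyp V) (i : fIdx V) :
    thompsonSubgroup 2 X ⊔ Subgroup.centralizer (V : Set X) ≤
      Subgroup.normalizer (fD V i : Set X) := by
  intro g hg
  have h1 : psi V g ∈ Subgroup.normalizer ((i.1 : Subgroup (Hol V)) : Set (Hol V)) :=
    ((OG.main617 h.setting h.inputs).2.1 i).1 (psi_mem_fH hg)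
  exact Subgroup.le_normalizer_comap (psi V) h1

theorem le_normalizer_fO (h : FFHyp V) (i : fIdx V) :
    thompsonSubgroup 2 X ⊔ Subgroup.centralizer (V : Set X) ≤
      Subgroup.normalizer (fO V i : Set X) := by
  intro g hg
  have h1 := le_normalizer_fD h i hg
  rw [Subgroup.mem_normalizer_iff_map_conj_eq] at h1 ⊢
  haveI : (Subgroup.centralizer (V : Set X)).Normal := inferInstance
  have h2 := Subgroup.mem_normalizer_iff_map_conj_eq.mp
      (show g ∈ Subgroup.normalizer ((Subgroup.centralizer (V : Set X) : Subgroup X) : Set X) by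
        rw [Subgroup.normalizer_eq_top]; exact Subgroup.mem_top g)
  unfold fO
  rw [Subgroup.map_sup, Subgroup.map_commutator, h1, h2]

theorem card_fIdx (h : FFHyp V) (i : fIdx V) : Nat.card ↥(i.1) = 6 := by
  obtain ⟨A, hA, hE⟩ := fIdx_exists i
  rw [hE, OG.card_EE h.setting h.inputs hA]
  norm_num

theorem relIndex_of_ker_le {K : Subgroup X} (hK : Subgroup.centralizer (V : Set X) ≤ K) :
    (Subgroup.centralizer (V : Set X)).relIndex K = Nat.card ↥(K.map (psi V)) := by
  rw [← ker_psi V]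
  exact Subgroup.relIndex_ker K (psi V)

theorem relIndex_fD (h : FFHyp V) (i : fIdx V) :
    (Subgroup.centralizer (V : Set X)).relIndex (fD V i) = 6 := by
  rw [relIndex_of_ker_le (cent_le_fD V i), map_fD, card_fIdx h]

/-- the structure of a factor -/
theorem fIdx_struct (h : FFHyp V) (i : fIdx V) {A : Subgroup (Hol V)}
    (hA : OG.MinOff 2 (VV V) (fH V) A) (hE : i.1 = OG.EE 2 (fH V) A) :
    ⁅i.1, i.1⁆ = OG.TT 2 (fH V) A ∧ ∀ t ∈ i.1, t ∉ OG.TT 2 (fH V) A →
      t * t = 1 ∧ ∀ d ∈ OG.TT 2 (fH V) A, t * d * t⁻¹ * d = 1 := by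
  rw [hE]
  apply s3_struct (OG.TT_le_EE A) (OG.EE_le_normalizer_TT h.setting hA)
  · rw [OG.card_TT h.setting h.inputs hA]; norm_num
  · rw [OG.card_EE h.setting h.inputs hA]; norm_num
  · intro hc
    apply OG.TT_not_normalize h.setting h.inputs hA
    intro t ht
    ext y
    rw [OG.mem_cj]
    have htE : t ∈ OG.EE 2 (fH V) A := OG.TT_le_EE A ht
    constructor
    · intro hy
      have hyE : t⁻¹ * y * t ∈ OG.EE 2 (fH V) A := OG.le_EE A hy
      have e : y = t * (t⁻¹ * y * t) * t⁻¹ := by group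
      rw [e, hc t htE _ hyE]
      simpa using hy
    · intro hy
      have hyE : y ∈ OG.EE 2 (fH V) A := OG.le_EE A hy
      have e : t⁻¹ * y * t = t⁻¹ * (y * t) := by group
      rw [e, hc y hyE t htE]
      simpa using hy

theorem fO_eq (h : FFHyp V) (i : fIdx V) {A : Subgroup (Hol V)}
    (hA : OG.MinOff 2 (VV V) (fH V) A) (hE : i.1 = OG.EE 2 (fH V) A) :
    fO V i = (OG.TT 2 (fH V) A).comap (psi V) := by
  have h1 : (fO V i).map (psi V) = OG.TT 2 (fH V) A := by
    unfold fO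
    rw [Subgroup.map_sup, Subgroup.map_commutator, map_fD, map_cent, sup_bot_eq,
      (fIdx_struct h i hA hE).1]
  rw [← h1, Subgroup.comap_map_eq_self]
  rw [ker_psi]
  exact cent_le_fO V i

theorem mem_fO_iff (h : FFHyp V) (i : fIdx V) {A : Subgroup (Hol V)}
    (hA : OG.MinOff 2 (VV V) (fH V) A) (hE : i.1 = OG.EE 2 (fH V) A) {x : X} :
    x ∈ fO V i ↔ psi V x ∈ OG.TT 2 (fH V) A := by
  rw [fO_eq h i hA hE, Subgroup.mem_comap]

theorem relIndex_fO (h : FFHyp V) (i : fIdx V) :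
    (Subgroup.centralizer (V : Set X)).relIndex (fO V i) = 3 := by
  obtain ⟨A, hA, hE⟩ := fIdx_exists i
  rw [relIndex_of_ker_le (cent_le_fO V i)]
  have h1 : (fO V i).map (psi V) = OG.TT 2 (fH V) A := by
    unfold fO
    rw [Subgroup.map_sup, Subgroup.map_commutator, map_fD, map_cent, sup_bot_eq,
      (fIdx_struct h i hA hE).1]
  rw [h1, OG.card_TT h.setting h.inputs hA]
  norm_num

/-- elements of `D_i` outside `O_i` square into `C` -/
theorem sq_mem_of_not_mem_fO (h : FFHyp V) (i : fIdx V) {t : X} (ht : t ∈ fD V i)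
    (ht' : t ∉ fO V i) : t * t ∈ Subgroup.centralizer (V : Set X) := by
  obtain ⟨A, hA, hE⟩ := fIdx_exists i
  rw [mem_fO_iff h i hA hE] at ht'
  rw [mem_cent_iff, map_mul]
  exact ((fIdx_struct h i hA hE).2 _ ((mem_fD_iff i).mp ht) ht').1

/-- elements of `D_i` outside `O_i` invert `O_i / C` -/
theorem inverts_of_not_mem_fO (h : FFHyp V) (i : fIdx V) {t d : X} (ht : t ∈ fD V i)
    (ht' : t ∉ fO V i) (hd : d ∈ fO V i) :
    t * d * t⁻¹ * d ∈ Subgroup.centralizer (V : Set X) := by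
  obtain ⟨A, hA, hE⟩ := fIdx_exists i
  rw [mem_fO_iff h i hA hE] at ht' hd
  rw [mem_cent_iff, map_mul, map_mul, map_mul, map_inv]
  exact ((fIdx_struct h i hA hE).2 _ ((mem_fD_iff i).mp ht) ht').2 _ hd

theorem cube_mem_of_mem_fO (h : FFHyp V) (i : fIdx V) {d : X} (hd : d ∈ fO V i) :
    d * d * d ∈ Subgroup.centralizer (V : Set X) := by
  obtain ⟨A, hA, hE⟩ := fIdx_exists i
  rw [mem_fO_iff h i hA hE] at hd
  rw [mem_cent_iff, map_mul, map_mul]
  have h1 : (⟨psi V d, hd⟩ : ↥(OG.TT 2 (fH V) A)) ^ Nat.card ↥(OG.TT 2 (fH V) A) = 1 :=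
    pow_card_eq_one'
  rw [OG.card_TT h.setting h.inputs hA] at h1
  have h2 := congrArg Subtype.val h1
  simpa [pow_succ] using h2

theorem card_fW (h : FFHyp V) (i : fIdx V) : Nat.card ↥(fW V i) = 4 := by
  obtain ⟨A, hA, hE⟩ := fIdx_exists i
  unfold fW
  rw [← card_comm_map_psi, map_fD, hE]
  have := OG.RR_card h.setting h.inputs hA
  unfold OG.RR at this
  rw [this]
  norm_num

theorem ne_of_ne {i j : fIdx V} (hij : i ≠ j) : i.1 ≠ j.1 := fun h => hij (Subtype.ext h)

/-- `W_i` is centralized by `D_j` for `j ≠ i` -/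
theorem fW_le_centralizer (h : FFHyp V) {i j : fIdx V} (hij : i ≠ j) :
    fW V i ≤ Subgroup.centralizer (fD V j : Set X) := by
  obtain ⟨A, hA, hEi⟩ := fIdx_exists i
  obtain ⟨B, hB, hEj⟩ := fIdx_exists j
  intro x hx
  have hxV : x ∈ V := fW_le V i hx
  have h1 : (inl ⟨x, hxV⟩ : Hol V) ∈ ⁅VV V, (fD V i).map (psi V)⁆ :=
    (inl_mem_comm_iff V _ ⟨x, hxV⟩).mpr hx
  rw [map_fD, hEi] at h1
  have hne : OG.EE 2 (fH V) A ≠ OG.EE 2 (fH V) B := by
    rw [← hEi, ← hEj]; exact ne_of_ne hij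
  have h2 := (Subgroup.commutator_mono le_rfl
    (OG.EE_le_FF_of_ne h.setting h.inputs hB hA hne)).trans
    (OG.comm_FF_le h.setting h.inputs hB) h1
  have h3 := h2.2
  rw [← hEj, ← map_fD j] at h3
  exact (inl_mem_centralizer_iff V _ ⟨x, hxV⟩).mp h3

/-- `D_i` and `D_j` commute modulo `C` -/
theorem commutator_fD_le (h : FFHyp V) {i j : fIdx V} (hij : i ≠ j) :
    ⁅fD V i, fD V j⁆ ≤ Subgroup.centralizer (V : Set X) := by
  obtain ⟨A, hA, hEi⟩ := fIdx_exists i
  obtain ⟨B, hB, hEj⟩ := fIdx_exists j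
  rw [← ker_psi V, ← Subgroup.map_eq_bot_iff, Subgroup.map_commutator, map_fD, map_fD, hEi, hEj,
    eq_bot_iff, ← OG.EE_comm_FF h.setting h.inputs hA]
  apply Subgroup.commutator_mono le_rfl
  apply OG.EE_le_FF_of_ne h.setting h.inputs hA hB
  rw [← hEi, ← hEj]
  exact (ne_of_ne hij).symm

theorem iSup_fD (h : FFHyp V) :
    (⨆ i : fIdx V, fD V i) = thompsonSubgroup 2 X ⊔ Subgroup.centralizer (V : Set X) := by
  obtain ⟨i0⟩ := fIdx_nonempty h
  have h1 : (⨆ i : fIdx V, fD V i).map (psi V) = fH V := by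
    rw [Subgroup.map_iSup]
    have := (OG.main617 h.setting h.inputs).2.2.2.1
    rw [← this]
    exact iSup_congr (fun i => map_fD i)
  rw [← comap_fH, ← h1, Subgroup.comap_map_eq_self]
  rw [ker_psi]
  exact (cent_le_fD V i0).trans (le_iSup (fun i => fD V i) i0)

theorem fD_inf_iSup_le (h : FFHyp V) (i : fIdx V) :
    fD V i ⊓ (⨆ (j : fIdx V) (_ : j ≠ i), fD V j) ≤ Subgroup.centralizer (V : Set X) := by
  intro x hx
  rw [mem_cent_iff]
  have h1 : psi V x ∈ i.1 := hx.1
  have h2 : psi V x ∈ (⨆ (j : fIdx V) (_ : j ≠ i), fD V j).map (psi V) := ⟨x, hx.2, rfl⟩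
  rw [Subgroup.map_iSup] at h2
  have h3 : (⨆ j : fIdx V, (⨆ (_ : j ≠ i), fD V j).map (psi V)) =
      ⨆ (j : fIdx V) (_ : j ≠ i), (j.1 : Subgroup (Hol V)) := by
    apply iSup_congr
    intro j
    rw [Subgroup.map_iSup]
    exact iSup_congr (fun _ => map_fD j)
  rw [h3] at h2
  have hind := (OG.main617 h.setting h.inputs).2.2.1 i
  have := (disjoint_iff.mp hind).le (Subgroup.mem_inf.mpr ⟨h1, h2⟩)
  rwa [Subgroup.mem_bot] at this

/-- an element of `O_i` outside `C` has no fixed points on `W_i` -/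
theorem fW_inf_centralizer (h : FFHyp V) (i : fIdx V) {d : X} (hd : d ∈ fO V i)
    (hd' : d ∉ Subgroup.centralizer (V : Set X)) :
    fW V i ⊓ Subgroup.centralizer ({d} : Set X) = ⊥ := by
  haveI : Fact (Nat.Prime 3) := ⟨by norm_num⟩
  obtain ⟨A, hA, hE⟩ := fIdx_exists i
  rw [mem_fO_iff h i hA hE] at hd
  rw [mem_cent_iff] at hd'
  obtain ⟨t, ht⟩ : ∃ t : Hol V, t = psi V d := ⟨_, rfl⟩
  rw [← ht] at hd hd'
  have hTcard : Nat.card ↥(OG.TT 2 (fH V) A) = 3 := by
    rw [OG.card_TT h.setting h.inputs hA]; norm_num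
  have hTc : ∀ a ∈ OG.TT 2 (fH V) A, ∀ b ∈ OG.TT 2 (fH V) A, a * b = b * a := by
    intro a ha b hb
    haveI : IsCyclic ↥(OG.TT 2 (fH V) A) := isCyclic_of_prime_card hTcard
    letI := IsCyclic.commGroup (α := ↥(OG.TT 2 (fH V) A))
    exact congrArg Subtype.val (mul_comm (⟨a, ha⟩ : ↥(OG.TT 2 (fH V) A)) ⟨b, hb⟩)
  obtain ⟨U, hU⟩ : ∃ U : Subgroup (Hol V),
      U = OG.RR 2 (VV V) (fH V) A ⊓ Subgroup.centralizer ({t} : Set (Hol V)) := ⟨_, rfl⟩
  have hUmem : ∀ u, u ∈ U ↔ u ∈ OG.RR 2 (VV V) (fH V) A ∧ t * u = u * t := by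
    intro u
    rw [hU, Subgroup.mem_inf, Subgroup.mem_centralizer_iff]
    constructor
    · rintro ⟨h1, h2⟩
      exact ⟨h1, h2 t rfl⟩
    · rintro ⟨h1, h2⟩
      refine ⟨h1, ?_⟩
      intro y hy
      rw [Set.mem_singleton_iff] at hy
      subst hy
      exact h2
  have hinv : ∀ s ∈ OG.TT 2 (fH V) A, ∀ u ∈ U, s * u * s⁻¹ ∈ U := by
    intro s hs u hu
    rw [hUmem] at hu ⊢
    refine ⟨?_, ?_⟩
    · have h1 := OG.cj_RR_of_mem_XX h.setting h.inputs hA (OG.TT_le_XX hA.1 hs)
      rw [← h1]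
      exact OG.conj_mem_cj hu.1
    · have hst := hTc s hs t hd
      have hst' : t * s⁻¹ = s⁻¹ * t := by
        calc t * s⁻¹ = s⁻¹ * (s * t) * s⁻¹ := by group
          _ = s⁻¹ * (t * s) * s⁻¹ := by rw [hst]
          _ = s⁻¹ * t := by group
      calc t * (s * u * s⁻¹) = (t * s) * u * s⁻¹ := by group
        _ = (s * t) * u * s⁻¹ := by rw [hst]
        _ = s * (t * u) * s⁻¹ := by group
        _ = s * (u * t) * s⁻¹ := by rw [hu.2]
        _ = s * u * (t * s⁻¹) := by group
        _ = s * u * (s⁻¹ * t) := by rw [hst']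
        _ = s * u * s⁻¹ * t := by group
  have hUn : OG.TT 2 (fH V) A ≤ Subgroup.normalizer (U : Set (Hol V)) := by
    intro s hs
    rw [Subgroup.mem_normalizer_iff]
    intro u
    constructor
    · exact hinv s hs u
    · intro hu
      have := hinv s⁻¹ (Subgroup.inv_mem _ hs) _ hu
      simpa [mul_assoc] using this
  have hUR : U ≤ OG.RR 2 (VV V) (fH V) A := hU ▸ inf_le_left
  have hUbot : U = ⊥ := by
    rcases OG.TT_irred h.setting h.inputs hA hUR hUn with h1 | h1
    · exact h1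
    · exfalso
      apply hd'
      have h2 : t ∈ OG.EE 2 (fH V) A ⊓
          Subgroup.centralizer ((OG.RR 2 (VV V) (fH V) A : Subgroup (Hol V)) : Set (Hol V)) := by
        refine ⟨OG.TT_le_EE A hd, ?_⟩
        show t ∈ Subgroup.centralizer _
        rw [Subgroup.mem_centralizer_iff]
        intro r hr
        rw [SetLike.mem_coe, ← h1, hUmem] at hr
        exact hr.2.symm
      rw [OG.EE_faithful h.setting h.inputs hA, Subgroup.mem_bot] at h2
      exact h2
  rw [eq_bot_iff]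
  intro x hx
  have hxV : x ∈ V := fW_le V i hx.1
  have h1 : (inl ⟨x, hxV⟩ : Hol V) ∈ ⁅VV V, (fD V i).map (psi V)⁆ :=
    (inl_mem_comm_iff V _ ⟨x, hxV⟩).mpr hx.1
  rw [map_fD, hE] at h1
  have h2 : (inl ⟨x, hxV⟩ : Hol V) ∈ U := by
    rw [hUmem]
    refine ⟨h1, ?_⟩
    rw [ht, inl_comm_psi_iff]
    exact (Subgroup.mem_centralizer_iff.mp hx.2 d rfl)
  rw [hUbot, Subgroup.mem_bot] at h2
  have h3 : (⟨x, hxV⟩ : ↥V) = 1 := by
    apply inl_injective (φ := MonoidHom.id (MulAut ↥V))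
    rw [h2, map_one]
  rw [Subgroup.mem_bot]
  exact congrArg Subtype.val h3

theorem V_comm (h : FFHyp V) : ∀ a ∈ V, ∀ b ∈ V, a * b = b * a := by
  intro a ha b hb
  exact congrArg Subtype.val (h.hV.1.is_comm.comm ⟨a, ha⟩ ⟨b, hb⟩)

theorem fW_inf_cent (h : FFHyp V) (i : fIdx V) :
    fW V i ⊓ (V ⊓ Subgroup.centralizer (fD V i : Set X)) = ⊥ := by
  obtain ⟨A, hA, hE⟩ := fIdx_exists i
  rw [eq_bot_iff]
  intro x hx
  have hxV : x ∈ V := hx.2.1
  have h1 : (inl ⟨x, hxV⟩ : Hol V) ∈ ⁅VV V, (fD V i).map (psi V)⁆ :=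
    (inl_mem_comm_iff V _ ⟨x, hxV⟩).mpr hx.1
  have h2 : (inl ⟨x, hxV⟩ : Hol V) ∈ Subgroup.centralizer
      (((fD V i).map (psi V) : Subgroup (Hol V)) : Set (Hol V)) :=
    (inl_mem_centralizer_iff V _ ⟨x, hxV⟩).mpr hx.2.2
  rw [map_fD, hE] at h1 h2
  have h3 : (inl ⟨x, hxV⟩ : Hol V) ∈ OG.RR 2 (VV V) (fH V) A ⊓ (VV V ⊓
      Subgroup.centralizer ((OG.EE 2 (fH V) A : Subgroup (Hol V)) : Set (Hol V))) :=
    ⟨h1, ⟨⟨_, rfl⟩, h2⟩⟩
  rw [OG.RR_inf_centralizer h.setting h.inputs hA, Subgroup.mem_bot] at h3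
  have h4 : (⟨x, hxV⟩ : ↥V) = 1 := by
    apply inl_injective (φ := MonoidHom.id (MulAut ↥V))
    rw [h3, map_one]
  rw [Subgroup.mem_bot]
  exact congrArg Subtype.val h4

theorem le_fW_sup_cent (h : FFHyp V) (i : fIdx V) :
    V ≤ fW V i ⊔ (V ⊓ Subgroup.centralizer (fD V i : Set X)) := by
  obtain ⟨A, hA, hE⟩ := fIdx_exists i
  intro v hv
  have h1 : (inl ⟨v, hv⟩ : Hol V) ∈ VV V := ⟨_, rfl⟩
  rw [← OG.RR_sup_centralizer h.setting h.inputs hA] at h1
  have hc := OG.mo_V_comm (p := 2) h.setting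
  obtain ⟨a, ha, b, hb, hab⟩ := (OG.mem_sup_of_le_comm hc
    (OG.RR_le hA.1 h.setting.hHV) inf_le_left).mp h1
  obtain ⟨a', rfl⟩ := OG.RR_le hA.1 h.setting.hHV ha
  obtain ⟨b', rfl⟩ := hb.1
  rw [← map_mul, inl_inj] at hab
  have hv' : v = (a' : X) * (b' : X) := by
    have := congrArg Subtype.val hab
    simpa using this
  rw [hv']
  apply Subgroup.mul_mem _ (Subgroup.mem_sup_left ?_) (Subgroup.mem_sup_right ?_)
  · unfold fW
    rw [← inl_mem_comm_iff, map_fD, hE]
    exact ha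
  · refine ⟨b'.2, ?_⟩
    show (b' : X) ∈ Subgroup.centralizer _
    rw [← inl_mem_centralizer_iff, map_fD, hE]
    exact hb.2

theorem fW_le_cent (h : FFHyp V) {i j : fIdx V} (hij : i ≠ j) :
    fW V j ≤ V ⊓ Subgroup.centralizer (fD V i : Set X) :=
  le_inf (fW_le V j) (fW_le_centralizer h (Ne.symm hij))

theorem cent_thompson_le (h : FFHyp V) (i : fIdx V) :
    V ⊓ Subgroup.centralizer (thompsonSubgroup 2 X : Set X) ≤
      V ⊓ Subgroup.centralizer (fD V i : Set X) := by
  rintro x ⟨hxV, hxJ⟩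
  refine ⟨hxV, ?_⟩
  show x ∈ Subgroup.centralizer _
  rw [Subgroup.mem_centralizer_iff]
  intro g hg
  have h1 : thompsonSubgroup 2 X ⊔ Subgroup.centralizer (V : Set X) ≤
      Subgroup.centralizer ({x} : Set X) := by
    apply sup_le
    · intro j hj
      rw [Subgroup.mem_centralizer_iff]
      intro y hy
      rw [Set.mem_singleton_iff] at hy
      subst hy
      exact (Subgroup.mem_centralizer_iff.mp hxJ j hj).symm
    · intro c hc
      rw [Subgroup.mem_centralizer_iff]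
      intro y hy
      rw [Set.mem_singleton_iff] at hy
      subst hy
      exact Subgroup.mem_centralizer_iff.mp hc y hxV
  exact (Subgroup.mem_centralizer_iff.mp (h1 (fD_le h i hg)) x rfl).symm

theorem fW_indep (h : FFHyp V) :
    iSupIndep (fun o : Option (fIdx V) =>
      o.elim (V ⊓ Subgroup.centralizer (thompsonSubgroup 2 X : Set X)) (fun i => fW V i)) := by
  classical
  haveI : Fintype (fIdx V) := Fintype.ofFinite _
  have hc := V_comm h
  have h1 := OG.finset_sup_inf_eq_bot hc (fun i : fIdx V => fW V i)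
    (fun i => V ⊓ Subgroup.centralizer (fD V i : Set X)) (fun i => fW_le V i)
    (fun i => fW_inf_cent h i) (fun i j hij => fW_le_cent h hij) Finset.univ
  intro o
  cases o with
  | none =>
    show Disjoint (V ⊓ Subgroup.centralizer (thompsonSubgroup 2 X : Set X)) _
    apply Disjoint.mono _ _ (disjoint_iff.mpr h1).symm
    · exact Finset.le_inf (fun i _ => cent_thompson_le h i)
    · apply iSup_le
      intro o'
      apply iSup_le
      intro hne
      cases o' with
      | none => exact absurd rfl hne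
      | some j =>
        exact Finset.le_sup (f := fun i : fIdx V => fW V i) (Finset.mem_univ j)
  | some i =>
    show Disjoint (fW V i) _
    apply Disjoint.mono_right _ (disjoint_iff.mpr (fW_inf_cent h i))
    apply iSup_le
    intro o'
    apply iSup_le
    intro hne
    cases o' with
    | none => exact cent_thompson_le h i
    | some j =>
      apply fW_le_cent h
      intro hij
      apply hne
      rw [hij]

theorem fW_sup (h : FFHyp V) :
    (V ⊓ Subgroup.centralizer (thompsonSubgroup 2 X : Set X)) ⊔ (⨆ i : fIdx V, fW V i) = V := by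
  classical
  haveI : Fintype (fIdx V) := Fintype.ofFinite _
  have hc := V_comm h
  apply le_antisymm
  · apply sup_le inf_le_left
    exact iSup_le (fun i => fW_le V i)
  · have h1 := OG.finset_le_sup_sup_inf hc (fun i : fIdx V => fW V i)
      (fun i => V ⊓ Subgroup.centralizer (fD V i : Set X)) (fun i => fW_le V i)
      (fun i => inf_le_left) (fun i => le_fW_sup_cent h i) (fun i j hij => fW_le_cent h hij)
      Finset.univ
    refine h1.trans ?_
    rw [sup_comm]
    apply sup_le_sup _ (by rw [Finset.sup_univ_eq_iSup])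
    -- an element of `V` centralizing every `D_i` centralizes `J(X)`
    rintro x ⟨hxV, hx⟩
    refine ⟨hxV, ?_⟩
    show x ∈ Subgroup.centralizer _
    have h2 : (⨆ i : fIdx V, fD V i) ≤ Subgroup.centralizer ({x} : Set X) := by
      apply iSup_le
      intro i
      have h3' : Finset.univ.inf (fun i : fIdx V => V ⊓ Subgroup.centralizer (fD V i : Set X)) ≤
          V ⊓ Subgroup.centralizer (fD V i : Set X) :=
        Finset.inf_le (f := fun i : fIdx V => V ⊓ Subgroup.centralizer (fD V i : Set X))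
          (Finset.mem_univ i)
      have h3 : x ∈ V ⊓ Subgroup.centralizer (fD V i : Set X) := h3' hx
      intro g hg
      rw [Subgroup.mem_centralizer_iff]
      intro y hy
      rw [Set.mem_singleton_iff] at hy
      subst hy
      exact (Subgroup.mem_centralizer_iff.mp h3.2 g hg).symm
    rw [iSup_fD h] at h2
    rw [Subgroup.mem_centralizer_iff]
    intro j hj
    exact (Subgroup.mem_centralizer_iff.mp (h2 (Subgroup.mem_sup_left hj)) x rfl).symm

end Cfsg.Agent.Helper4.JCF
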