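import Mathlib
import Cfsg.Agent.Lib.Helper4.OffBasic

/-!
# The diagonal homomorphism attached to a group of operators permuting commuting conjugates
(helper4)

Let `𝔛, P ≤ G` be such that every `x ∈ 𝔛` either centralizes `P` or moves `P` to a conjugate
commuting elementwise with `P`.  Then `g ↦ ∏ x g x⁻¹` (product over the cosets of `C_𝔛(P)` in `𝔛`)
is a homomorphism `P → C_G(𝔛)`.
-/

set_option autoImplicit false
set_option linter.unusedSectionVars false
set_option linter.unusedVariables false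
set_option linter.style.haveILetI false

namespace Cfsg.Agent.Helper4.DIAG

open Cfsg.Agent.Helper4.OG (cj mem_cj conj_mem_cj)

variable {G : Type*} [Group G]

/-- the dichotomy hypothesis -/
def Dich (𝔛 P : Subgroup G) : Prop :=
  ∀ x ∈ 𝔛, x ∈ Subgroup.centralizer (P : Set G) ∨
    ∀ a ∈ P, ∀ b ∈ P, Commute a (x * b * x⁻¹)

/-- the centralizer of `P` in `𝔛` -/
abbrev St (𝔛 P : Subgroup G) : Subgroup ↥𝔛 := (Subgroup.centralizer (P : Set G)).subgroupOf 𝔛

theorem conj_eq_of_mem_centralizer {P : Subgroup G} {y : G}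
    (hy : y ∈ Subgroup.centralizer (P : Set G)) {g : G} (hg : g ∈ P) : y * g * y⁻¹ = g := by
  have := Subgroup.mem_centralizer_iff.mp hy g hg
  rw [← this, mul_inv_cancel_right]

/-- the conjugation homomorphism attached to a coset -/
noncomputable def term (𝔛 P : Subgroup G) (c : ↥𝔛 ⧸ St 𝔛 P) : ↥P →* G :=
  Quotient.liftOn' c (fun x => ((MulAut.conj (x : G)).toMonoidHom).comp P.subtype) (by
    intro x₁ x₂ h
    rw [QuotientGroup.leftRel_apply, Subgroup.mem_subgroupOf] at h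
    ext g
    have h1 := conj_eq_of_mem_centralizer h g.2
    simp only [MonoidHom.coe_comp, Function.comp_apply, Subgroup.subtype_apply,
      MulEquiv.coe_toMonoidHom, MulAut.conj_apply]
    have h2 : (x₂ : G) = (x₁ : G) * ((x₁ : G)⁻¹ * (x₂ : G)) := by group
    rw [h2]
    simp only [Subgroup.coe_mul, Subgroup.coe_inv] at h1
    calc (x₁ : G) * (g : G) * (x₁ : G)⁻¹
        = (x₁ : G) * ((x₁ : G)⁻¹ * (x₂ : G) * (g : G) * ((x₁ : G)⁻¹ * (x₂ : G))⁻¹) * (x₁ : G)⁻¹ := by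
          rw [h1]
      _ = _ := by group)

theorem term_mk (𝔛 P : Subgroup G) (x : ↥𝔛) (g : ↥P) :
    term 𝔛 P (QuotientGroup.mk x) g = (x : G) * (g : G) * (x : G)⁻¹ := rfl

theorem term_comm {𝔛 P : Subgroup G} (h : Dich 𝔛 P) :
    Pairwise fun c₁ c₂ : ↥𝔛 ⧸ St 𝔛 P => ∀ g₁ g₂ : ↥P, Commute (term 𝔛 P c₁ g₁) (term 𝔛 P c₂ g₂) := by
  intro c₁ c₂
  induction c₁ using QuotientGroup.induction_on with
  | H x₁ =>
  induction c₂ using QuotientGroup.induction_on with
  | H x₂ =>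
  intro hne g₁ g₂
  rw [term_mk, term_mk]
  have hy : ((x₁ : G)⁻¹ * (x₂ : G)) ∉ Subgroup.centralizer (P : Set G) := by
    intro hy
    apply hne
    rw [QuotientGroup.eq, Subgroup.mem_subgroupOf]
    simpa using hy
  rcases h _ (𝔛.mul_mem (𝔛.inv_mem x₁.2) x₂.2) with h1 | h1
  · exact absurd h1 hy
  · have h2 := h1 g₁ g₁.2 g₂ g₂.2
    have h3 : (x₁ : G) * (g₁ : G) * (x₁ : G)⁻¹ * ((x₂ : G) * (g₂ : G) * (x₂ : G)⁻¹) =
        (x₁ : G) * ((g₁ : G) * ((x₁ : G)⁻¹ * (x₂ : G) * (g₂ : G) * ((x₁ : G)⁻¹ * (x₂ : G))⁻¹)) *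
          (x₁ : G)⁻¹ := by group
    have h4 : (x₂ : G) * (g₂ : G) * (x₂ : G)⁻¹ * ((x₁ : G) * (g₁ : G) * (x₁ : G)⁻¹) =
        (x₁ : G) * (((x₁ : G)⁻¹ * (x₂ : G) * (g₂ : G) * ((x₁ : G)⁻¹ * (x₂ : G))⁻¹) * (g₁ : G)) *
          (x₁ : G)⁻¹ := by group
    show _ * _ = _ * _
    rw [h3, h4, h2.eq]

theorem term_comm' {𝔛 P : Subgroup G} (h : Dich 𝔛 P) (c₁ c₂ : ↥𝔛 ⧸ St 𝔛 P) (hne : c₁ ≠ c₂)
    (g₁ g₂ : ↥P) : Commute (term 𝔛 P c₁ g₁) (term 𝔛 P c₂ g₂) := term_comm h hne g₁ g₂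

variable [Finite G]

noncomputable instance instFintypeQuot (𝔛 P : Subgroup G) : Fintype (↥𝔛 ⧸ St 𝔛 P) :=
  Fintype.ofFinite _

/-- the diagonal homomorphism -/
noncomputable def delta {𝔛 P : Subgroup G} (h : Dich 𝔛 P) : ↥P →* G :=
  (MonoidHom.noncommPiCoprod (term 𝔛 P) (term_comm h)).comp
    (MonoidHom.pi fun _ => MonoidHom.id ↥P)

theorem delta_comm {𝔛 P : Subgroup G} (h : Dich 𝔛 P) (g : ↥P)
    (s : Finset (↥𝔛 ⧸ St 𝔛 P)) :
    (↑s : Set (↥𝔛 ⧸ St 𝔛 P)).Pairwise (Function.onFun Commute fun c => term 𝔛 P c g) :=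
  fun c₁ _ c₂ _ hne => term_comm' h c₁ c₂ hne g g

theorem delta_apply {𝔛 P : Subgroup G} (h : Dich 𝔛 P) (g : ↥P) :
    delta h g = Finset.univ.noncommProd (fun c => term 𝔛 P c g) (delta_comm h g _) := by
  unfold delta
  rw [MonoidHom.comp_apply, MonoidHom.noncommPiCoprod_apply]
  rfl

theorem noncommProd_univ_equiv {ι M : Type*} [Fintype ι] [Monoid M] (σ : ι ≃ ι) (f : ι → M)
    (comm : (↑(Finset.univ : Finset ι) : Set ι).Pairwise (Function.onFun Commute f))
    (comm' : (↑(Finset.univ : Finset ι) : Set ι).Pairwise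
      (Function.onFun Commute (fun i => f (σ i)))) :
    Finset.univ.noncommProd (fun i => f (σ i)) comm' = Finset.univ.noncommProd f comm := by
  unfold Finset.noncommProd
  have h : Multiset.map (fun i => f (σ i)) (Finset.univ : Finset ι).1 =
      Multiset.map f (Finset.univ : Finset ι).1 := by
    show Multiset.map (f ∘ σ) _ = _
    rw [← Multiset.map_map f σ, Multiset.map_univ_val_equiv]
  simp only [h]

/-- the diagonal elements are centralized by `𝔛` -/
theorem delta_conj {𝔛 P : Subgroup G} (h : Dich 𝔛 P) {y : G} (hy : y ∈ 𝔛) (g : ↥P) :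
    y * delta h g * y⁻¹ = delta h g := by
  have h1 : y * delta h g * y⁻¹ = (MulAut.conj y).toMonoidHom (delta h g) := rfl
  rw [h1, delta_apply, Finset.map_noncommProd]
  have h2 : ∀ c : ↥𝔛 ⧸ St 𝔛 P, (MulAut.conj y).toMonoidHom (term 𝔛 P c g) =
      term 𝔛 P ((MulAction.toPerm (⟨y, hy⟩ : ↥𝔛) : Equiv.Perm (↥𝔛 ⧸ St 𝔛 P)) c) g := by
    intro c
    induction c using QuotientGroup.induction_on with
    | H x =>
    rw [MulAction.toPerm_apply, MulAction.Quotient.smul_mk, term_mk, term_mk, smul_eq_mul]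
    simp only [MulEquiv.coe_toMonoidHom, MulAut.conj_apply, Subgroup.coe_mul]
    group
  refine (Finset.noncommProd_congr rfl (fun c _ => h2 c) _).trans ?_
  exact noncommProd_univ_equiv (MulAction.toPerm (⟨y, hy⟩ : ↥𝔛)) (fun c => term 𝔛 P c g) _ _

theorem delta_mem_centralizer {𝔛 P : Subgroup G} (h : Dich 𝔛 P) (g : ↥P) :
    delta h g ∈ Subgroup.centralizer (𝔛 : Set G) := by
  rw [Subgroup.mem_centralizer_iff]
  intro y hy
  have := delta_conj h hy g
  calc y * delta h g = (y * delta h g * y⁻¹) * y := by group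
    _ = delta h g * y := by rw [this]

/-- the diagonal element lies in every subgroup containing all `𝔛`-conjugates -/
theorem delta_mem {𝔛 P : Subgroup G} (h : Dich 𝔛 P) (g : ↥P) (M : Subgroup G)
    (hM : ∀ x ∈ 𝔛, x * (g : G) * x⁻¹ ∈ M) : delta h g ∈ M := by
  rw [delta_apply]
  apply Subgroup.noncommProd_mem
  intro c _
  induction c using QuotientGroup.induction_on with
  | H x =>
  rw [term_mk]
  exact hM x x.2

/-- the diagonal element is `g` times a product of conjugates of `g` by non-centralizing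
operators -/
theorem delta_eq_mul {𝔛 P : Subgroup G} (h : Dich 𝔛 P) (g : ↥P) (M : Subgroup G)
    (hM : ∀ x ∈ 𝔛, x ∉ Subgroup.centralizer (P : Set G) → x * (g : G) * x⁻¹ ∈ M) :
    ∃ r ∈ M, delta h g = (g : G) * r := by
  classical
  rw [delta_apply]
  have h1 := Finset.mul_noncommProd_erase Finset.univ
    (Finset.mem_univ (QuotientGroup.mk (1 : ↥𝔛) : ↥𝔛 ⧸ St 𝔛 P)) (fun c => term 𝔛 P c g)
    (delta_comm h g _)
  rw [← h1]
  refine ⟨(Finset.univ.erase (QuotientGroup.mk (1 : ↥𝔛) : ↥𝔛 ⧸ St 𝔛 P)).noncommProd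
    (fun c => term 𝔛 P c g) (delta_comm h g _), ?_, ?_⟩
  · apply Subgroup.noncommProd_mem
    intro c hc
    induction c using QuotientGroup.induction_on with
    | H x =>
    rw [term_mk]
    apply hM x x.2
    intro hx
    rw [Finset.mem_erase] at hc
    apply hc.1
    rw [QuotientGroup.eq, Subgroup.mem_subgroupOf]
    simpa using Subgroup.inv_mem _ hx
  · rw [term_mk]
    simp

end Cfsg.Agent.Helper4.DIAG
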