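import Mathlib
import Cfsg.Prelude.Def_PLocal
import Cfsg.Agent.Lib.Helper4.OffFam
import Cfsg.Agent.Lib.Helper4.OffT
import Cfsg.Agent.Lib.Helper4.Diagonal
import Cfsg.Agent.Lib.Helper21.HallCount
import Cfsg.Agent.Lib.Helper22.PPrimeCore
import Cfsg.Agent.Lib.Helper16.Basic

/-!
# Coprime operators on a group generated by best offenders: the diagonal `SL(2,p)` (helper4)
-/

set_option autoImplicit false
set_option linter.unusedSectionVars false
set_option linter.unusedVariables false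
set_option linter.style.haveILetI false

namespace Cfsg.Agent.Helper4.OG

open scoped commutatorElement
open Cfsg

variable {G : Type*} [Group G]

section basic

variable {p : ℕ} [hp : Fact p.Prime] {V H : Subgroup G}

/-- `O_{p'}(H)` is normalized by `N(H)` -/
theorem cj_XX_of_mem_normalizer [Finite G] {x : G}
    (hx : x ∈ Subgroup.normalizer (H : Set G)) : cj x (XX p H) = XX p H := by
  have hH : cj x H = H := cj_eq_self_of_mem_normalizer hx
  obtain ⟨φ, hφ⟩ : ∃ φ : ↥H ≃* ↥H, ∀ h : ↥H, ((φ h : ↥H) : G) = x * (h : G) * x⁻¹ :=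
    ⟨((MulAut.conj x).subgroupMap H).trans (MulEquiv.subgroupCongr hH), fun h => rfl⟩
  have h1 := Cfsg.Agent.Helper22.pPrimeCore_map_equiv (G := ↥H) p φ
  unfold XX
  show ((pPrimeCore p ↥H).map H.subtype).map (MulAut.conj x).toMonoidHom = _
  rw [Subgroup.map_map]
  have h2 : (MulAut.conj x).toMonoidHom.comp H.subtype = H.subtype.comp φ.toMonoidHom := by
    ext h
    simp only [MonoidHom.coe_comp, Function.comp_apply, Subgroup.subtype_apply,
      MulEquiv.coe_toMonoidHom, MulAut.conj_apply, hφ]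
  rw [h2, ← Subgroup.map_map, h1]

/-- conjugates of minimal offenders by elements normalizing `V` and `H` are minimal offenders -/
theorem MinOff.cj_normalizer {A : Subgroup G} (hA : MinOff p V H A) {x : G}
    (hxV : x ∈ Subgroup.normalizer (V : Set G)) (hxH : x ∈ Subgroup.normalizer (H : Set G)) :
    MinOff p V H (OG.cj x A) := by
  obtain ⟨h1, h2, h3, h4⟩ := hA
  have hV : OG.cj x V = V := cj_eq_self_of_mem_normalizer hxV
  refine ⟨?_, isBestOffenderOn_cj h2 hxV, ?_, ?_⟩
  · rw [cj_le_iff]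
    have : OG.cj x⁻¹ H = H := cj_eq_self_of_mem_normalizer (Subgroup.inv_mem _ hxH)
    rw [this]; exact h1
  · intro hb
    apply h3
    have : OG.cj x ⁅V, A⁆ = ⊥ := by
      rw [cj_commutator, hV]; exact hb
    rwa [cj_eq_bot_iff] at this
  · intro B hB hB1 hB2
    have hB' : OG.cj x⁻¹ B ≤ A := by
      rw [cj_le_iff, inv_inv]; exact hB
    have hh' : x⁻¹ ∈ Subgroup.normalizer (V : Set G) := Subgroup.inv_mem _ hxV
    have hV' : OG.cj x⁻¹ V = V := cj_eq_self_of_mem_normalizer hh'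
    have := h4 _ hB' (isBestOffenderOn_cj hB1 hh') (by
      intro hb
      apply hB2
      have : OG.cj x⁻¹ ⁅V, B⁆ = ⊥ := by
        rw [cj_commutator, hV']; exact hb
      rwa [cj_eq_bot_iff] at this)
    rw [← this, cj_cj_inv]

theorem cj_EE_of_mem_normalizer [Finite G] {A : Subgroup G} {x : G}
    (hx : x ∈ Subgroup.normalizer (H : Set G)) : cj x (EE p H A) = EE p H (cj x A) := by
  unfold EE
  rw [cj_sup, cj_commutator, cj_XX_of_mem_normalizer hx]

theorem cj_RR_of_mem_normalizer [Finite G] {A : Subgroup G} {x : G}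
    (hxV : x ∈ Subgroup.normalizer (V : Set G)) (hx : x ∈ Subgroup.normalizer (H : Set G)) :
    cj x (RR p V H A) = RR p V H (cj x A) := by
  unfold RR
  rw [cj_commutator, cj_EE_of_mem_normalizer hx, cj_eq_self_of_mem_normalizer hxV]

end basic

section core

variable {p : ℕ} [hp : Fact p.Prime] {V H : Subgroup G} [Finite G]
  (hS : Setting p V H) (hI : Inputs p V H) {q : ℕ} [hq' : Fact q.Prime] {𝔛 : Subgroup G}
  (h𝔛V : 𝔛 ≤ Subgroup.normalizer (V : Set G)) (h𝔛H : 𝔛 ≤ Subgroup.normalizer (H : Set G))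
  (h𝔛q : IsPGroup q ↥𝔛) (hq : ¬ q ∣ Nat.card ↥H) {A : Subgroup G} (hA : MinOff p V H A)
include hS hI h𝔛V h𝔛H h𝔛q hq hA

/-- an operator stabilizing `E` centralizes its plane -/
theorem stab_centralizes_RR {x : G} (hx : x ∈ 𝔛) (hxE : cj x (EE p H A) = EE p H A) :
    x ∈ Subgroup.centralizer ((RR p V H A : Subgroup G) : Set G) := by
  have hxR : cj x (RR p V H A) = RR p V H A := by
    unfold RR
    rw [cj_commutator, hxE, cj_eq_self_of_mem_normalizer (h𝔛V hx)]
  have hZq : IsPGroup q ↥(Subgroup.zpowers x) :=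
    h𝔛q.to_le (Subgroup.zpowers_le.mpr hx)
  have hZn : Subgroup.zpowers x ≤ Subgroup.normalizer ((RR p V H A : Subgroup G) : Set G) := by
    rw [Subgroup.zpowers_le, Subgroup.mem_normalizer_iff_map_conj_eq]
    exact hxR
  have hmod := Cfsg.Agent.Helper21.card_modEq_card_inf_centralizer (Subgroup.zpowers x)
    (RR p V H A) hZq hZn
  rw [RR_card hS hI hA] at hmod
  obtain ⟨F, hF⟩ : ∃ F : Subgroup G, F = RR p V H A ⊓
      Subgroup.centralizer ((Subgroup.zpowers x : Subgroup G) : Set G) := ⟨_, rfl⟩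
  rw [← hF] at hmod
  have hFle : F ≤ RR p V H A := by rw [hF]; exact inf_le_left
  have hdvd : Nat.card ↥F ∣ p ^ 2 := by
    rw [← RR_card hS hI hA]; exact Subgroup.card_dvd_of_le hFle
  have hEH : Nat.card ↥(EE p H A) ∣ Nat.card ↥H := Subgroup.card_dvd_of_le (EE_le hA.1)
  rw [card_EE hS hI hA] at hEH
  have hp1 : 1 ≤ p := hp.1.one_lt.le
  have hle : Nat.card ↥F ≤ p ^ 2 := Nat.le_of_dvd (pow_pos hp.1.pos 2) hdvd
  have hqd : q ∣ p ^ 2 - Nat.card ↥F := (Nat.modEq_iff_dvd' hle).mp hmod.symm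
  obtain ⟨k, hk, hk'⟩ := (Nat.dvd_prime_pow hp.1).mp hdvd
  have hFR : F = RR p V H A := by
    interval_cases k
    · exfalso
      rw [hk', pow_zero] at hqd
      exact hq ((hqd.trans (Dvd.intro_left p rfl)).trans hEH)
    · exfalso
      rw [hk', pow_one] at hqd
      apply hq
      refine (hqd.trans ?_).trans hEH
      have h1 : p ^ 2 - p = p * (p - 1) := by
        rw [Nat.mul_sub, mul_one, sq]
      have h2 : p ^ 2 - 1 = (p - 1) * (p + 1) := by
        obtain ⟨m, rfl⟩ : ∃ m, p = m + 1 := ⟨p - 1, by omega⟩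
        simp only [Nat.add_sub_cancel]
        have : (m + 1) ^ 2 = m * (m + 1 + 1) + 1 := by ring
        rw [this, Nat.add_sub_cancel]
      rw [h1, h2, ← mul_assoc]
      exact Dvd.intro _ rfl
    · exact Subgroup.eq_of_le_of_card_ge hFle (by rw [hk', RR_card hS hI hA])
  have h3 : RR p V H A ≤ Subgroup.centralizer ((Subgroup.zpowers x : Subgroup G) : Set G) := by
    rw [← hFR, hF]; exact inf_le_right
  rw [Subgroup.mem_centralizer_iff]
  intro r hr
  exact (Subgroup.mem_centralizer_iff.mp (h3 hr) x (Subgroup.mem_zpowers x)).symm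

/-- an operator stabilizing `E` centralizes it -/
theorem stab_centralizes_EE {x : G} (hx : x ∈ 𝔛) (hxE : cj x (EE p H A) = EE p H A) :
    x ∈ Subgroup.centralizer ((EE p H A : Subgroup G) : Set G) := by
  have hR := stab_centralizes_RR hS hI h𝔛V h𝔛H h𝔛q hq hA hx hxE
  have hR' : ∀ r ∈ RR p V H A, x * r * x⁻¹ = r := by
    intro r hr
    have := Subgroup.mem_centralizer_iff.mp hR r hr
    rw [← this]; group
  have hR'' : ∀ r ∈ RR p V H A, x⁻¹ * r * x = r := by
    intro r hr
    have := Subgroup.mem_centralizer_iff.mp hR r hr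
    rw [mul_assoc, this]; group
  have hEN : EE p H A ≤ Subgroup.normalizer ((RR p V H A : Subgroup G) : Set G) :=
    (EE_le (p := p) hA.1).trans (H_le_normalizer_RR hS hI hA)
  rw [Subgroup.mem_centralizer_iff]
  intro e he
  have hxe : x * e * x⁻¹ ∈ EE p H A := by
    rw [← hxE]; exact conj_mem_cj he
  have hc : e⁻¹ * (x * e * x⁻¹) ∈ EE p H A ⊓
      Subgroup.centralizer ((RR p V H A : Subgroup G) : Set G) := by
    refine Subgroup.mem_inf.mpr ⟨Subgroup.mul_mem _ (Subgroup.inv_mem _ he) hxe, ?_⟩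
    rw [Subgroup.mem_centralizer_iff]
    intro r hr
    have h1 : e * r * e⁻¹ ∈ RR p V H A :=
      (Subgroup.mem_normalizer_iff.mp (hEN he) r).mp hr
    have h2 : e⁻¹ * r * e ∈ RR p V H A := by
      have := (Subgroup.mem_normalizer_iff.mp (hEN (Subgroup.inv_mem _ he)) r).mp hr
      rwa [inv_inv] at this
    have h3 := hR' _ h1
    have h4 := hR'' _ hr
    -- `e⁻¹ x e x⁻¹` centralizes `r`
    have h5 : (x * e * x⁻¹) * r * (x * e * x⁻¹)⁻¹ = e * r * e⁻¹ := by
      calc (x * e * x⁻¹) * r * (x * e * x⁻¹)⁻¹ = x * (e * (x⁻¹ * r * x) * e⁻¹) * x⁻¹ := by group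
        _ = x * (e * r * e⁻¹) * x⁻¹ := by rw [h4]
        _ = e * r * e⁻¹ := h3
    calc r * (e⁻¹ * (x * e * x⁻¹)) = e⁻¹ * (e * r * e⁻¹) * (x * e * x⁻¹) := by group
      _ = e⁻¹ * ((x * e * x⁻¹) * r * (x * e * x⁻¹)⁻¹) * (x * e * x⁻¹) := by rw [h5]
      _ = e⁻¹ * (x * e * x⁻¹) * r := by group
  rw [EE_faithful hS hI hA, Subgroup.mem_bot] at hc
  have h6 : x * e * x⁻¹ = e := by
    calc x * e * x⁻¹ = e * (e⁻¹ * (x * e * x⁻¹)) := by group
      _ = e := by rw [hc, mul_one]
  calc e * x = (x * e * x⁻¹)⁻¹⁻¹ * x := by rw [inv_inv, h6]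
    _ = x * e := by group

/-- an operator moving `E` moves it into `C_H(R)` -/
theorem moved_EE_le_FF {x : G} (hx : x ∈ 𝔛) (hxE : cj x (EE p H A) ≠ EE p H A) :
    cj x (EE p H A) ≤ FF p V H A := by
  rw [cj_EE_of_mem_normalizer (h𝔛H hx)] at hxE ⊢
  exact EE_le_FF_of_ne hS hI hA (MinOff.cj_normalizer hA (h𝔛V hx) (h𝔛H hx)) hxE

theorem moved_RR_le {x : G} (hx : x ∈ 𝔛) (hxE : cj x (EE p H A) ≠ EE p H A) :
    cj x (RR p V H A) ≤ V ⊓ Subgroup.centralizer ((EE p H A : Subgroup G) : Set G) := by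
  have h1 := moved_EE_le_FF hS hI h𝔛V h𝔛H h𝔛q hq hA hx hxE
  have h2 : cj x (RR p V H A) = ⁅V, cj x (EE p H A)⁆ := by
    unfold RR
    rw [cj_commutator, cj_eq_self_of_mem_normalizer (h𝔛V hx)]
  rw [h2]
  exact (Subgroup.commutator_mono le_rfl h1).trans (comm_FF_le hS hI hA)

/-- the plane together with its `SL(2,p)` -/
def PP (p : ℕ) (V H A : Subgroup G) : Subgroup G := RR p V H A ⊔ EE p H A

theorem not_centralizes_PP {x : G} (hx : x ∈ 𝔛)
    (hxP : x ∉ Subgroup.centralizer ((PP p V H A : Subgroup G) : Set G)) :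
    cj x (EE p H A) ≠ EE p H A := by
  intro hxE
  apply hxP
  have h1 := stab_centralizes_RR hS hI h𝔛V h𝔛H h𝔛q hq hA hx hxE
  have h2 := stab_centralizes_EE hS hI h𝔛V h𝔛H h𝔛q hq hA hx hxE
  unfold PP
  rw [Cfsg.Agent.Helper21.centralizer_sup]
  exact Subgroup.mem_inf.mpr ⟨h1, h2⟩

theorem dich_PP : DIAG.Dich 𝔛 (PP p V H A) := by
  intro x hx
  by_cases hxP : x ∈ Subgroup.centralizer ((PP p V H A : Subgroup G) : Set G)
  · exact Or.inl hxP
  · right
    have hxE := not_centralizes_PP hS hI h𝔛V h𝔛H h𝔛q hq hA hx hxP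
    have h1 := moved_EE_le_FF hS hI h𝔛V h𝔛H h𝔛q hq hA hx hxE
    have h2 := moved_RR_le hS hI h𝔛V h𝔛H h𝔛q hq hA hx hxE
    have hc := mo_V_comm (p := p) hS
    have hRV : RR p V H A ≤ V := RR_le hA.1 hS.hHV
    -- the moved copy centralizes `P`
    have h3 : cj x (PP p V H A) ≤ Subgroup.centralizer ((PP p V H A : Subgroup G) : Set G) := by
      unfold PP
      rw [cj_sup, Cfsg.Agent.Helper21.centralizer_sup]
      apply sup_le
      · apply le_inf
        · intro y hy
          rw [Subgroup.mem_centralizer_iff]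
          intro r hr
          exact hc r (hRV hr) y (h2 hy).1
        · exact h2.trans inf_le_right
      · apply le_inf
        · exact h1.trans inf_le_right
        · have := EE_comm_FF hS hI hA
          rw [Subgroup.commutator_eq_bot_iff_le_centralizer] at this
          intro y hy
          rw [Subgroup.mem_centralizer_iff]
          intro e he
          exact (Subgroup.mem_centralizer_iff.mp (this he) y (h1 hy)).symm
    intro a ha b hb
    exact Subgroup.mem_centralizer_iff.mp (h3 (conj_mem_cj hb)) a ha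

end core

end Cfsg.Agent.Helper4.OG
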