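import Mathlib
import Cfsg.Prelude.Def_PLocal
import Cfsg.Prelude.Def_Local
import Cfsg.Agent.Lib.Helper4.JCF3
import Cfsg.Agent.Lib.Helper4.OffDiag
import Cfsg.Agent.S0610
import Cfsg.Agent.S0612

/-!
# KS12, PIECE F3 (helper4), second part: conjugation, faithfulness on `W_i`, and the offender facts
-/

set_option autoImplicit false
set_option linter.unusedSectionVars false
set_option linter.unusedVariables false
set_option linter.style.haveILetI false

namespace Cfsg.Agent.Helper4.JCF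

open scoped commutatorElement
open Cfsg Cfsg.Agent.Helper4.HOL SemidirectProduct

variable {X : Type*} [Group X] [Finite X] {V : Subgroup X} [hVn : V.Normal]

/-! ### `X` permutes the factors -/

theorem cj_psi_map (x : X) (K : Subgroup X) :
    OG.cj (psi V x) (K.map (psi V)) = (OG.cj x K).map (psi V) := by
  ext y
  constructor
  · rintro ⟨_, ⟨k, hk, rfl⟩, rfl⟩
    refine ⟨x * k * x⁻¹, OG.conj_mem_cj hk, ?_⟩
    simp
  · rintro ⟨_, ⟨k, hk, rfl⟩, rfl⟩
    refine ⟨psi V k, ⟨k, hk, rfl⟩, ?_⟩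
    simp

theorem psi_mem_normalizer_fH (x : X) :
    psi V x ∈ Subgroup.normalizer ((fH V : Subgroup (Hol V)) : Set (Hol V)) := by
  haveI hJc : (thompsonSubgroup 2 X).Characteristic := (Cfsg.Agent.S0602.result (p := 2)).1
  haveI hJn : (thompsonSubgroup 2 X).Normal := inferInstance
  rw [Subgroup.mem_normalizer_iff_map_conj_eq]
  show OG.cj (psi V x) (fH V) = fH V
  unfold fH
  rw [cj_psi_map]
  congr 1
  exact OG.cj_eq_self_of_mem_normalizer
    (by rw [Subgroup.normalizer_eq_top]; exact Subgroup.mem_top x)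

theorem psi_mem_normalizer_VV (x : X) :
    psi V x ∈ Subgroup.normalizer ((VV V : Subgroup (Hol V)) : Set (Hol V)) := by
  rw [Subgroup.normalizer_eq_top]
  exact Subgroup.mem_top _

theorem comap_cj_psi (x : X) (E : Subgroup (Hol V)) :
    (OG.cj (psi V x) E).comap (psi V) = OG.cj x (E.comap (psi V)) := by
  ext y
  rw [Subgroup.mem_comap, OG.mem_cj, OG.mem_cj, Subgroup.mem_comap]
  simp

/-- `X` permutes the `D_i` (and the `O_i`) -/
theorem fD_conj (h : FFHyp V) (x : X) (i : fIdx V) : ∃ j : fIdx V,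
    (fD V i).map (MulAut.conj x).toMonoidHom = fD V j ∧
      (fO V i).map (MulAut.conj x).toMonoidHom = fO V j := by
  obtain ⟨A, hA, hE⟩ := fIdx_exists i
  have hA' := OG.MinOff.cj_normalizer hA (psi_mem_normalizer_VV x) (psi_mem_normalizer_fH x)
  have hE' : OG.cj (psi V x) i.1 = OG.EE 2 (fH V) (OG.cj (psi V x) A) := by
    rw [hE, OG.cj_EE_of_mem_normalizer (psi_mem_normalizer_fH x)]
  refine ⟨⟨OG.cj (psi V x) i.1, OG.isEE_iff.mpr ⟨_, hA', hE'⟩⟩, ?_⟩
  have h1 : (fD V i).map (MulAut.conj x).toMonoidHom =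
      fD V ⟨OG.cj (psi V x) i.1, OG.isEE_iff.mpr ⟨_, hA', hE'⟩⟩ := by
    unfold fD
    exact (comap_cj_psi x i.1).symm
  refine ⟨h1, ?_⟩
  have h2 : (Subgroup.centralizer (V : Set X)).map (MulAut.conj x).toMonoidHom =
      Subgroup.centralizer (V : Set X) := Subgroup.mem_normalizer_iff_map_conj_eq.mp
      (show x ∈ Subgroup.normalizer ((Subgroup.centralizer (V : Set X) : Subgroup X) : Set X) by
        rw [Subgroup.normalizer_eq_top]; exact Subgroup.mem_top x)
  unfold fO
  rw [Subgroup.map_sup, Subgroup.map_commutator, h1, h2]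

/-! ### faithfulness on `W_i` -/

theorem fD_inf_centralizer_fW (h : FFHyp V) (i : fIdx V) :
    fD V i ⊓ Subgroup.centralizer ((fW V i : Subgroup X) : Set X) =
      Subgroup.centralizer (V : Set X) := by
  obtain ⟨A, hA, hE⟩ := fIdx_exists i
  apply le_antisymm
  · rintro x ⟨hxD, hxW⟩
    rw [mem_cent_iff]
    have h1 : psi V x ∈ OG.EE 2 (fH V) A ⊓
        Subgroup.centralizer ((OG.RR 2 (VV V) (fH V) A : Subgroup (Hol V)) : Set (Hol V)) := by
      refine ⟨hE ▸ (mem_fD_iff i).mp hxD, ?_⟩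
      show psi V x ∈ Subgroup.centralizer _
      rw [Subgroup.mem_centralizer_iff]
      intro r hr
      obtain ⟨r', rfl⟩ := OG.RR_le hA.1 h.setting.hHV hr
      have hr' : (r' : X) ∈ fW V i := by
        unfold fW
        rw [← inl_mem_comm_iff, map_fD, hE]
        exact hr
      rw [eq_comm, inl_comm_psi_iff]
      exact (Subgroup.mem_centralizer_iff.mp hxW _ hr').symm
    rw [OG.EE_faithful h.setting h.inputs hA, Subgroup.mem_bot] at h1
    exact h1
  · apply le_inf (cent_le_fD V i)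
    intro c hc
    rw [Subgroup.mem_centralizer_iff] at hc ⊢
    intro w hw
    exact hc w (fW_le V i hw)

/-! ### the offender facts -/

theorem map_psi_le_fH {A : Subgroup X} (hA : A ∈ maxElementaryAbelianSubgroups 2 X) :
    A.map (psi V) ≤ fH V :=
  Subgroup.map_mono (le_sSup hA)

theorem map_psi_bestOffender (h : FFHyp V) {A : Subgroup X}
    (hA : A ∈ maxElementaryAbelianSubgroups 2 X) :
    IsBestOffenderOn 2 (VV V) (A.map (psi V)) :=
  isBestOffenderOn_map V (Cfsg.Agent.S0606.result V h.hV A hA)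

theorem map_psi_eq_bot_iff {A : Subgroup X} :
    A.map (psi V) = ⊥ ↔ A ≤ Subgroup.centralizer (V : Set X) := by
  rw [Subgroup.map_eq_bot_iff, ker_psi]

theorem relIndex_inf_cent (K : Subgroup X) :
    (K ⊓ Subgroup.centralizer (V : Set X)).relIndex K = Nat.card ↥(K.map (psi V)) := by
  rw [inf_comm, Subgroup.inf_relIndex_right, ← ker_psi V]
  exact Subgroup.relIndex_ker K (psi V)

/-- `|A C / C| |C_V(A)| = |V|` -/
theorem off_card (h : FFHyp V) {A : Subgroup X} (hA : A ∈ maxElementaryAbelianSubgroups 2 X) :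
    (A ⊓ Subgroup.centralizer (V : Set X)).relIndex A *
      Nat.card ↥(V ⊓ Subgroup.centralizer (A : Set X)) = Nat.card ↥V := by
  rw [relIndex_inf_cent, ← card_centralizer_map V A, ← card_VV V]
  by_cases hbot : A.map (psi V) = ⊥
  · rw [hbot]
    have : VV V ⊓ Subgroup.centralizer (((⊥ : Subgroup (Hol V)) : Subgroup (Hol V)) : Set (Hol V)) =
        VV V := by
      rw [inf_eq_left]
      intro v _
      rw [Subgroup.mem_centralizer_iff]
      intro y hy
      rw [SetLike.mem_coe, Subgroup.mem_bot] at hy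
      rw [hy]; simp
    rw [this]
    simp
  · have hS := h.setting
    exact Cfsg.Agent.S0610.result (VV V) (fH V) hS.hV hS.hHV hS.hf hS.hS1 hS.hS3 hS.hH1 _
      (map_psi_le_fH hA) (map_psi_bestOffender h hA) hbot

theorem map_inf_fD (A : Subgroup X) (i : fIdx V) :
    (A ⊓ fD V i).map (psi V) = A.map (psi V) ⊓ i.1 := by
  ext y
  constructor
  · rintro ⟨a, ⟨haA, haD⟩, rfl⟩
    exact ⟨⟨a, haA, rfl⟩, haD⟩
  · rintro ⟨⟨a, haA, rfl⟩, hy⟩
    exact ⟨a, ⟨haA, hy⟩, rfl⟩

/-- `A C / C` is the product of its intersections with the factors -/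
theorem off_split (h : FFHyp V) {A : Subgroup X} (hA : A ∈ maxElementaryAbelianSubgroups 2 X) :
    A ⊔ Subgroup.centralizer (V : Set X) =
      Subgroup.centralizer (V : Set X) ⊔ ⨆ i : fIdx V, (A ⊓ fD V i) := by
  apply le_antisymm
  · apply sup_le _ le_sup_left
    by_cases hbot : A.map (psi V) = ⊥
    · exact (map_psi_eq_bot_iff.mp hbot).trans le_sup_left
    · have hS := h.setting
      obtain ⟨k, B, hB, -, hsup⟩ := Cfsg.Agent.S0612.result (VV V) (fH V) hS.hV hS.hHV hS.hf
        hS.hS1 hS.hS3 hS.hH1 _ (map_psi_le_fH hA) (map_psi_bestOffender h hA) hbot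
      have h1 : A.map (psi V) ≤ (⨆ i : fIdx V, (A ⊓ fD V i)).map (psi V) := by
        rw [← hsup, Subgroup.map_iSup]
        apply iSup_le
        intro m
        obtain ⟨hm1, hm2, hm3, hm4⟩ := hB m
        have hmin : OG.MinOff 2 (VV V) (fH V) (B m) :=
          ⟨hm1.trans (map_psi_le_fH hA), hm2, hm3, hm4⟩
        obtain ⟨i, hi⟩ : ∃ i : fIdx V, i.1 = OG.EE 2 (fH V) (B m) :=
          ⟨⟨_, OG.isEE_iff.mpr ⟨B m, hmin, rfl⟩⟩, rfl⟩
        refine le_trans ?_ (le_iSup (fun i : fIdx V => (A ⊓ fD V i).map (psi V)) i)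
        rw [map_inf_fD, hi]
        exact le_inf hm1 (OG.le_EE (B m))
      intro a ha
      have h2 : psi V a ∈ (⨆ i : fIdx V, (A ⊓ fD V i)).map (psi V) := h1 ⟨a, ha, rfl⟩
      rw [← Subgroup.mem_comap, Subgroup.comap_map_eq, ker_psi, sup_comm] at h2
      exact h2
  · apply sup_le le_sup_right
    exact iSup_le (fun i => inf_le_left.trans le_sup_left)

theorem off_le (h : FFHyp V) {A : Subgroup X} (hA : A ∈ maxElementaryAbelianSubgroups 2 X)
    (i : fIdx V) : (A ⊓ Subgroup.centralizer (V : Set X)).relIndex (A ⊓ fD V i) ≤ 2 := by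
  have e : A ⊓ Subgroup.centralizer (V : Set X) =
      (A ⊓ fD V i) ⊓ Subgroup.centralizer (V : Set X) := by
    rw [inf_assoc, inf_eq_right.mpr (cent_le_fD V i)]
  rw [e, relIndex_inf_cent, map_inf_fD]
  -- a `2`-subgroup of a group of order `6`
  have h2 : IsPGroup 2 ↥(A.map (psi V) ⊓ i.1) := by
    have h3 : IsPGroup 2 ↥(A.map (psi V)) :=
      OG.offender_isPGroup h.setting (map_psi_le_fH hA) (map_psi_bestOffender h hA)
    exact h3.to_le inf_le_left
  obtain ⟨n, hn⟩ := h2.exists_card_eq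
  have hdvd : Nat.card ↥(A.map (psi V) ⊓ i.1) ∣ 6 := by
    rw [← card_fIdx h i]
    exact Subgroup.card_dvd_of_le inf_le_right
  rw [hn] at hdvd ⊢
  have hn1 : n ≤ 1 := by
    by_contra hcon
    push Not at hcon
    have h4 : 2 ^ 2 ∣ 2 ^ n := pow_dvd_pow 2 hcon
    have h5 : 4 ∣ 6 := (by norm_num : (4 : ℕ) = 2 ^ 2) ▸ h4.trans hdvd
    omega
  calc 2 ^ n ≤ 2 ^ 1 := Nat.pow_le_pow_right (by norm_num) hn1
    _ = 2 := by norm_num

end Cfsg.Agent.Helper4.JCF
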