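import Mathlib
import Cfsg.Prelude.Def_PLocal
import Cfsg.Prelude.Def_Local
import Cfsg.Agent.Lib.Helper4.JCF3
import Cfsg.Agent.Lib.Helper4.JCF3Off
import Cfsg.Agent.Lib.Helper13.JCFFDefs
import Cfsg.Agent.Lib.Helper13.JCF1

/-!
# KS12, PIECE F3 (helper4), third part: the structure `FFData` of helper13's skeleton
-/

set_option autoImplicit false
set_option linter.unusedSectionVars false
set_option linter.unusedVariables false
set_option linter.style.haveILetI false

namespace Cfsg.Agent.Helper4.JCF

open scoped commutatorElement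
open Cfsg Cfsg.Agent.Helper4.HOL SemidirectProduct

variable {X : Type*} [Group X] [Finite X] {V : Subgroup X} [hVn : V.Normal]

theorem fD_inf_sup_le (h : FFHyp V) (i : fIdx V) :
    fD V i ⊓ (Subgroup.centralizer (V : Set X) ⊔ ⨆ (j : fIdx V) (_ : j ≠ i), fD V j) ≤
      Subgroup.centralizer (V : Set X) := by
  intro x hx
  rw [mem_cent_iff]
  have h1 : psi V x ∈ i.1 := hx.1
  have h2 : psi V x ∈ (Subgroup.centralizer (V : Set X) ⊔
      ⨆ (j : fIdx V) (_ : j ≠ i), fD V j).map (psi V) := ⟨x, hx.2, rfl⟩
  rw [Subgroup.map_sup, map_cent, bot_sup_eq, Subgroup.map_iSup] at h2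
  have h3 : (⨆ j : fIdx V, (⨆ (_ : j ≠ i), fD V j).map (psi V)) =
      ⨆ (j : fIdx V) (_ : j ≠ i), (j.1 : Subgroup (Hol V)) := by
    apply iSup_congr
    intro j
    rw [Subgroup.map_iSup]
    exact iSup_congr (fun _ => map_fD j)
  rw [h3] at h2
  have hind := (OG.main617 h.setting h.inputs).2.2.1 i
  have := (disjoint_iff.mp hind).le (Subgroup.mem_inf.mpr ⟨h1, h2⟩)
  rwa [Subgroup.mem_bot] at this

theorem relIndex_fO_fD (h : FFHyp V) (i : fIdx V) : (fO V i).relIndex (fD V i) = 2 := by
  have h1 := Subgroup.relIndex_mul_relIndex (H := Subgroup.centralizer (V : Set X))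
    (K := fO V i) (L := fD V i) (cent_le_fO V i) (fO_le_fD V i)
  rw [relIndex_fO h, relIndex_fD h] at h1
  omega

/-- the data of helper13's skeleton -/
noncomputable def ffdata (h : FFHyp V) : Cfsg.Agent.Helper13.JCFF.FFData X V where
  r := Nat.card (fIdx V)
  D := fun j => fD V ((Finite.equivFin (fIdx V)).symm j)
  O := fun j => fO V ((Finite.equivFin (fIdx V)).symm j)
  pos := by
    haveI := fIdx_nonempty h
    exact Nat.card_pos
  C_le_O := fun j => cent_le_fO V _
  O_le_D := fun j => fO_le_fD V _
  D_le := fun j => fD_le h _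
  relIndex_O := fun j => relIndex_fO h _
  relIndex_D := fun j => relIndex_fO_fD h _
  conj := by
    intro x j
    obtain ⟨j', h1, h2⟩ := fD_conj h x ((Finite.equivFin (fIdx V)).symm j)
    refine ⟨Finite.equivFin (fIdx V) j', ?_, ?_⟩
    · rw [Equiv.symm_apply_apply]; exact h1
    · rw [Equiv.symm_apply_apply]; exact h2
  conj_J := by
    intro x hx j
    exact ⟨Subgroup.mem_normalizer_iff_map_conj_eq.mp (le_normalizer_fD h _ hx),
      Subgroup.mem_normalizer_iff_map_conj_eq.mp (le_normalizer_fO h _ hx)⟩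
  comm_DD := by
    intro i j hij
    apply commutator_fD_le h
    intro h'
    exact hij ((Finite.equivFin (fIdx V)).symm.injective h')
  sup_D := by
    rw [← iSup_fD h]
    exact (Finite.equivFin (fIdx V)).symm.iSup_comp (g := fun i => fD V i)
  indep := by
    intro i
    apply le_antisymm
    · refine le_trans (inf_le_inf_left _ (sup_le_sup_left ?_ _))
        (fD_inf_sup_le h ((Finite.equivFin (fIdx V)).symm i))
      apply iSup_le
      rintro ⟨j, hj⟩
      refine le_iSup₂ (f := fun (j' : fIdx V) (_ : j' ≠ (Finite.equivFin (fIdx V)).symm i) =>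
        fD V j') ((Finite.equivFin (fIdx V)).symm j) ?_
      intro h'
      exact hj ((Finite.equivFin (fIdx V)).symm.injective h')
    · exact le_inf (cent_le_fD V _) le_sup_left
  card_W := fun j => card_fW h _
  comm_WD := by
    intro i j hij
    rw [Subgroup.commutator_eq_bot_iff_le_centralizer]
    apply fW_le_centralizer h
    intro h'
    exact hij ((Finite.equivFin (fIdx V)).symm.injective h')
  W_indep := by
    have h1 := (fW_indep h).comp (f := Option.map (Finite.equivFin (fIdx V)).symm)
      (Option.map_injective (Finite.equivFin (fIdx V)).symm.injective)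
    convert h1 using 1
    funext o
    cases o <;> rfl
  W_sup := by
    have h1 := fW_sup h
    have h2 := (Finite.equivFin (fIdx V)).symm.iSup_comp (g := fun i => fW V i)
    rw [← h2] at h1
    exact h1
  cent_W := fun j => fD_inf_centralizer_fW h _
  off_card := fun A hA => off_card h hA
  off_split := by
    intro A hA
    rw [off_split h hA]
    congr 1
    exact ((Finite.equivFin (fIdx V)).symm.iSup_comp (g := fun i => A ⊓ fD V i)).symm
  off_le := fun A hA j => off_le h hA _

theorem nonempty_ffdata (h : FFHyp V) : Nonempty (Cfsg.Agent.Helper13.JCFF.FFData X V) :=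
  ⟨ffdata h⟩

/-- PIECE F3 of helper13's skeleton, with the two inputs from F2 as hypotheses:
`KS.exists_ffdata h := exists_ffdata_of h.hQ h.psolv h.not_J_le_C` -/
theorem exists_ffdata_of
    (hQ : Subgroup.centralizer (pCore 2 X : Set X) ≤ pCore 2 X) (hsep : IsPSolvable 2 X)
    (hJ : ¬ thompsonSubgroup 2 X ≤
      Subgroup.centralizer (Cfsg.Agent.Helper13.JCFF.VX X : Set X)) :
    Nonempty (Cfsg.Agent.Helper13.JCFF.FFData X (Cfsg.Agent.Helper13.JCFF.VX X)) := by
  haveI := Cfsg.Agent.Helper13.JCFF.VX_normal hQ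
  exact nonempty_ffdata ⟨hsep, Cfsg.Agent.Helper13.JCFF.VX_elem hQ,
    Cfsg.Agent.Helper13.JCFF.pCore_quot_VX hQ, hJ⟩

end Cfsg.Agent.Helper4.JCF
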