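import Mathlib
import Cfsg.Agent.Lib.Helper4.JCF3Data
import Cfsg.Agent.Lib.Helper13.JCF2

/-!
# KS12, PIECE F3 (helper4): the exact statement of helper13's skeleton
-/

set_option autoImplicit false

namespace Cfsg.Agent.Helper13.JCFF

open Cfsg

variable {X : Type*} [Group X] [Finite X]

theorem KS.exists_ffdata {T : Subgroup X} (h : KS X T) : Nonempty (FFData X (VX X)) :=
  Cfsg.Agent.Helper4.JCF.exists_ffdata_of h.hQ h.psolv h.not_J_le_C

end Cfsg.Agent.Helper13.JCFF
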