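import Mathlib
import Cfsg.Prelude.Def_Chevalley

/-!
# ODDINV piece OINV-GLUE (helper4 for helper13): from the facts in `GL` to the statement about the group
`↥(D.group F)`.  Pure group theory: `glue_generic` is the statement for an arbitrary subgroup of an arbitrary group.
-/

set_option autoImplicit false
set_option linter.unusedSectionVars false
set_option linter.unusedVariables false

namespace Cfsg.Agent.Helper13.OInv

open Cfsg Cfsg.Lie

/-- an element of square one, not one, has order two -/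
theorem glue_orderOf {M : Type*} [Group M] (s : M) (h2 : s * s = 1) (h1 : s ≠ 1) : orderOf s = 2 := by
  have : Fact (Nat.Prime 2) := ⟨Nat.prime_two⟩
  exact orderOf_eq_prime (by rw [pow_two]; exact h2) h1

/-- the centralizer of an element of a subgroup, counted in the ambient group -/
theorem glue_card_centralizer {M : Type*} [Group M] (G : Subgroup M) (s0 : M) (hs0 : s0 ∈ G) :
    Nat.card (Subgroup.centralizer ({(⟨s0, hs0⟩ : G)} : Set G)) =
      Nat.card {g : M // g ∈ G ∧ s0 * g = g * s0} := by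
  apply Nat.card_congr
  refine
    { toFun := fun x => ⟨(x.1 : M), x.1.2, ?_⟩
      invFun := fun y => ⟨⟨y.1, y.2.1⟩, ?_⟩
      left_inv := fun x => rfl
      right_inv := fun y => rfl }
  · have h := Subgroup.mem_centralizer_singleton_iff.mp x.2
    have := congrArg Subtype.val h
    simpa using this.symm
  · rw [Subgroup.mem_centralizer_singleton_iff]
    apply Subtype.ext
    simpa using y.2.2.symm

/-- conjugate elements have centralizers of the same cardinality -/
theorem glue_card_conj {G : Type*} [Group G] (s t : G) (h : IsConj s t) :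
    Nat.card (Subgroup.centralizer ({s} : Set G)) = Nat.card (Subgroup.centralizer ({t} : Set G)) := by
  obtain ⟨c, hc⟩ := isConj_iff.mp h
  subst hc
  apply Nat.card_congr
  refine
    { toFun := fun x => ⟨c * x.1 * c⁻¹, ?_⟩
      invFun := fun y => ⟨c⁻¹ * y.1 * c, ?_⟩
      left_inv := fun x => by
        apply Subtype.ext
        simp [mul_assoc]
      right_inv := fun y => by
        apply Subtype.ext
        simp [mul_assoc] }
  · have h := Subgroup.mem_centralizer_singleton_iff.mp x.2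
    rw [Subgroup.mem_centralizer_singleton_iff]
    calc c * x.1 * c⁻¹ * (c * s * c⁻¹) = c * (x.1 * s) * c⁻¹ := by group
      _ = c * (s * x.1) * c⁻¹ := by rw [h]
      _ = c * s * c⁻¹ * (c * x.1 * c⁻¹) := by group
  · have h := Subgroup.mem_centralizer_singleton_iff.mp y.2
    rw [Subgroup.mem_centralizer_singleton_iff]
    have h' : c⁻¹ * (y.1 * (c * s * c⁻¹)) * c = c⁻¹ * ((c * s * c⁻¹) * y.1) * c := by rw [h]
    calc c⁻¹ * y.1 * c * s = c⁻¹ * (y.1 * (c * s * c⁻¹)) * c := by group
      _ = c⁻¹ * ((c * s * c⁻¹) * y.1) * c := h'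
      _ = s * (c⁻¹ * y.1 * c) := by group

/-- OINV-GLUE for an arbitrary subgroup of an arbitrary group -/
theorem glue_generic {M : Type*} [Group M] (G : Subgroup M) (s0 t0 : M) (hs0 : s0 ∈ G) (ht0 : t0 ∈ G)
    (hs2 : s0 * s0 = 1) (hs1 : s0 ≠ 1) (ht2 : t0 * t0 = 1) (ht1 : t0 ≠ 1) (A B : ℕ)
    (hA : Nat.card {g : M // g ∈ G ∧ s0 * g = g * s0} = A)
    (hB : Nat.card {g : M // g ∈ G ∧ t0 * g = g * t0} = B) (hAB : A ≠ B)
    (hall : ∀ u ∈ G, u * u = 1 → u ≠ 1 →
      ∃ c ∈ G, c * u * c⁻¹ = s0 ∨ c * u * c⁻¹ = t0) :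
    ∃ s t : G, orderOf s = 2 ∧ orderOf t = 2 ∧ ¬ IsConj s t ∧
      (∀ u : G, orderOf u = 2 → IsConj u s ∨ IsConj u t) ∧
      Nat.card (Subgroup.centralizer ({s} : Set G)) = A ∧
      Nat.card (Subgroup.centralizer ({t} : Set G)) = B := by
  have hcs : Nat.card (Subgroup.centralizer ({(⟨s0, hs0⟩ : G)} : Set G)) = A := by
    rw [glue_card_centralizer G s0 hs0, hA]
  have hct : Nat.card (Subgroup.centralizer ({(⟨t0, ht0⟩ : G)} : Set G)) = B := by
    rw [glue_card_centralizer G t0 ht0, hB]
  refine ⟨⟨s0, hs0⟩, ⟨t0, ht0⟩, ?_, ?_, ?_, ?_, hcs, hct⟩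
  · apply glue_orderOf
    · apply Subtype.ext
      simpa using hs2
    · intro h
      exact hs1 (congrArg Subtype.val h)
  · apply glue_orderOf
    · apply Subtype.ext
      simpa using ht2
    · intro h
      exact ht1 (congrArg Subtype.val h)
  · intro h
    apply hAB
    rw [← hcs, ← hct]
    exact glue_card_conj _ _ h
  · intro u hu
    have hu2 : (u : M) * (u : M) = 1 := by
      have h := pow_orderOf_eq_one u
      rw [hu, pow_two] at h
      have := congrArg Subtype.val h
      simpa using this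
    have hu1 : (u : M) ≠ 1 := by
      intro h
      have : u = 1 := Subtype.ext h
      rw [this, orderOf_one] at hu
      omega
    obtain ⟨c, hc, h | h⟩ := hall u u.2 hu2 hu1
    · left
      rw [isConj_iff]
      refine ⟨⟨c, hc⟩, ?_⟩
      apply Subtype.ext
      simpa using h
    · right
      rw [isConj_iff]
      refine ⟨⟨c, hc⟩, ?_⟩
      apply Subtype.ext
      simpa using h

variable {F : Type*} [Field F] {D : ChevalleyDatum}

theorem final_of_parts (s0 t0 : GL D.Idx F) (hs0 : s0 ∈ D.group F) (ht0 : t0 ∈ D.group F)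
    (hs2 : s0 * s0 = 1) (hs1 : s0 ≠ 1) (ht2 : t0 * t0 = 1) (ht1 : t0 ≠ 1) (A B : ℕ)
    (hA : Nat.card {g : GL D.Idx F // g ∈ D.group F ∧ s0 * g = g * s0} = A)
    (hB : Nat.card {g : GL D.Idx F // g ∈ D.group F ∧ t0 * g = g * t0} = B) (hAB : A ≠ B) [Finite ↥(D.group F)]
    (hall : ∀ u ∈ D.group F, u * u = 1 → u ≠ 1 →
      ∃ c ∈ D.group F, c * u * c⁻¹ = s0 ∨ c * u * c⁻¹ = t0) :
    ∃ s t : ↥(D.group F), orderOf s = 2 ∧ orderOf t = 2 ∧ ¬ IsConj s t ∧
      (∀ u : ↥(D.group F), orderOf u = 2 → IsConj u s ∨ IsConj u t) ∧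
      Nat.card (Subgroup.centralizer ({s} : Set ↥(D.group F))) = A ∧
      Nat.card (Subgroup.centralizer ({t} : Set ↥(D.group F))) = B :=
  glue_generic (D.group F) s0 t0 hs0 ht0 hs2 hs1 ht2 ht1 A B hA hB hAB hall

end Cfsg.Agent.Helper13.OInv
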