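import Mathlib
import Cfsg.Prelude
import Cfsg.Agent.Lib.Helper13.SylODefs
import Cfsg.Agent.Lib.Helper13.SdAbs
import Cfsg.Agent.Lib.Helper28.PADefs

/-!
# S4613, (B, N)-route (helper4): `Data` from local (B, N) data, and the transport chain

* `sylo_dataLoc`: the `Helper13.SylO.Data` of the (B, N)-pair `h.pair` of local (B, N) data
  `h : BNLoc B N S`, from exactly the arguments of `SdP.St_one_loc` together with the unipotent
  radical `U`.
* `sylo_restrict`: the restriction `K = Ω.comap j → Ω` of an injective homomorphism `j : H →* O`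
  with `Ω ≤ j.range`; it is bijective.
* `sylo_chain`: `SylOpp p H → NoPAut p (Ω ⧸ center Ω)`, given the four abstract `SylO` statements
  (as hypotheses at the concrete types).
-/

set_option autoImplicit false

namespace Cfsg.Agent.Helper13.SylO

open Cfsg Cfsg.Agent.Helper13.BNAbs Cfsg.Agent.Helper13.SdP
  Cfsg.Agent.Helper2.WordLen Cfsg.Agent.Helper2.BN Cfsg.Agent.Helper17.BNCox

section loc

variable {G : Type*} [Group G] {B N : Subgroup G} {S : Set G}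

/-- the `Data` of the (B, N)-pair of local (B, N) data -/
noncomputable def sylo_dataLoc (h : BNLoc B N S) [Finite ↥(B ⊔ N)] (p : ℕ) (X Y : G → Set G)
    (hR : ∀ s ∈ S, RankOne B N s (X s) (Y s)) (hYH : ∀ s ∈ S, ∀ y ∈ Y s, y ∈ B ⊔ N)
    (hne : ∀ s ∈ S, ∃ x ∈ X s, x ≠ 1) (n₀ : G) (hn₀ : n₀ ∈ N)
    (hY : ∀ s ∈ S, ∀ y ∈ Y s, n₀⁻¹ * y * n₀ ∈ B) (T : Subgroup G) (hTB : T ≤ B)
    (hT : ∀ x ∈ B, x ∈ T ↔ n₀⁻¹ * x * n₀ ∈ B)
    (U : Subgroup G) (hUB : U ≤ B) (hUn : ∀ b ∈ B, ∀ u ∈ U, b * u * b⁻¹ ∈ U)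
    (hUp : IsPGroup p U) (hcard : Nat.card B = Nat.card T * Nat.card U)
    (hTp : ¬ p ∣ Nat.card T) (hSne : S.Nonempty)
    (hs : ∀ s ∈ S, ∃ u ∈ U, s * u * s⁻¹ ∉ B) : Data h.pair p where
  U := U.subgroupOf (B ⊔ N)
  T := T.subgroupOf (B ⊔ N)
  n₀ := ⟨⟨n₀, (le_sup_right : N ≤ B ⊔ N) hn₀⟩, hn₀⟩
  hUB := fun u hu => hUB hu
  hTB := fun t ht => hTB ht
  hUn := fun b hb u hu => hUn b hb u hu
  hUp := hUp.comap_subtype
  hcard := by
    have h1 : Nat.card h.pair.B = Nat.card B :=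
      Nat.card_congr (Subgroup.subgroupOfEquivOfLe (le_sup_left : B ≤ B ⊔ N)).toEquiv
    have h2 : Nat.card (T.subgroupOf (B ⊔ N)) = Nat.card T :=
      Nat.card_congr (Subgroup.subgroupOfEquivOfLe (le_trans hTB le_sup_left)).toEquiv
    have h3 : Nat.card (U.subgroupOf (B ⊔ N)) = Nat.card U :=
      Nat.card_congr (Subgroup.subgroupOfEquivOfLe (le_trans hUB le_sup_left)).toEquiv
    rw [h1, h2, h3, hcard]
  hTp := by
    have h2 : Nat.card (T.subgroupOf (B ⊔ N)) = Nat.card T :=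
      Nat.card_congr (Subgroup.subgroupOfEquivOfLe (le_trans hTB le_sup_left)).toEquiv
    rw [h2]
    exact hTp
  hS := by
    obtain ⟨s, hs⟩ := hSne
    exact ⟨⟨s, (le_sup_right : N ≤ B ⊔ N) (h.subset hs)⟩, hs⟩
  hs := by
    intro s hsS
    obtain ⟨u, hu, hnot⟩ := hs (s : G) hsS
    refine ⟨⟨u, (le_sup_left : B ≤ B ⊔ N) (hUB hu)⟩, hu, ?_⟩
    intro hcon
    apply hnot
    have h1 : ((s * ⟨u, (le_sup_left : B ≤ B ⊔ N) (hUB hu)⟩ * s⁻¹ : ↥(B ⊔ N)) : G) ∈ B := hcon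
    simpa using h1
  hT := by
    intro x hx
    exact hT _ hx
  hn₀ := by
    apply allDesc_of_rankOne h.pair ⟨⟨n₀, (le_sup_right : N ≤ B ⊔ N) hn₀⟩, hn₀⟩
      (fun s => Subtype.val ⁻¹' X ((s : ↥(B ⊔ N)) : G))
      (fun s => Subtype.val ⁻¹' Y ((s : ↥(B ⊔ N)) : G))
    · intro s
      exact rankOne_sub (hR _ s.2) le_sup_left (s : ↥(B ⊔ N)).2 (hYH _ s.2)
    · intro s
      obtain ⟨x, hx, hx1⟩ := hne _ s.2
      refine ⟨⟨x, (le_sup_left : B ≤ B ⊔ N) ((hR _ s.2).X_sub x hx)⟩, hx, ?_⟩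
      intro e
      exact hx1 (congrArg Subtype.val e)
    · intro s y hy
      exact hY _ s.2 _ hy

end loc

section chain

variable {H O : Type*} [Group H] [Group O]

/-- the restriction of `j` to the preimage of `Ω` -/
def sylo_restrict (j : H →* O) (Ω : Subgroup O) : ↥(Ω.comap j) →* ↥Ω :=
  (j.comp (Ω.comap j).subtype).codRestrict Ω (fun x => x.2)

theorem sylo_restrict_coe (j : H →* O) (Ω : Subgroup O) (x : ↥(Ω.comap j)) :
    ((sylo_restrict j Ω x : ↥Ω) : O) = j (x : H) := rfl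

theorem sylo_restrict_injective (j : H →* O) (hj : Function.Injective j) (Ω : Subgroup O) :
    Function.Injective (sylo_restrict j Ω) := by
  intro x y hxy
  apply Subtype.ext
  apply hj
  rw [← sylo_restrict_coe, ← sylo_restrict_coe, hxy]

theorem sylo_restrict_surjective (j : H →* O) (Ω : Subgroup O) (hΩ : Ω ≤ j.range) :
    Function.Surjective (sylo_restrict j Ω) := by
  intro ω
  obtain ⟨x, hx⟩ := hΩ ω.2
  refine ⟨⟨x, ?_⟩, ?_⟩
  · show j x ∈ Ω
    rw [hx]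
    exact ω.2
  · apply Subtype.ext
    rw [sylo_restrict_coe]
    exact hx

theorem sylo_restrict_ker (j : H →* O) (hj : Function.Injective j) (Ω : Subgroup O) :
    (sylo_restrict j Ω).ker ≤ Subgroup.center ↥(Ω.comap j) := by
  rw [(MonoidHom.ker_eq_bot_iff _).2 (sylo_restrict_injective j hj Ω)]
  exact bot_le

/-- the transport chain: from `SylOpp p H` to `NoPAut p (Ω ⧸ center Ω)`; the four abstract
statements of the `SylO` farm are taken as hypotheses at the concrete types -/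
theorem sylo_chain [Finite H] (p : ℕ) [Fact p.Prime] (j : H →* O) (hj : Function.Injective j)
    (Ω : Subgroup O) (hΩ : Ω ≤ j.range)
    (hH : SylOpp p H)
    (h_sub : SylOpp p H → SylOpp p ↥(Ω.comap j))
    (h_quot1 : ∀ f : ↥(Ω.comap j) →* ↥Ω, Function.Surjective f →
      f.ker ≤ Subgroup.center ↥(Ω.comap j) → SylOpp p ↥(Ω.comap j) → SylOpp p ↥Ω)
    (h_quot2 : ∀ f : ↥Ω →* ↥Ω ⧸ Subgroup.center ↥Ω, Function.Surjective f →
      f.ker ≤ Subgroup.center ↥Ω → SylOpp p ↥Ω → SylOpp p (↥Ω ⧸ Subgroup.center ↥Ω))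
    (h_T : SylOpp p (↥Ω ⧸ Subgroup.center ↥Ω) →
      Cfsg.Agent.Helper28.PA.NoPAut p (↥Ω ⧸ Subgroup.center ↥Ω)) :
    Cfsg.Agent.Helper28.PA.NoPAut p (↥Ω ⧸ Subgroup.center ↥Ω) := by
  apply h_T
  apply h_quot2 (QuotientGroup.mk' (Subgroup.center ↥Ω)) (QuotientGroup.mk'_surjective _)
    (by rw [QuotientGroup.ker_mk'])
  apply h_quot1 (sylo_restrict j Ω) (sylo_restrict_surjective j Ω hΩ) (sylo_restrict_ker j hj Ω)
  exact h_sub hH

theorem sylo_finite_of_le_range [Finite H] (j : H →* O) (Ω : Subgroup O) (hΩ : Ω ≤ j.range) :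
    Finite ↥Ω :=
  Finite.of_surjective _ (sylo_restrict_surjective j Ω hΩ)

end chain

end Cfsg.Agent.Helper13.SylO
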