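import Mathlib
import Cfsg.Prelude.Def_JComponents

/-!
# S0518 (KS 12.3 main theorem): definitions for the endgame on top of S2947 + S2954   (helper4)

Definitions only. See `plans/S0518_proof.md` and `plans/S0518_Skel.lean.txt`.
-/

set_option autoImplicit false
open Cfsg

namespace Cfsg.Agent.Helper4.ZN

variable {G : Type*} [Group G]

/-- the subgroup generated by the odd-order elements of `P` (`= O^2(P)` for finite `P`) -/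
def oddCl (P : Subgroup G) : Subgroup G :=
  Subgroup.closure {g : G | g ∈ P ∧ Odd (orderOf g)}

/-- what we need of a subgroup `P ≅ S₄` with its normal four-group `V` -/
structure PA (P V : Subgroup G) : Prop where
  card_P : Nat.card ↥P = 24
  card_K : Nat.card ↥(oddCl P) = 12
  V_le_K : V ≤ oddCl P
  card_V : Nat.card ↥V = 4
  V_norm : ∀ p ∈ P, ∀ x ∈ V, p * x * p⁻¹ ∈ V

/-- what we need of a subgroup `P ≅ S₄ × C₂`: `t` the central involution, `E = O₂(P)` of order 8,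
`V = E ∩ O²(P)` the four-group -/
structure PB (P : Subgroup G) (t : G) (E V : Subgroup G) : Prop where
  card_P : Nat.card ↥P = 48
  t_mem : t ∈ P
  t_ne : t ≠ 1
  t_sq : t * t = 1
  t_comm : ∀ x ∈ P, x * t = t * x
  center : ∀ x ∈ P, (∀ y ∈ P, x * y = y * x) → x = 1 ∨ x = t
  E_le : E ≤ P
  card_E : Nat.card ↥E = 8
  E_sq : ∀ x ∈ E, x * x = 1
  E_norm : ∀ p ∈ P, ∀ x ∈ E, p * x * p⁻¹ ∈ E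
  E_cent : ∀ x ∈ P, (∀ e ∈ E, x * e = e * x) → x ∈ E
  t_E : t ∈ E
  card_V : Nat.card ↥V = 4
  V_eq : V = E ⊓ oddCl P
  t_V : t ∉ V
  V_norm : ∀ p ∈ P, ∀ x ∈ V, p * x * p⁻¹ ∈ V
  V_trans : ∀ v ∈ V, ∀ w ∈ V, v ≠ 1 → w ≠ 1 → ∃ k ∈ oddCl P, k * v * k⁻¹ = w
  card_K : Nat.card ↥(oddCl P) = 12
  K_inv : ∀ x ∈ oddCl P, x * x = 1 → x ∈ V
  inv_comm : ∀ y ∈ P, y * y = 1 → ∃ w ∈ V, w ≠ 1 ∧ w * y = y * w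
  sigma_iso : ∀ S : Subgroup G, S ≤ P → t ∉ S → S.relIndex P = 2 → Nonempty (↥S ≃* Equiv.Perm (Fin 4))
  sigma_core : ∀ S Q : Subgroup G, S ≤ P → t ∉ S → S.relIndex P = 2 → Q ≤ S → IsPGroup 2 ↥Q →
    (∀ s ∈ S, ∀ q ∈ Q, s * q * s⁻¹ ∈ Q) → Q ≤ V

/-- the context of Case B: two distinct maximal 2-locals `P₁, P₂ ≅ S₄ × C₂` with common Sylow 2-subgroup `T` -/
structure Ctx (P₁ P₂ T : Subgroup G) (t₁ t₂ : G) (E₁ E₂ V₁ V₂ : Subgroup G) : Prop where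
  b₁ : PB P₁ t₁ E₁ V₁
  b₂ : PB P₂ t₂ E₂ V₂
  syl₁ : IsSylowTwoIn T P₁
  syl₂ : IsSylowTwoIn T P₂
  nE₁ : Subgroup.normalizer (E₁ : Set G) = P₁
  nE₂ : Subgroup.normalizer (E₂ : Set G) = P₂
  nV₁ : Subgroup.normalizer (V₁ : Set G) = P₁
  nV₂ : Subgroup.normalizer (V₂ : Set G) = P₂
  cT₁ : Subgroup.centralizer ({t₁} : Set G) = P₁
  cT₂ : Subgroup.centralizer ({t₂} : Set G) = P₂
  inter : P₁ ⊓ P₂ = T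
  ne : P₁ ≠ P₂
  max₁ : IsMaximalTwoLocal P₁
  max₂ : IsMaximalTwoLocal P₂

/-- the structure of `T` through its two elementary abelian subgroups of order 8 -/
structure TE (T : Subgroup G) (E₁ E₂ : Subgroup G) : Prop where
  card_T : Nat.card ↥T = 16
  E₁_le : E₁ ≤ T
  E₂_le : E₂ ≤ T
  E_ne : E₁ ≠ E₂
  sup_eq : E₁ ⊔ E₂ = T
  card_inf : Nat.card ↥(E₁ ⊓ E₂) = 4
  inf_central : ∀ x ∈ E₁ ⊓ E₂, ∀ y ∈ T, x * y = y * x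
  center_le : ∀ x ∈ T, (∀ y ∈ T, x * y = y * x) → x ∈ E₁ ⊓ E₂
  not_comm : ∀ a ∈ E₁, ∀ b ∈ E₂, a ∉ E₂ → b ∉ E₁ → a * b ≠ b * a
  inv_cover : ∀ x ∈ T, x * x = 1 → x ∈ E₁ ∨ x ∈ E₂
  e8 : ∀ A : Subgroup G, A ≤ T → Nat.card ↥A = 8 → (∀ a ∈ A, a * a = 1) → A = E₁ ∨ A = E₂

/-- the four-groups `V₁, V₂`, the involution `z` and `D = V₁ ⊔ V₂` -/
structure TV (T : Subgroup G) (t₁ t₂ z : G) (E₁ E₂ V₁ V₂ : Subgroup G) : Prop where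
  t_ne : t₁ ≠ t₂
  z_ne : z ≠ 1
  z_V₁ : z ∈ V₁
  z_V₂ : z ∈ V₂
  z_central : ∀ y ∈ T, z * y = y * z
  V_inf : ∀ x ∈ V₁ ⊓ V₂, x = 1 ∨ x = z
  Z_eq : ∀ x ∈ E₁ ⊓ E₂, x = 1 ∨ x = z ∨ x = t₁ ∨ x = t₂
  tt : t₁ * t₂ = z
  D_le : V₁ ⊔ V₂ ≤ T
  card_D : Nat.card ↥(V₁ ⊔ V₂) = 8
  D_E₁ : (V₁ ⊔ V₂) ⊓ E₁ = V₁
  D_E₂ : (V₁ ⊔ V₂) ⊓ E₂ = V₂
  t₁_D : t₁ ∉ V₁ ⊔ V₂
  t₂_D : t₂ ∉ V₁ ⊔ V₂
  D_inv : ∀ x ∈ V₁ ⊔ V₂, x * x = 1 → x ∈ V₁ ∨ x ∈ V₂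
  T_cover : ∀ x ∈ T, x ∈ V₁ ⊔ V₂ ∨ t₁ * x ∈ V₁ ⊔ V₂
  D_center : ∀ x ∈ V₁ ⊔ V₂, (∀ y ∈ V₁ ⊔ V₂, x * y = y * x) → x = 1 ∨ x = z

/-- `g` interchanges the two halves of the configuration -/
structure Swap (g : G) (P₁ P₂ : Subgroup G) (t₁ t₂ : G) (E₁ E₂ V₁ V₂ : Subgroup G) : Prop where
  E₁₂ : ∀ x, x ∈ E₁ ↔ g * x * g⁻¹ ∈ E₂
  E₂₁ : ∀ x, x ∈ E₂ ↔ g * x * g⁻¹ ∈ E₁
  P₁₂ : ∀ x, x ∈ P₁ ↔ g * x * g⁻¹ ∈ P₂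
  P₂₁ : ∀ x, x ∈ P₂ ↔ g * x * g⁻¹ ∈ P₁
  V₁₂ : ∀ x, x ∈ V₁ ↔ g * x * g⁻¹ ∈ V₂
  V₂₁ : ∀ x, x ∈ V₂ ↔ g * x * g⁻¹ ∈ V₁
  t₁₂ : g * t₁ * g⁻¹ = t₂
  t₂₁ : g * t₂ * g⁻¹ = t₁
  D : ∀ x, x ∈ V₁ ⊔ V₂ ↔ g * x * g⁻¹ ∈ V₁ ⊔ V₂

/-- the situation `|S : T| = 2` -/
structure SB2 (S : Sylow 2 G) (P₁ P₂ T : Subgroup G) (t₁ t₂ z : G) (E₁ E₂ V₁ V₂ : Subgroup G) : Prop where
  card_S : Nat.card ↥(S : Subgroup G) = 32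
  swap : ∀ a ∈ (S : Subgroup G), a ∉ T → Swap a P₁ P₂ t₁ t₂ E₁ E₂ V₁ V₂
  inv_fix : ∀ a ∈ (S : Subgroup G), a ∉ T → ∀ x ∈ T, x * x = 1 → x * a = a * x → x = 1 ∨ x = z
  e8 : ∀ A : Subgroup G, A ≤ (S : Subgroup G) → Nat.card ↥A = 8 → (∀ a ∈ A, a * a = 1) → A ≤ T
  cent_z : Subgroup.centralizer ({z} : Set G) ≤ (S : Subgroup G)

end Cfsg.Agent.Helper4.ZN
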