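import Mathlib
import Cfsg.Agent.Lib.Helper4.BGSigD
import Cfsg.Agent.S1415

/-!
# The sigma-partition theorem: `τ₁`-subgroups of prime order act freely on `S` (helper4)
-/

set_option autoImplicit false
set_option linter.unusedVariables false
set_option linter.style.haveILetI false

namespace Cfsg.Agent.Helper4.BGSig

open Cfsg Subgroup
open scoped commutatorElement
open Cfsg.Agent.Helper15 (IsSylowIn)
open Cfsg.Agent.Helper4.BG144

universe u

variable {G : Type u} [Group G] [Finite G]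

/-- a Sylow subgroup of a Hall subgroup is a Sylow subgroup -/
theorem isSylowIn_of_hall {π : Set ℕ} {H E U : Subgroup G} {u : ℕ} [Fact u.Prime]
    (hH : IsPiHallOf π H E) (hu : u ∈ π) (hU : IsSylowIn u U H) : IsSylowIn u U E := by
  have hup : u.Prime := Fact.out
  apply Cfsg.Agent.Helper15.isSylowIn_of_not_dvd_relIndex hU.isPGroup (hU.le.trans hH.1)
  rw [← relIndex_mul_relIndex U H E hU.le hH.1]
  intro hd
  rcases (Nat.Prime.dvd_mul hup).mp hd with hd | hd
  · exact hU.not_dvd_relIndex hd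
  · exact hH.2.2 u hup hu hd

theorem dvd_card_of_isSylowIn {E U : Subgroup G} {u : ℕ} [Fact u.Prime]
    (hU : IsSylowIn u U E) (hd : u ∣ Nat.card E) : u ∣ Nat.card U := by
  have hup : u.Prime := Fact.out
  rw [hU.card_eq]
  exact dvd_pow_self u (hup.factorization_pos_of_dvd Nat.card_pos.ne' hd).ne'

namespace Ctx

variable {M L S : Subgroup G} {q : ℕ} [Fact q.Prime]

/-- `q` does not divide `|(M_σ)'|` -/
theorem not_dvd_card_commutator (c : Ctx M L S q) (h : Hyps G) :
    ¬ q ∣ Nat.card ↥(⁅sigmaCore M, sigmaCore M⁆ : Subgroup G) := by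
  intro hd
  obtain ⟨x, hx⟩ := exists_prime_orderOf_dvd_card' q hd
  have hXc : Nat.card (zpowers (x : G)) = q := by
    rw [Nat.card_zpowers, Subgroup.orderOf_coe, hx]
  have hXle : zpowers (x : G) ≤ ⁅sigmaCore M, sigmaCore M⁆ := by
    rw [zpowers_le]; exact x.2
  have hcomm : ⁅sigmaCore M, sigmaCore M⁆ ≤ sigmaCore M :=
    Subgroup.commutator_le.mpr (fun a ha b hb =>
      (sigmaCore M).mul_mem ((sigmaCore M).mul_mem ((sigmaCore M).mul_mem ha hb)
        ((sigmaCore M).inv_mem ha)) ((sigmaCore M).inv_mem hb))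
  have hXM : zpowers (x : G) ≤ M := hXle.trans (hcomm.trans (sigmaCore_le M))
  have h1 := (h.h1423 M c.hM q c.mem_sigma (zpowers (x : G)) hXM hXc
    (c.sylow_sigmaCore h).toSylow (Or.inr hXle)).2.1
  rw [(c.sylow_sigmaCore h).map_toSylow] at h1
  exact c.not_uniq h1

/-- `C_S(E) = 1` for a complement `E` of `M_σ` -/
theorem S_inf_centralizer_compl (c : Ctx M L S q) (h : Hyps G) {E : Subgroup G}
    (hE : IsComplIn E (sigmaCore M) M) : S ⊓ centralizer (E : Set G) = ⊥ := by
  have h1 := (h.h1426 M c.hM E hE).1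
  have h2 : S ⊓ centralizer (E : Set G) ≤ ⁅sigmaCore M, sigmaCore M⁆ :=
    (inf_le_inf_right _ (c.S_le_sigmaCore h)).trans h1
  have hp : IsPGroup q ↥(S ⊓ centralizer (E : Set G)) := c.hS.isPGroup.to_le inf_le_left
  obtain ⟨k, hk⟩ := hp.exists_card_eq
  rcases Nat.eq_zero_or_pos k with hk0 | hk0
  · rw [hk0, pow_zero] at hk
    exact Subgroup.card_eq_one.mp hk
  · exfalso
    apply c.not_dvd_card_commutator h
    refine Dvd.dvd.trans ?_ (Subgroup.card_dvd_of_le h2)
    rw [hk]; exact dvd_pow_self q hk0.ne'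

theorem compl_coprime (c : Ctx M L S q) (h : Hyps G) {E : Subgroup G}
    (hE : IsComplIn E (sigmaCore M) M) : (Nat.card E).Coprime q := by
  have hcop := complIn_coprime_of_hall hE (h.h1350 M c.hM).1
  exact Nat.Coprime.coprime_dvd_right
    (c.q_dvd.trans (Subgroup.card_dvd_of_le (c.S_le_sigmaCore h))) hcop

/-- `E'` centralises `S` -/
theorem commutator_compl_le (c : Ctx M L S q) (h : Hyps G) {E : Subgroup G}
    (hE : IsComplIn E (sigmaCore M) M) (hEN : E ≤ normalizer (S : Set G)) :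
    ⁅E, E⁆ ≤ centralizer (S : Set G) :=
  commutator_le_centralizer_of_rank_two (c.q_odd h) c.hS.isPGroup (c.rank_S h) hEN
    (c.solvable_of_le h hE.1) (Odd.of_dvd_nat h.hG.1 (Subgroup.card_subgroup_dvd_card E))
    (c.compl_coprime h hE)

/-- the primes dividing `|E|` are outside `σ(M)` and of rank one -/
theorem compl_prime (c : Ctx M L S q) (h : Hyps G) {E : Subgroup G}
    (hE : IsComplIn E (sigmaCore M) M) {u : ℕ} (hu : u.Prime) (hd : u ∣ Nat.card E) :
    u ∉ sigma M ∧ u ∣ Nat.card M ∧ PRankLE u 1 M := by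
  have huσ : u ∉ sigma M := by
    intro huσ
    have := (h.h1350 M c.hM).1.2.2 u hu huσ
    rw [complIn_relIndex_eq' hE] at this
    exact this hd
  refine ⟨huσ, hd.trans (Subgroup.card_dvd_of_le hE.1), ?_⟩
  by_contra hr1
  have hr2 : PRankLE u 2 M := by
    by_contra hr2
    exact huσ (Cfsg.Agent.Helper23.BG10.alpha_subset_sigma h.hG (Ctx.uniq h.hG) c.hM ⟨hu, hr2⟩)
  exact c.tau2_empty h u ⟨hu, huσ, hr2, hr1⟩

/-- for every prime `u`, some Sylow `u`-subgroup of `E` centralises `C_S(P)` -/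
theorem exists_sylow_centralizing (c : Ctx M L S q) (h : Hyps G) {E : Subgroup G}
    (hE : IsComplIn E (sigmaCore M) M) (hEN : E ≤ normalizer (S : Set G)) {p : ℕ}
    (hp : p ∈ tau1 M) {P : Subgroup G} (hPE : P ≤ E) (hPc : Nat.card P = p) {u : ℕ}
    (hu : u.Prime) (hd : u ∣ Nat.card E) :
    ∃ U : Subgroup G, IsSylowIn u U E ∧
      U ≤ centralizer ((S ⊓ centralizer (P : Set G) : Subgroup G) : Set G) := by
  haveI : Fact u.Prime := ⟨hu⟩
  obtain ⟨huσ, hudM, hur1⟩ := c.compl_prime h hE hu hd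
  have hEsolv : Group.IsSolvable E := c.solvable_of_le h hE.1
  have h1415 := Cfsg.Agent.S1415.result h.hG M c.hM E hE
  by_cases hdM' : u ∣ Nat.card ↥(⁅M, M⁆ : Subgroup G)
  · -- `u ∈ τ₃(M)`
    have hu3 : u ∈ tau3 M := ⟨hu, huσ, hdM', hur1⟩
    obtain ⟨E3, -, hE3⟩ := exists_isPiHallOf_ge hEsolv (tau3 M) (bot_le : (⊥ : Subgroup G) ≤ E)
      (by
        intro r hr hrd
        rw [Subgroup.card_bot] at hrd
        exact absurd (Nat.dvd_one.mp hrd) hr.one_lt.ne')
    obtain ⟨-, hE3c, -⟩ := h1415.2.2 E3 hE3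
    obtain ⟨U, hU⟩ := Cfsg.Agent.Helper15.exists_isSylowIn (p := u) E3
    refine ⟨U, isSylowIn_of_hall hE3 hu3 hU, ?_⟩
    exact ((hU.le.trans hE3c).trans (c.commutator_compl_le h hE hEN)).trans
      (Subgroup.centralizer_le (by
        intro x hx
        exact (Subgroup.mem_inf.mp hx).1))
  · -- `u ∈ τ₁(M)`
    have hu1 : u ∈ tau1 M := ⟨hu, huσ, hudM, hdM', hur1⟩
    obtain ⟨E1, hPE1, hE1⟩ := exists_isPiHallOf_ge hEsolv (tau1 M) hPE
      (by
        intro r hr hrd
        rw [hPc] at hrd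
        rw [(Nat.prime_dvd_prime_iff_eq hr hp.1).mp hrd]
        exact hp)
    have hcyc : IsCyclic E1 := h1415.2.1 E1 hE1
    obtain ⟨U, hU⟩ := Cfsg.Agent.Helper15.exists_isSylowIn (p := u) E1
    have hUE : IsSylowIn u U E := isSylowIn_of_hall hE1 hu1 hU
    refine ⟨U, hUE, ?_⟩
    obtain ⟨x, hx⟩ := exists_prime_orderOf_dvd_card' u (dvd_card_of_isSylowIn hUE hd)
    have hx1 : (x : G) ≠ 1 := by
      intro hx1
      have : orderOf (x : G) = u := by rw [Subgroup.orderOf_coe, hx]
      rw [hx1, orderOf_one] at this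
      exact hu.one_lt.ne this
    have hRc : Nat.card (zpowers (x : G)) = u := by
      rw [Nat.card_zpowers, Subgroup.orderOf_coe, hx]
    have hxE1 : (x : G) ∈ E1 := hU.le x.2
    have hcomm : ∀ a ∈ E1, ∀ b ∈ E1, a * b = b * a := by
      intro a ha b hb
      haveI := hcyc
      exact Cfsg.Agent.Helper7.MaxComp.comm_of_isMulCommutative
        (IsCyclic.commutative (α := E1)) a ha b hb
    have hRE : zpowers (x : G) ≤ E ⊓ centralizer (P : Set G) := by
      rw [zpowers_le]
      refine ⟨hE1.1 hxE1, ?_⟩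
      refine Subgroup.mem_centralizer_iff.mpr ?_
      intro y hy
      exact hcomm y (hPE1 hy) x hxE1
    have h1428 := h.h1428 M c.hM E hE p hp P hPE hPc (zpowers (x : G)) hRE (by rw [hRc]; exact hu)
    have hS0 : S ⊓ centralizer (P : Set G) ≤ sigmaCore M ⊓ centralizer ({(x : G)} : Set G) := by
      refine ((inf_le_inf_right _ (c.S_le_sigmaCore h)).trans h1428).trans ?_
      exact inf_le_inf_left _ (Subgroup.centralizer_le (by
        intro y hy
        rw [Set.mem_singleton_iff] at hy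
        rw [hy]
        exact Subgroup.mem_zpowers (x : G)))
    have hne : ((hUE.toSylow : Sylow u ↥E) : Subgroup ↥E) ≠ ⊥ := by
      intro hbot
      have h2 := hUE.map_toSylow
      rw [hbot, Subgroup.map_bot] at h2
      have hall : ∀ z : G, z ∈ U → z = 1 := by
        intro z hz
        rw [← h2] at hz
        exact Subgroup.mem_bot.mp hz
      exact hx1 (hall _ x.2)
    have hUcyc : IsCyclic ((hUE.toSylow : Sylow u ↥E) : Subgroup ↥E) := by
      rw [hUE.coe_toSylow]
      haveI := hcyc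
      have h3 : IsCyclic (U.subgroupOf E1) := inferInstance
      have h4 : IsCyclic U :=
        isCyclic_of_surjective (Subgroup.subgroupOfEquivOfLe hU.le).toMonoidHom
          (Subgroup.subgroupOfEquivOfLe hU.le).surjective
      exact isCyclic_of_surjective (Subgroup.subgroupOfEquivOfLe hUE.le).symm.toMonoidHom
        (Subgroup.subgroupOfEquivOfLe hUE.le).symm.surjective
    have h1427 := h.h1427 M c.hM E hE u hUE.toSylow hne hUcyc (x : G)
      (by rw [hUE.map_toSylow]; exact x.2) hx1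
    rw [hUE.map_toSylow] at h1427
    rw [h1427] at hS0
    exact Subgroup.le_centralizer_iff.mp (hS0.trans inf_le_right)

/-- a subgroup of prime order `p ∈ τ₁(M)` of the complement `E ≤ N_G(S)` acts fixed-point-freely
on `S` -/
theorem fpf (c : Ctx M L S q) (h : Hyps G) {E : Subgroup G}
    (hE : IsComplIn E (sigmaCore M) M) (hEN : E ≤ normalizer (S : Set G)) {p : ℕ}
    (hp : p ∈ tau1 M) {P : Subgroup G} (hPE : P ≤ E) (hPc : Nat.card P = p) :
    S ⊓ centralizer (P : Set G) = ⊥ := by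
  have h1 : E ⊓ centralizer ((S ⊓ centralizer (P : Set G) : Subgroup G) : Set G) = E := by
    apply eq_of_forall_sylow_le inf_le_left
    intro u hu hd
    obtain ⟨U, hU, hUc⟩ := c.exists_sylow_centralizing h hE hEN hp hPE hPc hu hd
    exact ⟨U, hU, le_inf hU.le hUc⟩
  have h2 : E ≤ centralizer ((S ⊓ centralizer (P : Set G) : Subgroup G) : Set G) := by
    rw [← h1]; exact inf_le_right
  have h3 : S ⊓ centralizer (P : Set G) ≤ S ⊓ centralizer (E : Set G) :=
    le_inf inf_le_left (Subgroup.le_centralizer_iff.mp h2)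
  rw [c.S_inf_centralizer_compl h hE] at h3
  exact le_bot_iff.mp h3

end Ctx

end Cfsg.Agent.Helper4.BGSig
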