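import Mathlib
import Cfsg.Agent.Lib.Helper4.BGSigE
import Cfsg.Agent.S1404
import Cfsg.Agent.S1406
import Cfsg.Agent.S1409
import Cfsg.Agent.Lib.Helper8.SecRep5

/-!
# The sigma-partition theorem: `τ₁`-primes, and the Frobenius--Wielandt formula (helper4)
-/

set_option autoImplicit false
set_option linter.unusedVariables false
set_option linter.style.haveILetI false

namespace Cfsg.Agent.Helper4.BGSig

open Cfsg Subgroup
open scoped commutatorElement
open Cfsg.Agent.Helper15 (IsSylowIn)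
open Cfsg.Agent.Helper4.BG144

universe u

variable {G : Type u} [Group G] [Finite G]

namespace Ctx

variable {M L S : Subgroup G} {q : ℕ} [Fact q.Prime]

/-- some prime of `τ₁(M)` divides the order of a complement of `M_σ` -/
theorem exists_tau1 (c : Ctx M L S q) (h : Hyps G) {E : Subgroup G}
    (hE : IsComplIn E (sigmaCore M) M) : ∃ p ∈ tau1 M, p ∣ Nat.card E := by
  by_contra hno
  push Not at hno
  have hEsolv : Group.IsSolvable E := c.solvable_of_le h hE.1
  -- `E ≠ ⊥`
  have hE1 : E ≠ ⊥ := by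
    intro hbot
    have h2 := (h.h1426 M c.hM E hE).2.1
    rw [hbot] at h2
    have h3 : (⁅sigmaCore M, (⊥ : Subgroup G)⁆ : Subgroup G) = ⊥ := by
      rw [eq_bot_iff, Subgroup.commutator_le]
      intro a ha b hb
      rw [Subgroup.mem_bot] at hb
      rw [hb, Subgroup.mem_bot]
      simp [commutatorElement_def]
    rw [h3] at h2
    apply c.hS1
    rw [eq_bot_iff, h2]
    exact c.S_le_sigmaCore h
  -- `E` is a `τ₃`-group
  have hall3 : IsPiHallOf (tau3 M) E E := by
    refine ⟨le_rfl, ?_, ?_⟩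
    · intro u hu hd
      obtain ⟨huσ, hudM, hur1⟩ := c.compl_prime h hE hu hd
      by_cases hdM' : u ∣ Nat.card ↥(⁅M, M⁆ : Subgroup G)
      · exact ⟨hu, huσ, hdM', hur1⟩
      · exact absurd hd (hno u ⟨hu, huσ, hudM, hdM', hur1⟩)
    · intro u hu _ hd
      rw [Subgroup.relIndex_self] at hd
      exact hu.one_lt.ne' (Nat.dvd_one.mp hd)
  obtain ⟨-, hle, -⟩ := (Cfsg.Agent.S1415.result h.hG M c.hM E hE).2.2 E hall3
  have h1 : (_root_.commutator ↥E).map E.subtype = ⁅E, E⁆ := Subgroup.map_subtype_commutator E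
  have h2 : _root_.commutator ↥E = ⊤ := by
    rw [eq_top_iff]
    intro x _
    have hx : (x : G) ∈ (_root_.commutator ↥E).map E.subtype := by
      rw [h1]; exact hle x.2
    obtain ⟨y, hy, hyx⟩ := hx
    have : y = x := Subtype.ext hyx
    rwa [this] at hy
  haveI := hEsolv
  haveI : Nontrivial ↥E := (Subgroup.nontrivial_iff_ne_bot E).mpr hE1
  exact (IsSolvable.commutator_lt_top_of_nontrivial ↥E).ne h2

theorem S_inf_betaCore (c : Ctx M L S q) (h : Hyps G) : S ⊓ betaCore M = ⊥ := by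
  have hq : q.Prime := Fact.out
  apply (Subgroup.disjoint_of_coprime_natCard _).eq_bot
  obtain ⟨k, hk⟩ := c.hS.isPGroup.exists_card_eq
  rw [hk]
  apply Nat.Coprime.pow_left
  rw [Nat.Prime.coprime_iff_not_dvd hq]
  exact fun hd => c.not_mem_beta h (mem_beta_of_dvd_card_betaCore hq hd)

/-- a prime `p ∈ τ₁(M)` acting freely on `S` from `N_G(S)` lies in `τ₁(L)` -/
theorem tau1_symm (c : Ctx M L S q) (h : Hyps G) {p : ℕ} (hp : p ∈ tau1 M) {P : Subgroup G}
    (hPN : P ≤ normalizer (S : Set G)) (hPc : Nat.card P = p)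
    (hfpf : S ⊓ centralizer (P : Set G) = ⊥) : p ∈ tau1 L := by
  have hpp : p.Prime := hp.1
  haveI : Fact p.Prime := ⟨hpp⟩
  have hPL : P ≤ L := hPN.trans c.hNL
  have hPprimes : ∀ r : ℕ, r.Prime → r ∣ Nat.card P → r = p := by
    intro r hr hrd
    rw [hPc] at hrd
    exact (Nat.prime_dvd_prime_iff_eq hr hpp).mp hrd
  -- `p ∉ β(L)`
  have hpβ : p ∉ beta L := by
    intro hpβ
    have hPβ : P ≤ betaCore L :=
      le_of_isPiHallOf_normal (betaCore_hall h c.hL) (le_normalizer_betaCore L) hPL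
        (fun r hr hrd => (hPprimes r hr hrd) ▸ hpβ)
    have hPC : S ≤ centralizer (P : Set G) := by
      intro s hs
      rw [Subgroup.mem_centralizer_iff]
      intro x hx
      have h1 : x * s * x⁻¹ ∈ S :=
        (Subgroup.mem_normalizer_iff.mp (hPN hx) s).mp hs
      have h2 : s * x⁻¹ * s⁻¹ ∈ betaCore L :=
        (Subgroup.mem_normalizer_iff.mp (le_normalizer_betaCore L (c.hSL hs)) x⁻¹).mp
          ((betaCore L).inv_mem (hPβ hx))
      have h3 : x * s * x⁻¹ * s⁻¹ ∈ S ⊓ betaCore L := by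
        refine ⟨S.mul_mem h1 (S.inv_mem hs), ?_⟩
        have : x * s * x⁻¹ * s⁻¹ = x * (s * x⁻¹ * s⁻¹) := by group
        rw [this]
        exact (betaCore L).mul_mem (hPβ hx) h2
      rw [c.symm.S_inf_betaCore h, Subgroup.mem_bot] at h3
      calc x * s = (x * s * x⁻¹ * s⁻¹) * (s * x) := by group
        _ = s * x := by rw [h3, one_mul]
    apply c.hS1
    rw [eq_bot_iff, ← hfpf]
    exact le_inf le_rfl hPC
  -- `p ∤ |L'|`
  have hpL' : ¬ p ∣ Nat.card ↥(⁅L, L⁆ : Subgroup G) := by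
    intro hd
    have h1 : (⁅L, L⁆ : Subgroup G) ≤
        betaCore L ⊔ ⁅normalizer (S : Set G), normalizer (S : Set G)⁆ :=
      commutator_le_sup_of_factor (betaCore_le L) (le_normalizer_betaCore L) c.hNL
        (c.symm.factor h)
    have hnorm : (⁅normalizer (S : Set G), normalizer (S : Set G)⁆ : Subgroup G) ≤
        normalizer (betaCore L : Set G) := by
      refine le_trans ?_ (le_normalizer_betaCore L)
      refine (Subgroup.commutator_mono c.hNL c.hNL).trans ?_
      exact Subgroup.commutator_le.mpr (fun a ha b hb =>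
        L.mul_mem (L.mul_mem (L.mul_mem ha hb) (L.inv_mem ha)) (L.inv_mem hb))
    have h2 := Cfsg.Agent.Helper7.card_sup_dvd_mul_of_le_normalizer hnorm
    have h3 : p ∣ Nat.card (betaCore L) *
        Nat.card ↥(⁅normalizer (S : Set G), normalizer (S : Set G)⁆ : Subgroup G) :=
      (hd.trans (Subgroup.card_dvd_of_le h1)).trans h2
    rcases (Nat.Prime.dvd_mul hpp).mp h3 with h4 | h4
    · exact hpβ (mem_beta_of_dvd_card_betaCore hpp h4)
    · exact hp.2.2.2.1 (h4.trans (Subgroup.card_dvd_of_le (Subgroup.commutator_mono c.hNM c.hNM)))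
  have hpL : p ∣ Nat.card L := by
    rw [← hPc]; exact Subgroup.card_dvd_of_le hPL
  -- `p ∉ σ(L)`
  have hpσ : p ∉ sigma L := by
    intro hpσ
    obtain ⟨T, hT⟩ := Cfsg.Agent.Helper15.exists_isSylowIn (p := p) L
    have hTtop := Cfsg.Agent.Helper22.BG13.isSylowIn_top_of_mem_sigma hpσ hT
    have hTL' : T ≤ ⁅L, L⁆ :=
      Cfsg.Agent.Helper23.BG10.sylow_le_commutator h.hG
        (fun M hM p _ hp X hXp hX1 hXM => Cfsg.Agent.S1404.result h.hG M hM p hp X hXp hX1 hXM)
        c.hL hpσ hT.le hTtop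
    exact hpL' ((dvd_card_of_isSylowIn hT hpL).trans (Subgroup.card_dvd_of_le hTL'))
  refine ⟨hpp, hpσ, hpL, hpL', ?_⟩
  by_contra hr1
  have hr2 : PRankLE p 2 L := by
    by_contra hr2
    exact hpσ (Cfsg.Agent.Helper23.BG10.alpha_subset_sigma h.hG (Ctx.uniq h.hG) c.hL ⟨hpp, hr2⟩)
  exact c.symm.tau2_empty h p ⟨hpp, hpσ, hr2, hr1⟩

omit [Fact q.Prime] in
/-- `N_G(P) ≰ M` for `P` of order `p ∈ τ₁(M)` -/
theorem normalizer_not_le (c : Ctx M L S q) (h : Hyps G) {p : ℕ} (hp : p ∈ tau1 M)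
    {P : Subgroup G} (hPc : Nat.card P = p) : ¬ normalizer (P : Set G) ≤ M := by
  intro hN
  haveI : Fact p.Prime := ⟨hp.1⟩
  exact (Cfsg.Agent.S1409.result h.hG M c.hM p hp.2.1 P hPc hN).1.2 hp.2.2.2.2

omit [Fact q.Prime] in
/-- `C_{M_α}(P)` has rank at most one -/
theorem rank_centralizer (c : Ctx M L S q) (h : Hyps G) {p : ℕ} (hp : p ∈ tau1 M)
    {P : Subgroup G} (hPM : P ≤ M) (hPc : Nat.card P = p) :
    RankLE 1 ↥(alphaCore M ⊓ centralizer (P : Set G)) := by
  by_contra hr
  have hpp : p.Prime := hp.1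
  have hP1 : P ≠ ⊥ := by
    intro hbot
    rw [hbot, Subgroup.card_bot] at hPc
    exact hpp.one_lt.ne hPc
  have hPtop : P ≠ ⊤ := fun hT => c.hM.1 (top_le_iff.mp (hT ▸ hPM))
  have hU := Cfsg.Agent.S1406.result h.hG M c.hM P hPM (by
    intro r hr hrd hrα
    rw [hPc] at hrd
    rw [(Nat.prime_dvd_prime_iff_eq hr hpp).mp hrd] at hrα
    exact hp.2.1 (Cfsg.Agent.Helper23.BG10.alpha_subset_sigma h.hG (Ctx.uniq h.hG) c.hM hrα)) hr
  obtain ⟨H, hH, hNH⟩ := exists_coatom_ge (normalizer_ne_top' h.hG hP1 hPtop)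
  obtain ⟨H', -, huniq⟩ := hU
  have h1 := huniq H ⟨hH, inf_le_right.trans ((centralizer_le_normalizer _).trans hNH)⟩
  have h2 := huniq M ⟨c.hM, inf_le_left⟩
  apply c.normalizer_not_le h hp hPc
  rw [h2, ← h1]
  exact hNH

end Ctx

omit [Finite G] in
theorem mem_centralizer_sup {H K : Subgroup G} {x : G} (h1 : x ∈ centralizer (H : Set G))
    (h2 : x ∈ centralizer (K : Set G)) : x ∈ centralizer ((H ⊔ K : Subgroup G) : Set G) := by
  have h3 : H ⊔ K ≤ centralizer ({x} : Set G) := by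
    refine sup_le ?_ ?_
    · intro y hy
      rw [Subgroup.mem_centralizer_singleton_iff]
      exact (Subgroup.mem_centralizer_iff.mp h1 y hy)
    · intro y hy
      rw [Subgroup.mem_centralizer_singleton_iff]
      exact (Subgroup.mem_centralizer_iff.mp h2 y hy)
  rw [Subgroup.mem_centralizer_iff]
  intro y hy
  exact (Subgroup.mem_centralizer_singleton_iff.mp (h3 hy))

namespace Ctx

variable {M L S : Subgroup G} {q : ℕ} [Fact q.Prime]

/-- Frobenius--Wielandt: `C_{M_β}(P) ≰ L` when `P` of prime order acts freely on `S` -/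
theorem centralizer_betaCore_not_le (c : Ctx M L S q) (h : Hyps G) {p : ℕ} (hpp : p.Prime)
    (hpβ : ¬ p ∣ Nat.card (betaCore M)) {P : Subgroup G}
    (hPN : P ≤ normalizer (S : Set G)) (hPc : Nat.card P = p)
    (hfpf : S ⊓ centralizer (P : Set G) = ⊥) :
    ¬ betaCore M ⊓ centralizer (P : Set G) ≤ L := by
  intro hle
  have hq : q.Prime := Fact.out
  haveI : Fact p.Prime := ⟨hpp⟩
  have hUn : ∀ e ∈ P, ∀ u ∈ S, e * u * e⁻¹ ∈ S := fun e he u hu =>
    (Subgroup.mem_normalizer_iff.mp (hPN he) u).mp hu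
  have hfp : ∀ e ∈ P, e ≠ 1 → ∀ u ∈ S, e * u = u * e → u = 1 := by
    intro e he he1 u hu heu
    have hgen : zpowers (⟨e, he⟩ : P) = ⊤ :=
      zpowers_eq_top_of_prime_card (by rw [hPc]) (by
        intro h1; exact he1 (congrArg Subtype.val h1))
    have huC : u ∈ centralizer (P : Set G) := by
      rw [Subgroup.mem_centralizer_iff]
      intro y hy
      have hy' : (⟨y, hy⟩ : P) ∈ zpowers (⟨e, he⟩ : P) := by rw [hgen]; trivial
      obtain ⟨k, hk⟩ := hy'
      have hk' : e ^ k = y := by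
        have := congrArg Subtype.val hk
        simpa using this
      rw [← hk']
      exact ((Commute.zpow_left (show Commute e u from heu) k)).eq
    have : u ∈ S ⊓ centralizer (P : Set G) := ⟨hu, huC⟩
    rw [hfpf] at this
    exact Subgroup.mem_bot.mp this
  have hnil : Group.IsNilpotent S := c.hS.isPGroup.isNilpotent
  have hsolv : Group.IsSolvable (betaCore M) := c.solvable_of_le h (betaCore_le M)
  have hnorm : S ⊔ P ≤ normalizer (betaCore M : Set G) :=
    sup_le (c.hSM.trans (le_normalizer_betaCore M)) ((hPN.trans c.hNM).trans (le_normalizer_betaCore M))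
  have hcop : (Nat.card (betaCore M)).Coprime (Nat.card ↥(S ⊔ P : Subgroup G)) := by
    have h1 : Nat.card ↥(S ⊔ P : Subgroup G) ∣ Nat.card S * Nat.card P :=
      Cfsg.Agent.Helper7.card_sup_dvd_mul_of_le_normalizer hPN
    refine Nat.Coprime.coprime_dvd_right h1 ?_
    apply Nat.Coprime.mul_right
    · obtain ⟨k, hk⟩ := c.hS.isPGroup.exists_card_eq
      rw [hk]
      apply Nat.Coprime.pow_right
      apply Nat.Coprime.symm
      rw [Nat.Prime.coprime_iff_not_dvd hq]
      exact fun hd => c.not_mem_beta h (mem_beta_of_dvd_card_betaCore hq hd)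
    · rw [hPc]
      apply Nat.Coprime.symm
      rw [Nat.Prime.coprime_iff_not_dvd hpp]
      exact hpβ
  have hfw := Cfsg.Agent.Helper8.SecRep.fw_group S P hUn hfp hnil _ (betaCore M) rfl hsolv hnorm hcop
  have heq : betaCore M ⊓ centralizer ((S ⊔ P : Subgroup G) : Set G) =
      betaCore M ⊓ centralizer (P : Set G) := by
    apply le_antisymm
    · exact inf_le_inf_left _ (Subgroup.centralizer_le (by
        intro x hx; exact (le_sup_right : P ≤ S ⊔ P) hx))
    · intro x hx
      refine ⟨hx.1, mem_centralizer_sup ?_ hx.2⟩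
      exact c.betaCore_inf_le_centralizer h ⟨hx.1, hle hx⟩
  rw [heq] at hfw
  have hpos : 0 < Nat.card ↥(betaCore M ⊓ centralizer (P : Set G)) ^ Nat.card ↥P :=
    pow_pos Nat.card_pos _
  have hcard : Nat.card (betaCore M) = Nat.card ↥(betaCore M ⊓ centralizer (S : Set G)) :=
    Nat.eq_of_mul_eq_mul_left hpos hfw
  have hβC : betaCore M ≤ centralizer (S : Set G) := by
    have := Subgroup.eq_of_le_of_card_ge (inf_le_left : betaCore M ⊓ centralizer (S : Set G) ≤ betaCore M)
      hcard.le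
    rw [← this]; exact inf_le_right
  exact c.betaCore_not_le h ((hβC.trans (centralizer_le_normalizer _)).trans c.hNL)

end Ctx

end Cfsg.Agent.Helper4.BGSig
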