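import Mathlib
import Cfsg.Agent.Lib.Helper4.BGSigF
import Cfsg.Agent.Lib.Helper1.SolvableBasic

/-!
# The sigma-partition theorem: the argument inside `C_G(P)` (helper4)
-/

set_option autoImplicit false
set_option linter.unusedVariables false
set_option linter.style.haveILetI false

namespace Cfsg.Agent.Helper4.BGSig

open Cfsg Subgroup
open scoped commutatorElement
open Cfsg.Agent.Helper15 (IsSylowIn)
open Cfsg.Agent.Helper4.BG144

universe u

variable {G : Type u} [Group G] [Finite G]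

omit [Finite G] in
theorem le_centralizer_zpowers_of_commute {R : Subgroup G} {z : G}
    (hz : ∀ y ∈ R, y * z = z * y) : R ≤ centralizer ((zpowers z : Subgroup G) : Set G) := by
  intro y hy
  rw [Subgroup.mem_centralizer_iff]
  rintro w ⟨k, rfl⟩
  exact ((Commute.zpow_left (show Commute z y from (hz y hy).symm) k)).eq

/-- subgroups of order `r ∈ β(M)` of `M` have their normaliser in `M` -/
theorem normalizer_le_of_card_beta (h : Hyps G) {M : Subgroup G} (hM : IsCoatom M) {r : ℕ}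
    [Fact r.Prime] (hrβ : r ∈ beta M) {Ω : Subgroup G} (hΩM : Ω ≤ M) (hΩc : Nat.card Ω = r) :
    normalizer (Ω : Set G) ≤ M ∧ centralizer (Ω : Set G) ≤ M := by
  have hr : r.Prime := Fact.out
  obtain ⟨Pσ⟩ : Nonempty (Sylow r ↥(sigmaCore M)) := inferInstance
  obtain ⟨hC, huniq⟩ := (h.h1423 M hM r (beta_subset_sigma h hM hrβ) Ω hΩM hΩc Pσ (Or.inl hrβ)).1
  refine ⟨?_, hC⟩
  have hΩ1 : Ω ≠ ⊥ := by
    intro hbot
    rw [hbot, Subgroup.card_bot] at hΩc
    exact hr.one_lt.ne hΩc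
  have hΩtop : Ω ≠ ⊤ := fun hT => hM.1 (top_le_iff.mp (hT ▸ hΩM))
  obtain ⟨H, hH, hNH⟩ := exists_coatom_ge (normalizer_ne_top' h.hG hΩ1 hΩtop)
  have := huniq H hH ((centralizer_le_normalizer _).trans hNH)
  rw [← this]; exact hNH

/-- a Sylow `r`-subgroup of `C_G(P)` inside `M_β`, for `r` dividing `|C_{M_β}(P)|` -/
theorem exists_sylow_centralizer_le (h : Hyps G) {M : Subgroup G} (hM : IsCoatom M)
    {P : Subgroup G} {r : ℕ} [Fact r.Prime]
    (hrA : r ∣ Nat.card ↥(betaCore M ⊓ centralizer (P : Set G))) :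
    ∃ R : Subgroup G, IsSylowIn r R (centralizer (P : Set G)) ∧ R ≤ betaCore M := by
  have hr : r.Prime := Fact.out
  have hrβ : r ∈ beta M :=
    mem_beta_of_dvd_card_betaCore hr (hrA.trans (Subgroup.card_dvd_of_le inf_le_left))
  obtain ⟨x, hx⟩ := exists_prime_orderOf_dvd_card' r hrA
  have hxo : orderOf (x : G) = r := by rw [Subgroup.orderOf_coe, hx]
  have hXc : Nat.card (zpowers (x : G)) = r := by rw [Nat.card_zpowers, hxo]
  have hXle : zpowers (x : G) ≤ betaCore M ⊓ centralizer (P : Set G) := by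
    rw [zpowers_le]; exact x.2
  have hXp : IsPGroup r (zpowers (x : G)) := IsPGroup.of_card (n := 1) (by rw [hXc, pow_one])
  obtain ⟨R, hXR, hR⟩ := Cfsg.Agent.Helper15.exists_isSylowIn_ge hXp (hXle.trans inf_le_right)
  refine ⟨R, hR, ?_⟩
  have hxR : (x : G) ∈ R := hXR (Subgroup.mem_zpowers _)
  have hx1 : (x : G) ≠ 1 := by
    intro h1
    rw [h1, orderOf_one] at hxo
    exact hr.one_lt.ne hxo
  -- an element of order `r` in the centre of `R`
  haveI : Nontrivial R := ⟨⟨⟨(x : G), hxR⟩, 1, fun h1 => hx1 (congrArg Subtype.val h1)⟩⟩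
  have hRp : IsPGroup r R := hR.isPGroup
  haveI := hRp.center_nontrivial
  have hZp : IsPGroup r (Subgroup.center R) := hRp.to_subgroup _
  obtain ⟨n, hn, hcard⟩ := hZp.nontrivial_iff_card.mp inferInstance
  have hd : r ∣ Nat.card (Subgroup.center R) := by rw [hcard]; exact dvd_pow_self r hn.ne'
  obtain ⟨z, hz⟩ := exists_prime_orderOf_dvd_card' r hd
  set z' : G := ((z : R) : G) with hz'
  have hz'o : orderOf z' = r := by
    rw [hz', Subgroup.orderOf_coe, Subgroup.orderOf_coe, hz]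
  have hzcomm : ∀ y ∈ R, y * z' = z' * y := by
    intro y hy
    have := Subgroup.mem_center_iff.mp z.2 ⟨y, hy⟩
    exact congrArg Subtype.val this
  have hZc : Nat.card (zpowers z') = r := by rw [Nat.card_zpowers, hz'o]
  -- `z' ∈ C_G(x) ≤ M`
  have hXM : zpowers (x : G) ≤ M := (hXle.trans inf_le_left).trans (betaCore_le M)
  have hCX := (normalizer_le_of_card_beta h hM hrβ hXM hXc).2
  have hz'M : z' ∈ M := by
    apply hCX
    rw [Subgroup.mem_centralizer_iff]
    rintro w ⟨k, rfl⟩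
    exact ((Commute.zpow_left (show Commute (x : G) z' from hzcomm _ hxR) k)).eq
  have hZM : zpowers z' ≤ M := by rw [zpowers_le]; exact hz'M
  have hCZ := (normalizer_le_of_card_beta h hM hrβ hZM hZc).2
  have hRM : R ≤ M := (le_centralizer_zpowers_of_commute hzcomm).trans hCZ
  apply le_of_isPiHallOf_normal (betaCore_hall h hM) (le_normalizer_betaCore M) hRM
  intro s hs hsd
  obtain ⟨k, hk⟩ := hRp.exists_card_eq
  rw [hk] at hsd
  rw [(Nat.prime_dvd_prime_iff_eq hs hr).mp (hs.dvd_of_dvd_pow hsd)]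
  exact hrβ

theorem betaCore_le_alphaCore (M : Subgroup G) : betaCore M ≤ alphaCore M :=
  Cfsg.Agent.Helper14.BGTrans.le_piCoreOf (alpha M) (betaCore_le M) (le_normalizer_betaCore M)
    (fun p hp hd => (mem_beta_of_dvd_card_betaCore hp hd).1)

namespace Ctx

variable {M L S : Subgroup G} {q : ℕ}

/-- `r`-subgroups of `C_{M_β}(P)` are cyclic -/
theorem cyclic_of_le (c : Ctx M L S q) (h : Hyps G) {p : ℕ} (hp : p ∈ tau1 M)
    {P : Subgroup G} (hPM : P ≤ M) (hPc : Nat.card P = p) {r : ℕ} [Fact r.Prime]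
    (hrβ : r ∈ beta M) {R : Subgroup G} (hRβ : R ≤ betaCore M)
    (hRJ : R ≤ centralizer (P : Set G)) (hRp : IsPGroup r R) : IsCyclic R := by
  have hr : r.Prime := Fact.out
  have hle : R ≤ alphaCore M ⊓ centralizer (P : Set G) :=
    le_inf (hRβ.trans (betaCore_le_alphaCore M)) hRJ
  have hrk := c.rank_centralizer h hp hPM hPc r hr
  have hrk' : PRankLE r 1 R :=
    Cfsg.Agent.Helper7.BG12.pRankLE_of_injective (Subgroup.inclusion hle)
      (Subgroup.inclusion_injective hle) hrk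
  have hodd : Odd r := by
    have h1 : r ∣ Nat.card M :=
      Cfsg.Agent.Helper22.BG13.dvd_card_of_mem_sigma (beta_subset_sigma h c.hM hrβ)
    exact Odd.of_dvd_nat h.hG.1 (h1.trans (Subgroup.card_subgroup_dvd_card M))
  exact Cfsg.Agent.Helper7.BG12.isCyclic_of_pRankLE_one hodd hRp hrk'

/-- a subgroup `H1` of `C_G(P)` with a nontrivial normal `r`-subgroup, `r` dividing
`|C_{M_β}(P)|`, is conjugate under `C_G(P)` into `M` -/
theorem key_aux (c : Ctx M L S q) (h : Hyps G) {p : ℕ} (hp : p ∈ tau1 M)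
    {P : Subgroup G} (hPM : P ≤ M) (hPc : Nat.card P = p) {r : ℕ} [Fact r.Prime]
    (hrA : r ∣ Nat.card ↥(betaCore M ⊓ centralizer (P : Set G))) {H1 Q : Subgroup G}
    (hH1J : H1 ≤ centralizer (P : Set G)) (hQH : Q ≤ H1) (hHQ : H1 ≤ normalizer (Q : Set G))
    (hQ1 : Q ≠ ⊥) (hQr : IsPGroup r Q) :
    ∃ j ∈ centralizer (P : Set G), H1.map (MulAut.conj j).toMonoidHom ≤ M := by
  have hr : r.Prime := Fact.out
  have hrβ : r ∈ beta M :=
    mem_beta_of_dvd_card_betaCore hr (hrA.trans (Subgroup.card_dvd_of_le inf_le_left))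
  obtain ⟨R, hR, hRβ⟩ := exists_sylow_centralizer_le h c.hM hrA
  obtain ⟨j, hj, hjQ⟩ := exists_conj_le_of_sylowLike hR.le hR.isPGroup hR.not_dvd_relIndex
    (hQH.trans hH1J) hQr
  refine ⟨j, hj, ?_⟩
  set Q' : Subgroup G := Q.map (MulAut.conj j).toMonoidHom with hQ'
  have hQ'β : Q' ≤ betaCore M := hjQ.trans hRβ
  have hQ'J : Q' ≤ centralizer (P : Set G) := hjQ.trans hR.le
  have hQ'r : IsPGroup r Q' := hQr.map _
  have hQ'1 : Q' ≠ ⊥ := by
    intro hbot
    apply hQ1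
    have := (Subgroup.map_eq_bot_iff_of_injective Q (conj_injective j)).mp hbot
    exact this
  have hcyc : IsCyclic Q' := c.cyclic_of_le h hp hPM hPc hrβ hQ'β hQ'J hQ'r
  have hcomm : ∀ a ∈ Q', ∀ b ∈ Q', a * b = b * a := by
    intro a ha b hb
    haveI := hcyc
    exact Cfsg.Agent.Helper7.MaxComp.comm_of_isMulCommutative
      (IsCyclic.commutative (α := Q')) a ha b hb
  have hΩc := card_omegaSub hcomm hcyc hQ'r hQ'1
  have hΩM : omegaSub Q' hcomm r ≤ M :=
    ((omegaSub_le Q' hcomm r).trans hQ'β).trans (betaCore_le M)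
  have hN := (normalizer_le_of_card_beta h c.hM hrβ hΩM hΩc).1
  exact ((Cfsg.Agent.Helper14.BGTrans.map_conj_le_normalizer_map_conj hHQ j).trans
    (normalizer_le_normalizer_omegaSub Q' hcomm r)).trans hN

omit [Finite G] in
theorem dvd_card_inf_of_conj {H1 M J : Subgroup G} [Finite G] {j : G} (hj : j ∈ J) (hH1J : H1 ≤ J)
    (hle : H1.map (MulAut.conj j).toMonoidHom ≤ M) : Nat.card H1 ∣ Nat.card ↥(M ⊓ J) := by
  have h1 : H1.map (MulAut.conj j).toMonoidHom ≤ M ⊓ J :=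
    le_inf hle (map_conj_le_of_mem hH1J hj)
  have h2 := Subgroup.card_dvd_of_le h1
  rwa [Subgroup.card_map_of_injective (conj_injective j)] at h2

/-- the key dichotomy inside `C_G(P)` -/
theorem key (c : Ctx M L S q) (h : Hyps G) {p : ℕ} (hp : p ∈ tau1 M) (hp' : p ∈ tau1 L)
    {P : Subgroup G} (hPM : P ≤ M) (hPL : P ≤ L) (hPc : Nat.card P = p)
    (hAM : betaCore M ⊓ centralizer (P : Set G) ≠ ⊥)
    (hAL : betaCore L ⊓ centralizer (P : Set G) ≠ ⊥) :
    (∃ t ∈ beta L, t ∣ Nat.card ↥(M ⊓ centralizer (P : Set G))) ∨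
      (∃ r ∈ beta M, r ∣ Nat.card ↥(L ⊓ centralizer (P : Set G))) := by
  have hpp : p.Prime := hp.1
  have hP1 : P ≠ ⊥ := by
    intro hbot
    rw [hbot, Subgroup.card_bot] at hPc
    exact hpp.one_lt.ne hPc
  set J : Subgroup G := centralizer (P : Set G) with hJ
  have hJtop : J ≠ ⊤ := Cfsg.Agent.Helper23.BG10.centralizer_ne_top' h.hG hP1
  have hJsolv : Group.IsSolvable J := h.hG.2.2.2 J hJtop
  obtain ⟨r, hr, hrA⟩ := Nat.exists_prime_and_dvd
    (fun h1 => hAM (Subgroup.card_eq_one.mp h1))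
  obtain ⟨t, ht, htA⟩ := Nat.exists_prime_and_dvd
    (fun h1 => hAL (Subgroup.card_eq_one.mp h1))
  haveI : Fact r.Prime := ⟨hr⟩
  haveI : Fact t.Prime := ⟨ht⟩
  have hrβ : r ∈ beta M :=
    mem_beta_of_dvd_card_betaCore hr (hrA.trans (Subgroup.card_dvd_of_le inf_le_left))
  have htβ : t ∈ beta L :=
    mem_beta_of_dvd_card_betaCore ht (htA.trans (Subgroup.card_dvd_of_le inf_le_left))
  obtain ⟨H1, -, hH1⟩ := exists_isPiHallOf_ge hJsolv ({r, t} : Set ℕ)
    (bot_le : (⊥ : Subgroup G) ≤ J) (by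
      intro s hs hsd
      rw [Subgroup.card_bot] at hsd
      exact absurd (Nat.dvd_one.mp hsd) hs.one_lt.ne')
  have hdvd : ∀ s : ℕ, s.Prime → s ∈ ({r, t} : Set ℕ) → s ∣ Nat.card J → s ∣ Nat.card H1 := by
    intro s hs hsπ hsJ
    rw [← card_mul_relIndex' hH1.1] at hsJ
    rcases (Nat.Prime.dvd_mul hs).mp hsJ with h1 | h1
    · exact h1
    · exact absurd h1 (hH1.2.2 s hs hsπ)
  have hrH : r ∣ Nat.card H1 := hdvd r hr (by simp)
    (hrA.trans (Subgroup.card_dvd_of_le inf_le_right))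
  have htH : t ∣ Nat.card H1 := hdvd t ht (by simp)
    (htA.trans (Subgroup.card_dvd_of_le inf_le_right))
  have hH1ne : H1 ≠ ⊥ := by
    intro hbot
    rw [hbot, Subgroup.card_bot] at hrH
    exact hr.one_lt.ne' (Nat.dvd_one.mp hrH)
  haveI : Group.IsSolvable H1 := h.hG.2.2.2 H1 (fun hT => hJtop (top_le_iff.mp (hT ▸ hH1.1)))
  haveI : Nontrivial H1 := (Subgroup.nontrivial_iff_ne_bot H1).mpr hH1ne
  obtain ⟨u, hu, Q₀, hQ₀n, hQ₀1, hQ₀p⟩ := Cfsg.Agent.Helper1.exists_normal_pSubgroup_of_solvable H1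
  haveI := hQ₀n
  set Q : Subgroup G := Q₀.map H1.subtype with hQ
  have hQH : Q ≤ H1 := map_subtype_le _
  have hHQ : H1 ≤ normalizer (Q : Set G) :=
    Cfsg.Agent.Helper14.BGUniq.le_normalizer_map_subtype H1 Q₀
  have hQ1 : Q ≠ ⊥ := by
    intro hbot
    exact hQ₀1 ((Subgroup.map_eq_bot_iff_of_injective Q₀ H1.subtype_injective).mp hbot)
  have hQp : IsPGroup u Q := hQ₀p.map _
  have huπ : u ∈ ({r, t} : Set ℕ) := by
    apply hH1.2.1 u hu
    haveI : Fact u.Prime := ⟨hu⟩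
    have hQnt : Nontrivial Q := (Subgroup.nontrivial_iff_ne_bot Q).mpr hQ1
    obtain ⟨n, hn, hcard⟩ := hQp.nontrivial_iff_card.mp hQnt
    refine Dvd.dvd.trans ?_ (Subgroup.card_dvd_of_le hQH)
    rw [hcard]; exact dvd_pow_self u hn.ne'
  rcases huπ with rfl | hut
  · left
    obtain ⟨j, hj, hle⟩ := c.key_aux h hp hPM hPc hrA hH1.1 hQH hHQ hQ1 hQp
    exact ⟨t, htβ, htH.trans (dvd_card_inf_of_conj hj hH1.1 hle)⟩
  · right
    rw [Set.mem_singleton_iff] at hut
    subst hut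
    obtain ⟨j, hj, hle⟩ := c.symm.key_aux h hp' hPL hPc htA hH1.1 hQH hHQ hQ1 hQp
    exact ⟨r, hrβ, hrH.trans (dvd_card_inf_of_conj hj hH1.1 hle)⟩

end Ctx

end Cfsg.Agent.Helper4.BGSig
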