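import Mathlib
import Cfsg.Agent.Lib.Helper4.BGSigG

/-!
# The sigma-partition theorem: the end of the proof (helper4)
-/

set_option autoImplicit false
set_option linter.unusedVariables false
set_option linter.style.haveILetI false

namespace Cfsg.Agent.Helper4.BGSig

open Cfsg Subgroup
open scoped commutatorElement
open Cfsg.Agent.Helper15 (IsSylowIn)
open Cfsg.Agent.Helper4.BG144

universe u

variable {G : Type u} [Group G] [Finite G]

/-- `C_M(P) = C_E(P) C_{M_σ}(P)` for a subgroup `P` of prime order of a complement `E` -/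
theorem complIn_centralizer {E K M P : Subgroup G} (hE : IsComplIn E K M)
    (hK : M ≤ normalizer (K : Set G)) (hPE : P ≤ E) {p : ℕ} (hp : p.Prime)
    (hPc : Nat.card P = p) :
    IsComplIn (E ⊓ centralizer (P : Set G)) (K ⊓ centralizer (P : Set G))
      (M ⊓ centralizer (P : Set G)) := by
  haveI : Fact p.Prime := ⟨hp⟩
  -- a generator of `P`
  have hd : p ∣ Nat.card P := by rw [hPc]
  obtain ⟨x, hx⟩ := exists_prime_orderOf_dvd_card' p hd
  have hx1 : x ≠ 1 := by
    intro h1
    rw [h1, orderOf_one] at hx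
    exact hp.one_lt.ne hx
  have hgen : zpowers x = ⊤ := zpowers_eq_top_of_prime_card (by rw [hPc]) hx1
  have hcent : ∀ c : G, c * (x : G) = (x : G) * c → c ∈ centralizer (P : Set G) := by
    intro c hc
    rw [Subgroup.mem_centralizer_iff]
    intro y hy
    have hy' : (⟨y, hy⟩ : P) ∈ zpowers x := by rw [hgen]; trivial
    obtain ⟨k, hk⟩ := hy'
    have hk' : (x : G) ^ k = y := by
      have := congrArg Subtype.val hk
      simpa using this
    rw [← hk']
    exact ((Commute.zpow_left (show Commute (x : G) c from hc.symm) k)).eq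
  refine ⟨inf_le_inf_right _ hE.1, inf_le_inf_right _ hE.2.1, ?_, ?_⟩
  · rw [eq_bot_iff, ← hE.2.2.1]
    exact le_inf (inf_le_left.trans inf_le_left) (inf_le_right.trans inf_le_left)
  · rintro m ⟨hmM, hmC⟩
    have hmx : m * (x : G) = (x : G) * m :=
      (Subgroup.mem_centralizer_iff.mp hmC (x : G) x.2).symm
    obtain ⟨a, ha, b, hb, hab, hax, hbx⟩ :=
      compl_centralizer hE hK (hPE x.2) hmM hmx
    exact ⟨a, ⟨ha, hcent a hax⟩, b, ⟨hb, hcent b hbx⟩, hab⟩

namespace Ctx

variable {M L S : Subgroup G} {q : ℕ} [Fact q.Prime]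

/-- a prime of `β(L)` dividing `|C_M(P)|` leads to a contradiction -/
theorem endgame (c : Ctx M L S q) (h : Hyps G) {E : Subgroup G}
    (hE : IsComplIn E (sigmaCore M) M) (hEN : E ≤ normalizer (S : Set G)) {p : ℕ}
    (hp : p ∈ tau1 M) {P : Subgroup G} (hPE : P ≤ E) (hPc : Nat.card P = p)
    (hfpf : S ⊓ centralizer (P : Set G) = ⊥) {t : ℕ} (htβ : t ∈ beta L)
    (htd : t ∣ Nat.card ↥(M ⊓ centralizer (P : Set G))) : False := by
  have hpp : p.Prime := hp.1
  have ht : t.Prime := htβ.1.1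
  haveI : Fact t.Prime := ⟨ht⟩
  have htσ : t ∉ sigma M := c.symm.beta_not_sigma h htβ
  have hcompl := complIn_centralizer hE (le_normalizer_sigmaCore M) hPE hpp hPc
  have hmul := complIn_card_mul hcompl
  rw [← hmul] at htd
  have htA : t ∣ Nat.card ↥(E ⊓ centralizer (P : Set G)) := by
    rcases (Nat.Prime.dvd_mul ht).mp htd with h1 | h1
    · exact h1
    · exact absurd (h1.trans (Subgroup.card_dvd_of_le inf_le_left))
        (not_dvd_card_sigmaCore ht htσ)
  obtain ⟨y, hy⟩ := exists_prime_orderOf_dvd_card' t htA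
  have hRc : Nat.card (zpowers (y : G)) = t := by
    rw [Nat.card_zpowers, Subgroup.orderOf_coe, hy]
  have hRE : zpowers (y : G) ≤ E ⊓ centralizer (P : Set G) := by
    rw [zpowers_le]; exact y.2
  have hRL : zpowers (y : G) ≤ L := ((hRE.trans inf_le_left).trans hEN).trans c.hNL
  have h1428 := h.h1428 M c.hM E hE p hp P hPE hPc (zpowers (y : G)) hRE (by rw [hRc]; exact ht)
  have hCR := (normalizer_le_of_card_beta h c.hL htβ hRL hRc).2
  have hpβ : ¬ p ∣ Nat.card (betaCore M) := fun hd =>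
    hp.2.1 (beta_subset_sigma h c.hM (mem_beta_of_dvd_card_betaCore hpp hd))
  apply c.centralizer_betaCore_not_le h hpp hpβ (hPE.trans hEN) hPc hfpf
  exact ((inf_le_inf_right _ (betaCore_le_sigmaCore h c.hM)).trans h1428).trans
    (inf_le_right.trans hCR)

/-- two distinct maximal subgroups cannot both contain the normaliser of a nontrivial Sylow
subgroup of `G` -/
theorem false (c : Ctx M L S q) (h : Hyps G) : False := by
  -- a complement `E₀ ≤ N_G(S)`
  obtain ⟨p₀, hp₀ge, hp₀⟩ := Nat.exists_infinite_primes (Nat.card M + 1)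
  haveI : Fact p₀.Prime := ⟨hp₀⟩
  have hp₀σ : p₀ ∉ sigma M := by
    intro hσ
    have := Nat.le_of_dvd Nat.card_pos hσ.2.1
    omega
  obtain ⟨E, hE, hEN, -⟩ := c.exists_compl h hp₀σ (bot_le : (⊥ : Subgroup G) ≤ _) IsPGroup.of_bot
  obtain ⟨p, hp, hpE⟩ := c.exists_tau1 h hE
  have hpp : p.Prime := hp.1
  haveI : Fact p.Prime := ⟨hpp⟩
  obtain ⟨y, hy⟩ := exists_prime_orderOf_dvd_card' p hpE
  set P : Subgroup G := zpowers (y : G) with hP
  have hPc : Nat.card P = p := by rw [hP, Nat.card_zpowers, Subgroup.orderOf_coe, hy]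
  have hPE : P ≤ E := by rw [hP, zpowers_le]; exact y.2
  have hPN : P ≤ normalizer (S : Set G) := hPE.trans hEN
  have hfpf := c.fpf h hE hEN hp hPE hPc
  have hp' := c.tau1_symm h hp hPN hPc hfpf
  have hPp : IsPGroup p P := IsPGroup.of_card (n := 1) (by rw [hPc, pow_one])
  obtain ⟨F, hF, hFN, hPF⟩ := c.symm.exists_compl h hp'.2.1 hPN hPp
  have hpβM : ¬ p ∣ Nat.card (betaCore M) := fun hd =>
    hp.2.1 (beta_subset_sigma h c.hM (mem_beta_of_dvd_card_betaCore hpp hd))
  have hpβL : ¬ p ∣ Nat.card (betaCore L) := fun hd =>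
    hp'.2.1 (beta_subset_sigma h c.hL (mem_beta_of_dvd_card_betaCore hpp hd))
  have hAM : betaCore M ⊓ centralizer (P : Set G) ≠ ⊥ := by
    intro hbot
    apply c.centralizer_betaCore_not_le h hpp hpβM hPN hPc hfpf
    rw [hbot]; exact bot_le
  have hAL : betaCore L ⊓ centralizer (P : Set G) ≠ ⊥ := by
    intro hbot
    apply c.symm.centralizer_betaCore_not_le h hpp hpβL hPN hPc hfpf
    rw [hbot]; exact bot_le
  rcases c.key h hp hp' (hPN.trans c.hNM) (hPN.trans c.hNL) hPc hAM hAL with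
    ⟨t, htβ, htd⟩ | ⟨r, hrβ, hrd⟩
  · exact c.endgame h hE hEN hp hPE hPc hfpf htβ htd
  · exact c.symm.endgame h hF hFN hp' hPF hPc hfpf hrβ hrd

end Ctx

/-- **The sigma-partition theorem** (second half of S1378): maximal subgroups whose `σ`-sets meet
are conjugate. -/
theorem sigma_partition (h : Hyps G) : HSigma G := by
  intro M N hM hN ⟨q, hqM, hqN⟩
  have hq : q.Prime := hqM.1
  haveI : Fact q.Prime := ⟨hq⟩
  obtain ⟨SM, hSM⟩ := Cfsg.Agent.Helper15.exists_isSylowIn (p := q) M
  obtain ⟨SN, hSN⟩ := Cfsg.Agent.Helper15.exists_isSylowIn (p := q) N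
  have hSMtop := Cfsg.Agent.Helper22.BG13.isSylowIn_top_of_mem_sigma hqM hSM
  have hSNtop := Cfsg.Agent.Helper22.BG13.isSylowIn_top_of_mem_sigma hqN hSN
  have hNM := Cfsg.Agent.Helper22.BG13.normalizer_le_of_mem_sigma hqM hSM
  have hNN := Cfsg.Agent.Helper22.BG13.normalizer_le_of_mem_sigma hqN hSN
  obtain ⟨g, -, hg⟩ := hSMtop.exists_conj hSNtop
  by_contra hno
  push Not at hno
  have hM' : IsCoatom (M.map (MulAut.conj g).toMonoidHom) :=
    Cfsg.Agent.Helper14.BGUniq.isCoatom_map_conj hM g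
  have hNM' : normalizer (SN : Set G) ≤ M.map (MulAut.conj g).toMonoidHom := by
    rw [← hg, Cfsg.Agent.Helper14.normalizer_map_conj]
    exact Subgroup.map_mono hNM
  have hSN1 : SN ≠ ⊥ := by
    intro hbot
    have := dvd_card_of_isSylowIn hSN hqN.2.1
    rw [hbot, Subgroup.card_bot] at this
    exact hq.one_lt.ne' (Nat.dvd_one.mp this)
  have c : Ctx (M.map (MulAut.conj g).toMonoidHom) N SN q :=
    ⟨hM', hN, fun heq => hno g heq.symm, hSNtop, hSN1, hNM', hNN⟩
  exact c.false h

end Cfsg.Agent.Helper4.BGSig
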