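import Mathlib
import Cfsg.Agent.Lib.Helper14.BG1369D
import Cfsg.Agent.Lib.Helper4.BG144B
import Cfsg.Agent.Lib.Helper4.BGSigA

/-!
Towards S1379 (BG Theorem 14.6 / partition of `G#`), part A: tools.
`π`-decomposition of elements, conjugation invariance of `\tilde M`, `σ(M)`-elements of `M`.
-/

set_option autoImplicit false

namespace Cfsg.Agent.Helper4.BG1379

open Cfsg Subgroup
open Cfsg.Agent.Helper10 (IsPiNum)
open Cfsg.Agent.Helper16.BG145 (St1350 St1375 supportR_mem sigma_map_conj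
  prime_mem_sigma_of_mem_sigmaCore)
open Cfsg.Agent.Helper16.BG147 (coprime_of_isPiNum exists_pi_split)
open Cfsg.Agent.Helper14.BG1369 (St1433 mem_supportR_of conj_mem_supportR conj_mem_sigmaCore
  isCoatom_map_conj' map_conj_inv_map_conj')
open Cfsg.Agent.Helper4.BG144
open Cfsg.Agent.Helper4.BGSig (le_of_isPiHallOf_normal)

universe u

variable {G : Type u} [Group G]

/-- the `π`-decomposition of an element of a finite group -/
theorem exists_pi_decomp [Finite G] (π : Set ℕ) (g : G) :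
    ∃ a b : G, g = a * b ∧ a * b = b * a ∧ a ∈ zpowers g ∧ b ∈ zpowers g ∧
      IsPiNum π (orderOf a) ∧ IsPiNum πᶜ (orderOf b) := by
  obtain ⟨m, k, hmk, hm, hk⟩ := exists_pi_split π (orderOf g) (orderOf_pos g)
  have hcop : m.Coprime k :=
    coprime_of_isPiNum (π := π) (π' := πᶜ) (fun p hp hp' => hp' hp) hm hk
  let e := Nat.chineseRemainder hcop 1 0
  let e' := Nat.chineseRemainder hcop 0 1
  have he1 : (e : ℕ) ≡ 1 [MOD m] := e.2.1
  have he2 : (e : ℕ) ≡ 0 [MOD k] := e.2.2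
  have he'1 : (e' : ℕ) ≡ 0 [MOD m] := e'.2.1
  have he'2 : (e' : ℕ) ≡ 1 [MOD k] := e'.2.2
  refine ⟨g ^ (e : ℕ), g ^ (e' : ℕ), ?_, ?_, ⟨(e : ℕ), by simp⟩, ⟨(e' : ℕ), by simp⟩, ?_, ?_⟩
  · rw [← pow_add]
    have h1 : ((e : ℕ) + (e' : ℕ)) ≡ 1 [MOD m] := by
      have := Nat.ModEq.add he1 he'1
      simpa using this
    have h2 : ((e : ℕ) + (e' : ℕ)) ≡ 1 [MOD k] := by
      have := Nat.ModEq.add he2 he'2
      simpa using this
    have h3 : ((e : ℕ) + (e' : ℕ)) ≡ 1 [MOD m * k] :=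
      (Nat.modEq_and_modEq_iff_modEq_mul hcop).mp ⟨h1, h2⟩
    rw [← hmk] at h3
    have := (pow_eq_pow_iff_modEq (x := g)).mpr h3
    rw [this, pow_one]
  · rw [← pow_add, ← pow_add, add_comm]
  · -- order of `g ^ e` divides `m`
    have hdvd : orderOf (g ^ (e : ℕ)) ∣ m := by
      rw [orderOf_dvd_iff_pow_eq_one, ← pow_mul, ← orderOf_dvd_iff_pow_eq_one, hmk]
      have : k ∣ (e : ℕ) := (Nat.modEq_zero_iff_dvd).1 he2
      obtain ⟨t, ht⟩ := this
      rw [ht]
      exact ⟨t, by ring⟩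
    intro p hp hpd
    exact hm p hp (hpd.trans hdvd)
  · have hdvd : orderOf (g ^ (e' : ℕ)) ∣ k := by
      rw [orderOf_dvd_iff_pow_eq_one, ← pow_mul, ← orderOf_dvd_iff_pow_eq_one, hmk]
      have : m ∣ (e' : ℕ) := (Nat.modEq_zero_iff_dvd).1 he'1
      obtain ⟨t, ht⟩ := this
      rw [ht]
      exact ⟨t, by ring⟩
    intro p hp hpd
    exact hk p hp (hpd.trans hdvd)

/-- conjugation preserves orders -/
theorem orderOf_conj' (g x : G) : orderOf (g * x * g⁻¹) = orderOf x := by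
  have := orderOf_injective (MulAut.conj g).toMonoidHom (MulAut.conj g).injective x
  simpa [MulAut.conj_apply] using this

theorem conj_ne_one' {a g : G} (ha : a ≠ 1) : g * a * g⁻¹ ≠ 1 := by
  intro h
  apply ha
  have : a = g⁻¹ * (g * a * g⁻¹) * g := by group
  rw [this, h]; group

/-- an element of `\tilde M` -/
theorem mem_tilde_of {M : Subgroup G} {a r : G} (ha : a ∈ sigmaCore M) (ha1 : a ≠ 1)
    (hr : r ∈ supportR M a) : a * r ∈ tildeOf M ((sigmaCore M : Set G) \ {1}) :=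
  ⟨a, ⟨ha, ha1⟩, r, hr, 1, by group⟩

/-- `\tilde M` is closed under conjugation -/
theorem tilde_conj {M : Subgroup G} {A : Set G} {u : G} (hu : u ∈ tildeOf M A) (w : G) :
    w * u * w⁻¹ ∈ tildeOf M A := by
  obtain ⟨a, ha, r, hr, y, rfl⟩ := hu
  exact ⟨a, ha, r, hr, w * y, by group⟩

/-- the elements of `\tilde M`, transported to a conjugate of `M` -/
theorem exists_of_mem_tilde [Finite G] {M : Subgroup G} {u : G}
    (hu : u ∈ tildeOf M ((sigmaCore M : Set G) \ {1})) :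
    ∃ y a r : G, a ∈ sigmaCore (M.map (MulAut.conj y).toMonoidHom) ∧ a ≠ 1 ∧
      r ∈ supportR (M.map (MulAut.conj y).toMonoidHom) a ∧ u = a * r := by
  obtain ⟨a, ⟨ha, ha1⟩, r, hr, y, rfl⟩ := hu
  have ha1' : a ≠ 1 := ha1
  exact ⟨y, y * a * y⁻¹, y * r * y⁻¹, conj_mem_sigmaCore ha y, conj_ne_one' ha1',
    conj_mem_supportR hr y, by group⟩

/-- `\tilde M` of a conjugate of `M` -/
theorem tilde_map_conj_le [Finite G] (M : Subgroup G) (t : G) :
    tildeOf (M.map (MulAut.conj t).toMonoidHom)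
      ((sigmaCore (M.map (MulAut.conj t).toMonoidHom) : Set G) \ {1}) ⊆
      tildeOf M ((sigmaCore M : Set G) \ {1}) := by
  rintro u ⟨a, ⟨ha, ha1⟩, r, hr, y, rfl⟩
  have ha1' : a ≠ 1 := ha1
  have h1 : t⁻¹ * a * t⁻¹⁻¹ ∈ sigmaCore M := by
    have := conj_mem_sigmaCore ha t⁻¹
    rwa [map_conj_inv_map_conj'] at this
  have h2 : t⁻¹ * r * t⁻¹⁻¹ ∈ supportR M (t⁻¹ * a * t⁻¹⁻¹) := by
    have := conj_mem_supportR hr t⁻¹
    rwa [map_conj_inv_map_conj'] at this
  exact ⟨t⁻¹ * a * t⁻¹⁻¹, ⟨h1, conj_ne_one' ha1'⟩, t⁻¹ * r * t⁻¹⁻¹, h2, y * t, by group⟩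

theorem tilde_map_conj [Finite G] (M : Subgroup G) (t : G) :
    tildeOf (M.map (MulAut.conj t).toMonoidHom)
      ((sigmaCore (M.map (MulAut.conj t).toMonoidHom) : Set G) \ {1}) =
      tildeOf M ((sigmaCore M : Set G) \ {1}) := by
  apply Set.Subset.antisymm (tilde_map_conj_le M t)
  have h := tilde_map_conj_le (M.map (MulAut.conj t).toMonoidHom) t⁻¹
  rwa [map_conj_inv_map_conj'] at h

/-- a `σ(M)`-element of `M` lies in `M_σ` -/
theorem mem_sigmaCore_of_isPiNum [Finite G] (h50 : St1350 G) {M : Subgroup G} (hM : IsCoatom M)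
    {z : G} (hz : z ∈ M) (hzo : IsPiNum (sigma M) (orderOf z)) : z ∈ sigmaCore M := by
  obtain ⟨hhall, -, -⟩ := h50 M hM
  have hnorm : M ≤ normalizer ((sigmaCore M : Subgroup G) : Set G) :=
    Cfsg.Agent.Helper16.BG147.le_normalizer_sigmaCore M
  have hle : zpowers z ≤ sigmaCore M := by
    refine le_of_isPiHallOf_normal hhall hnorm ?_ ?_
    · rw [zpowers_le]; exact hz
    · intro p hp hpd
      rw [Nat.card_zpowers] at hpd
      exact hzo p hp hpd
  exact hle (mem_zpowers z)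

end Cfsg.Agent.Helper4.BG1379
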