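import Mathlib
import Cfsg.Agent.Lib.Helper4.BG1379A
import Cfsg.Agent.Lib.Helper16.BG147I

/-!
Towards S1379 (partition of `G#`), part B: the covering argument.
Every `g ≠ 1` whose `σ(M)`-part `x` is a non-identity element of `M_σ` lies in some `\tilde N`, unless
`g = x x'` with `x'` a non-identity `κ(M)`-element of `C_M(x)`.
-/

set_option autoImplicit false

namespace Cfsg.Agent.Helper4.BG1379

open Cfsg Subgroup
open Cfsg.Agent.Helper10 (IsPiNum)
open Cfsg.Agent.Helper16.BG145 (St1350 St1375 supportR_mem sigma_map_conj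
  prime_mem_sigma_of_mem_sigmaCore)
open Cfsg.Agent.Helper16.BG147 (coprime_of_isPiNum exists_pi_split St1430 St1431 St1432 St1351b
  St1378b exists_conj_mem_of_piHall)
open Cfsg.Agent.Helper14.BG1369 (St1433 mem_supportR_of conj_mem_supportR conj_mem_sigmaCore
  isCoatom_map_conj' map_conj_inv_map_conj' centralizer_conj_le_iff)
open Cfsg.Agent.Helper4.BG144
open Cfsg.Agent.Helper4.BGSig (le_of_isPiHallOf_normal)

universe u

/-- the frozen statement of S1425, for the given group -/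
def H1425 (G : Type u) [Group G] [Finite G] : Prop :=
  ∀ (M : Subgroup G) (_hM : IsCoatom M) (Y : Subgroup G) (_hY1 : Y ≠ ⊥) (_hY : ∀ p : ℕ, p.Prime → p ∣ Nat.card Y → p ∈ Cfsg.sigma M),
    ∃ g : G, Y.map (MulAut.conj g).toMonoidHom ≤ Cfsg.sigmaCore M

/-- first half of the frozen statement of S1378 -/
def H1378a (G : Type u) [Group G] [Finite G] : Prop :=
  ∀ p : ℕ, p.Prime → p ∣ Nat.card G → ∃ M : Subgroup G, IsCoatom M ∧ p ∈ Cfsg.sigma M

variable {G : Type u} [Group G] [Finite G]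

/-- a non-identity `σ(M₀)`-element lies in `M_σ` for some conjugate `M` of `M₀` -/
theorem exists_conj_sigmaCore (h25 : H1425 G) {M₀ : Subgroup G} (hM₀ : IsCoatom M₀) {x : G}
    (hx1 : x ≠ 1) (hxo : IsPiNum (sigma M₀) (orderOf x)) :
    ∃ t : G, x ∈ sigmaCore (M₀.map (MulAut.conj t).toMonoidHom) := by
  have hY1 : zpowers x ≠ ⊥ := by rw [Ne, zpowers_eq_bot]; exact hx1
  obtain ⟨h, hh⟩ := h25 M₀ hM₀ (zpowers x) hY1 (by
    intro p hp hpd
    rw [Nat.card_zpowers] at hpd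
    exact hxo p hp hpd)
  have h1 : h * x * h⁻¹ ∈ sigmaCore M₀ := hh ⟨x, mem_zpowers x, rfl⟩
  refine ⟨h⁻¹, ?_⟩
  have := conj_mem_sigmaCore h1 h⁻¹
  have e : h⁻¹ * (h * x * h⁻¹) * h⁻¹⁻¹ = x := by group
  rwa [e] at this

omit [Finite G] in
theorem mem_centralizer_singleton_of_comm {x y : G} (h : x * y = y * x) :
    y ∈ centralizer ({x} : Set G) := by
  rw [mem_centralizer_singleton_iff]; exact h.symm

omit [Finite G] in
theorem comm_of_mem_centralizer_singleton {x y : G} (h : y ∈ centralizer ({x} : Set G)) :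
    x * y = y * x := by
  rw [mem_centralizer_singleton_iff] at h; exact h.symm

/-- the `τ₂`-case: `x ∈ M_σ#`, `y ∈ C_M(x)#` a `σ(L)`-element with `M` the only maximal subgroup
containing `C_G(y)`: then `x y` lies in `\tilde L₁` for a conjugate `L₁` of `L` -/
theorem tau2_case (h75 : St1375 G) (h25 : H1425 G) {M : Subgroup G} (hM : IsCoatom M) {x y : G}
    (hx : x ∈ sigmaCore M) (hy1 : y ≠ 1) (hxy : x * y = y * x)
    {L : Subgroup G} (hL : IsCoatom L) (hLσ : ∀ p : ℕ, p.Prime → p ∣ orderOf y → p ∈ sigma L)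
    (hMσ : ∀ p : ℕ, p.Prime → p ∣ orderOf y → p ∉ sigma M)
    (hCy : centralizer ({y} : Set G) ≤ M)
    (huniq : ∀ L' : Subgroup G, IsCoatom L' → centralizer ({y} : Set G) ≤ L' → L' = M) :
    ∃ N : Subgroup G, IsCoatom N ∧ x * y ∈ tildeOf N ((sigmaCore N : Set G) \ {1}) := by
  obtain ⟨t, ht⟩ := exists_conj_sigmaCore h25 hL hy1 hLσ
  set L₁ := L.map (MulAut.conj t).toMonoidHom with hL₁
  have hL₁c : IsCoatom L₁ := isCoatom_map_conj' hL t
  have hnot : ¬ centralizer ({y} : Set G) ≤ L₁ := by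
    intro hle
    have hLM : L₁ = M := huniq L₁ hL₁c hle
    rw [hLM] at ht
    have hne : orderOf y ≠ 1 := by rw [Ne, orderOf_eq_one_iff]; exact hy1
    obtain ⟨q, hq, hqd⟩ := Nat.exists_prime_and_dvd hne
    exact hMσ q hq hqd (prime_mem_sigma_of_mem_sigmaCore ht q hq hqd)
  obtain ⟨N', ⟨hN', hCN'⟩, hN'uniq, hσF, -, -, -, -⟩ := h75 L₁ hL₁c y ht hy1 hnot
  have hN'M : M = N' := hN'uniq M hM hCy
  have hxF : x ∈ fittingHallOf M := by
    rw [hN'M, ← hσF, ← hN'M]; exact hx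
  have hxR : x ∈ supportR L₁ y :=
    mem_supportR_of hnot hM hCy huniq hxF (mem_centralizer_singleton_of_comm hxy.symm)
  refine ⟨L₁, hL₁c, ?_⟩
  rw [hxy]
  exact mem_tilde_of ht hy1 hxR

/-- the main covering lemma -/
theorem cover_aux (hG : IsMinSimpleOddOrder G) (h50 : St1350 G) (h75 : St1375 G) (h32 : St1432 G)
    (h25 : H1425 G) {M : Subgroup G} (hM : IsCoatom M) {g x x' : G} (hg : g = x * x')
    (hcomm : x * x' = x' * x) (hx : x ∈ sigmaCore M) (hx1 : x ≠ 1) (hx'g : x' ∈ zpowers g)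
    (hx'o : IsPiNum (sigma M)ᶜ (orderOf x')) :
    (∃ N : Subgroup G, IsCoatom N ∧ g ∈ tildeOf N ((sigmaCore N : Set G) \ {1})) ∨
      (x' ∈ M ∧ x' ≠ 1 ∧ ∀ p : ℕ, p.Prime → p ∣ orderOf x' → p ∈ kappa M) := by
  have hx'C : x' ∈ centralizer ({x} : Set G) := mem_centralizer_singleton_of_comm hcomm
  have hx'σ : ∀ p : ℕ, p.Prime → p ∣ orderOf x' → p ∉ sigma M := fun p hp hpd => hx'o p hp hpd
  by_cases hC : centralizer ({x} : Set G) ≤ M
  · -- Case B
    have hx'M : x' ∈ M := hC hx'C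
    by_cases hx'1 : x' = 1
    · left
      refine ⟨M, hM, ?_⟩
      rw [hg, hx'1]
      exact mem_tilde_of hx hx1 (one_mem _)
    · rcases h32 M hM x hx hx1 x' (Subgroup.mem_inf.mpr ⟨hx'M, hx'C⟩) hx'1 hx'σ with
        ⟨hκ, -⟩ | ⟨-, ⟨L, hL, hLσ⟩, hCx', huniq⟩
      · right; exact ⟨hx'M, hx'1, hκ⟩
      · left
        rw [hg]
        exact tau2_case h75 h25 hM hx hx'1 hcomm hL hLσ hx'σ hCx' huniq
  · -- Case A
    left
    obtain ⟨N, ⟨hN, hCN⟩, hNuniq, hσF, hnorm, hcompl, hcomplN, -⟩ := h75 M hM x hx hx1 hC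
    set C := centralizer ({x} : Set G) with hCdef
    -- decompose `x'` along `σ(N)`
    obtain ⟨r, x'', hx'rx, hrx'', hrz, hx''z, hro, hx''o⟩ := exists_pi_decomp (sigma N) x'
    have hzC : zpowers x' ≤ C := by rw [zpowers_le]; exact hx'C
    have hrC : r ∈ C := hzC hrz
    have hx''C : x'' ∈ C := hzC hx''z
    have hrσ : r ∈ sigmaCore N := mem_sigmaCore_of_isPiNum h50 hN (hCN hrC) hro
    have hrR : r ∈ supportR M x := by
      refine mem_supportR_of hC hN hCN hNuniq ?_ hrC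
      rw [← hσF]; exact hrσ
    -- `C_M(x)` is a Hall `σ(N)'`-subgroup of `C`
    have hCsol : Group.IsSolvable ↥C :=
      Cfsg.Agent.Helper14.BGTrans.isSolvable_of_ne_top hG
        (fun h => hN.1 (top_le_iff.mp (h ▸ hCN)))
    obtain ⟨hhallN, -, -⟩ := h50 N hN
    have hMNcard : Nat.card ↥(M ⊓ N) = (sigmaCore N).relIndex N := (complIn_relIndex_eq' hcomplN).symm
    have hhall : IsPiHallOf (sigma N)ᶜ (M ⊓ C) C := by
      refine ⟨inf_le_right, ?_, ?_⟩
      · intro p hp hpd hpσ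
        have h1 : Nat.card ↥(M ⊓ C) ∣ Nat.card ↥(M ⊓ N) :=
          Subgroup.card_dvd_of_le (inf_le_inf_left M hCN)
        have h2 : p ∣ (sigmaCore N).relIndex N := by
          rw [← hMNcard]; exact hpd.trans h1
        exact hhallN.2.2 p hp hpσ h2
      · intro p hp hpσ hpd
        rw [complIn_relIndex_eq hcompl] at hpd
        have h1 : Nat.card ↥(sigmaCore N ⊓ C) ∣ Nat.card ↥(sigmaCore N) :=
          Subgroup.card_dvd_of_le inf_le_left
        exact hpσ (Cfsg.Agent.Helper16.BG147.card_sigmaCore N p hp (hpd.trans h1))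
    obtain ⟨c, hcC, hcx''⟩ := exists_conj_mem_of_piHall hCsol hhall hx''C hx''o
    -- the conjugate `M₁ = M^{c⁻¹}` contains `x''`
    set M₁ := M.map (MulAut.conj c⁻¹).toMonoidHom with hM₁
    have hM₁c : IsCoatom M₁ := isCoatom_map_conj' hM c⁻¹
    have hcx : c⁻¹ * x * c⁻¹⁻¹ = x := by
      have := comm_of_mem_centralizer_singleton hcC
      calc c⁻¹ * x * c⁻¹⁻¹ = c⁻¹ * (x * c) := by group
        _ = c⁻¹ * (c * x) := by rw [this]
        _ = x := by group
    have hxM₁ : x ∈ sigmaCore M₁ := by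
      have := conj_mem_sigmaCore hx c⁻¹
      rwa [hcx] at this
    have hCM₁ : ¬ C ≤ M₁ := by
      intro hle
      apply hC
      have := (centralizer_conj_le_iff (x := x) (g := c⁻¹) (L := M)).mp (by rw [hcx]; exact hle)
      exact this
    have hx''M₁ : x'' ∈ M₁ := by
      rw [hM₁, mem_map_conj]
      have e : c⁻¹⁻¹ * x'' * c⁻¹ = c * x'' * c⁻¹ := by group
      rw [e]; exact hcx''.1
    have hσM₁ : sigma M₁ = sigma M := sigma_map_conj M c⁻¹
    by_cases hx''1 : x'' = 1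
    · refine ⟨M, hM, ?_⟩
      rw [hg, hx'rx, hx''1, mul_one]
      exact mem_tilde_of hx hx1 hrR
    · have hx''d : orderOf x'' ∣ orderOf x' := orderOf_dvd_of_mem_zpowers hx''z
      have hx''σ : ∀ p : ℕ, p.Prime → p ∣ orderOf x'' → p ∉ sigma M₁ := by
        intro p hp hpd
        rw [hσM₁]
        exact hx'σ p hp (hpd.trans hx''d)
      rcases h32 M₁ hM₁c x hxM₁ hx1 x'' (Subgroup.mem_inf.mpr ⟨hx''M₁, hx''C⟩) hx''1 hx''σ with
        ⟨-, hle⟩ | ⟨-, ⟨L, hL, hLσ⟩, hCx'', huniq⟩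
      · exact absurd hle hCM₁
      · -- `g ∈ C_G(x'') ≤ M₁`, so `r = 1`
        have hx''g : x'' ∈ zpowers g := (zpowers_le.mpr hx'g) hx''z
        have hgC : g ∈ centralizer ({x''} : Set G) := by
          rw [mem_centralizer_singleton_iff]
          obtain ⟨n, hn⟩ := hx''g
          rw [← hn]
          exact ((Commute.refl g).zpow_right n).eq
        have hgM₁ : g ∈ M₁ := hCx'' hgC
        have hrM₁ : r ∈ M₁ := by
          have e : r = x⁻¹ * g * x''⁻¹ := by rw [hg, hx'rx]; group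
          rw [e]
          exact M₁.mul_mem (M₁.mul_mem (M₁.inv_mem (sigmaCore_le M₁ hxM₁)) hgM₁) (M₁.inv_mem hx''M₁)
        obtain ⟨N₁, ⟨hN₁, hCN₁⟩, -, -, -, hcompl₁, -, -⟩ := h75 M₁ hM₁c x hxM₁ hx1 hCM₁
        have hN₁N : N₁ = N := hNuniq N₁ hN₁ hCN₁
        rw [hN₁N] at hcompl₁
        have hr1 : r = 1 := by
          have : r ∈ (M₁ ⊓ C) ⊓ (sigmaCore N ⊓ C) :=
            Subgroup.mem_inf.mpr ⟨Subgroup.mem_inf.mpr ⟨hrM₁, hrC⟩, Subgroup.mem_inf.mpr ⟨hrσ, hrC⟩⟩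
          rw [hcompl₁.2.2.1, mem_bot] at this
          exact this
        have hg' : g = x * x'' := by rw [hg, hx'rx, hr1, one_mul]
        have hcomm'' : x * x'' = x'' * x := comm_of_mem_centralizer_singleton hx''C
        rw [hg']
        exact tau2_case h75 h25 hM₁c hxM₁ hx''1 hcomm'' hL hLσ
          (fun p hp hpd => hx''σ p hp hpd) hCx'' huniq

end Cfsg.Agent.Helper4.BG1379
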