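import Mathlib
import Cfsg.Prelude.Def_Blocks
import Cfsg.Agent.Lib.Helper24.CharLinear
import Cfsg.Agent.Lib.Helper24.CharInduced
import Cfsg.Agent.Lib.Helper10.BR996Defs
import Cfsg.Agent.Lib.Helper21.BTDefs
import Cfsg.Agent.Lib.Helper21.BHDefs
import Cfsg.Agent.Lib.Helper4.BRBTHANUM

/-!
# S4504 piece THANUMB (helper4): the numerics of Theorem A at the boundary `2 z + 1 = p`

`tha_numerics_bdry` with the exact signature of `plans/S4504_Skel2.lean.txt`.
-/

set_option autoImplicit false
set_option linter.unusedSectionVars false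
set_option linter.unusedVariables false

namespace Cfsg.Agent.Helper21.BH

open scoped ComplexConjugate
open Cfsg Cfsg.Agent.Helper24 Cfsg.Agent.Helper10.BR996 Cfsg.Agent.Helper21.BT

universe u

namespace THANUMB

open Cfsg.Agent.Helper5.TLD Cfsg.Agent.Helper7.Homo Cfsg.Agent.Helper7.Frob
open Cfsg.Agent.Helper14.BRB

section Aux

variable {A : Type u} [Group A] [Fintype A] [Fintype (IrrCharacter A)] [DecidableEq A]

/-- the orbit map of a fixed-point-free cyclic group of automorphisms on a nonprincipal linear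
character is injective -/
theorem orbit_injOn (hcomm : ∀ a b : A, a * b = b * a) (ν : MulAut A) (e : ℕ)
    (hfpf : ∀ k : ℕ, 0 < k → k < e → ∀ a : A, (ν ^ k) a = a → a = 1)
    (φ : IrrCharacter A) (hφ : φ ≠ principalChar A) :
    ∀ j k : ℕ, j < e → k < e → compIrr (ν ^ j) φ = compIrr (ν ^ k) φ → j = k := by
  have key : ∀ j k : ℕ, j < k → k < e → compIrr (ν ^ j) φ ≠ compIrr (ν ^ k) φ := by
    intro j k hjk hke h
    have h1 : compIrr (ν ^ j) (compIrr (ν ^ (k - j)) φ) = compIrr (ν ^ k) φ := by
      rw [compIrr_pow_pow, Nat.sub_add_cancel hjk.le]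
    rw [← h1] at h
    have h2 := compIrr_injective (ν ^ j) h
    exact hφ (compIrr_fpf hcomm (ν ^ (k - j)) (hfpf (k - j) (by omega) (by omega)) φ h2.symm)
  intro j k hj hk h
  rcases lt_trichotomy j k with hjk | hjk | hjk
  · exact absurd h (key j k hjk hk)
  · exact hjk
  · exact absurd h.symm (key k j hjk hj)

/-- two orbits are disjoint -/
theorem orbit_disjoint (ν : MulAut A) (e : ℕ) (hνe : ν ^ e = 1)
    (ψ l : IrrCharacter A) (hl : ∀ k, k < e → compIrr (ν ^ k) ψ ≠ l) :
    ∀ j k : ℕ, j < e → k < e → compIrr (ν ^ j) ψ ≠ compIrr (ν ^ k) l := by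
  intro j k hj hk h
  have h1 : compIrr (ν ^ (e - k)) (compIrr (ν ^ k) l) = l := by
    rw [compIrr_pow_pow, Nat.add_sub_cancel' hk.le, hνe, compIrr_one]
  rw [← h, compIrr_pow_pow] at h1
  by_cases hn : j + (e - k) < e
  · exact hl _ hn h1
  · have h2 : ν ^ (j + (e - k)) = ν ^ (j + (e - k) - e) := by
      have : j + (e - k) = (j + (e - k) - e) + e := by omega
      conv_lhs => rw [this, pow_add, hνe, mul_one]
    rw [h2] at h1
    exact hl _ (by omega) h1

end Aux

end THANUMB

section Chain

variable {G : Type u} [Group G] [Fintype G] (p : ℕ) [Fact p.Prime]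

open Cfsg.Agent.Helper5.TLD Cfsg.Agent.Helper7.Homo Cfsg.Agent.Helper7.Frob
open Cfsg.Agent.Helper14.BRB in
/-- PIECE THANUMB (boundary version of `Cfsg.Agent.Helper14.BRB.tha_numerics`). -/
theorem tha_numerics_bdry {A : Type u} [Group A] [Finite A] (hA : Nat.card A = p)
    (ν : MulAut A) (e : ℕ) (he0 : 0 < e) (he : 2 * e ≤ p - 1) (hνe : ν ^ e = 1)
    (hfpf : ∀ k : ℕ, 0 < k → k < e → ∀ a : A, (ν ^ k) a = a → a = 1)
    (π : A → ℂ) (hπ : IsCharacter A π)
    (ψ : IrrCharacter A) (hψ : ψ ≠ principalChar A)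
    (dd δ ε z : ℤ) (hδ : δ = 1 ∨ δ = -1) (hε : ε = 1 ∨ ε = -1)
    (hval : ∀ a : A, a ≠ 1 →
      π a = (dd : ℂ) + (δ : ℂ) * ∑ k ∈ Finset.range e, (ψ : A → ℂ) ((ν ^ k) a))
    (hz : π 1 = (z : ℂ)) (hzc : z ≡ -ε * (e : ℤ) [ZMOD p]) (hzs : 2 * z + 1 ≤ p) :
    ∃ ψ' : IrrCharacter A, ψ' ≠ principalChar A ∧ z = e ∧
      ∀ a : A, a ≠ 1 → π a = ∑ k ∈ Finset.range e, (ψ' : A → ℂ) ((ν ^ k) a) := by
  classical
  letI : Fintype A := Fintype.ofFinite A
  letI : Fintype (IrrCharacter A) := irrFintype
  have hcomm := abs_comm hA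
  have hp2 : 2 ≤ p := (Fact.out : p.Prime).two_le
  have hcard : Fintype.card (IrrCharacter A) = p := by rw [card_irr_abelian hcomm, hA]
  -- the conjugates of `ψ`
  set Ψ : ℕ → IrrCharacter A := fun k => compIrr (ν ^ k) ψ with hΨ
  have hΨ0 : Ψ 0 = ψ := by
    apply Subtype.ext
    funext a
    show (ψ : A → ℂ) ((ν ^ 0) a) = (ψ : A → ℂ) a
    rw [pow_zero]; rfl
  have hΨne : ∀ k, Ψ k ≠ principalChar A := fun k => compIrr_ne_principal (ν ^ k) hψ
  have hΨψ : ∀ k, 0 < k → k < e → Ψ k ≠ ψ := by
    intro k hk0 hke h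
    exact hψ (compIrr_fpf hcomm (ν ^ k) (hfpf k hk0 hke) ψ h)
  -- a generic character
  obtain ⟨l, hl1, hlΨ⟩ : ∃ l : IrrCharacter A, l ≠ principalChar A ∧ ∀ k, k < e → Ψ k ≠ l := by
    by_contra hcon
    push Not at hcon
    have hsub : (Finset.univ : Finset (IrrCharacter A)) ⊆
        insert (principalChar A) ((Finset.range e).image Ψ) := by
      intro l _
      by_cases h1 : l = principalChar A
      · rw [h1]; exact Finset.mem_insert_self _ _
      · obtain ⟨k, hk, hkl⟩ := hcon l h1
        exact Finset.mem_insert_of_mem (Finset.mem_image.mpr ⟨k, Finset.mem_range.mpr hk, hkl⟩)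
    have h1 := Finset.card_le_card hsub
    have h2 := Finset.card_insert_le (principalChar A) ((Finset.range e).image Ψ)
    have h3 := Finset.card_image_le (s := Finset.range e) (f := Ψ)
    rw [Finset.card_univ, hcard] at h1
    rw [Finset.card_range] at h3
    omega
  -- the three multiplicities
  obtain ⟨c', hc'⟩ := thanum_mult hA hπ l
  obtain ⟨mψ, hmψ⟩ := thanum_mult hA hπ ψ
  obtain ⟨m1, hm1⟩ := thanum_mult hA hπ (principalChar A)
  have F := thanum_formula hA ν e π ψ dd δ z hval hz
  -- generic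
  have E1 : (p : ℤ) * c' = z - dd - δ * e := by
    have h := F l
    rw [hc', if_neg (fun h => hl1 h.symm)] at h
    have h2 : ∑ k ∈ Finset.range e, ((if compIrr (ν ^ k) ψ = l then (p : ℂ) else 0) - 1) =
        ∑ k ∈ Finset.range e, ((0 : ℂ) - 1) :=
      Finset.sum_congr rfl fun k hk => by rw [if_neg (hlΨ k (Finset.mem_range.mp hk))]
    rw [h2, Finset.sum_const, Finset.card_range] at h
    have h3 : ((p : ℤ) : ℂ) * ((c' : ℤ) : ℂ) = ((z - dd - δ * e : ℤ) : ℂ) := by
      push_cast
      rw [h]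
      simp only [nsmul_eq_mul]
      ring
    exact_mod_cast h3
  -- `λ = 1`
  have E2 : (p : ℤ) * m1 = z - dd - δ * e + p * dd := by
    have h := F (principalChar A)
    rw [hm1, if_pos rfl] at h
    have h2 : ∑ k ∈ Finset.range e,
        ((if compIrr (ν ^ k) ψ = principalChar A then (p : ℂ) else 0) - 1) =
        ∑ k ∈ Finset.range e, ((0 : ℂ) - 1) :=
      Finset.sum_congr rfl fun k _ => by rw [if_neg (hΨne k)]
    rw [h2, Finset.sum_const, Finset.card_range] at h
    have h3 : ((p : ℤ) : ℂ) * ((m1 : ℤ) : ℂ) = ((z - dd - δ * e + p * dd : ℤ) : ℂ) := by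
      push_cast
      rw [h]
      simp only [nsmul_eq_mul]
      ring
    exact_mod_cast h3
  -- `λ = ψ`
  have E3 : (p : ℤ) * mψ = z - dd - δ * e + p * δ := by
    have h := F ψ
    rw [hmψ, if_neg (fun h => hψ h.symm)] at h
    have h2 : ∑ k ∈ Finset.range e, ((if compIrr (ν ^ k) ψ = ψ then (p : ℂ) else 0) - 1) =
        (p : ℂ) - e := by
      rw [Finset.sum_sub_distrib, Finset.sum_const, Finset.card_range]
      rw [Finset.sum_eq_single_of_mem 0 (Finset.mem_range.mpr he0)]
      · rw [if_pos hΨ0]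
        simp
      · intro k hk hk0
        rw [if_neg (hΨψ k (Nat.pos_of_ne_zero hk0) (Finset.mem_range.mp hk))]
    rw [h2] at h
    have h3 : ((p : ℤ) : ℂ) * ((mψ : ℤ) : ℂ) = ((z - dd - δ * e + p * δ : ℤ) : ℂ) := by
      push_cast
      rw [h]
      ring
    exact_mod_cast h3
  -- arithmetic
  have hpz : (0 : ℤ) < p := by exact_mod_cast (Fact.out : p.Prime).pos
  have hc'0 : (0 : ℤ) ≤ c' := Int.natCast_nonneg _
  have hm10 : (0 : ℤ) ≤ m1 := Int.natCast_nonneg _
  have hmψ0 : (0 : ℤ) ≤ mψ := Int.natCast_nonneg _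
  have he' : (2 : ℤ) * e ≤ p - 1 := by
    have : ((2 * e : ℕ) : ℤ) ≤ ((p - 1 : ℕ) : ℤ) := by exact_mod_cast he
    rw [Nat.cast_sub (by omega : 1 ≤ p)] at this
    push_cast at this
    linarith
  have he0' : (0 : ℤ) < e := by exact_mod_cast he0
  -- `m1 = c' + dd`, `mψ = c' + δ`
  have hm1' : (m1 : ℤ) = c' + dd := by
    have : (p : ℤ) * m1 = p * (c' + dd) := by rw [E2, mul_add, E1]
    exact mul_left_cancel₀ hpz.ne' this
  have hmψ' : (mψ : ℤ) = c' + δ := by
    have : (p : ℤ) * mψ = p * (c' + δ) := by rw [E3, mul_add, E1]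
    exact mul_left_cancel₀ hpz.ne' this
  have hδ1 : -1 ≤ δ := by rcases hδ with h | h <;> rw [h] <;> norm_num
  by_cases hc'z : (c' : ℤ) = 0
  · -- the old solution
    rw [hc'z] at hm1' hmψ' E1
    have hδ' : δ = 1 := by
      rcases hδ with h | h
      · exact h
      · rw [h] at hmψ'; omega
    have hdd0 : 0 ≤ dd := by omega
    have hz' : z = dd + e := by rw [hδ'] at E1; linarith
    have hdd : dd = 0 := by
      rcases hε with h | h
      · exfalso
        rw [h] at hzc
        have h1 : (p : ℤ) ∣ z + e := by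
          have h2 : (p : ℤ) ∣ z - (-1 * (e : ℤ)) := by
            have := (Int.modEq_iff_dvd.mp hzc.symm)
            simpa using this
          have h3 : z - (-1 * (e : ℤ)) = z + e := by ring
          rwa [h3] at h2
        have h2 : 0 < z + e := by linarith
        have h3 : z + e < p := by linarith
        exact absurd (Int.le_of_dvd h2 h1) (by linarith)
      · rw [h] at hzc
        have h1 : (p : ℤ) ∣ z - e := by
          have h2 := (Int.modEq_iff_dvd.mp hzc.symm)
          have h3 : z - -(-1) * (e : ℤ) = z - e := by ring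
          rwa [h3] at h2
        have h2 : z - e = dd := by linarith
        rw [h2] at h1
        by_contra hne
        have h3 : 0 < dd := by omega
        have h4 : dd < p := by linarith
        exact absurd (Int.le_of_dvd h3 h1) (by linarith)
    refine ⟨ψ, hψ, by rw [hz', hdd, zero_add], fun a ha => ?_⟩
    rw [hval a ha, hdd, hδ']
    simp
  · -- the boundary solution `c' = 1, δ = -1, dd = -1, 2 e = p - 1`
    have h1 : (1 : ℤ) ≤ c' := by omega
    have h2 : z = p * c' + dd + δ * e := by linarith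
    have h3 : dd ≥ -c' := by linarith
    have h4 : δ * e ≥ -e := by nlinarith
    have h5 : (p : ℤ) * c' ≥ p + (p - 1) * (c' - 1) + (c' - 1) := by nlinarith
    have hc1 : (c' : ℤ) = 1 := by
      by_contra hne
      have h6 : (2 : ℤ) ≤ c' := by omega
      nlinarith
    rw [hc1] at h2 h3 hm1' hmψ' E1
    have h2e : (2 : ℤ) * e = p - 1 := by nlinarith
    have hddv : dd = -1 := by nlinarith
    have hδv : δ = -1 := by
      rcases hδ with h | h
      · exfalso; rw [h] at h2; nlinarith
      · exact h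
    have hzv : z = e := by rw [hddv, hδv] at h2; linarith
    -- the second orbit
    set L : ℕ → IrrCharacter A := fun k => compIrr (ν ^ k) l with hL
    have hinjΨ := THANUMB.orbit_injOn hcomm ν e hfpf ψ hψ
    have hinjL := THANUMB.orbit_injOn hcomm ν e hfpf l hl1
    have hdisj := THANUMB.orbit_disjoint ν e hνe ψ l hlΨ
    have hLne : ∀ k, L k ≠ principalChar A := fun k => compIrr_ne_principal (ν ^ k) hl1
    have hcΨ : ((Finset.range e).image Ψ).card = e := by
      rw [Finset.card_image_of_injOn, Finset.card_range]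
      intro j hj k hk h
      exact hinjΨ j k (Finset.mem_range.mp (Finset.mem_coe.mp hj))
        (Finset.mem_range.mp (Finset.mem_coe.mp hk)) h
    have hcL : ((Finset.range e).image L).card = e := by
      rw [Finset.card_image_of_injOn, Finset.card_range]
      intro j hj k hk h
      exact hinjL j k (Finset.mem_range.mp (Finset.mem_coe.mp hj))
        (Finset.mem_range.mp (Finset.mem_coe.mp hk)) h
    have hdΨL : Disjoint ((Finset.range e).image Ψ) ((Finset.range e).image L) := by
      rw [Finset.disjoint_left]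
      intro x hx hx'
      obtain ⟨j, hj, rfl⟩ := Finset.mem_image.mp hx
      obtain ⟨k, hk, hk'⟩ := Finset.mem_image.mp hx'
      exact hdisj j k (Finset.mem_range.mp hj) (Finset.mem_range.mp hk) hk'.symm
    have hd1 : principalChar A ∉ (Finset.range e).image Ψ ∪ (Finset.range e).image L := by
      intro h
      rcases Finset.mem_union.mp h with h | h
      · obtain ⟨k, _, hk⟩ := Finset.mem_image.mp h
        exact hΨne k hk
      · obtain ⟨k, _, hk⟩ := Finset.mem_image.mp h
        exact hLne k hk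
    have hpe : p = 2 * e + 1 := by
      have : (p : ℤ) = 2 * e + 1 := by linarith
      exact_mod_cast this
    have hS : insert (principalChar A) ((Finset.range e).image Ψ ∪ (Finset.range e).image L) =
        (Finset.univ : Finset (IrrCharacter A)) := by
      apply Finset.eq_univ_of_card
      rw [Finset.card_insert_of_notMem hd1, Finset.card_union_of_disjoint hdΨL, hcΨ, hcL, hcard]
      omega
    refine ⟨l, hl1, hzv, fun a ha => ?_⟩
    have hsum := sum_irr hcomm a
    rw [if_neg ha, ← hS, Finset.sum_insert hd1, Finset.sum_union hdΨL,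
      Finset.sum_image (fun j hj k hk h => hinjΨ j k (Finset.mem_range.mp hj)
        (Finset.mem_range.mp hk) h),
      Finset.sum_image (fun j hj k hk h => hinjL j k (Finset.mem_range.mp hj)
        (Finset.mem_range.mp hk) h)] at hsum
    rw [hval a ha, hddv, hδv]
    have h7 : ∀ k, ((compIrr (ν ^ k) ψ : IrrCharacter A) : A → ℂ) a = (ψ : A → ℂ) ((ν ^ k) a) :=
      fun k => rfl
    have h8 : ∀ k, ((compIrr (ν ^ k) l : IrrCharacter A) : A → ℂ) a = (l : A → ℂ) ((ν ^ k) a) :=
      fun k => rfl
    simp only [h7, h8, principalChar_apply] at hsum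
    push_cast
    linear_combination -hsum

end Chain

end Cfsg.Agent.Helper21.BH
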