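import Mathlib
import Cfsg.Agent.Lib.Helper3.Basic
import Cfsg.Agent.Lib.Helper3.Permutable
import Cfsg.Agent.Lib.Helper3.NilpotentCoprime
import Cfsg.Agent.Lib.Helper3.Card
import Cfsg.Agent.Lib.Helper7.Cores

set_option autoImplicit false

/-! Kegel--Wielandt: basic tools (Sylow parts of nilpotent subgroups, factorisations). -/

namespace Cfsg.Agent.Helper4.KW

open scoped Pointwise commutatorElement
open Cfsg.Agent.Helper3

universe u

variable {G : Type u} [Group G]

/-- In a finite nilpotent group, a Sylow `p`-subgroup consists of all `p`-elements. -/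
theorem mem_sylow_iff_of_nilpotent {N : Type u} [Group N] [Finite N] (hN : Group.IsNilpotent N)
    {p : ℕ} [Fact p.Prime] (P : Sylow p N) (x : N) : x ∈ P ↔ ∃ k : ℕ, x ^ p ^ k = 1 := by
  constructor
  · intro hx
    obtain ⟨k, hk⟩ := P.2 ⟨x, hx⟩
    exact ⟨k, by simpa using congrArg Subtype.val hk⟩
  · rintro ⟨k, hk⟩
    have hz : IsPGroup p (Subgroup.zpowers x) := by
      rintro ⟨y, hy⟩
      obtain ⟨n, rfl⟩ := Subgroup.mem_zpowers_iff.mp hy
      refine ⟨k, ?_⟩
      apply Subtype.ext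
      simp only [Subgroup.coe_pow, Subgroup.coe_one]
      rw [← zpow_natCast, ← zpow_mul, mul_comm, zpow_mul, zpow_natCast, hk, one_zpow]
    obtain ⟨P', hP'⟩ := hz.exists_le_sylow
    have hn : (P : Subgroup N).Normal :=
      Sylow.normal_of_normalizerCondition Group.normalizerCondition_of_isNilpotent P
    haveI := Sylow.unique_of_normal P hn
    have : P' = P := Subsingleton.elim _ _
    rw [← this]
    exact hP' (Subgroup.mem_zpowers x)

/-- The `p`-part of a subgroup (meaningful when the subgroup is nilpotent). -/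
noncomputable def pS (A : Subgroup G) (p : ℕ) : Subgroup G :=
  ((default : Sylow p A) : Subgroup A).map A.subtype

theorem pS_le (A : Subgroup G) (p : ℕ) : pS A p ≤ A := by
  rintro x ⟨y, _, rfl⟩
  exact y.2

theorem pS_isPGroup (A : Subgroup G) (p : ℕ) : IsPGroup p (pS A p) :=
  (default : Sylow p A).2.map A.subtype

theorem mem_pS_iff [Finite G] {A : Subgroup G} (hA : Group.IsNilpotent A) {p : ℕ} [Fact p.Prime]
    (x : G) : x ∈ pS A p ↔ x ∈ A ∧ ∃ k : ℕ, x ^ p ^ k = 1 := by
  constructor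
  · rintro ⟨y, hy, rfl⟩
    refine ⟨y.2, ?_⟩
    obtain ⟨k, hk⟩ := (mem_sylow_iff_of_nilpotent hA (default : Sylow p A) y).mp hy
    exact ⟨k, by simpa using congrArg Subtype.val hk⟩
  · rintro ⟨hx, k, hk⟩
    refine ⟨⟨x, hx⟩, ?_, rfl⟩
    apply (mem_sylow_iff_of_nilpotent hA (default : Sylow p A) ⟨x, hx⟩).mpr
    exact ⟨k, Subtype.ext (by simpa using hk)⟩

theorem sylow_map_eq_pS [Finite G] {A : Subgroup G} (hA : Group.IsNilpotent A) {p : ℕ}
    [Fact p.Prime] (P : Sylow p A) : (P : Subgroup A).map A.subtype = pS A p := by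
  have hn : (P : Subgroup A).Normal :=
    Sylow.normal_of_normalizerCondition Group.normalizerCondition_of_isNilpotent P
  haveI := Sylow.unique_of_normal P hn
  have : P = default := Subsingleton.elim _ _
  rw [this]; rfl

theorem card_pS [Finite G] (A : Subgroup G) (p : ℕ) [Fact p.Prime] :
    Nat.card (pS A p) = p ^ (Nat.card A).factorization p := by
  unfold pS
  rw [Subgroup.card_map_of_injective (Subgroup.subtype_injective _)]
  exact Sylow.card_eq_multiplicity _

theorem pS_ne_bot_iff [Finite G] (A : Subgroup G) (p : ℕ) [hp : Fact p.Prime] :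
    pS A p ≠ ⊥ ↔ p ∣ Nat.card A := by
  rw [← Subgroup.one_lt_card_iff_ne_bot, card_pS]
  constructor
  · intro h
    by_contra hnd
    rw [Nat.factorization_eq_zero_of_not_dvd hnd, pow_zero] at h
    exact lt_irrefl _ h
  · intro h
    apply Nat.one_lt_pow _ hp.1.one_lt
    exact (hp.1.factorization_pos_of_dvd Nat.card_pos.ne' h).ne'

theorem pS_conj [Finite G] {A : Subgroup G} (hA : Group.IsNilpotent A) {p : ℕ} [Fact p.Prime]
    {g : G} (hg : MulAut.conj g • A = A) : MulAut.conj g • pS A p = pS A p := by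
  ext x
  rw [mem_conj_smul_iff, mem_pS_iff hA, mem_pS_iff hA]
  have h1 : g⁻¹ * x * g ∈ A ↔ x ∈ A := by
    rw [← mem_conj_smul_iff, hg]
  rw [h1]
  have h2 : ∀ k : ℕ, (g⁻¹ * x * g) ^ p ^ k = 1 ↔ x ^ p ^ k = 1 := by
    intro k
    have : (g⁻¹ * x * g) ^ p ^ k = g⁻¹ * x ^ p ^ k * g := by
      have := conj_pow (a := g⁻¹) (b := x) (i := p ^ k)
      simpa using this
    rw [this]
    constructor
    · intro h
      have : x ^ p ^ k = g * (g⁻¹ * x ^ p ^ k * g) * g⁻¹ := by group
      rw [this, h]; group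
    · intro h; rw [h]; group
  simp only [h2]

theorem le_normalizer_pS [Finite G] {A : Subgroup G} (hA : Group.IsNilpotent A) {p : ℕ}
    [Fact p.Prime] : Subgroup.normalizer (A : Set G) ≤ Subgroup.normalizer (pS A p : Set G) := by
  intro g hg
  apply mem_normalizer_of_conj_smul_eq
  exact pS_conj hA (conj_smul_eq_of_mem_normalizer hg)

theorem le_normalizer_pS' [Finite G] {A : Subgroup G} (hA : Group.IsNilpotent A) {p : ℕ}
    [Fact p.Prime] : A ≤ Subgroup.normalizer (pS A p : Set G) :=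
  Subgroup.le_normalizer.trans (le_normalizer_pS hA)

theorem orderOf_dvd_of_mem_pS {A : Subgroup G} {p : ℕ} [Fact p.Prime] {x : G}
    (hx : x ∈ pS A p) : ∃ k : ℕ, orderOf x = p ^ k := by
  obtain ⟨k, hk⟩ := pS_isPGroup A p ⟨x, hx⟩
  have h1 : x ^ p ^ k = 1 := by simpa using congrArg Subtype.val hk
  obtain ⟨j, _, hj⟩ := (Nat.dvd_prime_pow (Fact.out : p.Prime)).mp (orderOf_dvd_of_pow_eq_one h1)
  exact ⟨j, hj⟩

theorem commute_pS [Finite G] {A : Subgroup G} (hA : Group.IsNilpotent A) {p r : ℕ}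
    [hp : Fact p.Prime] [hr : Fact r.Prime] (hpr : p ≠ r) {x y : G} (hx : x ∈ pS A p)
    (hy : y ∈ pS A r) : x * y = y * x := by
  obtain ⟨k, hk⟩ := orderOf_dvd_of_mem_pS hx
  obtain ⟨j, hj⟩ := orderOf_dvd_of_mem_pS hy
  apply mul_comm_of_mem_isNilpotent_of_coprime hA (pS_le A p hx) (pS_le A r hy)
  rw [hk, hj]
  exact Nat.Coprime.pow _ _ ((Nat.coprime_primes hp.1 hr.1).mpr hpr)

/-- A nilpotent subgroup is generated by its Sylow parts. -/
theorem le_of_pS_le [Finite G] (A K : Subgroup G)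
    (h : ∀ p : ℕ, ∀ _ : Fact p.Prime, pS A p ≤ K) : A ≤ K := by
  have hdvd : Nat.card A ∣ Nat.card (A ⊓ K : Subgroup G) := by
    rw [← Nat.factorization_prime_le_iff_dvd Nat.card_pos.ne' Nat.card_pos.ne']
    intro p hp
    haveI : Fact p.Prime := ⟨hp⟩
    have h1 : pS A p ≤ A ⊓ K := le_inf (pS_le A p) (h p ⟨hp⟩)
    have h2 := Subgroup.card_dvd_of_le h1
    rw [card_pS] at h2
    exact (hp.pow_dvd_iff_le_factorization Nat.card_pos.ne').mp h2
  have hle : Nat.card A ≤ Nat.card (A ⊓ K : Subgroup G) := Nat.le_of_dvd Nat.card_pos hdvd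
  have : A ⊓ K = A := Subgroup.eq_of_le_of_card_ge inf_le_left hle
  rw [← this]; exact inf_le_right


/-- A central element in a nontrivial Sylow part of a nilpotent subgroup. -/
theorem exists_central_mem_pS [Finite G] {A : Subgroup G} (hA : Group.IsNilpotent A) {p : ℕ}
    [Fact p.Prime] (h : pS A p ≠ ⊥) :
    ∃ z ∈ pS A p, z ≠ 1 ∧ ∀ a ∈ A, a * z = z * a := by
  haveI : Nontrivial (pS A p) := (Subgroup.nontrivial_iff_ne_bot _).mpr h
  haveI := (pS_isPGroup A p).center_nontrivial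
  obtain ⟨⟨z, hzc⟩, hz1⟩ := exists_ne (1 : Subgroup.center (pS A p))
  have hzne : (z : G) ≠ 1 := by
    intro h0
    apply hz1
    apply Subtype.ext
    apply Subtype.ext
    simpa using h0
  refine ⟨z, z.2, hzne, ?_⟩
  have hle : A ≤ Subgroup.centralizer ({(z : G)} : Set G) := by
    apply le_of_pS_le
    intro r hr
    intro y hy
    rw [Subgroup.mem_centralizer_singleton_iff]
    by_cases hrp : r = p
    · subst hrp
      have := Subgroup.mem_center_iff.mp hzc ⟨y, hy⟩
      exact congrArg Subtype.val this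
    · exact commute_pS hA hrp hy z.2
  intro a ha
  have := hle ha
  rw [Subgroup.mem_centralizer_singleton_iff] at this
  exact this

/-! ### Factorisations by nilpotent subgroups -/

/-- `G = AB` with `A`, `B` nilpotent. -/
structure NF (A B : Subgroup G) : Prop where
  nilA : Group.IsNilpotent A
  nilB : Group.IsNilpotent B
  fact : ∀ g : G, ∃ a ∈ A, ∃ b ∈ B, g = a * b

theorem NF.symm {A B : Subgroup G} (h : NF A B) : NF B A :=
  ⟨h.nilB, h.nilA, fun g => by
    obtain ⟨a, ha, b, hb, e⟩ := h.fact g⁻¹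
    exact ⟨b⁻¹, B.inv_mem hb, a⁻¹, A.inv_mem ha, by rw [← mul_inv_rev, ← e, inv_inv]⟩⟩

theorem isNilpotent_subgroupOf {A : Subgroup G} (hA : Group.IsNilpotent A) (X : Subgroup G) :
    Group.IsNilpotent (A.subgroupOf X) := by
  let f : A.subgroupOf X →* A :=
    { toFun := fun x => ⟨x.1.1, Subgroup.mem_subgroupOf.mp x.2⟩
      map_one' := rfl
      map_mul' := fun _ _ => rfl }
  have hf : Function.Injective f := fun x y h =>
    Subtype.ext (Subtype.ext (congrArg (fun z : A => (z : G)) h))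
  apply Subgroup.isNilpotent_of_ker_le_center f
  rw [(MonoidHom.ker_eq_bot_iff f).mpr hf]
  exact bot_le

theorem isNilpotent_of_le {A K : Subgroup G} (hA : Group.IsNilpotent A) (h : K ≤ A) :
    Group.IsNilpotent K := by
  apply Subgroup.isNilpotent_of_ker_le_center (Subgroup.inclusion h)
  rw [(MonoidHom.ker_eq_bot_iff _).mpr (Subgroup.inclusion_injective h)]
  exact bot_le

theorem NF.restrict {A B : Subgroup G} (h : NF A B) (X : Subgroup G)
    (hfac : ∀ x ∈ X, ∃ a ∈ A ⊓ X, ∃ b ∈ B ⊓ X, x = a * b) :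
    NF (A.subgroupOf X) (B.subgroupOf X) :=
  ⟨isNilpotent_subgroupOf h.nilA X, isNilpotent_subgroupOf h.nilB X, fun x => by
    obtain ⟨a, ha, b, hb, e⟩ := hfac x.1 x.2
    exact ⟨⟨a, ha.2⟩, Subgroup.mem_subgroupOf.mpr ha.1, ⟨b, hb.2⟩,
      Subgroup.mem_subgroupOf.mpr hb.1, Subtype.ext e⟩⟩

theorem NF.fact_of_le {A B : Subgroup G} (h : NF A B) {X : Subgroup G} (hAX : A ≤ X) :
    ∀ x ∈ X, ∃ a ∈ A ⊓ X, ∃ b ∈ B ⊓ X, x = a * b := by
  intro x hx
  obtain ⟨a, ha, b, hb, e⟩ := h.fact x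
  refine ⟨a, ⟨ha, hAX ha⟩, b, ⟨hb, ?_⟩, e⟩
  have : b = a⁻¹ * x := by rw [e]; group
  rw [this]
  exact X.mul_mem (X.inv_mem (hAX ha)) hx

theorem NF.quotient {A B : Subgroup G} (h : NF A B) (N : Subgroup G) [N.Normal] :
    NF (A.map (QuotientGroup.mk' N)) (B.map (QuotientGroup.mk' N)) := by
  refine ⟨?_, ?_, ?_⟩
  · haveI := h.nilA
    exact Group.nilpotent_of_surjective ((QuotientGroup.mk' N).subgroupMap A)
      (MonoidHom.subgroupMap_surjective _ _)
  · haveI := h.nilB
    exact Group.nilpotent_of_surjective ((QuotientGroup.mk' N).subgroupMap B)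
      (MonoidHom.subgroupMap_surjective _ _)
  · intro g
    obtain ⟨g, rfl⟩ := QuotientGroup.mk'_surjective N g
    obtain ⟨a, ha, b, hb, e⟩ := h.fact g
    exact ⟨_, ⟨a, ha, rfl⟩, _, ⟨b, hb, rfl⟩, by rw [e, map_mul]⟩

/-- Conjugates of the second factor by arbitrary elements are conjugates by elements of the
first factor. -/
theorem NF.conj_eq {A B : Subgroup G} (h : NF A B) {B₀ : Subgroup G}
    (hB₀ : B ≤ Subgroup.normalizer (B₀ : Set G)) (g : G) :
    ∃ a ∈ A, MulAut.conj g • B₀ = MulAut.conj a • B₀ := by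
  obtain ⟨a, ha, b, hb, e⟩ := h.fact g
  refine ⟨a, ha, ?_⟩
  rw [e, map_mul, mul_smul, conj_smul_eq_of_mem_normalizer (hB₀ hb)]

/-! ### Permuting `p`-subgroups commute modulo `O_p` -/

theorem isPGroup_sup_of_permutes [Finite G] {p : ℕ} [hp : Fact p.Prime] {X K : Subgroup G}
    (hX : IsPGroup p X) (hK : IsPGroup p K) (h : Permutes X K) : IsPGroup p (X ⊔ K : Subgroup G) := by
  obtain ⟨a, ha⟩ := IsPGroup.iff_card.mp hX
  obtain ⟨b, hb⟩ := IsPGroup.iff_card.mp hK
  have h1 := card_set_mul_mul_card_inf X K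
  rw [← h.coe_sup] at h1
  have h2 : Nat.card (X ⊔ K : Subgroup G) ∣ p ^ (a + b) := by
    rw [pow_add, ← ha, ← hb, ← h1]
    exact Dvd.intro _ rfl
  obtain ⟨c, _, hc⟩ := (Nat.dvd_prime_pow hp.1).mp h2
  exact IsPGroup.of_card hc

/-- If the `p`-subgroup `P₁` permutes with every conjugate of the `p`-subgroup `P₂`, then
`[P₁, P₂] ≤ O_p(G)`. -/
theorem commutator_le_pCore_of_permutes [Finite G] {p : ℕ} [Fact p.Prime] (P₁ P₂ : Subgroup G)
    (h1 : IsPGroup p P₁) (h2 : IsPGroup p P₂)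
    (h : ∀ g : G, Permutes P₁ (MulAut.conj g • P₂)) : ⁅P₁, P₂⁆ ≤ Cfsg.pCore p G := by
  classical
  let S : Set (Subgroup G) :=
    {X | P₁ ≤ X ∧ IsPGroup p X ∧ ∀ g : G, Permutes X (MulAut.conj g • P₂)}
  have hSne : S.Nonempty := ⟨P₁, le_rfl, h1, h⟩
  obtain ⟨X, hXmax⟩ := (Set.toFinite S).exists_maximal hSne
  obtain ⟨hP₁X, hXp, hXperm⟩ := hXmax.prop
  have hconjp : ∀ g : G, IsPGroup p (MulAut.conj g • P₂ : Subgroup G) := by
    intro g
    apply IsPGroup.of_card (n := (Nat.card P₂).factorization p)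
    rw [card_conj_smul']
    obtain ⟨b, hb⟩ := IsPGroup.iff_card.mp h2
    rw [hb, Nat.Prime.factorization_pow (Fact.out : p.Prime)]
    simp
  -- every conjugate of `P₂` normalises `X`
  have hnorm : ∀ g : G, MulAut.conj g • P₂ ≤ Subgroup.normalizer (X : Set G) := by
    intro g b hb
    set Y : Subgroup G := X ⊔ MulAut.conj b • X with hY
    have hW : IsPGroup p (X ⊔ MulAut.conj g • P₂ : Subgroup G) :=
      isPGroup_sup_of_permutes hXp (hconjp g) (hXperm g)
    have hbX : MulAut.conj b • X ≤ X ⊔ MulAut.conj g • P₂ := by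
      intro x hx
      rw [mem_conj_smul_iff] at hx
      have hbW : b ∈ X ⊔ MulAut.conj g • P₂ := Subgroup.mem_sup_right hb
      have hxW : b⁻¹ * x * b ∈ X ⊔ MulAut.conj g • P₂ := Subgroup.mem_sup_left hx
      have : x = b * (b⁻¹ * x * b) * b⁻¹ := by group
      rw [this]
      exact mul_mem (mul_mem hbW hxW) (inv_mem hbW)
    have hYS : Y ∈ S := by
      refine ⟨hP₁X.trans le_sup_left, hW.to_le (sup_le le_sup_left hbX), ?_⟩
      intro k
      apply Permutes.sup_left (hXperm k)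
      have := (hXperm (b⁻¹ * k)).conj_smul b
      rwa [← mul_smul, ← map_mul, mul_inv_cancel_left] at this
    have hYX : Y ≤ X := hXmax.le_of_ge hYS le_sup_left
    have hle : MulAut.conj b • X ≤ X := le_sup_right.trans hYX
    have heq : MulAut.conj b • X = X :=
      Subgroup.eq_of_le_of_card_ge hle (by rw [card_conj_smul'])
    exact mem_normalizer_of_conj_smul_eq heq
  set T : Subgroup G := Subgroup.normalClosure (P₂ : Set G) with hT
  have hTn : T ≤ Subgroup.normalizer (X : Set G) := by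
    rw [hT, Subgroup.normalClosure]
    rw [Subgroup.closure_le]
    intro a ha
    rw [Group.mem_conjugatesOfSet_iff] at ha
    obtain ⟨b, hb, hab⟩ := ha
    rw [isConj_iff] at hab
    obtain ⟨c, rfl⟩ := hab
    exact hnorm c (conj_mem_conj_smul hb)
  have hP₂T : P₂ ≤ T := Subgroup.le_normalClosure
  haveI hTnormal : T.Normal := Subgroup.normalClosure_normal
  -- `X ⊓ T` is a subnormal `p`-subgroup
  have hsub : (X ⊓ T : Subgroup G).IsSubnormal := by
    apply Subgroup.IsSubnormal.step _ T inf_le_right hTnormal.isSubnormal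
    rw [Subgroup.normal_subgroupOf_iff_le_normalizer inf_le_right]
    intro t ht
    rw [Subgroup.mem_normalizer_iff]
    intro x
    have h3 := (Subgroup.mem_normalizer_iff.mp (hTn ht)) x
    have h4 : x ∈ T ↔ t * x * t⁻¹ ∈ T := by
      constructor
      · intro hx; exact hTnormal.conj_mem x hx t
      · intro hx
        have := hTnormal.conj_mem _ hx t⁻¹
        simpa [mul_assoc] using this
    simp only [Subgroup.mem_inf] at h3 ⊢
    rw [h3, h4]
  have hIp : IsPGroup p (X ⊓ T : Subgroup G) := hXp.to_le inf_le_left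
  have hI := Cfsg.Agent.Helper7.subnormal_isPGroup_le_pCore p _ hsub hIp
  refine le_trans ?_ hI
  rw [Subgroup.commutator_le]
  intro x hx y hy
  have hxX : x ∈ X := hP₁X hx
  have hyT : y ∈ T := hP₂T hy
  refine ⟨?_, ?_⟩
  · -- in `X`
    have h3 : y * x⁻¹ * y⁻¹ ∈ X := by
      have := (Subgroup.mem_normalizer_iff.mp (hTn hyT)) x⁻¹
      exact this.mp (X.inv_mem hxX)
    have : ⁅x, y⁆ = x * (y * x⁻¹ * y⁻¹) := by rw [commutatorElement_def]; group
    rw [this]
    exact X.mul_mem hxX h3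
  · have h3 : x * y * x⁻¹ ∈ T := hTnormal.conj_mem y hyT x
    have : ⁅x, y⁆ = (x * y * x⁻¹) * y⁻¹ := by rw [commutatorElement_def]
    rw [this]
    exact T.mul_mem h3 (T.inv_mem hyT)

end Cfsg.Agent.Helper4.KW
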