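import Mathlib
import Cfsg.Agent.Lib.Helper4.KWBasic
import Cfsg.Agent.S0560
import Cfsg.Agent.S0143

set_option autoImplicit false

/-! Kegel--Wielandt: the minimal counterexample, first reductions. -/

namespace Cfsg.Agent.Helper4.KW

open scoped Pointwise commutatorElement
open Cfsg.Agent.Helper3

universe u

variable {G : Type u} [Group G]

/-- A minimal counterexample to the Kegel--Wielandt theorem. -/
structure MC [Finite G] (A B : Subgroup G) : Prop where
  nf : NF A B
  ns : ¬ Group.IsSolvable G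
  ih : ∀ (H : Type u) [Group H] [Finite H] (A' B' : Subgroup H),
    Nat.card H < Nat.card G → NF A' B' → Group.IsSolvable H

variable [Finite G] {A B : Subgroup G}

theorem MC.symm (h : MC A B) : MC B A := ⟨h.nf.symm, h.ns, h.ih⟩

theorem card_lt_of_ne_top {X : Subgroup G} (hX : X ≠ ⊤) : Nat.card X < Nat.card G := by
  apply lt_of_le_of_ne (Subgroup.card_le_card_group X)
  intro h
  exact hX ((Subgroup.card_eq_iff_eq_top X).mp h)

theorem MC.solvable_of_factorized (h : MC A B) {X : Subgroup G} (hX : X ≠ ⊤)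
    (hfac : ∀ x ∈ X, ∃ a ∈ A ⊓ X, ∃ b ∈ B ⊓ X, x = a * b) : Group.IsSolvable X :=
  h.ih X _ _ (card_lt_of_ne_top hX) (h.nf.restrict X hfac)

theorem MC.solvable_of_le (h : MC A B) {X : Subgroup G} (hAX : A ≤ X) (hX : X ≠ ⊤) :
    Group.IsSolvable X :=
  h.solvable_of_factorized hX (h.nf.fact_of_le hAX)

theorem MC.quotient_solvable (h : MC A B) (N : Subgroup G) [N.Normal] (hN : N ≠ ⊥) :
    Group.IsSolvable (G ⧸ N) := by
  apply h.ih (G ⧸ N) _ _ _ (h.nf.quotient N)
  have h1 := Subgroup.card_eq_card_quotient_mul_card_subgroup N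
  have h2 : 1 < Nat.card N := (Subgroup.one_lt_card_iff_ne_bot N).mpr hN
  have h3 : 0 < Nat.card (G ⧸ N) := Nat.card_pos
  rw [h1]
  nlinarith

theorem MC.eq_bot_of_normal_solvable (h : MC A B) (N : Subgroup G) [N.Normal]
    (hs : Group.IsSolvable N) : N = ⊥ := by
  by_contra hN
  haveI := h.quotient_solvable N hN
  apply h.ns
  apply Group.isSolvable_of_ker_le_range N.subtype (QuotientGroup.mk' N)
  rw [QuotientGroup.ker_mk', Subgroup.range_subtype]

theorem solvable_of_le_solvable {X Y : Subgroup G} (hXY : X ≤ Y) (hY : Group.IsSolvable Y) :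
    Group.IsSolvable X :=
  Group.isSolvable_of_isSolvable_injective (Subgroup.inclusion_injective hXY)

theorem MC.eq_bot_of_normal_isPGroup (h : MC A B) (N : Subgroup G) [N.Normal] {p : ℕ}
    [Fact p.Prime] (hp : IsPGroup p N) : N = ⊥ := by
  apply h.eq_bot_of_normal_solvable N
  haveI := hp.isNilpotent
  infer_instance

/-- A nontrivial normal subgroup of `A` generates `G` together with `B`. -/
theorem MC.sup_eq_top (h : MC A B) {A₀ : Subgroup G} (_hA₀ : A₀ ≤ A)
    (hn : A ≤ Subgroup.normalizer (A₀ : Set G)) (hne : A₀ ≠ ⊥) : A₀ ⊔ B = ⊤ := by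
  by_contra hX
  have hs : Group.IsSolvable (A₀ ⊔ B : Subgroup G) := h.symm.solvable_of_le le_sup_right hX
  have hle : Subgroup.normalClosure (A₀ : Set G) ≤ A₀ ⊔ B := by
    rw [Subgroup.normalClosure, Subgroup.closure_le]
    intro x hx
    rw [Group.mem_conjugatesOfSet_iff] at hx
    obtain ⟨y, hy, hyx⟩ := hx
    rw [isConj_iff] at hyx
    obtain ⟨c, rfl⟩ := hyx
    obtain ⟨b, hb, a, ha, e⟩ := h.nf.symm.fact c
    have h1 : a * y * a⁻¹ ∈ A₀ := by
      have := (Subgroup.mem_normalizer_iff.mp (hn ha)) y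
      exact this.mp hy
    have : c * y * c⁻¹ = b * (a * y * a⁻¹) * b⁻¹ := by rw [e]; group
    rw [SetLike.mem_coe, this]
    exact mul_mem (mul_mem (Subgroup.mem_sup_right hb) (Subgroup.mem_sup_left h1))
      (inv_mem (Subgroup.mem_sup_right hb))
  have h2 := h.eq_bot_of_normal_solvable (Subgroup.normalClosure (A₀ : Set G))
    (solvable_of_le_solvable hle hs)
  apply hne
  rw [eq_bot_iff, ← h2]
  exact Subgroup.le_normalClosure

theorem pCore_eq_bot (h : MC A B) (p : ℕ) [Fact p.Prime] : Cfsg.pCore p G = ⊥ := by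
  haveI : (Cfsg.pCore p G).Characteristic := Cfsg.Agent.Helper7.pCore_characteristic p
  exact h.eq_bot_of_normal_isPGroup _ (Cfsg.Agent.Helper7.pCore_isPGroup p)

/-- In a minimal counterexample the factors have coprime orders. -/
theorem MC.coprime (h : MC A B) : (Nat.card A).Coprime (Nat.card B) := by
  apply Nat.coprime_of_dvd
  intro p hp hpA hpB
  haveI : Fact p.Prime := ⟨hp⟩
  obtain ⟨P, Q, R, hR⟩ := Cfsg.Agent.S0560.result A B h.nf.fact p
  rw [sylow_map_eq_pS h.nf.nilA, sylow_map_eq_pS h.nf.nilB] at hR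
  obtain ⟨_, hperm⟩ := permutes_of_coe_eq hR
  have hperm' : ∀ g : G, Permutes (pS A p) (MulAut.conj g • pS B p) := by
    intro g
    obtain ⟨a, ha, e⟩ := h.nf.conj_eq (le_normalizer_pS' h.nf.nilB (p := p)) g
    rw [e]
    have := hperm.conj_smul a
    rwa [conj_smul_eq_of_mem_normalizer (le_normalizer_pS' h.nf.nilA ha)] at this
  have hc := commutator_le_pCore_of_permutes (pS A p) (pS B p) (pS_isPGroup A p)
    (pS_isPGroup B p) hperm'
  rw [pCore_eq_bot h p, le_bot_iff, Subgroup.commutator_eq_bot_iff_le_centralizer] at hc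
  have hAne : pS A p ≠ ⊥ := (pS_ne_bot_iff A p).mpr hpA
  have htop := h.sup_eq_top (pS_le A p) (le_normalizer_pS' h.nf.nilA) hAne
  have hnorm : (pS A p ⊔ B : Subgroup G) ≤ Subgroup.normalizer (pS B p : Set G) :=
    sup_le (hc.trans (Subgroup.centralizer_le_normalizer _)) (le_normalizer_pS' h.nf.nilB)
  rw [htop] at hnorm
  haveI : (pS B p).Normal := Subgroup.normalizer_eq_top_iff.mp (top_le_iff.mp hnorm)
  have := h.eq_bot_of_normal_isPGroup (pS B p) (pS_isPGroup B p)
  exact (pS_ne_bot_iff B p).mpr hpB this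

theorem MC.card_eq (h : MC A B) : Nat.card G = Nat.card A * Nat.card B := by
  have h1 := card_mul_card_inf_of_mul_eq_univ A B h.nf.fact
  have h2 : (A ⊓ B : Subgroup G) = ⊥ := Subgroup.inf_eq_bot_of_coprime h.coprime
  rw [h2, Subgroup.card_bot, mul_one] at h1
  exact h1

theorem MC.inf_eq_bot (h : MC A B) : A ⊓ B = ⊥ := Subgroup.inf_eq_bot_of_coprime h.coprime

/-- A minimal counterexample is simple. -/
theorem MC.eq_bot_or_eq_top (h : MC A B) (N : Subgroup G) [N.Normal] : N = ⊥ ∨ N = ⊤ := by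
  by_cases hN : N = ⊥
  · exact Or.inl hN
  right
  have key : ∀ {A B : Subgroup G}, MC A B → N.index ∣ Nat.card A := by
    intro A B h
    have h1 : N ⊔ A = ⊤ := by
      by_contra hX
      have hs := h.solvable_of_le (le_sup_right : A ≤ N ⊔ A) hX
      exact hN (h.eq_bot_of_normal_solvable N (solvable_of_le_solvable le_sup_left hs))
    have h2 : N.relIndex (N ⊔ A) = N.relIndex A := Subgroup.relIndex_sup_left A N
    rw [h1, Subgroup.relIndex_top_right] at h2
    rw [h2]
    exact Subgroup.relIndex_dvd_card N A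
  have h1 := key h
  have h2 := key h.symm
  have h3 : N.index ∣ 1 := by
    rw [← Nat.Coprime.gcd_eq_one h.coprime]
    exact Nat.dvd_gcd h1 h2
  exact Subgroup.index_eq_one.mp (Nat.dvd_one.mp h3)

theorem MC.nontrivial (h : MC A B) : Nontrivial G := by
  by_contra hn
  rw [not_nontrivial_iff_subsingleton] at hn
  exact h.ns inferInstance

theorem MC.isSimpleGroup (h : MC A B) : IsSimpleGroup G :=
  { toNontrivial := h.nontrivial
    eq_bot_or_eq_top_of_normal := fun N hN => by
      haveI := hN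
      exact h.eq_bot_or_eq_top N }

theorem MC.ne_bot (h : MC A B) : B ≠ ⊥ := by
  intro hB
  apply h.ns
  have hA : A = ⊤ := by
    rw [eq_top_iff]
    intro g _
    obtain ⟨a, ha, b, hb, e⟩ := h.nf.fact g
    rw [hB, Subgroup.mem_bot] at hb
    rw [e, hb, mul_one]; exact ha
  haveI := h.nf.nilA
  haveI : Group.IsNilpotent G := by
    have e : (⊤ : Subgroup G) ≃* G := Subgroup.topEquiv
    rw [hA] at *
    exact Group.nilpotent_of_mulEquiv e
  infer_instance

theorem MC.ne_top (h : MC A B) : A ≠ ⊤ := by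
  intro hA
  apply h.ne_bot
  have := h.inf_eq_bot
  rwa [hA, top_inf_eq] at this

/-- Neither factor of a minimal counterexample has prime power order. -/
theorem MC.not_isPGroup (h : MC A B) (p : ℕ) [hp : Fact p.Prime] : ¬ IsPGroup p A := by
  intro hA
  obtain ⟨k, hk⟩ := IsPGroup.iff_card.mp hA
  have hB1 : 1 < Nat.card B := (Subgroup.one_lt_card_iff_ne_bot B).mpr h.ne_bot
  obtain ⟨q, hq, hqB⟩ := Nat.exists_prime_and_dvd hB1.ne'
  haveI : Fact q.Prime := ⟨hq⟩
  obtain ⟨t, htB, ht1, htc⟩ := exists_central_mem_pS h.nf.nilB ((pS_ne_bot_iff B q).mpr hqB)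
  have hle : B ≤ Subgroup.centralizer ({t} : Set G) := by
    intro b hb
    rw [Subgroup.mem_centralizer_singleton_iff]
    exact htc b hb
  have h1 : (Subgroup.centralizer ({t} : Set G)).index ∣ p ^ k := by
    have h2 := Subgroup.index_dvd_of_le hle
    have h3 : B.index = Nat.card A := by
      have := Subgroup.card_mul_index B
      rw [h.card_eq] at this
      exact Nat.eq_of_mul_eq_mul_left (Nat.card_pos (α := B)) (this.trans (mul_comm _ _))
    rwa [h3, hk] at h2
  obtain ⟨j, _, hj⟩ := (Nat.dvd_prime_pow hp.1).mp h1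
  haveI := h.isSimpleGroup
  have hprime := Cfsg.Agent.S0143.result p j hp.1 t ht1 hj
  haveI : Fact (Nat.card G).Prime := ⟨hprime⟩
  haveI : IsCyclic G := isCyclic_of_prime_card rfl
  apply h.ns
  letI : CommGroup G := IsCyclic.commGroup
  infer_instance

end Cfsg.Agent.Helper4.KW
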