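import Mathlib
import Cfsg.Agent.Lib.Helper4.KWMin
import Cfsg.Agent.Lib.Helper16.Solvable2
import Cfsg.Agent.S0144
import Cfsg.Agent.S0561
import Cfsg.Agent.S0562

set_option autoImplicit false

/-! Kegel--Wielandt: generation lemmas in a minimal counterexample. -/

namespace Cfsg.Agent.Helper4.KW

open scoped Pointwise commutatorElement
open Cfsg.Agent.Helper3

universe u

variable {G : Type u} [Group G]

/-- A normalised `p`-subgroup lies in a Sylow `p`-subgroup. -/
theorem le_of_isPGroup_of_le_normalizer [Finite G] {p a m : ℕ} [hp : Fact p.Prime]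
    {Y Yp V : Subgroup G} (hYpY : Yp ≤ Y) (hVY : V ≤ Y) (hcard : Nat.card Y = p ^ a * m)
    (hm : m.Coprime p) (hYp : Nat.card Yp = p ^ a) (hV : IsPGroup p V)
    (hn : Yp ≤ Subgroup.normalizer (V : Set G)) : V ≤ Yp := by
  have hW : IsPGroup p (Yp ⊔ V : Subgroup G) :=
    IsPGroup.to_sup_of_normal_right' (IsPGroup.of_card hYp) hV hn
  obtain ⟨c, hc⟩ := IsPGroup.iff_card.mp hW
  have hle : (Yp ⊔ V : Subgroup G) ≤ Y := sup_le hYpY hVY
  have h1 : p ^ c ∣ p ^ a * m := by
    rw [← hc, ← hcard]; exact Subgroup.card_dvd_of_le hle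
  have h2 : p ^ c ∣ p ^ a :=
    Nat.Coprime.dvd_of_dvd_mul_right (Nat.Coprime.pow_left c hm.symm) h1
  have h3 : Nat.card (Yp ⊔ V : Subgroup G) ≤ Nat.card Yp := by
    rw [hc, hYp]; exact Nat.le_of_dvd (pow_pos hp.1.pos a) h2
  have h4 : Yp = Yp ⊔ V := Subgroup.eq_of_le_of_card_ge le_sup_left h3
  rw [h4]; exact le_sup_right

/-- A nontrivial product of a `p`-group and a `q`-group has a nontrivial normal subgroup inside
one of the factors (Burnside). -/
theorem exists_normal_prime_power [Finite G] {p q : ℕ} [hp : Fact p.Prime] [hq : Fact q.Prime]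
    (hpq : p ≠ q) {Yp Yq : Subgroup G} (hYp : IsPGroup p Yp) (hYq : IsPGroup q Yq)
    (hperm : Permutes Yp Yq) (hne : Yp ⊔ Yq ≠ ⊥) :
    ∃ V : Subgroup G, V ≠ ⊥ ∧ Yp ⊔ Yq ≤ Subgroup.normalizer (V : Set G) ∧
      (V ≤ Yp ∨ V ≤ Yq) := by
  obtain ⟨a, ha⟩ := IsPGroup.iff_card.mp hYp
  obtain ⟨b, hb⟩ := IsPGroup.iff_card.mp hYq
  have hcop : (p ^ a).Coprime (q ^ b) :=
    Nat.Coprime.pow _ _ ((Nat.coprime_primes hp.1 hq.1).mpr hpq)
  have hinf : Yp ⊓ Yq = ⊥ := Subgroup.inf_eq_bot_of_coprime (by rw [ha, hb]; exact hcop)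
  set Y : Subgroup G := Yp ⊔ Yq with hY
  have hcard : Nat.card Y = p ^ a * q ^ b := by
    have h1 := card_set_mul_mul_card_inf Yp Yq
    rw [← hperm.coe_sup, hinf, Subgroup.card_bot, mul_one, ha, hb] at h1
    exact h1
  have hsolv : Group.IsSolvable Y := Cfsg.Agent.S0144.result p q a b hp.1 hq.1 hcard
  haveI : Nontrivial Y := (Subgroup.nontrivial_iff_ne_bot _).mpr hne
  have key : ∃ N : Subgroup Y, N.Normal ∧ N ≠ ⊥ ∧ (IsPGroup p N ∨ IsPGroup q N) := by
    by_cases h1 : Cfsg.pPrimeCore p Y = ⊥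
    · have h2 := Cfsg.Agent.Helper16.centralizer_pCore_le_of_isSolvable p hsolv h1
      refine ⟨Cfsg.pCore p Y, ?_, ?_, Or.inl (Cfsg.Agent.Helper7.pCore_isPGroup p)⟩
      · haveI : (Cfsg.pCore p Y).Characteristic := Cfsg.Agent.Helper7.pCore_characteristic p
        infer_instance
      · intro h3
        rw [h3] at h2
        have h4 : (⊤ : Subgroup Y) ≤ ⊥ := by
          refine le_trans ?_ h2
          intro x _
          rw [Subgroup.mem_centralizer_iff]
          intro y hy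
          rw [SetLike.mem_coe, Subgroup.mem_bot] at hy
          rw [hy, one_mul, mul_one]
        exact top_ne_bot (le_bot_iff.mp h4)
    · refine ⟨Cfsg.pPrimeCore p Y, Cfsg.Agent.Helper22.pPrimeCore_normal p, h1, Or.inr ?_⟩
      have h2 := Cfsg.Agent.Helper22.card_pPrimeCore_coprime (G := Y) p
      have h3 : Nat.card (Cfsg.pPrimeCore p Y) ∣ p ^ a * q ^ b := by
        rw [← hcard]; exact Subgroup.card_subgroup_dvd_card _
      have h4 : Nat.card (Cfsg.pPrimeCore p Y) ∣ q ^ b :=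
        Nat.Coprime.dvd_of_dvd_mul_left (Nat.Coprime.pow_right a h2) h3
      obtain ⟨c, _, hc⟩ := (Nat.dvd_prime_pow hq.1).mp h4
      exact IsPGroup.of_card hc
  obtain ⟨N, hNn, hNne, hN⟩ := key
  refine ⟨N.map Y.subtype, ?_, ?_, ?_⟩
  · intro h0
    apply hNne
    exact (Subgroup.map_eq_bot_iff_of_injective N (Subgroup.subtype_injective Y)).mp h0
  · have h1 := Subgroup.le_normalizer_map (H := N) Y.subtype
    rw [Subgroup.normalizer_eq_top_iff.mpr hNn, ← MonoidHom.range_eq_map,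
      Subgroup.range_subtype] at h1
    exact h1
  · have hVY : N.map Y.subtype ≤ Y := by
      rintro x ⟨y, _, rfl⟩; exact y.2
    have hnorm : Y ≤ Subgroup.normalizer ((N.map Y.subtype : Subgroup G) : Set G) := by
      have h1 := Subgroup.le_normalizer_map (H := N) Y.subtype
      rw [Subgroup.normalizer_eq_top_iff.mpr hNn, ← MonoidHom.range_eq_map,
        Subgroup.range_subtype] at h1
      exact h1
    rcases hN with hN | hN
    · left
      exact le_of_isPGroup_of_le_normalizer (le_sup_left : Yp ≤ Y) hVY hcard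
        (Nat.Coprime.pow_left b ((Nat.coprime_primes hq.1 hp.1).mpr hpq.symm)) ha
        (hN.map Y.subtype) (le_sup_left.trans hnorm)
    · right
      exact le_of_isPGroup_of_le_normalizer (le_sup_right : Yq ≤ Y) hVY
        (by rw [hcard, mul_comm])
        (Nat.Coprime.pow_left a ((Nat.coprime_primes hp.1 hq.1).mpr hpq)) hb
        (hN.map Y.subtype) (le_sup_right.trans hnorm)


theorem pS_inf [Finite G] {A : Subgroup G} (hA : Group.IsNilpotent A) (X : Subgroup G) (p : ℕ)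
    [Fact p.Prime] : pS A p ⊓ X = pS (A ⊓ X) p := by
  ext x
  rw [Subgroup.mem_inf, mem_pS_iff hA, mem_pS_iff (isNilpotent_of_le hA inf_le_left),
    Subgroup.mem_inf]
  tauto

/-- The Hall condition needed for `S0561`. -/
theorem hall_aux [Finite G] {A B : Subgroup G} (hA : Group.IsNilpotent A)
    (hcop : (Nat.card A).Coprime (Nat.card B)) (X : Subgroup G)
    (hcardX : Nat.card X = Nat.card (A ⊓ X : Subgroup G) * Nat.card (B ⊓ X : Subgroup G))
    (p : ℕ) [hp : Fact p.Prime] :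
    (Nat.card ((pS A p).subgroupOf X)).Coprime ((pS A p).subgroupOf X).index := by
  have hcardA' : Nat.card ((pS A p).subgroupOf X) =
      p ^ (Nat.card (A ⊓ X : Subgroup G)).factorization p := by
    rw [← Subgroup.inf_subgroupOf_right, Cfsg.Agent.Helper7.card_subgroupOf_of_le inf_le_right,
      pS_inf hA, card_pS]
  by_cases hpA : p ∣ Nat.card A
  · have hpB : ¬ p ∣ Nat.card (B ⊓ X : Subgroup G) := by
      intro hd
      have h1 : p ∣ Nat.card B := hd.trans (Subgroup.card_dvd_of_le inf_le_left)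
      have h2 : p ∣ Nat.gcd (Nat.card A) (Nat.card B) := Nat.dvd_gcd hpA h1
      rw [hcop.gcd_eq_one] at h2
      exact hp.1.one_lt.ne' (Nat.dvd_one.mp h2)
    rw [hcardA']
    apply Nat.Coprime.pow_left
    rw [Nat.Prime.coprime_iff_not_dvd hp.1]
    intro hd
    obtain ⟨k, hk⟩ := hd
    have h1 := Subgroup.index_mul_card ((pS A p).subgroupOf X)
    rw [hcardA', hcardX, hk] at h1
    have h2 : p ^ ((Nat.card (A ⊓ X : Subgroup G)).factorization p + 1) ∣
        Nat.card (A ⊓ X : Subgroup G) * Nat.card (B ⊓ X : Subgroup G) := by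
      rw [← h1]
      exact ⟨k, by ring⟩
    have h3 : p ^ ((Nat.card (A ⊓ X : Subgroup G)).factorization p + 1) ∣
        Nat.card (A ⊓ X : Subgroup G) :=
      Nat.Coprime.dvd_of_dvd_mul_right
        (Nat.Coprime.pow_left _ ((Nat.Prime.coprime_iff_not_dvd hp.1).mpr hpB)) h2
    exact Nat.pow_succ_factorization_not_dvd Nat.card_pos.ne' hp.1 h3
  · have h1 : pS A p = ⊥ := by
      by_contra h0
      exact hpA ((pS_ne_bot_iff A p).mp h0)
    rw [h1, Subgroup.bot_subgroupOf, Subgroup.card_bot]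
    exact Nat.coprime_one_left _

theorem card_of_factorized [Finite G] {A B X : Subgroup G} (hAB : A ⊓ B = ⊥)
    (hfac : ∀ x ∈ X, ∃ a ∈ A ⊓ X, ∃ b ∈ B ⊓ X, x = a * b) :
    Nat.card X = Nat.card (A ⊓ X : Subgroup G) * Nat.card (B ⊓ X : Subgroup G) := by
  have h1 := card_set_mul_mul_card_inf (A ⊓ X) (B ⊓ X)
  have h2 : (A ⊓ X) ⊓ (B ⊓ X) = ⊥ := by
    rw [eq_bot_iff, ← hAB]
    exact inf_le_inf inf_le_left inf_le_left
  rw [h2, Subgroup.card_bot, mul_one] at h1
  rw [← h1]
  have : ((A ⊓ X : Subgroup G) : Set G) * ((B ⊓ X : Subgroup G) : Set G) = (X : Set G) := by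
    ext x
    constructor
    · rintro ⟨a, ha, b, hb, rfl⟩
      exact X.mul_mem ha.2 hb.2
    · intro hx
      obtain ⟨a, ha, b, hb, e⟩ := hfac x hx
      exact ⟨a, ha, b, hb, e.symm⟩
  rw [this]
  rfl

variable [Finite G] {A B : Subgroup G}

/-- In a proper factorised subgroup, the Sylow parts permute. -/
theorem MC.permutes_inf (h : MC A B) {X : Subgroup G} (hX : X ≠ ⊤)
    (hfac : ∀ x ∈ X, ∃ a ∈ A ⊓ X, ∃ b ∈ B ⊓ X, x = a * b) (p q : ℕ) [Fact p.Prime]
    [Fact q.Prime] : Permutes (pS A p ⊓ X) (pS B q ⊓ X) := by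
  haveI hsolv : Group.IsSolvable X := h.solvable_of_factorized hX hfac
  have hnf := h.nf.restrict X hfac
  have hcardX := card_of_factorized h.inf_eq_bot hfac
  have hA1 : (pS A p).subgroupOf X ≤ A.subgroupOf X := by
    intro x hx
    rw [Subgroup.mem_subgroupOf] at hx ⊢
    exact pS_le A p hx
  have hB1 : (pS B q).subgroupOf X ≤ B.subgroupOf X := by
    intro x hx
    rw [Subgroup.mem_subgroupOf] at hx ⊢
    exact pS_le B q hx
  have hnormal : ∀ {A : Subgroup G} (_ : Group.IsNilpotent A) (p : ℕ) [Fact p.Prime]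
      (hle : (pS A p).subgroupOf X ≤ A.subgroupOf X),
      (((pS A p).subgroupOf X).subgroupOf (A.subgroupOf X)).Normal := by
    intro A hA p _ hle
    rw [Subgroup.normal_subgroupOf_iff_le_normalizer hle]
    intro x hx
    rw [Subgroup.mem_subgroupOf] at hx
    rw [Subgroup.mem_normalizer_iff]
    intro y
    rw [Subgroup.mem_subgroupOf, Subgroup.mem_subgroupOf]
    have := Subgroup.mem_normalizer_iff.mp (le_normalizer_pS' hA (p := p) hx) (y : G)
    simpa using this
  obtain ⟨S, hS⟩ := Cfsg.Agent.S0561.result (A.subgroupOf X) (B.subgroupOf X)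
    ((pS A p).subgroupOf X) ((pS B q).subgroupOf X) hnf.fact hA1 (hnormal h.nf.nilA p hA1)
    hB1 (hnormal h.nf.nilB q hB1) (hall_aux h.nf.nilA h.coprime X hcardX p)
    (hall_aux h.nf.nilB h.coprime.symm X (by rw [hcardX, mul_comm]) q) 1 1
  rw [map_one, one_smul, one_smul] at hS
  obtain ⟨_, hperm⟩ := permutes_of_coe_eq hS
  intro z hz
  have hzmap : z ∈ (((pS A p).subgroupOf X ⊔ (pS B q).subgroupOf X : Subgroup X)).map
      X.subtype := by
    rw [Subgroup.map_sup, Subgroup.subgroupOf_map_subtype, Subgroup.subgroupOf_map_subtype]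
    exact hz
  obtain ⟨z', hz', rfl⟩ := hzmap
  obtain ⟨a, ha, b, hb, e⟩ := hperm z' hz'
  rw [Subgroup.mem_subgroupOf] at ha hb
  exact ⟨a, ⟨ha, a.2⟩, b, ⟨hb, b.2⟩, by rw [e]; rfl⟩

end Cfsg.Agent.Helper4.KW
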