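import Mathlib
import Cfsg.Agent.Lib.Helper4.KWGen

set_option autoImplicit false

/-! Kegel--Wielandt: generation by normal prime-power subgroups of the factors, and the
centralisers of central elements. -/

namespace Cfsg.Agent.Helper4.KW

open scoped Pointwise commutatorElement
open Cfsg.Agent.Helper3

universe u

variable {G : Type u} [Group G] [Finite G] {A B : Subgroup G}

theorem MC.false_of_le_normalizer (h : MC A B) {V K : Subgroup G} (hV : V ≠ ⊥) (hVt : V ≠ ⊤)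
    (hK : K = ⊤) (hKn : K ≤ Subgroup.normalizer (V : Set G)) : False := by
  rw [hK, top_le_iff] at hKn
  haveI : V.Normal := Subgroup.normalizer_eq_top_iff.mp hKn
  rcases h.eq_bot_or_eq_top V with h1 | h1
  · exact hV h1
  · exact hVt h1

theorem MC.ne_top_of_le (h : MC A B) {V : Subgroup G} (hV : V ≤ A) : V ≠ ⊤ := by
  intro h1
  apply h.ne_top
  rw [eq_top_iff, ← h1]; exact hV

theorem le_centralizer_of_pS {A : Subgroup G} (hA : Group.IsNilpotent A) {p r : ℕ}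
    [Fact p.Prime] [Fact r.Prime] (hrp : r ≠ p) {V : Subgroup G} (hV : V ≤ pS A p) :
    pS A r ≤ Subgroup.centralizer (V : Set G) := by
  intro y hy
  rw [Subgroup.mem_centralizer_iff]
  intro v hv
  exact (commute_pS hA hrp hy (hV hv)).symm

theorem A_le_normalizer {A : Subgroup G} (hA : Group.IsNilpotent A) {p : ℕ} [Fact p.Prime]
    {V : Subgroup G} (hV : V ≤ pS A p) (hn : pS A p ≤ Subgroup.normalizer (V : Set G)) :
    A ≤ Subgroup.normalizer (V : Set G) := by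
  apply le_of_pS_le
  intro r hr
  by_cases hrp : r = p
  · subst hrp; exact hn
  · exact (le_centralizer_of_pS hA hrp hV).trans (Subgroup.centralizer_le_normalizer _)

theorem MC.exists_prime_ne (h : MC A B) (p : ℕ) [Fact p.Prime] :
    ∃ r : ℕ, r.Prime ∧ r ≠ p ∧ r ∣ Nat.card A := by
  by_contra hcon
  push_neg at hcon
  have h1 : ∀ {d : ℕ}, d.Prime → d ∣ Nat.card A → d = p := by
    intro d hd hdA
    by_contra hne
    exact hcon d hd hne hdA
  have h2 := Nat.eq_prime_pow_of_unique_prime_dvd (Nat.card_pos (α := A)).ne' h1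
  exact h.not_isPGroup p (IsPGroup.of_card h2)

theorem MC.prime_ne (h : MC A B) {p q : ℕ} [hp : Fact p.Prime] (hpA : p ∣ Nat.card A)
    (hqB : q ∣ Nat.card B) : p ≠ q := by
  rintro rfl
  have h2 : p ∣ Nat.gcd (Nat.card A) (Nat.card B) := Nat.dvd_gcd hpA hqB
  rw [h.coprime.gcd_eq_one] at h2
  exact hp.1.one_lt.ne' (Nat.dvd_one.mp h2)

theorem MC.gen_step (h : MC A B) {p q : ℕ} [Fact p.Prime] [Fact q.Prime] {A₀ B₀ : Subgroup G}
    (hA₀ : A₀ ≤ pS A p) (hA₀n : A ≤ Subgroup.normalizer (A₀ : Set G)) (hA₀ne : A₀ ≠ ⊥)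
    (hB₀ : B₀ ≤ pS B q) (hB₀n : B ≤ Subgroup.normalizer (B₀ : Set G)) (hB₀ne : B₀ ≠ ⊥)
    (hA : ∀ V : Subgroup G, V ≠ ⊥ → V ≤ pS A p → B₀ ≤ Subgroup.normalizer (V : Set G) →
      pS A p ⊓ Subgroup.normalizer ((A₀ ⊔ B₀ : Subgroup G) : Set G) ≤
        Subgroup.normalizer (V : Set G) → False)
    (hB : ∀ V : Subgroup G, V ≠ ⊥ → V ≤ pS B q → A₀ ≤ Subgroup.normalizer (V : Set G) →
      pS B q ⊓ Subgroup.normalizer ((A₀ ⊔ B₀ : Subgroup G) : Set G) ≤
        Subgroup.normalizer (V : Set G) → False) :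
    A₀ ⊔ B₀ = ⊤ := by
  by_contra hH
  set X := Subgroup.normalizer ((A₀ ⊔ B₀ : Subgroup G) : Set G) with hXdef
  have hHX : A₀ ⊔ B₀ ≤ X := Subgroup.le_normalizer
  have hXne : X ≠ ⊤ := by
    intro hX
    haveI : (A₀ ⊔ B₀).Normal := Subgroup.normalizer_eq_top_iff.mp hX
    rcases h.eq_bot_or_eq_top (A₀ ⊔ B₀) with h1 | h1
    · apply hA₀ne; rw [eq_bot_iff, ← h1]; exact le_sup_left
    · exact hH h1
  have hA₀A : A₀ ≤ A := hA₀.trans (pS_le A p)
  have hB₀B : B₀ ≤ B := hB₀.trans (pS_le B q)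
  have hfac : ∀ x ∈ X, ∃ a ∈ A ⊓ X, ∃ b ∈ B ⊓ X, x = a * b := by
    intro x hx
    obtain ⟨a, ha, b, hb, e⟩ := Cfsg.Agent.S0562.result A B A₀ B₀ h.nf.fact hA₀A
      ((Subgroup.normal_subgroupOf_iff_le_normalizer hA₀A).mpr hA₀n) hB₀B
      ((Subgroup.normal_subgroupOf_iff_le_normalizer hB₀B).mpr hB₀n) x hx
    exact ⟨a, ⟨ha.2, ha.1⟩, b, ⟨hb.2, hb.1⟩, e⟩
  have hperm := h.permutes_inf hXne hfac p q
  have hpne : pS A p ≠ ⊥ := by
    intro h0; apply hA₀ne; rw [eq_bot_iff, ← h0]; exact hA₀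
  have hqne : pS B q ≠ ⊥ := by
    intro h0; apply hB₀ne; rw [eq_bot_iff, ← h0]; exact hB₀
  have hpq : p ≠ q := h.prime_ne ((pS_ne_bot_iff A p).mp hpne) ((pS_ne_bot_iff B q).mp hqne)
  have hA₀X : A₀ ≤ pS A p ⊓ X := le_inf hA₀ (le_sup_left.trans hHX)
  have hB₀X : B₀ ≤ pS B q ⊓ X := le_inf hB₀ (le_sup_right.trans hHX)
  have hne : (pS A p ⊓ X) ⊔ (pS B q ⊓ X) ≠ ⊥ := by
    intro h0; apply hA₀ne; rw [eq_bot_iff, ← h0]; exact hA₀X.trans le_sup_left
  obtain ⟨V, hVne, hVn, hV⟩ := exists_normal_prime_power hpq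
    ((pS_isPGroup A p).to_le inf_le_left) ((pS_isPGroup B q).to_le inf_le_left) hperm hne
  rcases hV with hV | hV
  · exact hA V hVne (hV.trans inf_le_left) (hB₀X.trans (le_sup_right.trans hVn))
      (le_sup_left.trans hVn)
  · exact hB V hVne (hV.trans inf_le_left) (hA₀X.trans (le_sup_left.trans hVn))
      (le_sup_right.trans hVn)

theorem MC.gen1 (h : MC A B) {p q : ℕ} [Fact p.Prime] [Fact q.Prime] (hp : pS A p ≠ ⊥)
    (hq : pS B q ≠ ⊥) : pS A p ⊔ pS B q = ⊤ := by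
  apply h.gen_step le_rfl (le_normalizer_pS' h.nf.nilA) hp le_rfl (le_normalizer_pS' h.nf.nilB) hq
  · intro V hVne hV hBn hAn
    have h1 : pS A p ≤ Subgroup.normalizer (V : Set G) :=
      le_trans (le_inf le_rfl (le_sup_left.trans Subgroup.le_normalizer)) hAn
    have h2 : A ≤ Subgroup.normalizer (V : Set G) := A_le_normalizer h.nf.nilA hV h1
    have h3 : pS B q ⊔ A = ⊤ :=
      h.symm.sup_eq_top (pS_le B q) (le_normalizer_pS' h.nf.nilB) hq
    exact h.false_of_le_normalizer hVne (h.ne_top_of_le (hV.trans (pS_le A p))) h3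
      (sup_le hBn h2)
  · intro V hVne hV hAn hBn
    have h1 : pS B q ≤ Subgroup.normalizer (V : Set G) :=
      le_trans (le_inf le_rfl (le_sup_right.trans Subgroup.le_normalizer)) hBn
    have h2 : B ≤ Subgroup.normalizer (V : Set G) := A_le_normalizer h.nf.nilB hV h1
    have h3 : pS A p ⊔ B = ⊤ := h.sup_eq_top (pS_le A p) (le_normalizer_pS' h.nf.nilA) hp
    exact h.false_of_le_normalizer hVne (h.symm.ne_top_of_le (hV.trans (pS_le B q))) h3
      (sup_le hAn h2)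

theorem MC.gen2 (h : MC A B) {p q : ℕ} [Fact p.Prime] [Fact q.Prime] (hp : pS A p ≠ ⊥)
    {B₀ : Subgroup G} (hB₀ : B₀ ≤ pS B q) (hB₀n : B ≤ Subgroup.normalizer (B₀ : Set G))
    (hB₀ne : B₀ ≠ ⊥) : pS A p ⊔ B₀ = ⊤ := by
  apply h.gen_step le_rfl (le_normalizer_pS' h.nf.nilA) hp hB₀ hB₀n hB₀ne
  · intro V hVne hV hBn hAn
    have h1 : pS A p ≤ Subgroup.normalizer (V : Set G) :=
      le_trans (le_inf le_rfl (le_sup_left.trans Subgroup.le_normalizer)) hAn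
    have h2 : A ≤ Subgroup.normalizer (V : Set G) := A_le_normalizer h.nf.nilA hV h1
    have h3 : B₀ ⊔ A = ⊤ := h.symm.sup_eq_top (hB₀.trans (pS_le B q)) hB₀n hB₀ne
    exact h.false_of_le_normalizer hVne (h.ne_top_of_le (hV.trans (pS_le A p))) h3
      (sup_le hBn h2)
  · intro V hVne hV hAn _
    obtain ⟨s, hs, hsq, hsB⟩ := h.symm.exists_prime_ne q
    haveI : Fact s.Prime := ⟨hs⟩
    have h1 : pS B s ≤ Subgroup.normalizer (V : Set G) :=
      (le_centralizer_of_pS h.nf.nilB hsq hV).trans (Subgroup.centralizer_le_normalizer _)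
    have h2 := h.gen1 hp ((pS_ne_bot_iff B s).mpr hsB)
    exact h.false_of_le_normalizer hVne (h.symm.ne_top_of_le (hV.trans (pS_le B q))) h2
      (sup_le hAn h1)

theorem MC.gen2' (h : MC A B) {p q : ℕ} [Fact p.Prime] [Fact q.Prime] (hq : pS B q ≠ ⊥)
    {A₀ : Subgroup G} (hA₀ : A₀ ≤ pS A p) (hA₀n : A ≤ Subgroup.normalizer (A₀ : Set G))
    (hA₀ne : A₀ ≠ ⊥) : A₀ ⊔ pS B q = ⊤ := by
  rw [sup_comm]
  exact h.symm.gen2 hq hA₀ hA₀n hA₀ne

theorem MC.gen3 (h : MC A B) {p q : ℕ} [Fact p.Prime] [Fact q.Prime] {A₀ B₀ : Subgroup G}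
    (hA₀ : A₀ ≤ pS A p) (hA₀n : A ≤ Subgroup.normalizer (A₀ : Set G)) (hA₀ne : A₀ ≠ ⊥)
    (hB₀ : B₀ ≤ pS B q) (hB₀n : B ≤ Subgroup.normalizer (B₀ : Set G)) (hB₀ne : B₀ ≠ ⊥) :
    A₀ ⊔ B₀ = ⊤ := by
  apply h.gen_step hA₀ hA₀n hA₀ne hB₀ hB₀n hB₀ne
  · intro V hVne hV hBn _
    obtain ⟨r, hr, hrp, hrA⟩ := h.exists_prime_ne p
    haveI : Fact r.Prime := ⟨hr⟩
    have h1 : pS A r ≤ Subgroup.normalizer (V : Set G) :=
      (le_centralizer_of_pS h.nf.nilA hrp hV).trans (Subgroup.centralizer_le_normalizer _)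
    have h2 := h.gen2 ((pS_ne_bot_iff A r).mpr hrA) hB₀ hB₀n hB₀ne
    exact h.false_of_le_normalizer hVne (h.ne_top_of_le (hV.trans (pS_le A p))) h2
      (sup_le h1 hBn)
  · intro V hVne hV hAn _
    obtain ⟨s, hs, hsq, hsB⟩ := h.symm.exists_prime_ne q
    haveI : Fact s.Prime := ⟨hs⟩
    have h1 : pS B s ≤ Subgroup.normalizer (V : Set G) :=
      (le_centralizer_of_pS h.nf.nilB hsq hV).trans (Subgroup.centralizer_le_normalizer _)
    have h2 := h.gen2' ((pS_ne_bot_iff B s).mpr hsB) hA₀ hA₀n hA₀ne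
    exact h.false_of_le_normalizer hVne (h.symm.ne_top_of_le (hV.trans (pS_le B q))) h2
      (sup_le hAn h1)

end Cfsg.Agent.Helper4.KW
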