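import Mathlib
import Cfsg.Agent.Lib.Helper4.KWGen2

set_option autoImplicit false

/-! Kegel--Wielandt: centralisers of central elements of the factors. -/

namespace Cfsg.Agent.Helper4.KW

open scoped Pointwise commutatorElement
open Cfsg.Agent.Helper3

universe u

variable {G : Type u} [Group G]

theorem le_normalizer_zpowers {A : Subgroup G} {z : G} (hzc : ∀ a ∈ A, a * z = z * a) :
    A ≤ Subgroup.normalizer (Subgroup.zpowers z : Set G) := by
  intro a ha
  apply Subgroup.centralizer_le_normalizer
  rw [Subgroup.mem_centralizer_iff]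
  rintro y ⟨n, rfl⟩
  have hc : Commute a z := hzc a ha
  exact (hc.zpow_right n).eq.symm

theorem centralizer_conj (g z : G) :
    Subgroup.centralizer ({g * z * g⁻¹} : Set G) =
      MulAut.conj g • Subgroup.centralizer ({z} : Set G) := by
  ext x
  rw [mem_conj_smul_iff, Subgroup.mem_centralizer_singleton_iff,
    Subgroup.mem_centralizer_singleton_iff]
  constructor
  · intro h
    have : g⁻¹ * x * g * z = g⁻¹ * (x * (g * z * g⁻¹)) * g := by group
    rw [this, h]; group
  · intro h
    have : x * (g * z * g⁻¹) = g * (g⁻¹ * x * g * z) * g⁻¹ := by group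
    rw [this, h]; group

variable [Finite G] {A B : Subgroup G}

theorem MC.zpowers_sup_eq_top (h : MC A B) {p q : ℕ} [Fact p.Prime] [Fact q.Prime] {z t : G}
    (hz : z ∈ pS A p) (hz1 : z ≠ 1) (hzc : ∀ a ∈ A, a * z = z * a)
    (ht : t ∈ pS B q) (ht1 : t ≠ 1) (htc : ∀ b ∈ B, b * t = t * b) :
    Subgroup.zpowers z ⊔ Subgroup.zpowers t = ⊤ :=
  h.gen3 (Subgroup.zpowers_le.mpr hz) (le_normalizer_zpowers hzc)
    (Subgroup.zpowers_ne_bot.mpr hz1) (Subgroup.zpowers_le.mpr ht) (le_normalizer_zpowers htc)
    (Subgroup.zpowers_ne_bot.mpr ht1)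

theorem MC.center_eq_bot (h : MC A B) : Subgroup.center G = ⊥ := by
  rcases h.eq_bot_or_eq_top (Subgroup.center G) with h1 | h1
  · exact h1
  · exfalso
    apply h.ns
    letI : CommGroup G := Group.commGroupOfCenterEqTop h1
    infer_instance

/-- The centraliser of a nontrivial central `p`-element of `A` is `A`. -/
theorem MC.centralizer_eq (h : MC A B) {p : ℕ} [Fact p.Prime] {z : G} (hz : z ∈ pS A p)
    (hz1 : z ≠ 1) (hzc : ∀ a ∈ A, a * z = z * a) :
    Subgroup.centralizer ({z} : Set G) = A := by
  have hB1 : 1 < Nat.card B := (Subgroup.one_lt_card_iff_ne_bot B).mpr h.ne_bot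
  obtain ⟨q, hq, hqB⟩ := Nat.exists_prime_and_dvd hB1.ne'
  haveI : Fact q.Prime := ⟨hq⟩
  obtain ⟨t, ht, ht1, htc⟩ := exists_central_mem_pS h.nf.nilB ((pS_ne_bot_iff B q).mpr hqB)
  have htop := h.zpowers_sup_eq_top hz hz1 hzc ht ht1 htc
  have hA : A ≤ Subgroup.centralizer ({z} : Set G) := by
    intro a ha
    rw [Subgroup.mem_centralizer_singleton_iff]; exact hzc a ha
  have hB : B ≤ Subgroup.centralizer ({t} : Set G) := by
    intro b hb
    rw [Subgroup.mem_centralizer_singleton_iff]; exact htc b hb
  have hinf : Subgroup.centralizer ({z} : Set G) ⊓ Subgroup.centralizer ({t} : Set G) = ⊥ := by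
    rw [eq_bot_iff, ← h.center_eq_bot]
    intro x hx
    rw [Subgroup.mem_inf, Subgroup.mem_centralizer_singleton_iff,
      Subgroup.mem_centralizer_singleton_iff] at hx
    have hle : Subgroup.zpowers z ⊔ Subgroup.zpowers t ≤ Subgroup.centralizer ({x} : Set G) := by
      apply sup_le
      · rw [Subgroup.zpowers_le, Subgroup.mem_centralizer_singleton_iff]; exact hx.1.symm
      · rw [Subgroup.zpowers_le, Subgroup.mem_centralizer_singleton_iff]; exact hx.2.symm
    rw [htop] at hle
    rw [Subgroup.mem_center_iff]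
    intro g
    have := hle (Subgroup.mem_top g)
    rw [Subgroup.mem_centralizer_singleton_iff] at this
    exact this
  have hidx := Subgroup.index_inf_le (H := Subgroup.centralizer ({z} : Set G))
    (K := Subgroup.centralizer ({t} : Set G))
  rw [hinf, Subgroup.index_bot] at hidx
  have h1 := Subgroup.card_mul_index (Subgroup.centralizer ({z} : Set G))
  have h2 := Subgroup.card_mul_index (Subgroup.centralizer ({t} : Set G))
  have h3 := h.card_eq
  have h4 := Subgroup.card_le_of_le hA
  have h5 := Subgroup.card_le_of_le hB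
  have hb : 0 < Nat.card B := Nat.card_pos
  have ha : 0 < Nat.card A := Nat.card_pos
  symm
  apply Subgroup.eq_of_le_of_card_ge hA
  by_contra hlt
  push_neg at hlt
  -- set up the arithmetic
  generalize Nat.card (Subgroup.centralizer ({z} : Set G)) = c₁ at *
  generalize Nat.card (Subgroup.centralizer ({t} : Set G)) = c₂ at *
  generalize (Subgroup.centralizer ({z} : Set G)).index = i₁ at *
  generalize (Subgroup.centralizer ({t} : Set G)).index = i₂ at *
  generalize Nat.card A = a at *
  generalize Nat.card B = b at *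
  generalize Nat.card G = N at *
  have h6 : N * (c₁ * c₂) ≤ N * N := by
    calc N * (c₁ * c₂) ≤ (i₁ * i₂) * (c₁ * c₂) := Nat.mul_le_mul_right _ hidx
      _ = (c₁ * i₁) * (c₂ * i₂) := by ring
      _ = N * N := by rw [h1, h2]
  have hN : 0 < N := by rw [h3]; positivity
  have h7 : c₁ * c₂ ≤ N := Nat.le_of_mul_le_mul_left h6 hN
  have h8 : a * b < c₁ * c₂ := by
    calc a * b < c₁ * b := Nat.mul_lt_mul_of_pos_right hlt hb
      _ ≤ c₁ * c₂ := Nat.mul_le_mul_left _ h5
  omega

theorem MC.normalizer_pS_le (h : MC A B) {p : ℕ} [Fact p.Prime] (hne : pS A p ≠ ⊥) :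
    Subgroup.normalizer (pS A p : Set G) ≤ Subgroup.normalizer (A : Set G) := by
  obtain ⟨z, hz, hz1, hzc⟩ := exists_central_mem_pS h.nf.nilA hne
  intro g hg
  have hz' : g * z * g⁻¹ ∈ pS A p := (Subgroup.mem_normalizer_iff.mp hg z).mp hz
  have hz1' : g * z * g⁻¹ ≠ 1 := by
    intro h0
    apply hz1
    have : z = g⁻¹ * (g * z * g⁻¹) * g := by group
    rw [this, h0]; group
  have hzc' : ∀ a ∈ A, a * (g * z * g⁻¹) = (g * z * g⁻¹) * a := by
    have hle : A ≤ Subgroup.centralizer ({g * z * g⁻¹} : Set G) := by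
      apply le_of_pS_le
      intro r hr y hy
      rw [Subgroup.mem_centralizer_singleton_iff]
      by_cases hrp : r = p
      · subst hrp
        have hy' : g⁻¹ * y * g ∈ pS A r := by
          have := (Subgroup.mem_normalizer_iff.mp (Subgroup.inv_mem _ hg) y).mp hy
          simpa using this
        have h1 := hzc _ (pS_le A r hy')
        have : y * (g * z * g⁻¹) = g * ((g⁻¹ * y * g) * z) * g⁻¹ := by group
        rw [this, h1]; group
      · exact commute_pS h.nf.nilA hrp hy hz'
    intro a ha
    have := hle ha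
    rwa [Subgroup.mem_centralizer_singleton_iff] at this
  have h1 := h.centralizer_eq hz' hz1' hzc'
  have h2 := h.centralizer_eq hz hz1 hzc
  rw [centralizer_conj, h2] at h1
  exact mem_normalizer_of_conj_smul_eq h1

end Cfsg.Agent.Helper4.KW
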