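import Mathlib
import Cfsg.Agent.Lib.Helper4.KWCent

set_option autoImplicit false

/-! Kegel--Wielandt: local analysis in a minimal counterexample. -/

namespace Cfsg.Agent.Helper4.KW

open scoped Pointwise commutatorElement
open Cfsg.Agent.Helper3

universe u

variable {G : Type u} [Group G]

/-- Hall--Higman 1.2.3 in a product of an `r`-group and a `q`-group without normal `r`-subgroups:
the centre of the `q`-factor lies in `O_q`. -/
theorem exists_core_of_no_normal [Finite G] {r q : ℕ} [hr : Fact r.Prime] [hq : Fact q.Prime]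
    (hrq : r ≠ q) {Yr Yq : Subgroup G} (hYr : IsPGroup r Yr) (hYq : IsPGroup q Yq)
    (hperm : Permutes Yr Yq)
    (hno : ∀ V : Subgroup G, V ≤ Yr → Yr ⊔ Yq ≤ Subgroup.normalizer (V : Set G) → V = ⊥) :
    ∃ O : Subgroup G, O ≤ Yq ∧ Yr ⊔ Yq ≤ Subgroup.normalizer (O : Set G) ∧
      ∀ t ∈ Yq, (∀ o ∈ Yq, o * t = t * o) → t ∈ O := by
  obtain ⟨a, ha⟩ := IsPGroup.iff_card.mp hYr
  obtain ⟨b, hb⟩ := IsPGroup.iff_card.mp hYq
  have hcop : (r ^ a).Coprime (q ^ b) :=
    Nat.Coprime.pow _ _ ((Nat.coprime_primes hr.1 hq.1).mpr hrq)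
  have hinf : Yr ⊓ Yq = ⊥ := Subgroup.inf_eq_bot_of_coprime (by rw [ha, hb]; exact hcop)
  set Y : Subgroup G := Yr ⊔ Yq with hY
  have hcard : Nat.card Y = r ^ a * q ^ b := by
    have h1 := card_set_mul_mul_card_inf Yr Yq
    rw [← hperm.coe_sup, hinf, Subgroup.card_bot, mul_one, ha, hb] at h1
    exact h1
  have hsolv : Group.IsSolvable Y := Cfsg.Agent.S0144.result r q a b hr.1 hq.1 hcard
  have hnormmap : ∀ N : Subgroup Y, N.Normal →
      Y ≤ Subgroup.normalizer ((N.map Y.subtype : Subgroup G) : Set G) := by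
    intro N hNn
    have h1 := Subgroup.le_normalizer_map (H := N) Y.subtype
    rw [Subgroup.normalizer_eq_top_iff.mpr hNn, ← MonoidHom.range_eq_map,
      Subgroup.range_subtype] at h1
    exact h1
  have hmaple : ∀ N : Subgroup Y, N.map Y.subtype ≤ Y := by
    rintro N x ⟨y, _, rfl⟩; exact y.2
  have hcore : Cfsg.pPrimeCore q Y = ⊥ := by
    unfold Cfsg.pPrimeCore
    rw [sSup_eq_bot]
    rintro N ⟨hNn, hNc⟩
    have h3 : Nat.card N ∣ r ^ a * q ^ b := by
      rw [← hcard]; exact Subgroup.card_subgroup_dvd_card _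
    have h4 : Nat.card N ∣ r ^ a :=
      Nat.Coprime.dvd_of_dvd_mul_right (Nat.Coprime.pow_right b hNc) h3
    obtain ⟨c, _, hc⟩ := (Nat.dvd_prime_pow hr.1).mp h4
    have hNr : IsPGroup r N := IsPGroup.of_card hc
    have hV : N.map Y.subtype ≤ Yr :=
      le_of_isPGroup_of_le_normalizer (le_sup_left : Yr ≤ Y) (hmaple N) hcard
        (Nat.Coprime.pow_left b ((Nat.coprime_primes hq.1 hr.1).mpr hrq.symm)) ha
        (hNr.map Y.subtype) (le_sup_left.trans (hnormmap N hNn))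
    have h5 := hno _ hV (hnormmap N hNn)
    exact (Subgroup.map_eq_bot_iff_of_injective N (Subgroup.subtype_injective Y)).mp h5
  have hHH := Cfsg.Agent.Helper16.centralizer_pCore_le_of_isSolvable q hsolv hcore
  have hOn : (Cfsg.pCore q Y).Normal := by
    haveI : (Cfsg.pCore q Y).Characteristic := Cfsg.Agent.Helper7.pCore_characteristic q
    infer_instance
  have hOle : (Cfsg.pCore q Y).map Y.subtype ≤ Yq :=
    le_of_isPGroup_of_le_normalizer (le_sup_right : Yq ≤ Y) (hmaple _)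
      (by rw [hcard, mul_comm])
      (Nat.Coprime.pow_left a ((Nat.coprime_primes hr.1 hq.1).mpr hrq)) hb
      ((Cfsg.Agent.Helper7.pCore_isPGroup q).map Y.subtype)
      (le_sup_right.trans (hnormmap _ hOn))
  refine ⟨(Cfsg.pCore q Y).map Y.subtype, hOle, hnormmap _ hOn, ?_⟩
  intro t ht htc
  have htY : t ∈ Y := (le_sup_right : Yq ≤ Y) ht
  have h1 : (⟨t, htY⟩ : Y) ∈ Subgroup.centralizer ((Cfsg.pCore q Y : Subgroup Y) : Set Y) := by
    rw [Subgroup.mem_centralizer_iff]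
    intro o ho
    have ho' : (o : G) ∈ Yq := hOle ⟨o, ho, rfl⟩
    apply Subtype.ext
    exact htc _ ho'
  exact ⟨⟨t, htY⟩, hHH h1, rfl⟩


theorem fac_swap {A B X : Subgroup G}
    (h : ∀ x ∈ X, ∃ b ∈ B ⊓ X, ∃ a ∈ A ⊓ X, x = b * a) :
    ∀ x ∈ X, ∃ a ∈ A ⊓ X, ∃ b ∈ B ⊓ X, x = a * b := by
  intro x hx
  obtain ⟨b, hb, a, ha, e⟩ := h x⁻¹ (X.inv_mem hx)
  exact ⟨a⁻¹, inv_mem ha, b⁻¹, inv_mem hb, by rw [← mul_inv_rev, ← e, inv_inv]⟩

variable [Finite G] {A B : Subgroup G}

/-- The centraliser of an element of `A` normalising `B` is factorised. -/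
theorem MC.centralizer_factorized (h : MC A B) {e : G} (heA : e ∈ A)
    (heN : e ∈ Subgroup.normalizer (B : Set G)) :
    ∀ c ∈ Subgroup.centralizer ({e} : Set G),
      ∃ a ∈ A ⊓ Subgroup.centralizer ({e} : Set G),
        ∃ b ∈ B ⊓ Subgroup.centralizer ({e} : Set G), c = a * b := by
  intro c hc
  rw [Subgroup.mem_centralizer_singleton_iff] at hc
  obtain ⟨a, ha, b, hb, rfl⟩ := h.nf.fact c
  have hy : a⁻¹ * e * a = b * e * b⁻¹ := by
    have : a⁻¹ * e * a = a⁻¹ * (e * (a * b)) * b⁻¹ := by group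
    rw [this, ← hc]; group
  have h1 : e⁻¹ * (a⁻¹ * e * a) ∈ A :=
    mul_mem (inv_mem heA) (mul_mem (mul_mem (inv_mem ha) heA) ha)
  have h2 : e⁻¹ * (b * e * b⁻¹) ∈ B := by
    have : e⁻¹ * (b * e * b⁻¹) = (e⁻¹ * b * e) * b⁻¹ := by group
    rw [this]
    have h3 : e⁻¹ * b * e ∈ B := by
      have := (Subgroup.mem_normalizer_iff.mp (inv_mem heN)) b
      simpa using this.mp hb
    exact mul_mem h3 (inv_mem hb)
  have h4 : e⁻¹ * (a⁻¹ * e * a) = 1 := by
    have : e⁻¹ * (a⁻¹ * e * a) ∈ A ⊓ B := ⟨h1, by rw [hy]; exact h2⟩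
    rw [h.inf_eq_bot] at this
    exact this
  have h5 : a⁻¹ * e * a = e := by
    have : a⁻¹ * e * a = e * (e⁻¹ * (a⁻¹ * e * a)) := by group
    rw [this, h4, mul_one]
  have hae : a * e = e * a := by
    have : e * a = a * (a⁻¹ * e * a) := by group
    rw [this, h5]
  have hbe : b * e = e * b := by
    have h6 : b * e * b⁻¹ = e := by rw [← hy, h5]
    have : b * e = (b * e * b⁻¹) * b := by group
    rw [this, h6]
  exact ⟨a, ⟨ha, Subgroup.mem_centralizer_singleton_iff.mpr hae⟩, b,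
    ⟨hb, Subgroup.mem_centralizer_singleton_iff.mpr hbe⟩, rfl⟩

/-- Lemma C, prime order case. -/
theorem MC.cent_le_normalizer_prime (h : MC A B) {u : G} {s : ℕ} [hs : Fact s.Prime]
    (huB : u ∈ B) (huN : u ∈ Subgroup.normalizer (A : Set G)) (hus : orderOf u = s) :
    A ⊓ Subgroup.centralizer ({u} : Set G) ≤ Subgroup.normalizer (B : Set G) := by
  set X := Subgroup.centralizer ({u} : Set G) with hXdef
  have hu1 : u ≠ 1 := by
    intro h0
    rw [h0, orderOf_one] at hus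
    exact hs.1.one_lt.ne hus
  have huS : u ∈ pS B s :=
    (mem_pS_iff h.nf.nilB u).mpr ⟨huB, 1, by rw [pow_one, ← hus, pow_orderOf_eq_one]⟩
  have hSne : pS B s ≠ ⊥ := by
    intro h0; rw [h0, Subgroup.mem_bot] at huS; exact hu1 huS
  have hXne : X ≠ ⊤ := by
    intro hX
    apply hu1
    have : u ∈ Subgroup.center G := by
      rw [Subgroup.mem_center_iff]
      intro g
      have hg : g ∈ X := by rw [hX]; exact Subgroup.mem_top g
      rwa [Subgroup.mem_centralizer_singleton_iff] at hg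
    rw [h.center_eq_bot] at this
    exact this
  have hfac : ∀ x ∈ X, ∃ a ∈ A ⊓ X, ∃ b ∈ B ⊓ X, x = a * b :=
    fac_swap (h.symm.centralizer_factorized huB huN)
  obtain ⟨q, hq, hqs, hqB⟩ := h.symm.exists_prime_ne s
  haveI : Fact q.Prime := ⟨hq⟩
  have hQne : pS B q ≠ ⊥ := (pS_ne_bot_iff B q).mpr hqB
  have hqX : pS B q ≤ X := by
    intro y hy
    rw [Subgroup.mem_centralizer_singleton_iff]
    exact commute_pS h.nf.nilB hqs hy huS
  obtain ⟨t, ht, ht1, htc⟩ := exists_central_mem_pS h.nf.nilB hQne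
  apply le_of_pS_le
  intro r hr
  rw [← pS_inf h.nf.nilA]
  by_cases hr0 : pS A r ⊓ X = ⊥
  · rw [hr0]; exact bot_le
  have hrA : r ∣ Nat.card A := by
    apply (pS_ne_bot_iff A r).mp
    intro h0; apply hr0; rw [h0, bot_inf_eq]
  have hrq : r ≠ q := h.prime_ne hrA hqB
  have hperm : Permutes (pS A r ⊓ X) (pS B q) := by
    have := h.permutes_inf hXne hfac r q
    rwa [inf_eq_left.mpr hqX] at this
  have hno : ∀ V : Subgroup G, V ≤ pS A r ⊓ X →
      (pS A r ⊓ X) ⊔ pS B q ≤ Subgroup.normalizer (V : Set G) → V = ⊥ := by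
    intro V hV hVn
    by_contra hVne
    obtain ⟨p', hp', hp'r, hp'A⟩ := h.exists_prime_ne r
    haveI : Fact p'.Prime := ⟨hp'⟩
    have h1 : pS A p' ≤ Subgroup.normalizer (V : Set G) :=
      (le_centralizer_of_pS h.nf.nilA hp'r (hV.trans inf_le_left)).trans
        (Subgroup.centralizer_le_normalizer _)
    have h2 := h.gen1 ((pS_ne_bot_iff A p').mpr hp'A) hQne
    exact h.false_of_le_normalizer hVne
      (h.ne_top_of_le (hV.trans (inf_le_left.trans (pS_le A r)))) h2
      (sup_le h1 (le_sup_right.trans hVn))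
  obtain ⟨O, hOle, hOn, hOc⟩ := exists_core_of_no_normal hrq
    ((pS_isPGroup A r).to_le inf_le_left) (pS_isPGroup B q) hperm hno
  have htO : t ∈ O := hOc t ht (fun o ho => htc o (pS_le B q ho))
  intro e he
  have ht' : e * t * e⁻¹ ∈ pS B q :=
    hOle ((Subgroup.mem_normalizer_iff.mp (hOn (Subgroup.mem_sup_left he)) t).mp htO)
  have hcent : Subgroup.centralizer ({e * t * e⁻¹} : Set G) = MulAut.conj e • B := by
    rw [centralizer_conj, h.symm.centralizer_eq ht ht1 htc]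
  have hSle : pS B s ≤ MulAut.conj e • B := by
    rw [← hcent]
    intro y hy
    rw [Subgroup.mem_centralizer_singleton_iff]
    exact commute_pS h.nf.nilB hqs.symm hy ht'
  have hSconj : pS B s ≤ MulAut.conj e • pS B s := by
    intro y hy
    have h1 := hSle hy
    rw [mem_conj_smul_iff] at h1 ⊢
    rw [mem_pS_iff h.nf.nilB]
    refine ⟨h1, ?_⟩
    obtain ⟨k, hk⟩ := ((mem_pS_iff h.nf.nilB y).mp hy).2
    refine ⟨k, ?_⟩
    have := conj_pow (a := e⁻¹) (b := y) (i := s ^ k)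
    rw [inv_inv] at this
    rw [this, hk]; group
  have he' : e ∈ Subgroup.normalizer (pS B s : Set G) := mem_normalizer_of_le_conj_smul hSconj
  exact h.symm.normalizer_pS_le hSne he'

/-- Lemma C: the centraliser in `A` of a nontrivial element of `N_B(A)` normalises `B`. -/
theorem MC.cent_le_normalizer (h : MC A B) {u : G} (huB : u ∈ B)
    (huN : u ∈ Subgroup.normalizer (A : Set G)) (hu1 : u ≠ 1) :
    A ⊓ Subgroup.centralizer ({u} : Set G) ≤ Subgroup.normalizer (B : Set G) := by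
  have ho : orderOf u ≠ 1 := by rwa [Ne, orderOf_eq_one_iff]
  obtain ⟨s, hs, hsu⟩ := Nat.exists_prime_and_dvd ho
  haveI : Fact s.Prime := ⟨hs⟩
  have hord := orderOf_pow_orderOf_div (orderOf_pos u).ne' hsu
  refine le_trans ?_ (h.cent_le_normalizer_prime (pow_mem huB _) (pow_mem huN _) hord)
  apply inf_le_inf_left
  intro x hx
  rw [Subgroup.mem_centralizer_singleton_iff] at hx ⊢
  exact (Commute.pow_right hx _).eq

end Cfsg.Agent.Helper4.KW
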