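import Mathlib
import Cfsg.Agent.Lib.Helper4.KWLocal
import Cfsg.Agent.S0558
import Cfsg.Agent.S0581

/-!
# Kegel--Wielandt: the endgame, part one

Sylow facts in a minimal counterexample, conjugating the second factor, and the
first local containment `C_G(x) ≤ N_G(A)` for `x ∈ N_A(B)`.
-/

set_option autoImplicit false

namespace Cfsg.Agent.Helper4.KW

open scoped Pointwise commutatorElement
open Cfsg.Agent.Helper3

universe u

variable {G : Type u} [Group G]

/-- A `p`-subgroup normalising a Sylow `p`-subgroup lies in it. -/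
theorem le_of_le_normalizer_sylow [Finite G] {p : ℕ} [Fact p.Prime] (P : Sylow p G)
    {V : Subgroup G} (hV : IsPGroup p V)
    (hn : V ≤ Subgroup.normalizer ((P : Subgroup G) : Set G)) : V ≤ (P : Subgroup G) := by
  have hW : IsPGroup p ((P : Subgroup G) ⊔ V : Subgroup G) :=
    IsPGroup.to_sup_of_normal_left' P.2 hV hn
  have h1 := P.is_maximal' hW le_sup_left
  calc V ≤ (P : Subgroup G) ⊔ V := le_sup_right
    _ = P := h1

variable [Finite G] {A B : Subgroup G}

theorem MC.factorization_eq (h : MC A B) {p : ℕ} [hp : Fact p.Prime] (hpA : p ∣ Nat.card A) :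
    (Nat.card G).factorization p = (Nat.card A).factorization p := by
  have hpB : ¬ p ∣ Nat.card B := by
    intro hpB
    have := Nat.eq_one_of_dvd_coprimes h.coprime hpA hpB
    exact hp.out.one_lt.ne' this
  rw [h.card_eq, Nat.factorization_mul Nat.card_pos.ne' Nat.card_pos.ne', Finsupp.add_apply,
    Nat.factorization_eq_zero_of_not_dvd hpB, add_zero]

/-- The `p`-part of `A` is a Sylow `p`-subgroup of `G`. -/
theorem MC.exists_sylow_eq_pS (h : MC A B) {p : ℕ} [hp : Fact p.Prime] (hpA : p ∣ Nat.card A) :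
    ∃ P : Sylow p G, (P : Subgroup G) = pS A p := by
  refine ⟨Sylow.ofCard (pS A p) ?_, rfl⟩
  rw [card_pS, h.factorization_eq hpA]

/-- Conjugating the second factor keeps a minimal counterexample. -/
theorem MC.conj (h : MC A B) (g : G) : MC A (MulAut.conj g • B) := by
  refine ⟨⟨h.nf.nilA, ?_, ?_⟩, h.ns, h.ih⟩
  · haveI := h.nf.nilB
    exact Group.nilpotent_of_surjective (Subgroup.equivSMul (MulAut.conj g) B).toMonoidHom
      (Subgroup.equivSMul (MulAut.conj g) B).surjective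
  · intro x
    obtain ⟨a₀, ha₀, b₀, hb₀, e₀⟩ := h.nf.fact g
    obtain ⟨a, ha, b, hb, e⟩ := h.nf.fact (a₀⁻¹ * x * a₀)
    refine ⟨a₀ * a * a₀⁻¹, A.mul_mem (A.mul_mem ha₀ ha) (A.inv_mem ha₀), a₀ * b * a₀⁻¹, ?_, ?_⟩
    · rw [mem_conj_smul_iff, e₀]
      have : (a₀ * b₀)⁻¹ * (a₀ * b * a₀⁻¹) * (a₀ * b₀) = b₀⁻¹ * b * b₀ := by group
      rw [this]
      exact B.mul_mem (B.mul_mem (B.inv_mem hb₀) hb) hb₀
    · have : x = a₀ * (a₀⁻¹ * x * a₀) * a₀⁻¹ := by group
      rw [this, e]; group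

/-- If `x ∈ A` normalises `B` then `C_G(x) ≤ N_G(A)`. -/
theorem MC.cent_le_of_normalizes (h : MC A B) {x : G} (hxA : x ∈ A)
    (hxN : x ∈ Subgroup.normalizer (B : Set G)) (hx1 : x ≠ 1) :
    Subgroup.centralizer ({x} : Set G) ≤ Subgroup.normalizer (A : Set G) := by
  intro c hc
  obtain ⟨a, ha, b, hb, rfl⟩ := h.centralizer_factorized hxA hxN c hc
  have hb' : b ∈ Subgroup.normalizer (A : Set G) :=
    h.symm.cent_le_normalizer hxA hxN hx1 hb
  exact Subgroup.mul_mem _ (Subgroup.le_normalizer ha.1) hb'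

/-- Wielandt's complement theorem (S0558), applied inside a subgroup `C`. -/
theorem wielandt_in (C H : Subgroup G) (hHC : H ≤ C) (hnil : Group.IsNilpotent H)
    (hnp : ∀ p : ℕ, p.Prime → ¬ IsPGroup p H)
    (hnorm : ∀ p : ℕ, ∀ _ : Fact p.Prime, p ∣ Nat.card H →
      Subgroup.normalizer (pS H p : Set G) ⊓ C ≤ H) :
    ∃ K : Subgroup G, K ≤ C ∧ C ≤ Subgroup.normalizer (K : Set G) ∧ K ⊓ H = ⊥ ∧
      Nat.card K * Nat.card H = Nat.card C := by
  set H' : Subgroup C := H.subgroupOf C with hH'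
  have e : H' ≃* H := Subgroup.subgroupOfEquivOfLe hHC
  have hnil' : Group.IsNilpotent H' := isNilpotent_subgroupOf hnil C
  have hnot' : ∀ p : ℕ, p.Prime → ∀ P : Sylow p C, (P : Subgroup C) ≠ H' := by
    intro p hp P hP
    apply hnp p hp
    have h1 : IsPGroup p H' := hP ▸ P.2
    exact h1.of_equiv e
  have hnorm' : ∀ p : ℕ, p.Prime → p ∣ Nat.card H' → ∀ P : Sylow p H',
      Subgroup.normalizer (((P : Subgroup H').map H'.subtype : Subgroup C) : Set C) = H' := by
    intro p hp hdvd P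
    haveI : Fact p.Prime := ⟨hp⟩
    have hdvd' : p ∣ Nat.card H := by rwa [← Nat.card_congr e.toEquiv]
    have key : (P : Subgroup H').map H'.subtype = (pS H p).subgroupOf C := by
      ext y
      rw [Subgroup.mem_subgroupOf, mem_pS_iff hnil]
      constructor
      · rintro ⟨w, hw, rfl⟩
        obtain ⟨k, hk⟩ := (mem_sylow_iff_of_nilpotent hnil' P w).mp hw
        refine ⟨Subgroup.mem_subgroupOf.mp w.2, k, ?_⟩
        have := congrArg (fun t : H' => ((t : C) : G)) hk
        simpa using this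
      · rintro ⟨hyH, k, hk⟩
        refine ⟨⟨y, Subgroup.mem_subgroupOf.mpr hyH⟩,
          (mem_sylow_iff_of_nilpotent hnil' P _).mpr ⟨k, ?_⟩, rfl⟩
        apply Subtype.ext; apply Subtype.ext
        simpa using hk
    rw [key, ← Subgroup.subgroupOf_normalizer_eq ((pS_le H p).trans hHC)]
    ext y
    rw [Subgroup.mem_subgroupOf, Subgroup.mem_subgroupOf]
    constructor
    · intro hy; exact hnorm p inferInstance hdvd' ⟨hy, y.2⟩
    · intro hy; exact le_normalizer_pS' hnil hy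
  obtain ⟨N, hN, hcomp⟩ := Cfsg.Agent.S0558.result H' hnot' hnorm'
  refine ⟨N.map C.subtype, Subgroup.map_subtype_le _, ?_, ?_, ?_⟩
  · intro c hc
    apply mem_normalizer_of_le_conj_smul
    rintro _ ⟨n, hn, rfl⟩
    rw [mem_conj_smul_iff]
    refine ⟨(⟨c, hc⟩ : C)⁻¹ * n * ⟨c, hc⟩, ?_, by simp⟩
    have := hN.conj_mem n hn (⟨c, hc⟩ : C)⁻¹
    simpa using this
  · rw [eq_bot_iff]
    rintro _ ⟨⟨n, hn, rfl⟩, hx2⟩
    have h1 : n ∈ N ⊓ H' := ⟨hn, Subgroup.mem_subgroupOf.mpr hx2⟩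
    rw [hcomp.disjoint.eq_bot, Subgroup.mem_bot] at h1
    rw [h1]; simp
  · have h1 := hcomp.card_mul_card
    rw [Subgroup.card_map_of_injective (Subgroup.subtype_injective _),
      ← Nat.card_congr e.toEquiv]
    exact h1

end Cfsg.Agent.Helper4.KW
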