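import Mathlib
import Cfsg.Agent.Lib.Helper4.KWEnd
import Cfsg.Agent.Lib.Helper10.SylowAux
import Cfsg.Agent.Lib.Helper2.SylowSub

/-!
# Kegel--Wielandt: the endgame, part two

If `x ∈ A` has prime order and `N_G(A) ∩ C_G(x) ≤ A`, then `C_G(x) ≤ A`.
-/

set_option autoImplicit false

namespace Cfsg.Agent.Helper4.KW

open scoped Pointwise commutatorElement
open Cfsg.Agent.Helper3

universe u

variable {G : Type u} [Group G] [Finite G] {A B : Subgroup G}

theorem mem_pS_of_orderOf {A : Subgroup G} (hA : Group.IsNilpotent A) {x : G} {r : ℕ}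
    [Fact r.Prime] (hxA : x ∈ A) (hxr : orderOf x = r) : x ∈ pS A r := by
  rw [mem_pS_iff hA]
  refine ⟨hxA, 1, ?_⟩
  rw [pow_one, ← hxr, pow_orderOf_eq_one]

/-- The hypothesis of Wielandt's complement theorem for the prime `r` itself. -/
theorem MC.norm_r (h : MC A B) {x : G} {r : ℕ} [hr : Fact r.Prime] (hxA : x ∈ A)
    (hxr : orderOf x = r)
    (hfree : Subgroup.normalizer (A : Set G) ⊓ Subgroup.centralizer ({x} : Set G) ≤ A) :
    Subgroup.normalizer ((pS A r ⊓ Subgroup.centralizer ({x} : Set G) : Subgroup G) : Set G) ⊓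
      Subgroup.centralizer ({x} : Set G) ≤ A := by
  set C := Subgroup.centralizer ({x} : Set G) with hC
  set U := pS A r ⊓ C with hU
  have hxS : x ∈ pS A r := mem_pS_of_orderOf h.nf.nilA hxA hxr
  have hrA : r ∣ Nat.card A := by rw [← hxr]; exact Subgroup.orderOf_dvd_natCard A hxA
  have hxU : x ∈ U := ⟨hxS, Subgroup.mem_centralizer_singleton_iff.mpr rfl⟩
  obtain ⟨p', hp', hp'r, hp'A⟩ := h.exists_prime_ne r
  haveI : Fact p'.Prime := ⟨hp'⟩
  obtain ⟨z, hz, hz1, hzc⟩ := exists_central_mem_pS h.nf.nilA ((pS_ne_bot_iff A r).mpr hrA)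
  have hzU : z ∈ U := ⟨hz, Subgroup.mem_centralizer_singleton_iff.mpr (hzc x hxA).symm⟩
  obtain ⟨P, hP⟩ := h.exists_sylow_eq_pS hp'A
  rintro g ⟨hgN, hgC⟩
  set Z := Subgroup.centralizer (U : Set G) with hZ
  have hPZ : (P : Subgroup G) ≤ Z := by
    intro y hy
    rw [hP] at hy
    rw [hZ, Subgroup.mem_centralizer_iff]
    intro u hu
    exact (commute_pS h.nf.nilA hp'r hy hu.1).symm
  have hQZ : ((g • P : Sylow p' G) : Subgroup G) ≤ Z := by
    intro y hy
    rw [Cfsg.Agent.Helper10.sylow_conj_mem, hP] at hy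
    rw [hZ, Subgroup.mem_centralizer_iff]
    intro u hu
    have hu' : g⁻¹ * u * g ∈ U := by
      have := (Subgroup.mem_normalizer_iff.mp (Subgroup.inv_mem _ hgN) u).mp hu
      simpa using this
    have h1 := commute_pS h.nf.nilA hp'r hy hu'.1
    have h2 : y * u = g * ((g⁻¹ * y * g) * (g⁻¹ * u * g)) * g⁻¹ := by group
    have h3 : u * y = g * ((g⁻¹ * u * g) * (g⁻¹ * y * g)) * g⁻¹ := by group
    rw [h2, h3, h1]
  obtain ⟨c, hcZ, hc⟩ := Cfsg.Agent.Helper10.sylow_conj_in_subgroup P (g • P) Z hPZ hQZ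
  have hcx : c ∈ C := by
    rw [hC, Subgroup.mem_centralizer_singleton_iff]
    exact ((Subgroup.mem_centralizer_iff.mp hcZ) x hxU).symm
  have hcA : c ∈ A := by
    rw [← h.centralizer_eq hz hz1 hzc, Subgroup.mem_centralizer_singleton_iff]
    exact ((Subgroup.mem_centralizer_iff.mp hcZ) z hzU).symm
  have hn : c⁻¹ * g ∈ Subgroup.normalizer (pS A p' : Set G) := by
    rw [Subgroup.mem_normalizer_iff]
    intro y
    rw [← hP]
    have h1 := hc (g * y * g⁻¹)
    rw [Cfsg.Agent.Helper10.sylow_conj_mem] at h1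
    have e1 : g⁻¹ * (g * y * g⁻¹) * g = y := by group
    have e2 : c⁻¹ * (g * y * g⁻¹) * c = c⁻¹ * g * y * (c⁻¹ * g)⁻¹ := by group
    rw [e1, e2] at h1
    exact h1
  have hn' : c⁻¹ * g ∈ Subgroup.normalizer (A : Set G) :=
    h.normalizer_pS_le ((pS_ne_bot_iff A p').mpr hp'A) hn
  have hnA : c⁻¹ * g ∈ A := hfree ⟨hn', Subgroup.mul_mem _ (Subgroup.inv_mem _ hcx) hgC⟩
  have : g = c * (c⁻¹ * g) := by group
  rw [this]
  exact A.mul_mem hcA hnA

/-- If the centraliser of an element `x ∈ A` of prime order meets `N_G(A)` inside `A`, then it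
lies in `A`. -/
theorem MC.cent_le_of_free (h : MC A B) {x : G} {r : ℕ} [hr : Fact r.Prime] (hxA : x ∈ A)
    (hxr : orderOf x = r)
    (hfree : Subgroup.normalizer (A : Set G) ⊓ Subgroup.centralizer ({x} : Set G) ≤ A) :
    Subgroup.centralizer ({x} : Set G) ≤ A := by
  set C := Subgroup.centralizer ({x} : Set G) with hC
  set H := A ⊓ C with hH
  have hx1 : x ≠ 1 := by
    intro h0
    rw [h0, orderOf_one] at hxr
    exact hr.out.one_lt.ne hxr
  have hxS : x ∈ pS A r := mem_pS_of_orderOf h.nf.nilA hxA hxr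
  have hxC : x ∈ C := Subgroup.mem_centralizer_singleton_iff.mpr rfl
  have hxH : x ∈ H := ⟨hxA, hxC⟩
  have hrA : r ∣ Nat.card A := by rw [← hxr]; exact Subgroup.orderOf_dvd_natCard A hxA
  have hrH : r ∣ Nat.card H := by rw [← hxr]; exact Subgroup.orderOf_dvd_natCard H hxH
  obtain ⟨p', hp', hp'r, hp'A⟩ := h.exists_prime_ne r
  haveI : Fact p'.Prime := ⟨hp'⟩
  have hHnil : Group.IsNilpotent H := isNilpotent_of_le h.nf.nilA inf_le_left
  -- `p`-parts for `p ≠ r` lie in `C`
  have hpC : ∀ p : ℕ, ∀ _ : Fact p.Prime, p ≠ r → pS A p ≤ C := by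
    intro p _ hpr y hy
    rw [hC, Subgroup.mem_centralizer_singleton_iff]
    exact commute_pS h.nf.nilA hpr hy hxS
  have hpH : ∀ p : ℕ, ∀ _ : Fact p.Prime, pS H p = pS A p ⊓ C := by
    intro p _
    rw [hH, pS_inf h.nf.nilA]
  obtain ⟨z', hz', hz'1, hz'c⟩ :=
    exists_central_mem_pS h.nf.nilA ((pS_ne_bot_iff A p').mpr hp'A)
  have hz'H : z' ∈ H := ⟨pS_le A p' hz', hpC p' inferInstance hp'r hz'⟩
  -- `H` is not of prime power order
  have hnp : ∀ p : ℕ, p.Prime → ¬ IsPGroup p H := by
    intro p hp hPG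
    have key : ∀ y : G, y ∈ H → ∀ s : ℕ, s.Prime → s ∣ orderOf y → s = p := by
      intro y hy s hs hsy
      obtain ⟨k, hk⟩ := hPG ⟨y, hy⟩
      have h1 : y ^ p ^ k = 1 := by simpa using congrArg Subtype.val hk
      have h2 : s ∣ p ^ k := hsy.trans (orderOf_dvd_of_pow_eq_one h1)
      exact (Nat.prime_dvd_prime_iff_eq hs hp).mp (hs.dvd_of_dvd_pow h2)
    have e1 : r = p := key x hxH r hr.out (by rw [hxr])
    have e2 : p' = p := by
      apply key z' hz'H p' hp'
      obtain ⟨j, hj⟩ := orderOf_dvd_of_mem_pS hz'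
      rw [hj]
      have hj0 : j ≠ 0 := by
        rintro rfl
        rw [pow_zero, orderOf_eq_one_iff] at hj
        exact hz'1 hj
      exact dvd_pow_self p' hj0
    exact hp'r (e2.trans e1.symm)
  -- the normaliser hypotheses
  have hnorm : ∀ p : ℕ, ∀ _ : Fact p.Prime, p ∣ Nat.card H →
      Subgroup.normalizer (pS H p : Set G) ⊓ C ≤ H := by
    intro p _ hpdvd
    have hpA : p ∣ Nat.card A := hpdvd.trans (Subgroup.card_dvd_of_le inf_le_left)
    rw [hpH p inferInstance]
    by_cases hpr : p = r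
    · subst hpr
      intro g hg
      exact ⟨h.norm_r hxA hxr hfree hg, hg.2⟩
    · rw [inf_eq_left.mpr (hpC p inferInstance hpr)]
      rintro g ⟨hg1, hg2⟩
      exact ⟨hfree ⟨h.normalizer_pS_le ((pS_ne_bot_iff A p).mpr hpA) hg1, hg2⟩, hg2⟩
  obtain ⟨K, hKC, hCK, hKH, hcard⟩ := wielandt_in C H inf_le_right hHnil hnp hnorm
  -- `K` is a `π'`-group
  have hKpi : ∀ p : ℕ, p.Prime → p ∣ Nat.card K → p ∣ Nat.card B := by
    intro p hp hpK
    haveI : Fact p.Prime := ⟨hp⟩
    have hKG : p ∣ Nat.card A * Nat.card B := by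
      rw [← h.card_eq]; exact hpK.trans (Subgroup.card_subgroup_dvd_card K)
    rcases (Nat.Prime.dvd_mul hp).mp hKG with hpA | hpB
    swap
    · exact hpB
    exfalso
    by_cases hpr : p = r
    · subst hpr
      -- normaliser growth
      set U := pS H p with hU
      have hUC : U ≤ C := (pS_le H p).trans inf_le_right
      have hUp : IsPGroup p (U.subgroupOf C) := (pS_isPGroup H p).comap_subtype
      obtain ⟨R', hR'⟩ := hUp.exists_le_sylow
      set R := (R' : Subgroup C).map C.subtype with hR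
      have hRC : R ≤ C := Subgroup.map_subtype_le _
      have hUR : U ≤ R := by
        intro u hu
        exact ⟨⟨u, hUC hu⟩, hR' (Subgroup.mem_subgroupOf.mpr hu), rfl⟩
      have hRp : IsPGroup p R := R'.2.map _
      have hne : U ≠ R := by
        intro hUR'
        have c1 : Nat.card U = p ^ (Nat.card H).factorization p := card_pS H p
        have c2 : Nat.card R = p ^ (Nat.card C).factorization p := by
          rw [hR, Subgroup.card_map_of_injective (Subgroup.subtype_injective _)]
          exact R'.card_eq_multiplicity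
        rw [hUR', c2] at c1
        have c3 := Nat.pow_right_injective hp.two_le c1
        rw [← hcard, Nat.factorization_mul Nat.card_pos.ne' Nat.card_pos.ne',
          Finsupp.add_apply] at c3
        have c4 : 0 < (Nat.card K).factorization p :=
          hp.factorization_pos_of_dvd Nat.card_pos.ne' hpK
        omega
      obtain ⟨y, hyR, hyU, hyN⟩ := Cfsg.Agent.Helper2.exists_normalizer_not_mem U R hRp hUR hne
      have hyH : y ∈ H := hnorm p inferInstance hrH ⟨hyN, hRC hyR⟩
      apply hyU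
      rw [hU, mem_pS_iff hHnil]
      refine ⟨hyH, ?_⟩
      obtain ⟨k, hk⟩ := hRp ⟨y, hyR⟩
      exact ⟨k, by simpa using congrArg Subtype.val hk⟩
    · have h1 : pS A p ≤ H := le_inf (pS_le A p) (hpC p inferInstance hpr)
      have h2 : p ^ (Nat.card G).factorization p ∣ Nat.card H := by
        rw [h.factorization_eq hpA, ← card_pS A p]
        exact Subgroup.card_dvd_of_le h1
      have h3 : p ^ ((Nat.card G).factorization p + 1) ∣ Nat.card G := by
        rw [pow_succ']
        calc p * p ^ (Nat.card G).factorization p ∣ Nat.card K * Nat.card H :=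
              Nat.mul_dvd_mul hpK h2
          _ = Nat.card C := hcard
          _ ∣ Nat.card G := Subgroup.card_subgroup_dvd_card C
      exact Nat.pow_succ_factorization_not_dvd Nat.card_pos.ne' hp h3
  -- `K` lies in a conjugate of `B`
  have hHall : (Nat.card B).Coprime B.index := by
    have h1 : B.index * Nat.card B = Nat.card A * Nat.card B := by
      rw [Subgroup.index_mul_card, h.card_eq]
    rw [Nat.eq_of_mul_eq_mul_right Nat.card_pos h1]
    exact h.coprime.symm
  obtain ⟨g, hg⟩ := Cfsg.Agent.S0581.result B K h.nf.nilB hHall hKpi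
  have h' := h.conj g
  have hB'1 : 1 < Nat.card (MulAut.conj g • B : Subgroup G) :=
    (Subgroup.one_lt_card_iff_ne_bot _).mpr h'.ne_bot
  obtain ⟨q, hq, hqB⟩ := Nat.exists_prime_and_dvd hB'1.ne'
  haveI : Fact q.Prime := ⟨hq⟩
  obtain ⟨t, ht, ht1, htc⟩ := exists_central_mem_pS h'.nf.nilB ((pS_ne_bot_iff _ q).mpr hqB)
  have htop := h'.zpowers_sup_eq_top hz' hz'1 hz'c ht ht1 htc
  have hNK : Subgroup.normalizer (K : Set G) = ⊤ := by
    rw [eq_top_iff, ← htop, sup_le_iff, Subgroup.zpowers_le, Subgroup.zpowers_le]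
    refine ⟨hCK hz'H.2, ?_⟩
    rw [Subgroup.mem_normalizer_iff]
    intro k
    constructor
    · intro hk
      have h1 : t * k * t⁻¹ = k := by
        rw [← htc k (hg hk)]; group
      rw [h1]; exact hk
    · intro hk
      have h0 : t * k * t⁻¹ ∈ MulAut.conj g • B := hg hk
      have h1 := htc _ h0
      have h2 : t * k * t⁻¹ = k := by
        have e1 : t * k = t * (t * k * t⁻¹) := by
          calc t * k = t * k * t⁻¹ * t := by group
            _ = t * (t * k * t⁻¹) := h1
        exact (mul_left_cancel e1).symm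
      rw [← h2]; exact hk
  haveI : K.Normal := Subgroup.normalizer_eq_top_iff.mp hNK
  rcases h.eq_bot_or_eq_top K with hK | hK
  · have c1 : Nat.card K = 1 := by rw [hK]; exact Subgroup.card_bot
    rw [c1, one_mul] at hcard
    have : H = C := Subgroup.eq_of_le_of_card_ge inf_le_right hcard.ge
    intro y hy
    have : y ∈ H := by rw [this]; exact hy
    exact this.1
  · exfalso
    have : x ∈ K ⊓ H := ⟨by rw [hK]; trivial, hxH⟩
    rw [hKH, Subgroup.mem_bot] at this
    exact hx1 this

end Cfsg.Agent.Helper4.KW
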