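import Mathlib
import Cfsg.Agent.Lib.Helper4.KWEnd2

/-!
# Kegel--Wielandt: the endgame, part three

`C_G(x) ≤ N_G(A)` for every `x ∈ A` of prime order; hence `A` is a trivial intersection
subgroup relative to its normaliser, which is impossible by counting.
-/

set_option autoImplicit false

namespace Cfsg.Agent.Helper4.KW

open scoped Pointwise commutatorElement
open Cfsg.Agent.Helper3

universe u

variable {G : Type u} [Group G] [Finite G] {A B : Subgroup G}

/-- For `g ∈ N_G(A)` we have `g ^ |B| ∈ A`. -/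
theorem MC.pow_card_mem (h : MC A B) {g : G} (hg : g ∈ Subgroup.normalizer (A : Set G)) :
    g ^ Nat.card B ∈ A := by
  set M := Subgroup.normalizer (A : Set G) with hM
  haveI : (A.subgroupOf M).Normal := Subgroup.normal_in_normalizer
  have h1 := Subgroup.pow_index_mem (A.subgroupOf M) (⟨g, hg⟩ : M)
  have h2 : Nat.card (A.subgroupOf M) * (A.subgroupOf M).index = Nat.card M :=
    Subgroup.card_mul_index _
  have h3 : Nat.card (A.subgroupOf M) = Nat.card A :=
    Nat.card_congr (Subgroup.subgroupOfEquivOfLe Subgroup.le_normalizer).toEquiv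
  have h4 : Nat.card A * (A.subgroupOf M).index ∣ Nat.card A * Nat.card B := by
    rw [← h.card_eq, ← h3, h2]
    exact Subgroup.card_subgroup_dvd_card M
  have h5 : (A.subgroupOf M).index ∣ Nat.card B :=
    (Nat.mul_dvd_mul_iff_left Nat.card_pos).mp h4
  obtain ⟨k, hk⟩ := h5
  have h6 : (⟨g, hg⟩ : M) ^ Nat.card B ∈ A.subgroupOf M := by
    rw [hk, pow_mul]
    exact Subgroup.pow_mem _ h1 k
  rw [Subgroup.mem_subgroupOf] at h6
  simpa using h6

/-- `C_G(x) ≤ N_G(A)` for every `x ∈ A` of prime order. -/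
theorem MC.cent_le_normalizer_self (h : MC A B) {x : G} {r : ℕ} [hr : Fact r.Prime] (hxA : x ∈ A)
    (hxr : orderOf x = r) :
    Subgroup.centralizer ({x} : Set G) ≤ Subgroup.normalizer (A : Set G) := by
  by_cases hfree : Subgroup.normalizer (A : Set G) ⊓ Subgroup.centralizer ({x} : Set G) ≤ A
  · exact (h.cent_le_of_free hxA hxr hfree).trans Subgroup.le_normalizer
  obtain ⟨g, ⟨hgM, hgC⟩, hgA⟩ := SetLike.not_le_iff_exists.mp hfree
  have hx1 : x ≠ 1 := by
    intro h0
    rw [h0, orderOf_one] at hxr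
    exact hr.out.one_lt.ne hxr
  set d := g ^ Nat.card A with hd
  have hdM : d ∈ Subgroup.normalizer (A : Set G) := Subgroup.pow_mem _ hgM _
  have hdC : d ∈ Subgroup.centralizer ({x} : Set G) := Subgroup.pow_mem _ hgC _
  have hd1 : d ≠ 1 := by
    intro h0
    apply hgA
    have h1 : orderOf g ∣ Nat.card A := orderOf_dvd_of_pow_eq_one h0
    have h2 : (Nat.card B).Coprime (orderOf g) :=
      (Nat.Coprime.coprime_dvd_left h1 h.coprime).symm
    obtain ⟨m, hm⟩ := exists_pow_eq_self_of_coprime h2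
    rw [← hm]
    exact A.pow_mem (h.pow_card_mem hgM) m
  have hdB : orderOf d ∣ Nat.card B := by
    apply orderOf_dvd_of_pow_eq_one
    rw [hd, ← pow_mul, ← h.card_eq]
    exact pow_card_eq_one'
  have ho : orderOf d ≠ 1 := by rwa [Ne, orderOf_eq_one_iff]
  obtain ⟨s, hs, hsd⟩ := Nat.exists_prime_and_dvd ho
  haveI : Fact s.Prime := ⟨hs⟩
  have hsB : s ∣ Nat.card B := hsd.trans hdB
  set d' := d ^ (orderOf d / s) with hd'
  have hord : orderOf d' = s := orderOf_pow_orderOf_div (orderOf_pos d).ne' hsd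
  have hd'M : d' ∈ Subgroup.normalizer (A : Set G) := Subgroup.pow_mem _ hdM _
  have hd'C : d' ∈ Subgroup.centralizer ({x} : Set G) := Subgroup.pow_mem _ hdC _
  have hd'1 : d' ≠ 1 := by
    intro h0
    rw [h0, orderOf_one] at hord
    exact hs.one_lt.ne hord
  -- conjugate `d'` into `B`
  have hzp : IsPGroup s (Subgroup.zpowers d') := by
    apply IsPGroup.of_card (n := 1)
    rw [Nat.card_zpowers, hord, pow_one]
  obtain ⟨S, hS⟩ := hzp.exists_le_sylow
  obtain ⟨Q, hQ⟩ := h.symm.exists_sylow_eq_pS hsB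
  obtain ⟨g₀, hg₀⟩ := MulAction.exists_smul_eq G Q S
  have hd'S : d' ∈ ((g₀ • Q : Sylow s G) : Subgroup G) := by
    rw [hg₀]; exact hS (Subgroup.mem_zpowers d')
  rw [Cfsg.Agent.Helper10.sylow_conj_mem, hQ] at hd'S
  have hd'B : d' ∈ MulAut.conj g₀ • B := by
    rw [mem_conj_smul_iff]; exact pS_le B s hd'S
  have h' := h.conj g₀
  have hxN : x ∈ Subgroup.normalizer ((MulAut.conj g₀ • B : Subgroup G) : Set G) := by
    apply h'.cent_le_normalizer hd'B hd'M hd'1
    refine ⟨hxA, ?_⟩
    rw [Subgroup.mem_centralizer_singleton_iff] at hd'C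
    exact Subgroup.mem_centralizer_singleton_iff.mpr hd'C.symm
  exact h'.cent_le_of_normalizes hxA hxN hx1

/-- `A` meets its conjugates by elements outside `N_G(A)` trivially. -/
theorem MC.ti (h : MC A B) {g : G} (hg : g ∉ Subgroup.normalizer (A : Set G)) :
    A ⊓ MulAut.conj g • A = ⊥ := by
  rw [Subgroup.eq_bot_iff_forall]
  rintro y ⟨hyA', hyg'⟩
  have hyA : y ∈ A := hyA'
  have hyg : y ∈ MulAut.conj g • A := hyg'
  by_contra hy1
  apply hg
  rw [mem_conj_smul_iff] at hyg
  have ho : orderOf y ≠ 1 := by rwa [Ne, orderOf_eq_one_iff]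
  obtain ⟨r, hr, hry⟩ := Nat.exists_prime_and_dvd ho
  haveI : Fact r.Prime := ⟨hr⟩
  set x := y ^ (orderOf y / r) with hx
  have hxr : orderOf x = r := orderOf_pow_orderOf_div (orderOf_pos y).ne' hry
  have hxA : x ∈ A := A.pow_mem hyA _
  have hx2A : g⁻¹ * x * g ∈ A := by
    have e1 : g⁻¹ * x * g = (g⁻¹ * y * g) ^ (orderOf y / r) := by
      have := conj_pow (a := g⁻¹) (b := y) (i := orderOf y / r)
      rw [inv_inv] at this
      rw [this]
    rw [e1]; exact A.pow_mem hyg _
  have hx2r : (g⁻¹ * x * g) ^ r ^ 1 = 1 := by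
    have := conj_pow (a := g⁻¹) (b := x) (i := r)
    rw [inv_inv] at this
    rw [pow_one, this, ← hxr, pow_orderOf_eq_one]; group
  have hx2S : g⁻¹ * x * g ∈ pS A r := (mem_pS_iff h.nf.nilA _).mpr ⟨hx2A, 1, hx2r⟩
  obtain ⟨p', hp', hp'r, hp'A⟩ := h.exists_prime_ne r
  haveI : Fact p'.Prime := ⟨hp'⟩
  obtain ⟨P, hP⟩ := h.exists_sylow_eq_pS hp'A
  have hC := h.cent_le_normalizer_self hxA hxr
  set V := MulAut.conj g • pS A p' with hV
  have hVC : V ≤ Subgroup.centralizer ({x} : Set G) := by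
    intro v hv
    rw [hV, mem_conj_smul_iff] at hv
    rw [Subgroup.mem_centralizer_singleton_iff]
    have h1 := commute_pS h.nf.nilA hp'r hv hx2S
    have e1 : v * x = g * ((g⁻¹ * v * g) * (g⁻¹ * x * g)) * g⁻¹ := by group
    have e2 : x * v = g * ((g⁻¹ * x * g) * (g⁻¹ * v * g)) * g⁻¹ := by group
    rw [e1, e2, h1]
  have hVp : IsPGroup p' V := by
    apply IsPGroup.of_card (n := (Nat.card A).factorization p')
    rw [hV, card_conj_smul', card_pS]
  have hVn : V ≤ Subgroup.normalizer ((P : Subgroup G) : Set G) := by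
    rw [hP]
    exact (hVC.trans hC).trans (le_normalizer_pS h.nf.nilA)
  have hVP : V ≤ pS A p' := hP ▸ le_of_le_normalizer_sylow P hVp hVn
  have hVe : V = pS A p' := by
    apply Subgroup.eq_of_le_of_card_ge hVP
    rw [hV, card_conj_smul']
  exact h.normalizer_pS_le ((pS_ne_bot_iff A p').mpr hp'A) (mem_normalizer_of_conj_smul_eq hVe)

theorem MC.card_le (h : MC A B) : Nat.card A ≤ Nat.card B := by
  have hM : Subgroup.normalizer (A : Set G) ≠ ⊤ := by
    intro hM
    haveI : A.Normal := Subgroup.normalizer_eq_top_iff.mp hM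
    rcases h.eq_bot_or_eq_top A with h1 | h1
    · apply h.not_isPGroup 2
      rw [h1]
      exact IsPGroup.of_bot
    · exact h.ne_top h1
  obtain ⟨g, hg⟩ : ∃ g : G, g ∉ Subgroup.normalizer (A : Set G) := by
    by_contra hcon
    push Not at hcon
    exact hM (eq_top_iff.mpr fun g _ => hcon g)
  have h1 := card_set_mul_mul_card_inf A (MulAut.conj g • A)
  rw [h.ti hg, Subgroup.card_bot, mul_one, card_conj_smul'] at h1
  have h2 : Nat.card ((A : Set G) * ((MulAut.conj g • A : Subgroup G) : Set G) : Set G) ≤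
      Nat.card G := Nat.card_le_card_of_injective _ Subtype.val_injective
  rw [h1, h.card_eq] at h2
  exact Nat.le_of_mul_le_mul_left h2 Nat.card_pos

/-- There is no minimal counterexample. -/
theorem MC.false (h : MC A B) : False := by
  have h1 : Nat.card A = Nat.card B := le_antisymm h.card_le h.symm.card_le
  have h2 := h.coprime
  rw [← h1, Nat.coprime_self] at h2
  apply h.not_isPGroup 2
  rw [Subgroup.card_eq_one.mp h2]
  exact IsPGroup.of_bot

/-- **Kegel--Wielandt**: a finite group that is the product of two nilpotent subgroups is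
solvable. -/
theorem kw_aux : ∀ (n : ℕ) (G : Type u) [Group G] [Finite G] (A B : Subgroup G),
    Nat.card G = n → NF A B → Group.IsSolvable G := by
  intro n
  induction n using Nat.strong_induction_on with
  | _ n ih =>
    intro G _ _ A B hn hnf
    by_contra hns
    exact MC.false ⟨hnf, hns, fun H _ _ A' B' hlt hnf' =>
      ih (Nat.card H) (hn ▸ hlt) H A' B' rfl hnf'⟩

theorem kegel_wielandt {G : Type u} [Group G] [Finite G] (A B : Subgroup G)
    (hA : Group.IsNilpotent A) (hB : Group.IsNilpotent B)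
    (hAB : ∀ g : G, ∃ a ∈ A, ∃ b ∈ B, g = a * b) : Group.IsSolvable G :=
  kw_aux _ G A B rfl ⟨hA, hB, hAB⟩

end Cfsg.Agent.Helper4.KW
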