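import Mathlib
import Cfsg.Agent.Lib.Helper4.ZasHomog

/-!
# A regular linear group with an irreducible abelian normal subgroup is semilinear (helper4)
-/

set_option autoImplicit false
set_option linter.style.haveILetI false
set_option linter.unusedSectionVars false

namespace Cfsg.Agent.Helper4.Zas

open Module

universe u

/-- a carrier type in `Type` without algebraic instances -/
def ZCarrier (n : ℕ) : Type := Fin n

instance (n : ℕ) : Fintype (ZCarrier n) := inferInstanceAs (Fintype (Fin n))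

/-- moving a semilinear description to a field in `Type` -/
theorem semilinear_transport {V : Type*} [AddCommGroup V] {X : Type*} (act : X → V → V)
    (K : Type u) [Field K] [Finite K] (e₀ : V ≃+ K)
    (hs : ∀ h : X, ∃ (a : K) (σ : K ≃+* K), ∀ v : V, e₀ (act h v) = a * σ (e₀ v)) :
    ∃ (F : Type) (_ : Field F) (_ : Fintype F) (e : V ≃+ F),
      ∀ h : X, ∃ (a : F) (σ : F ≃+* F), ∀ v : V, e (act h v) = a * σ (e v) := by
  classical
  let eq : ZCarrier (Nat.card K) ≃ K := (Finite.equivFin K).symm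
  letI : Field (ZCarrier (Nat.card K)) := eq.field
  let ψ : ZCarrier (Nat.card K) ≃+* K := eq.ringEquiv
  refine ⟨ZCarrier (Nat.card K), inferInstance, inferInstance,
    e₀.trans ψ.symm.toAddEquiv, ?_⟩
  intro h
  obtain ⟨a, σ, hσ⟩ := hs h
  refine ⟨ψ.symm a, (ψ.trans σ).trans ψ.symm, ?_⟩
  intro v
  show ψ.symm (e₀ (act h v)) = ψ.symm a * ψ.symm (σ (ψ (ψ.symm (e₀ v))))
  rw [hσ v, map_mul, ψ.apply_symm_apply]

variable {p : ℕ} [Fact p.Prime] {V : Type*} [AddCommGroup V] [Module (ZMod p) V] [Finite V]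
variable {H : Subgroup (V ≃ₗ[ZMod p] V)}

/-- the semilinear description over the enveloping algebra -/
theorem semilinear_KA [Nontrivial V] (hreg : Reg H) (A₀ : Subgroup H) [hAn : A₀.Normal]
    (hAc : ∀ a ∈ A₀, ∀ b ∈ A₀, a * b = b * a)
    (hirr : ∀ W : Submodule (ZMod p) V, Inv A₀ W → W = ⊥ ∨ W = ⊤) :
    ∃ e₀ : V ≃+ KA A₀, ∀ h : H, ∃ (a : KA A₀) (σ : KA A₀ ≃+* KA A₀),
      ∀ v : V, e₀ ((h : V ≃ₗ[ZMod p] V) v) = a * σ (e₀ v) := by
  have hcomm := KA_comm hAc
  have hinj := KA_inj hreg A₀ hAc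
  obtain ⟨v₀, hv₀⟩ := exists_ne (0 : V)
  let ε : KA A₀ →+ V :=
    { toFun := fun x => (x : Module.End (ZMod p) V) v₀
      map_zero' := rfl
      map_add' := fun _ _ => rfl }
  have hεinj : Function.Injective ε := by
    rw [injective_iff_map_eq_zero]
    intro x hx
    by_contra hx0
    have hx0' : (x : Module.End (ZMod p) V) ≠ 0 := fun h => hx0 (Subtype.ext h)
    exact hv₀ (hinj x x.2 hx0' v₀ hx)
  have hεsurj : Function.Surjective ε := by
    let W : Submodule (ZMod p) V :=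
      { carrier := Set.range ε
        add_mem' := by
          rintro _ _ ⟨x, rfl⟩ ⟨y, rfl⟩
          exact ⟨x + y, map_add ε x y⟩
        zero_mem' := ⟨0, map_zero ε⟩
        smul_mem' := by
          rintro r _ ⟨x, rfl⟩
          exact ⟨r • x, rfl⟩ }
    have hW : Inv A₀ W := by
      rintro a ha _ ⟨x, rfl⟩
      exact ⟨⟨toEnd H a, toEnd_mem_KA ha⟩ * x, rfl⟩
    rcases hirr W hW with h | h
    · exfalso
      have : v₀ ∈ W := ⟨1, rfl⟩
      rw [h, Submodule.mem_bot] at this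
      exact hv₀ this
    · intro v
      have : v ∈ W := by rw [h]; exact Submodule.mem_top
      exact this
  let e₁ : KA A₀ ≃+ V := AddEquiv.ofBijective ε ⟨hεinj, hεsurj⟩
  refine ⟨e₁.symm, ?_⟩
  intro h
  refine ⟨e₁.symm ((h : V ≃ₗ[ZMod p] V) v₀), (conjK (KA A₀) KA_conj h).toRingEquiv, ?_⟩
  intro v
  rw [AddEquiv.symm_apply_eq]
  obtain ⟨x, rfl⟩ := e₁.surjective v
  rw [e₁.symm_apply_apply]
  set ah := e₁.symm ((h : V ≃ₗ[ZMod p] V) v₀) with hah
  have hah' : (ah : Module.End (ZMod p) V) v₀ = (h : V ≃ₗ[ZMod p] V) v₀ := e₁.apply_symm_apply _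
  show (h : V ≃ₗ[ZMod p] V) ((x : Module.End (ZMod p) V) v₀) =
    ((ah * conjK (KA A₀) KA_conj h x : KA A₀) : Module.End (ZMod p) V) v₀
  rw [MulMemClass.coe_mul, hcomm _ ah.2 _ (conjK (KA A₀) KA_conj h x).2, Module.End.mul_apply,
    hah', conjK_apply]
  simp only [Module.End.mul_apply, toEnd_apply, coe_inv_apply_apply]

/-- **Semilinear structure** from an irreducible abelian normal subgroup. -/
theorem semilinear_of_irreducible [Nontrivial V] (hreg : Reg H) (A₀ : Subgroup H)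
    [hAn : A₀.Normal] (hAc : ∀ a ∈ A₀, ∀ b ∈ A₀, a * b = b * a)
    (hirr : ∀ W : Submodule (ZMod p) V, Inv A₀ W → W = ⊥ ∨ W = ⊤) :
    ∃ (F : Type) (_ : Field F) (_ : Fintype F) (e : V ≃+ F),
      ∀ h : H, ∃ (a : F) (σ : F ≃+* F), ∀ v : V,
        e ((h : V ≃ₗ[ZMod p] V) v) = a * σ (e v) := by
  obtain ⟨e₀, hs⟩ := semilinear_KA hreg A₀ hAc hirr
  letI FK := fieldOfInj (KA A₀) (KA_comm hAc) (KA_inj hreg A₀ hAc)
  haveI := finite_End (p := p) (V := V)
  haveI : Finite (KA A₀) := inferInstance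
  exact semilinear_transport (fun (h : H) (v : V) => (h : V ≃ₗ[ZMod p] V) v) (KA A₀) e₀ hs

end Cfsg.Agent.Helper4.Zas
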