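import Mathlib
import Cfsg.Agent.Lib.Helper14.TC27Defs

/-! Piece UNPACK1 of S3701: the group of the statement is `3³ : 2²`, explicitly. -/

set_option autoImplicit false
set_option linter.unusedSectionVars false
set_option linter.unusedVariables false

namespace Cfsg.Agent.Helper14.TC27

open Cfsg

/-- the five generators -/
abbrev unpack1_g1 : Equiv.Perm (Fin 9) := Equiv.swap 0 1 * Equiv.swap 1 2
abbrev unpack1_g2 : Equiv.Perm (Fin 9) := Equiv.swap 3 4 * Equiv.swap 4 5
abbrev unpack1_g3 : Equiv.Perm (Fin 9) := Equiv.swap 6 7 * Equiv.swap 7 8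
abbrev unpack1_ga : Equiv.Perm (Fin 9) := Equiv.swap 0 1 * Equiv.swap 3 4
abbrev unpack1_gb : Equiv.Perm (Fin 9) := Equiv.swap 0 1 * Equiv.swap 6 7

/-- the generating set -/
abbrev unpack1_S : Set (Equiv.Perm (Fin 9)) :=
  {Equiv.swap 0 1 * Equiv.swap 1 2, Equiv.swap 3 4 * Equiv.swap 4 5,
    Equiv.swap 6 7 * Equiv.swap 7 8, Equiv.swap 0 1 * Equiv.swap 3 4, Equiv.swap 0 1 * Equiv.swap 6 7}

/-- the words -/
def unpack1_W (i j k : Fin 3) (e f : Fin 2) : Equiv.Perm (Fin 9) :=
  unpack1_g1 ^ (i : ℕ) * unpack1_g2 ^ (j : ℕ) * unpack1_g3 ^ (k : ℕ) * unpack1_ga ^ (e : ℕ) *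
    unpack1_gb ^ (f : ℕ)

set_option maxRecDepth 100000 in
theorem unpack1_step1 : ∀ i j k : Fin 3, ∀ e f : Fin 2,
    unpack1_g1 * unpack1_W i j k e f = unpack1_W (i + 1) j k e f := by
  decide

set_option maxRecDepth 100000 in
theorem unpack1_step2 : ∀ i j k : Fin 3, ∀ e f : Fin 2,
    unpack1_g2 * unpack1_W i j k e f = unpack1_W i (j + 1) k e f := by
  decide

set_option maxRecDepth 100000 in
theorem unpack1_step3 : ∀ i j k : Fin 3, ∀ e f : Fin 2,
    unpack1_g3 * unpack1_W i j k e f = unpack1_W i j (k + 1) e f := by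
  decide

set_option maxRecDepth 100000 in
theorem unpack1_stepa : ∀ i j k : Fin 3, ∀ e f : Fin 2,
    unpack1_ga * unpack1_W i j k e f = unpack1_W (-i) (-j) k (e + 1) f := by
  decide

set_option maxRecDepth 100000 in
theorem unpack1_stepb : ∀ i j k : Fin 3, ∀ e f : Fin 2,
    unpack1_gb * unpack1_W i j k e f = unpack1_W (-i) j (-k) e (f + 1) := by
  decide

set_option maxRecDepth 100000 in
theorem unpack1_inj : ∀ i j k i' j' k' : Fin 3,
    unpack1_g1 ^ (i : ℕ) * unpack1_g2 ^ (j : ℕ) * unpack1_g3 ^ (k : ℕ) =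
      unpack1_g1 ^ (i' : ℕ) * unpack1_g2 ^ (j' : ℕ) * unpack1_g3 ^ (k' : ℕ) →
      i = i' ∧ j = j' ∧ k = k' := by
  decide

theorem unpack1_inv1 : unpack1_g1⁻¹ = unpack1_g1 * unpack1_g1 := by decide
theorem unpack1_inv2 : unpack1_g2⁻¹ = unpack1_g2 * unpack1_g2 := by decide
theorem unpack1_inv3 : unpack1_g3⁻¹ = unpack1_g3 * unpack1_g3 := by decide
theorem unpack1_inva : unpack1_ga⁻¹ = unpack1_ga := by decide
theorem unpack1_invb : unpack1_gb⁻¹ = unpack1_gb := by decide

/-- the set of words is stable under left multiplication by the generators -/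
theorem unpack1_mul_left {x : Equiv.Perm (Fin 9)} (hx : x ∈ unpack1_S) {y : Equiv.Perm (Fin 9)}
    (hy : ∃ i j k : Fin 3, ∃ e f : Fin 2, y = unpack1_W i j k e f) :
    ∃ i j k : Fin 3, ∃ e f : Fin 2, x * y = unpack1_W i j k e f := by
  obtain ⟨i, j, k, e, f, rfl⟩ := hy
  simp only [Set.mem_insert_iff, Set.mem_singleton_iff] at hx
  rcases hx with rfl | rfl | rfl | rfl | rfl
  · exact ⟨_, _, _, _, _, unpack1_step1 i j k e f⟩
  · exact ⟨_, _, _, _, _, unpack1_step2 i j k e f⟩
  · exact ⟨_, _, _, _, _, unpack1_step3 i j k e f⟩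
  · exact ⟨_, _, _, _, _, unpack1_stepa i j k e f⟩
  · exact ⟨_, _, _, _, _, unpack1_stepb i j k e f⟩

/-- the inverse of a generator is a generator or its square -/
theorem unpack1_inv_cases {x : Equiv.Perm (Fin 9)} (hx : x ∈ unpack1_S) : x⁻¹ = x ∨ x⁻¹ = x * x := by
  simp only [Set.mem_insert_iff, Set.mem_singleton_iff] at hx
  rcases hx with rfl | rfl | rfl | rfl | rfl
  · exact Or.inr unpack1_inv1
  · exact Or.inr unpack1_inv2
  · exact Or.inr unpack1_inv3
  · exact Or.inl unpack1_inva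
  · exact Or.inl unpack1_invb

/-- every element of the closure is a word -/
theorem unpack1_form {x : Equiv.Perm (Fin 9)} (hx : x ∈ Subgroup.closure unpack1_S) :
    ∃ i j k : Fin 3, ∃ e f : Fin 2, x = unpack1_W i j k e f := by
  induction hx using Subgroup.closure_induction_left with
  | one => exact ⟨0, 0, 0, 0, 0, by decide⟩
  | mul_left x hx y hy ih => exact unpack1_mul_left hx ih
  | inv_mul_cancel x hx y hy ih =>
    rcases unpack1_inv_cases hx with h | h
    · rw [h]; exact unpack1_mul_left hx ih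
    · rw [h, mul_assoc]; exact unpack1_mul_left hx (unpack1_mul_left hx ih)

section Unpack

/-- PIECE UNPACK1: the group of the statement is `3³ : 2²`, explicitly. -/
theorem h0_pres : Nonempty (Pres ↥(Subgroup.closure ({Equiv.swap 0 1 * Equiv.swap 1 2, Equiv.swap 3 4 * Equiv.swap 4 5,
    Equiv.swap 6 7 * Equiv.swap 7 8, Equiv.swap 0 1 * Equiv.swap 3 4, Equiv.swap 0 1 * Equiv.swap 6 7} :
      Set (Equiv.Perm (Fin 9))))) := by
  have m1 : unpack1_g1 ∈ Subgroup.closure unpack1_S := Subgroup.subset_closure (by simp)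
  have m2 : unpack1_g2 ∈ Subgroup.closure unpack1_S := Subgroup.subset_closure (by simp)
  have m3 : unpack1_g3 ∈ Subgroup.closure unpack1_S := Subgroup.subset_closure (by simp)
  have ma : unpack1_ga ∈ Subgroup.closure unpack1_S := Subgroup.subset_closure (by simp)
  have mb : unpack1_gb ∈ Subgroup.closure unpack1_S := Subgroup.subset_closure (by simp)
  refine ⟨{ t1 := ⟨unpack1_g1, m1⟩, t2 := ⟨unpack1_g2, m2⟩, t3 := ⟨unpack1_g3, m3⟩,
            a := ⟨unpack1_ga, ma⟩, b := ⟨unpack1_gb, mb⟩, rel := ?_, form := ?_ }⟩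
  · refine { o1 := ?_, o2 := ?_, o3 := ?_, c12 := ?_, c13 := ?_, c23 := ?_, aa := ?_, bb := ?_,
             ab := ?_, a1 := ?_, a2 := ?_, a3 := ?_, b1 := ?_, b2 := ?_, b3 := ?_, inj := ?_ }
    · apply Subtype.ext; change unpack1_g1 ^ 3 = 1; decide
    · apply Subtype.ext; change unpack1_g2 ^ 3 = 1; decide
    · apply Subtype.ext; change unpack1_g3 ^ 3 = 1; decide
    · apply Subtype.ext; change unpack1_g1 * unpack1_g2 = unpack1_g2 * unpack1_g1; decide
    · apply Subtype.ext; change unpack1_g1 * unpack1_g3 = unpack1_g3 * unpack1_g1; decide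
    · apply Subtype.ext; change unpack1_g2 * unpack1_g3 = unpack1_g3 * unpack1_g2; decide
    · apply Subtype.ext; change unpack1_ga * unpack1_ga = 1; decide
    · apply Subtype.ext; change unpack1_gb * unpack1_gb = 1; decide
    · apply Subtype.ext; change unpack1_ga * unpack1_gb = unpack1_gb * unpack1_ga; decide
    · apply Subtype.ext; change unpack1_ga * unpack1_g1 * unpack1_ga⁻¹ = unpack1_g1⁻¹; decide
    · apply Subtype.ext; change unpack1_ga * unpack1_g2 * unpack1_ga⁻¹ = unpack1_g2⁻¹; decide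
    · apply Subtype.ext; change unpack1_ga * unpack1_g3 * unpack1_ga⁻¹ = unpack1_g3; decide
    · apply Subtype.ext; change unpack1_gb * unpack1_g1 * unpack1_gb⁻¹ = unpack1_g1⁻¹; decide
    · apply Subtype.ext; change unpack1_gb * unpack1_g2 * unpack1_gb⁻¹ = unpack1_g2; decide
    · apply Subtype.ext; change unpack1_gb * unpack1_g3 * unpack1_gb⁻¹ = unpack1_g3⁻¹; decide
    · intro i j k i' j' k' h
      have h' := congrArg Subtype.val h
      exact unpack1_inj i j k i' j' k' h'
  · intro x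
    obtain ⟨i, j, k, e, f, hx⟩ := unpack1_form x.2
    exact ⟨i, j, k, e, f, Subtype.ext hx⟩

end Unpack

end Cfsg.Agent.Helper14.TC27
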