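import Mathlib
import Cfsg.Agent.Lib.Helper24.CharInduced
import Cfsg.Agent.Lib.Helper14.TC27Defs
import Cfsg.Agent.Lib.Helper14.TC27Core

/-! Piece VALS of S3701: the values of `θ` at `t1` and `t2`. -/

set_option autoImplicit false
set_option linter.unusedSectionVars false
set_option linter.unusedVariables false

namespace Cfsg.Agent.Helper14.TC27

open Cfsg Cfsg.Agent.Helper24
open scoped ComplexConjugate

universe u v

section Chr

variable {G : Type u} [Group G] [Fintype G] {T : Sylow 3 G}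

/-- the extension by zero of `δ` at a word -/
theorem vals_ext (c : Cfg T) (l : Lin c) (i j k : ℕ) :
    extendByZero (T : Subgroup G) l.δ (c.t1 ^ i * c.t2 ^ j * c.t3 ^ k) =
      l.ω ^ (i + j) - l.ω ^ (i + k) := by
  have hm : c.t1 ^ i * c.t2 ^ j * c.t3 ^ k ∈ (T : Subgroup G) :=
    Subgroup.mul_mem _ (Subgroup.mul_mem _ (Subgroup.pow_mem _ c.ht1 i) (Subgroup.pow_mem _ c.ht2 j))
      (Subgroup.pow_mem _ c.ht3 k)
  rw [extendByZero_of_mem _ _ hm, l.delta_apply]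

theorem vals_inv_of_cube {x : G} (hx : x ^ 3 = 1) : x⁻¹ = x ^ 2 := by
  apply inv_eq_of_mul_eq_one_left
  rw [← pow_succ]
  exact hx

theorem vals_inv_of_sq {x : G} (hx : x * x = 1) : x⁻¹ = x := inv_eq_of_mul_eq_one_left hx

/-- conjugation by an involution inverting `t` -/
theorem vals_conj_inv {x t : G} (hx : x * x = 1) (h : x * t * x⁻¹ = t⁻¹) : x⁻¹ * t * x = t⁻¹ := by
  have hx' := vals_inv_of_sq hx
  rw [hx'] at h ⊢
  exact h

/-- conjugation by an involution centralizing `t` -/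
theorem vals_conj_fix {x t : G} (hx : x * x = 1) (h : x * t * x⁻¹ = t) : x⁻¹ * t * x = t := by
  have hx' := vals_inv_of_sq hx
  rw [hx'] at h ⊢
  exact h

theorem vals_conj_ab (a b t : G) : (a * b)⁻¹ * t * (a * b) = b⁻¹ * (a⁻¹ * t * a) * b := by
  group

theorem vals_conj_of_inv (b t : G) : b⁻¹ * t⁻¹ * b = (b⁻¹ * t * b)⁻¹ := by
  group

theorem vals_E0 (c : Cfg T) : c.E 0 = 1 := rfl
theorem vals_E1 (c : Cfg T) : c.E 1 = c.a := rfl
theorem vals_E2 (c : Cfg T) : c.E 2 = c.b := rfl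
theorem vals_E3 (c : Cfg T) : c.E 3 = c.a * c.b := rfl

/-- PIECE VALS: `θ(t1) = 0` -/
theorem theta_t1 (h : Hyp T) (c : Cfg T) (l : Lin c)
    (hval : ∀ t ∈ (T : Subgroup G), t ≠ 1 →
      l.θ t = ∑ i : Fin 4, extendByZero (T : Subgroup G) l.δ ((c.E i)⁻¹ * t * c.E i)) :
    l.θ c.t1 = 0 := by
  have hne : c.t1 ≠ 1 := by
    intro h1
    have := c.rel.inj 1 0 0 0 0 0 (by simp [h1])
    exact absurd this.1 (by decide)
  rw [hval c.t1 c.ht1 hne, Fin.sum_univ_four, vals_E0, vals_E1, vals_E2, vals_E3]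
  have e0 : (1 : G)⁻¹ * c.t1 * 1 = c.t1 ^ 1 * c.t2 ^ 0 * c.t3 ^ 0 := by simp
  have e1 : c.a⁻¹ * c.t1 * c.a = c.t1 ^ 2 * c.t2 ^ 0 * c.t3 ^ 0 := by
    rw [vals_conj_inv c.rel.aa c.rel.a1, vals_inv_of_cube c.rel.o1]; simp
  have e2 : c.b⁻¹ * c.t1 * c.b = c.t1 ^ 2 * c.t2 ^ 0 * c.t3 ^ 0 := by
    rw [vals_conj_inv c.rel.bb c.rel.b1, vals_inv_of_cube c.rel.o1]; simp
  have e3 : (c.a * c.b)⁻¹ * c.t1 * (c.a * c.b) = c.t1 ^ 1 * c.t2 ^ 0 * c.t3 ^ 0 := by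
    rw [vals_conj_ab, vals_conj_inv c.rel.aa c.rel.a1, vals_conj_of_inv,
      vals_conj_inv c.rel.bb c.rel.b1, inv_inv]; simp
  rw [e0, e1, e2, e3, vals_ext, vals_ext]
  ring

/-- PIECE VALS: `θ(t2) = -6` -/
theorem theta_t2 (h : Hyp T) (c : Cfg T) (l : Lin c)
    (hval : ∀ t ∈ (T : Subgroup G), t ≠ 1 →
      l.θ t = ∑ i : Fin 4, extendByZero (T : Subgroup G) l.δ ((c.E i)⁻¹ * t * c.E i)) :
    l.θ c.t2 = -6 := by
  have hne : c.t2 ≠ 1 := by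
    intro h1
    have := c.rel.inj 0 1 0 0 0 0 (by simp [h1])
    exact absurd this.2.1 (by decide)
  rw [hval c.t2 c.ht2 hne, Fin.sum_univ_four, vals_E0, vals_E1, vals_E2, vals_E3]
  have e0 : (1 : G)⁻¹ * c.t2 * 1 = c.t1 ^ 0 * c.t2 ^ 1 * c.t3 ^ 0 := by simp
  have e1 : c.a⁻¹ * c.t2 * c.a = c.t1 ^ 0 * c.t2 ^ 2 * c.t3 ^ 0 := by
    rw [vals_conj_inv c.rel.aa c.rel.a2, vals_inv_of_cube c.rel.o2]; simp
  have e2 : c.b⁻¹ * c.t2 * c.b = c.t1 ^ 0 * c.t2 ^ 1 * c.t3 ^ 0 := by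
    rw [vals_conj_fix c.rel.bb c.rel.b2]; simp
  have e3 : (c.a * c.b)⁻¹ * c.t2 * (c.a * c.b) = c.t1 ^ 0 * c.t2 ^ 2 * c.t3 ^ 0 := by
    rw [vals_conj_ab, vals_conj_inv c.rel.aa c.rel.a2, vals_conj_of_inv,
      vals_conj_fix c.rel.bb c.rel.b2, vals_inv_of_cube c.rel.o2]; simp
  rw [e0, e1, e2, e3, vals_ext, vals_ext]
  linear_combination 2 * l.ωq

end Chr

end Cfsg.Agent.Helper14.TC27
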