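import Mathlib
import Cfsg.Agent.Lib.Helper20.GL4SubDefs
import Cfsg.Agent.S0991

set_option autoImplicit false

/-! Piece IDX8 of S2553: proper subgroups of the alternating group of degree 8 have index at
least 8. -/

namespace Cfsg.Agent.Helper20.GL4Sub

namespace IDX8

/-- a finite simple group whose order is not a prime is not commutative -/
theorem not_comm_of_not_prime {S : Type*} [Group S] [IsSimpleGroup S]
    (h : ¬ (Nat.card S).Prime) : ¬ IsMulCommutative S := by
  intro hc
  exact h (Group.is_simple_iff_prime_card.1 inferInstance)

/-- a nonabelian finite simple group with a proper subgroup of index `k` has order at most `k!` -/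
theorem card_le_factorial_index {S : Type*} [Group S] [Finite S] [IsSimpleGroup S]
    (hS : ¬ IsMulCommutative S) (T : Subgroup S) (hT : T ≠ ⊤) :
    Nat.card S ≤ Nat.factorial T.index := by
  obtain ⟨f, hf⟩ := Cfsg.Agent.S0991.result hS T hT
  have h1 : Nat.card S ≤ Nat.card ↥(alternatingGroup (Fin T.index)) :=
    Nat.card_le_card_of_injective f hf
  have h2 : Nat.card ↥(alternatingGroup (Fin T.index)) ≤ Nat.card (Equiv.Perm (Fin T.index)) :=
    Nat.card_le_card_of_injective Subtype.val Subtype.val_injective
  have h3 : Nat.card (Equiv.Perm (Fin T.index)) = Nat.factorial T.index := by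
    rw [Nat.card_eq_fintype_card, Fintype.card_perm, Fintype.card_fin]
  omega

end IDX8

/-- IDX8 -/
theorem idx8 : Idx8 := by
  intro L hL
  have hsimple : IsSimpleGroup A8 := alternatingGroup.isSimpleGroup (by simp)
  have hS : ¬ IsMulCommutative A8 := IDX8.not_comm_of_not_prime (by rw [card_A8]; norm_num)
  have hle := IDX8.card_le_factorial_index hS L hL
  rw [card_A8] at hle
  by_contra hlt
  have h7 : L.index ≤ 7 := by omega
  have := Nat.factorial_le h7
  have h5040 : Nat.factorial 7 = 5040 := by decide
  omega

end Cfsg.Agent.Helper20.GL4Sub
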