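import Mathlib
import Cfsg.Agent.Lib.Helper2.AICDefs
import Cfsg.Agent.Lib.Helper2.AICGEN
import Cfsg.Agent.Lib.Helper2.AICBAS1
import Cfsg.Agent.Lib.Helper18.AICB3B

/-!
# S2202, PIECE BAS2 (A3, A5) — helper4

TI property of Sylow 2-subgroups, uniqueness of the Sylow 2-subgroup containing an involution,
`nInv P ≥ 3`, and `nInv P + 1 ∣ |C_G(P)|`.
-/

set_option autoImplicit false

namespace Cfsg.Agent.Helper2.AIC

variable {G : Type*} [Group G] [Finite G]

omit [Finite G] in
/-- elements of a Sylow 2-subgroup have 2-power order -/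
theorem bas2_orderOf_of_mem {P : Sylow 2 G} {x : G} (hx : x ∈ P) : ∃ k : ℕ, orderOf x = 2 ^ k := by
  obtain ⟨k, hk⟩ := (IsPGroup.iff_orderOf.mp P.2) ⟨x, hx⟩
  refine ⟨k, ?_⟩
  rw [← hk]
  exact (Subgroup.orderOf_mk x hx).symm

omit [Finite G] in
/-- a Sylow 2-subgroup contained in another one equals it -/
theorem bas2_eq_of_le {P Q : Sylow 2 G} (h : (P : Subgroup G) ≤ Q) : P = Q := by
  have h1 : (Q : Subgroup G) = P := P.is_maximal' Q.2 h
  exact Sylow.ext h1.symm

theorem Cfg.ti (c : Cfg G) {P Q : Sylow 2 G} (h : P ≠ Q) {x : G} (hP : x ∈ P) (hQ : x ∈ Q) :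
    x = 1 := by
  by_contra hx1
  obtain ⟨k, hk⟩ := bas2_orderOf_of_mem hP
  have hk0 : k ≠ 0 := by
    rintro rfl
    simp at hk
    exact hx1 hk
  have heven : Even (orderOf x) := by
    rw [hk]
    exact (Nat.even_pow.mpr ⟨even_two, hk0⟩)
  obtain ⟨n, hn⟩ := exists_pow_orderOf_two heven
  have htP : x ^ n ∈ P := (P : Subgroup G).pow_mem hP n
  have htQ : x ^ n ∈ Q := (Q : Subgroup G).pow_mem hQ n
  have e1 := c.centralizer_eq htP hn
  have e2 := c.centralizer_eq htQ hn
  have hCC : Cn P = Cn Q := e1.symm.trans e2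
  apply h
  apply bas2_eq_of_le
  intro y hy
  have hyC : y ∈ Cn Q := by
    rw [← hCC]
    exact c.sylow_le_Cn P hy
  obtain ⟨j, hj⟩ := bas2_orderOf_of_mem hy
  exact c.mem_sylow_of_mem_Cn hyC hj

theorem Cfg.sylow_unique (c : Cfg G) {v : G} (hv : orderOf v = 2) {R R' : Sylow 2 G} (h : v ∈ R)
    (h' : v ∈ R') : R = R' := by
  by_contra hne
  have := c.ti hne h h'
  rw [this] at hv
  simp at hv

/-- an involution `v ∈ R` fixes only the point `R` -/
theorem Cfg.eq_of_inv_mem_Mn (c : Cfg G) {v : G} (hv : orderOf v = 2) {R Q : Sylow 2 G}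
    (hvR : v ∈ R) (h : v ∈ Mn Q) : Q = R := by
  have hvQ : v ∈ Q := mem_sylow_of_mem_Mn h (k := 1) (by simpa using hv)
  exact c.sylow_unique hv hvQ hvR

theorem Cfg.eq_one_of_mem_of_mem_Mn (c : Cfg G) {P Q : Sylow 2 G} (h : P ≠ Q) {x : G} (hx : x ∈ P)
    (hxQ : x ∈ Mn Q) : x = 1 := by
  obtain ⟨k, hk⟩ := bas2_orderOf_of_mem hx
  have hxQ' : x ∈ Q := mem_sylow_of_mem_Mn hxQ hk
  exact c.ti h hx hxQ'

theorem Cfg.three_le_nInv (c : Cfg G) (P : Sylow 2 G) : 3 ≤ nInv P := by
  have hnc := c.nc P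
  have hcomm : ∀ x y : (P : Subgroup G), x * y = y * x := by
    intro x y
    apply Subtype.ext
    exact c.comm_sylow P x.1 x.2 y.1 y.2
  have hex : ∃ v w : (P : Subgroup G), orderOf v = 2 ∧ orderOf w = 2 ∧ v ≠ w := by
    by_contra hcon
    push Not at hcon
    exact hnc (isCyclic_of_unique_inv P.2 hcomm (fun v w hv hw => hcon v w hv hw))
  obtain ⟨v, w, hv, hw, hvw⟩ := hex
  have hv' : orderOf (v : G) = 2 := by rw [Subgroup.orderOf_coe]; exact hv
  have hw' : orderOf (w : G) = 2 := by rw [Subgroup.orderOf_coe]; exact hw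
  have hvw' : (v : G) ≠ (w : G) := fun h => hvw (Subtype.ext h)
  have hv2 : (v : G) * v = 1 := by
    have := pow_orderOf_eq_one (v : G)
    rw [hv', pow_two] at this
    exact this
  have hw2 : (w : G) * w = 1 := by
    have := pow_orderOf_eq_one (w : G)
    rw [hw', pow_two] at this
    exact this
  have hv1 : (v : G) ≠ 1 := by
    intro h
    rw [h] at hv'
    simp at hv'
  have hw1 : (w : G) ≠ 1 := by
    intro h
    rw [h] at hw'
    simp at hw'
  have hcm : (v : G) * w = w * v := c.comm_sylow P v.1 v.2 w.1 w.2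
  have hvw1 : (v : G) * w ≠ 1 := by
    intro h
    apply hvw'
    -- v = w⁻¹ = w
    have h1 : (v : G) = (w : G)⁻¹ := eq_inv_of_mul_eq_one_left h
    have h2 : (w : G)⁻¹ = w := inv_eq_of_mul_eq_one_left hw2
    rw [h1, h2]
  have hvwo : orderOf ((v : G) * w) = 2 := by
    have : Fact (Nat.Prime 2) := ⟨Nat.prime_two⟩
    rw [orderOf_eq_prime_iff]
    refine ⟨?_, hvw1⟩
    rw [pow_two]
    calc (v : G) * w * (v * w) = v * (w * v) * w := by group
      _ = v * (v * w) * w := by rw [hcm]
      _ = (v * v) * (w * w) := by group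
      _ = 1 := by rw [hv2, hw2, one_mul]
  have hvwP : (v : G) * w ∈ P := (P : Subgroup G).mul_mem v.2 w.2
  -- three distinct involutions
  let f : Fin 3 → {t : G // t ∈ P ∧ orderOf t = 2} := fun i =>
    match i with
    | 0 => ⟨v, v.2, hv'⟩
    | 1 => ⟨w, w.2, hw'⟩
    | 2 => ⟨(v : G) * w, hvwP, hvwo⟩
  have hf : Function.Injective f := by
    intro i j hij
    have hval : (f i).1 = (f j).1 := congrArg Subtype.val hij
    fin_cases i <;> fin_cases j <;> simp only [f] at hval <;> first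
      | rfl
      | (exfalso; exact hvw' hval)
      | (exfalso; exact hvw' hval.symm)
      | (exfalso
         -- v = v * w  => w = 1 ; w = v * w => v = 1
         first
           | (apply hw1; have := hval; exact (mul_eq_left.mp this.symm))
           | (apply hw1; have := hval; exact (mul_eq_left.mp this))
           | (apply hv1; have := hval; exact (mul_eq_right.mp this.symm))
           | (apply hv1; have := hval; exact (mul_eq_right.mp this)))
  have := Nat.card_le_card_of_injective f hf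
  simpa [nInv] using this

/-- `Ω₁(P)` has `nInv P + 1` elements, which divides `|C_G(P)|` -/
theorem Cfg.nInv_succ_dvd (c : Cfg G) (P : Sylow 2 G) : nInv P + 1 ∣ Nat.card (Cn P) := by
  have : Fact (Nat.Prime 2) := ⟨Nat.prime_two⟩
  let O : Subgroup G :=
    { carrier := {x | x ∈ P ∧ x ^ 2 = 1}
      one_mem' := ⟨(P : Subgroup G).one_mem, by simp⟩
      mul_mem' := by
        rintro a b ⟨ha, ha2⟩ ⟨hb, hb2⟩
        refine ⟨(P : Subgroup G).mul_mem ha hb, ?_⟩
        have hcm : a * b = b * a := c.comm_sylow P a ha b hb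
        calc (a * b) ^ 2 = a * (b * a) * b := by rw [pow_two]; group
          _ = a * (a * b) * b := by rw [hcm]
          _ = a ^ 2 * b ^ 2 := by rw [pow_two, pow_two]; group
          _ = 1 := by rw [ha2, hb2, one_mul]
      inv_mem' := by
        rintro a ⟨ha, ha2⟩
        refine ⟨(P : Subgroup G).inv_mem ha, ?_⟩
        rw [inv_pow, ha2, inv_one] }
  have hO_le : O ≤ Cn P := by
    intro x hx
    exact c.sylow_le_Cn P hx.1
  have hdvd : Nat.card O ∣ Nat.card (Cn P) := Subgroup.card_dvd_of_le hO_le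
  have hcard : Nat.card O = nInv P + 1 := by
    have hset : (O : Set G) = insert (1 : G) {t : G | t ∈ P ∧ orderOf t = 2} := by
      ext x
      constructor
      · rintro ⟨hxP, hx2⟩
        by_cases hx1 : x = 1
        · left; exact hx1
        · right
          exact ⟨hxP, orderOf_eq_prime_iff.mpr ⟨hx2, hx1⟩⟩
      · rintro (hx | ⟨hxP, hxo⟩)
        · rw [hx]; exact O.one_mem
        · exact ⟨hxP, (orderOf_eq_prime_iff.mp hxo).1⟩
    have h1 : (1 : G) ∉ {t : G | t ∈ P ∧ orderOf t = 2} := by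
      rintro ⟨_, h⟩
      simp at h
    calc Nat.card O = (O : Set G).ncard := (_root_.Nat.card_coe_set_eq (O : Set G))
      _ = (insert (1 : G) {t : G | t ∈ P ∧ orderOf t = 2}).ncard := by rw [hset]
      _ = {t : G | t ∈ P ∧ orderOf t = 2}.ncard + 1 :=
          Set.ncard_insert_of_notMem h1 (Set.toFinite _)
      _ = nInv P + 1 := by
          rw [nInv]
          rfl
  rw [← hcard]
  exact hdvd

end Cfsg.Agent.Helper2.AIC
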