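import Mathlib
import Cfsg.Agent.Lib.Helper2.AICDefs
import Cfsg.Agent.Lib.Helper2.AICGEN
import Cfsg.Agent.Lib.Helper2.AICBAS1
import Cfsg.Agent.Lib.Helper24.AICSE
import Cfsg.Agent.Lib.Helper4.AICBAS2

/-!
# S2202, PIECE B1 (B1a, B1b) — helper4
-/

set_option autoImplicit false

namespace Cfsg.Agent.Helper2.AIC

variable {G : Type*} [Group G] [Finite G]

set_option linter.unusedVariables false in
theorem centralizer_le_Mn (c : Cfg G) (hα : ∀ P Q : Sylow 2 G, P ≠ Q → Kn P ⊓ Kn Q = ⊥)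
    {P : Sylow 2 G} {k : G} (hk : k ∈ Kn P) (hk1 : k ≠ 1) :
    Subgroup.centralizer ({k} : Set G) ≤ Mn P := by
  intro g hg
  rw [mem_Mn_iff]
  by_contra hne
  have hgk : g * k * g⁻¹ = k := by
    have := (Subgroup.mem_centralizer_iff.mp hg) k (Set.mem_singleton k)
    -- this : k * g = g * k
    rw [← this]
    group
  have h1 : k ∈ Kn (g • P) := by
    have := (conj_mem_Kn P g k).mpr hk
    rwa [hgk] at this
  have h2 : k ∈ Kn (g • P) ⊓ Kn P := ⟨h1, hk⟩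
  rw [hα (g • P) P hne] at h2
  exact hk1 ((Subgroup.mem_bot).mp h2)

omit [Finite G] in
/-- auxiliary: conjugation by an involution twice -/
theorem b1_conj_conj {u : G} (hu : orderOf u = 2) (a : G) : u * (u * a * u⁻¹) * u⁻¹ = a := by
  have hu2 : u * u = 1 := by
    have := pow_orderOf_eq_one u
    rwa [hu, pow_two] at this
  have hui : u⁻¹ = u := inv_eq_of_mul_eq_one_left hu2
  rw [hui]
  calc u * (u * a * u) * u = (u * u) * a * (u * u) := by group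
    _ = a := by rw [hu2, one_mul, mul_one]

theorem Kn_inf_Mn (c : Cfg G) (hα : ∀ P Q : Sylow 2 G, P ≠ Q → Kn P ⊓ Kn Q = ⊥)
    {P Q : Sylow 2 G} (h : P ≠ Q) : Kn P ⊓ Mn Q = ⊥ := by
  rw [eq_bot_iff]
  intro a ha
  rw [Subgroup.mem_bot]
  obtain ⟨haK, haQ⟩ := ha
  by_contra ha1
  obtain ⟨u, hu, huP⟩ := c.exists_swap h
  have huQ : u • Q = P := swap_symm hu huP
  have hu2 : u * u = 1 := by
    have := pow_orderOf_eq_one u
    rwa [hu, pow_two] at this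
  have hui : u⁻¹ = u := inv_eq_of_mul_eq_one_left hu2
  have haP : a ∈ Mn P := c.Kn_le_Mn P haK
  -- a' := u a u⁻¹
  obtain ⟨a', ha'⟩ : ∃ a' : G, a' = u * a * u⁻¹ := ⟨_, rfl⟩
  have ha'K : a' ∈ Kn Q := by
    have := (conj_mem_Kn P u a).mpr haK
    rwa [huP, ← ha'] at this
  have ha'P : a' ∈ Mn P := by
    have := (conj_mem_Mn Q u a).mpr haQ
    rwa [huQ, ← ha'] at this
  have ha'Q : a' ∈ Mn Q := c.Kn_le_Mn Q ha'K
  -- a and a' commute
  have hcomm : a * a' = a' * a := by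
    have h1 : a * a' * a⁻¹ ∈ Kn Q := c.Kn_normal haQ ha'K
    have h2 : a * a' * a⁻¹ * a'⁻¹ ∈ Kn Q := (Kn Q).mul_mem h1 ((Kn Q).inv_mem ha'K)
    have h3 : a' * a⁻¹ * a'⁻¹ ∈ Kn P := c.Kn_normal ha'P ((Kn P).inv_mem haK)
    have h4 : a * (a' * a⁻¹ * a'⁻¹) ∈ Kn P := (Kn P).mul_mem haK h3
    have h5 : a * a' * a⁻¹ * a'⁻¹ = a * (a' * a⁻¹ * a'⁻¹) := by group
    have h6 : a * a' * a⁻¹ * a'⁻¹ ∈ Kn P ⊓ Kn Q := ⟨h5 ▸ h4, h2⟩
    rw [hα P Q h, Subgroup.mem_bot] at h6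
    calc a * a' = (a * a' * a⁻¹ * a'⁻¹) * (a' * a) := by group
      _ = a' * a := by rw [h6, one_mul]
  -- b := a a' is fixed by u
  obtain ⟨b, hb⟩ : ∃ b : G, b = a * a' := ⟨_, rfl⟩
  have hub : u * b * u⁻¹ = b := by
    have h1 : u * b * u⁻¹ = (u * a * u⁻¹) * (u * a' * u⁻¹) := by rw [hb]; group
    have h2 : u * a' * u⁻¹ = a := by rw [ha']; exact b1_conj_conj hu a
    rw [h1, h2, ← ha', hb, hcomm]
  have hodda : Odd (orderOf a) := ((c.mem_Kn_iff P).mp haK).2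
  have hodda' : Odd (orderOf a') := ((c.mem_Kn_iff Q).mp ha'K).2
  have hoddb : Odd (orderOf b) := by
    have hc : Commute a a' := hcomm
    have h1 : orderOf b ∣ Nat.lcm (orderOf a) (orderOf a') := hb ▸ hc.orderOf_mul_dvd_lcm
    have h2 : Nat.lcm (orderOf a) (orderOf a') ∣ orderOf a * orderOf a' := Nat.lcm_dvd_mul _ _
    exact Odd.of_dvd_nat (hodda.mul hodda') (h1.trans h2)
  have hb1 : b ≠ 1 := by
    intro hb1
    -- a' = a⁻¹ ∈ Kn P ⊓ Kn Q
    have h1 : a' = a⁻¹ := eq_inv_of_mul_eq_one_right (hb ▸ hb1)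
    have h2 : a' ∈ Kn P ⊓ Kn Q := ⟨h1 ▸ (Kn P).inv_mem haK, ha'K⟩
    rw [hα P Q h, Subgroup.mem_bot] at h2
    rw [h2] at h1
    apply ha1
    have : a⁻¹ = 1 := h1.symm
    exact inv_eq_one.mp this
  obtain ⟨R, huR⟩ := exists_sylow_of_orderOf_two hu
  have hCu : Subgroup.centralizer ({u} : Set G) = Cn R := c.centralizer_eq huR hu
  have hbCu : b ∈ Subgroup.centralizer ({u} : Set G) := by
    rw [Subgroup.mem_centralizer_iff]
    intro x hx
    rw [Set.mem_singleton_iff] at hx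
    rw [hx]
    -- u * b = b * u
    calc u * b = (u * b * u⁻¹) * u := by group
      _ = b * u := by rw [hub]
  have hbK : b ∈ Kn R := (c.mem_Kn_iff R).mpr ⟨hCu ▸ hbCu, hoddb⟩
  have hCb := centralizer_le_Mn c hα hbK hb1
  have haCb : a ∈ Subgroup.centralizer ({b} : Set G) := by
    rw [Subgroup.mem_centralizer_iff]
    intro x hx
    rw [Set.mem_singleton_iff] at hx
    rw [hx, hb]
    calc a * a' * a = a * (a' * a) := by group
      _ = a * (a * a') := by rw [hcomm]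
  have haR : a ∈ Mn R := hCb haCb
  -- a u a⁻¹ ∈ R
  have hauR : a * u * a⁻¹ ∈ R := ((Subgroup.mem_normalizer_iff).mp haR u).mp huR
  have hRP : R ≠ P := by
    intro hRP
    rw [hRP] at huR
    have : u ∈ Mn P := Subgroup.le_normalizer huR
    rw [mem_Mn_iff, huP] at this
    exact h this.symm
  -- w := u⁻¹ (a u a⁻¹) ∈ R ⊓ Mn P
  have hwR : u⁻¹ * (a * u * a⁻¹) ∈ R := (R : Subgroup G).mul_mem ((R : Subgroup G).inv_mem huR) hauR
  have hwP : u⁻¹ * (a * u * a⁻¹) ∈ Mn P := by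
    rw [mem_Mn_iff]
    have e1 : a⁻¹ • P = P := mem_Mn_iff.mp ((Mn P).inv_mem haP)
    have e2 : a • Q = Q := mem_Mn_iff.mp haQ
    calc (u⁻¹ * (a * u * a⁻¹)) • P = u⁻¹ • a • u • a⁻¹ • P := by simp [mul_smul]
      _ = u⁻¹ • a • u • P := by rw [e1]
      _ = u⁻¹ • a • Q := by rw [huP]
      _ = u⁻¹ • Q := by rw [e2]
      _ = u • Q := by rw [hui]
      _ = P := huQ
  have hw1 : u⁻¹ * (a * u * a⁻¹) = 1 := c.eq_one_of_mem_of_mem_Mn hRP hwR hwP
  have hau : a * u * a⁻¹ = u := by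
    have := eq_inv_of_mul_eq_one_right hw1
    rw [this, inv_inv]
  have haCu : a ∈ Subgroup.centralizer ({u} : Set G) := by
    rw [Subgroup.mem_centralizer_iff]
    intro x hx
    rw [Set.mem_singleton_iff] at hx
    rw [hx]
    calc u * a = (a * u * a⁻¹) * a := by rw [hau]
      _ = a * u := by group
  have haKR : a ∈ Kn R := (c.mem_Kn_iff R).mpr ⟨hCu ▸ haCu, hodda⟩
  have : a ∈ Kn R ⊓ Kn P := ⟨haKR, haK⟩
  rw [hα R P hRP, Subgroup.mem_bot] at this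
  exact ha1 this

end Cfsg.Agent.Helper2.AIC
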