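import Mathlib
import Cfsg.Agent.Lib.Helper2.AICDefs
import Cfsg.Agent.Lib.Helper24.AICSE
import Cfsg.Agent.Lib.Helper24.AICORB
import Cfsg.Agent.Lib.Helper4.AICB1

/-!
# S2202, PIECE B2 — helper4
-/

set_option autoImplicit false

namespace Cfsg.Agent.Helper2.AIC

variable {G : Type*} [Group G] [Finite G]

theorem Dn_inf_Cn_eq_bot (c : Cfg G) (hα : ∀ P Q : Sylow 2 G, P ≠ Q → Kn P ⊓ Kn Q = ⊥)
    {P Q : Sylow 2 G} (h : P ≠ Q) : Dn P Q ⊓ Cn P = ⊥ := by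
  rw [c.Dn_inf_Cn h, Kn_inf_Mn c hα h]

theorem card_Dn_eq (c : Cfg G) (hα : ∀ P Q : Sylow 2 G, P ≠ Q → Kn P ⊓ Kn Q = ⊥)
    {P Q : Sylow 2 G} (h : P ≠ Q) : Nat.card (Dn P Q) = nInv P := by
  rw [c.card_Dn h, Kn_inf_Mn c hα h]
  simp

theorem Dn_inverted (c : Cfg G) (hα : ∀ P Q : Sylow 2 G, P ≠ Q → Kn P ⊓ Kn Q = ⊥)
    {P Q : Sylow 2 G} (h : P ≠ Q) {u : G} (hu : orderOf u = 2) (huP : u • P = Q) {d : G}
    (hd : d ∈ Dn P Q) : u * d * u⁻¹ = d⁻¹ := by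
  have h1 : Nat.card {d : G // d ∈ Dn P Q ∧ u * d * u⁻¹ = d⁻¹} = nInv P := c.card_inverted h hu huP
  have h2 : Nat.card (Dn P Q) = nInv P := card_Dn_eq c hα h
  -- the inclusion of the inverted elements into D is a bijection
  let f : {d : G // d ∈ Dn P Q ∧ u * d * u⁻¹ = d⁻¹} → (Dn P Q) := fun x => ⟨x.1, x.2.1⟩
  have hf : Function.Injective f := by
    intro x y hxy
    apply Subtype.ext
    exact congrArg (fun z : (Dn P Q) => (z : G)) hxy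
  have hcard : Nat.card {d : G // d ∈ Dn P Q ∧ u * d * u⁻¹ = d⁻¹} = Nat.card (Dn P Q) := by
    rw [h1, h2]
  have hbij : Function.Bijective f :=
    hf.bijective_of_nat_card_le (le_of_eq hcard.symm)
  obtain ⟨x, hx⟩ := hbij.2 ⟨d, hd⟩
  have : x.1 = d := congrArg (fun z : (Dn P Q) => (z : G)) hx
  rw [← this]
  exact x.2.2

theorem Dn_comm (c : Cfg G) (hα : ∀ P Q : Sylow 2 G, P ≠ Q → Kn P ⊓ Kn Q = ⊥)
    {P Q : Sylow 2 G} (h : P ≠ Q) : ∀ x ∈ Dn P Q, ∀ y ∈ Dn P Q, x * y = y * x := by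
  intro x hx y hy
  obtain ⟨u, hu, huP⟩ := c.exists_swap h
  have hx' := Dn_inverted c hα h hu huP hx
  have hy' := Dn_inverted c hα h hu huP hy
  have hxy' := Dn_inverted c hα h hu huP ((Dn P Q).mul_mem hx hy)
  have h1 : u * (x * y) * u⁻¹ = (u * x * u⁻¹) * (u * y * u⁻¹) := by group
  rw [h1, hx', hy'] at hxy'
  -- x⁻¹ y⁻¹ = (x y)⁻¹ = y⁻¹ x⁻¹
  have h2 : x⁻¹ * y⁻¹ = y⁻¹ * x⁻¹ := by rw [hxy', mul_inv_rev]
  have h3 : (y * x)⁻¹ = (x * y)⁻¹ := by rw [mul_inv_rev, mul_inv_rev, h2]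
  exact (inv_injective h3).symm

/-- `M_P / C_P` is abelian: commutators of `M_P` with `D_{PQ}` lie in `C_P` -/
theorem comm_mem_Cn (c : Cfg G) (hα : ∀ P Q : Sylow 2 G, P ≠ Q → Kn P ⊓ Kn Q = ⊥)
    {P Q : Sylow 2 G} (h : P ≠ Q) {y d : G} (hy : y ∈ Mn P) (hd : d ∈ Dn P Q) :
    y * d * y⁻¹ * d⁻¹ ∈ Cn P := by
  obtain ⟨x, hx, d₀, hd₀, rfl⟩ := c.Mn_eq_mul h hy
  have hcm : d₀ * d = d * d₀ := Dn_comm c hα h d₀ hd₀ d hd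
  have h1 : x * d₀ * d * (x * d₀)⁻¹ * d⁻¹ = x * (d₀ * d) * d₀⁻¹ * x⁻¹ * d⁻¹ := by group
  have h2 : x * (d * d₀) * d₀⁻¹ * x⁻¹ * d⁻¹ = x * (d * x⁻¹ * d⁻¹) := by group
  rw [h1, hcm, h2]
  have hdP : d ∈ Mn P := hd.1
  have hdP' : d • P = P := mem_Mn_iff.mp hdP
  have h3 : d * x⁻¹ * d⁻¹ ∈ Cn P := by
    have := (conj_mem_Cn P d x⁻¹).mpr ((Cn P).inv_mem hx)
    rwa [hdP'] at this
  exact (Cn P).mul_mem hx h3

end Cfsg.Agent.Helper2.AIC
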