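import Mathlib

/-!
S2480 farm-out, PIECE PSLK-AEVAL: conjugate endomorphisms have isomorphic `F[X]`-modules.
-/

open Polynomial

namespace Cfsg.Agent.Helper15.PSLk

universe u

section pieces
variable {F : Type u} [Field F]

/-- PIECE PSLK-AEVAL: conjugate endomorphisms have isomorphic modules. -/
theorem aeval_equiv_of_intertwine {V W : Type u} [AddCommGroup V] [Module F V] [AddCommGroup W]
    [Module F W] (a : Module.End F V) (b : Module.End F W) (ψ : V ≃ₗ[F] W)
    (h : ∀ v, ψ (a v) = b (ψ v)) : Nonempty (Module.AEval' a ≃ₗ[F[X]] Module.AEval' b) := by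
  refine ⟨LinearEquiv.ofAEval a (ψ.trans (Module.AEval'.of b)) ?_⟩
  intro m
  show Module.AEval'.of b (ψ (a m)) = (X : F[X]) • Module.AEval'.of b (ψ m)
  rw [Module.AEval'.X_smul_of, h]

end pieces

end Cfsg.Agent.Helper15.PSLk
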