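import Mathlib

/-!
S2479 farm-out, PIECE SLK-GRP (pure finite group theory): the classes of the kernel of `δ : G →* Z`
(`Z` abelian) are counted by an injective class invariant together with cosets of subgroups of `Z`.
-/

set_option autoImplicit false

namespace Cfsg.Agent.Helper17.SLk

/-- equality in a sigma type of quotients of `Z`: the second components differ by an element of `Γ` -/
theorem SLkGRP_heq_aux {Z T : Type*} [CommGroup Z] (Γ : T → Subgroup Z) (s : Finset T)
    {u u' : {t // t ∈ s}} (h : u = u') (a b : Z)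
    (hh : HEq (QuotientGroup.mk a : Z ⧸ Γ u.1) (QuotientGroup.mk b : Z ⧸ Γ u'.1)) :
    a⁻¹ * b ∈ Γ u.1 := by
  subst h
  exact QuotientGroup.eq.1 (eq_of_heq hh)

/-- every element is conjugate to the chosen representative of its class -/
theorem SLkGRP_exists_conj {G : Type*} [Group G] (x : G) :
    ∃ y : G, y * Quotient.out (ConjClasses.mk x) * y⁻¹ = x := by
  have h1 : ConjClasses.mk (Quotient.out (ConjClasses.mk x)) = ConjClasses.mk x :=
    Quotient.out_eq _
  rw [ConjClasses.mk_eq_mk_iff_isConj, isConj_iff] at h1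
  exact h1

/-- PIECE SLK-GRP: classes of the kernel of `δ : G →* Z` (`Z` abelian) are counted by an injective
class invariant `tt` together with cosets of subgroups `Γ t ≤ δ (C_G(rep))`. -/
theorem card_classes_ker_le {G Z T : Type*} [Group G] [Finite G] [CommGroup Z] [Finite Z]
    (δ : G →* Z) (tt : ConjClasses G → T) (htt : Function.Injective tt)
    (Γ : T → Subgroup Z)
    (hΓ : ∀ c : ConjClasses G, ∀ d ∈ Γ (tt c),
      ∃ z : G, z * Quotient.out c = Quotient.out c * z ∧ δ z = d)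
    (s : Finset T) (hs : ∀ r : G, δ r = 1 → tt (ConjClasses.mk r) ∈ s) :
    Nat.card (ConjClasses δ.ker) ≤ ∑ t ∈ s, (Γ t).index := by
  classical
  choose yy hyy using (SLkGRP_exists_conj (G := G))
  let Φ : ConjClasses δ.ker → Σ t : {t // t ∈ s}, Z ⧸ Γ t.1 := fun κ =>
    ⟨⟨tt (ConjClasses.mk ((Quotient.out κ : δ.ker) : G)),
        hs _ (MonoidHom.mem_ker.1 (Quotient.out κ : δ.ker).2)⟩,
      QuotientGroup.mk (δ (yy ((Quotient.out κ : δ.ker) : G)))⟩
  have hinj : Function.Injective Φ := by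
    intro κ κ' h
    have h1 : (Φ κ).1 = (Φ κ').1 := congrArg Sigma.fst h
    have h2 : HEq (Φ κ).2 (Φ κ').2 := (Sigma.ext_iff.1 h).2
    have hc : ConjClasses.mk ((Quotient.out κ : δ.ker) : G) =
        ConjClasses.mk ((Quotient.out κ' : δ.ker) : G) := htt (Subtype.ext_iff.1 h1)
    have hmem := SLkGRP_heq_aux Γ s h1 _ _ h2
    obtain ⟨z, hz1, hz2⟩ := hΓ _ _ hmem
    have e1 := hyy ((Quotient.out κ : δ.ker) : G)
    have e2 := hyy ((Quotient.out κ' : δ.ker) : G)
    rw [← hc] at e2
    generalize hr : Quotient.out (ConjClasses.mk ((Quotient.out κ : δ.ker) : G)) = r at e1 e2 hz1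
    generalize hy : yy ((Quotient.out κ : δ.ker) : G) = y at e1 hz2
    generalize hy' : yy ((Quotient.out κ' : δ.ker) : G) = y' at e2 hz2
    -- the conjugating element of the kernel
    have hw : δ (y' * z⁻¹ * y⁻¹) = 1 := by
      rw [map_mul, map_mul, map_inv, map_inv, hz2]
      rw [mul_inv_rev, inv_inv]
      rw [mul_assoc, mul_assoc, mul_inv_cancel, mul_one, mul_inv_cancel]
    have hzr : z⁻¹ * r * z = r := by
      rw [mul_assoc, ← hz1, ← mul_assoc, inv_mul_cancel, one_mul]
    have hconj : (y' * z⁻¹ * y⁻¹) * ((Quotient.out κ : δ.ker) : G) * (y' * z⁻¹ * y⁻¹)⁻¹ =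
        ((Quotient.out κ' : δ.ker) : G) := by
      rw [← e1, ← e2]
      have : (y' * z⁻¹ * y⁻¹) * (y * r * y⁻¹) * (y' * z⁻¹ * y⁻¹)⁻¹ =
          y' * (z⁻¹ * r * z) * y'⁻¹ := by group
      rw [this, hzr]
    have hk : IsConj (Quotient.out κ : δ.ker) (Quotient.out κ' : δ.ker) := by
      rw [isConj_iff]
      refine ⟨⟨y' * z⁻¹ * y⁻¹, MonoidHom.mem_ker.2 hw⟩, ?_⟩
      apply Subtype.ext
      simpa using hconj
    have hk' := ConjClasses.mk_eq_mk_iff_isConj.2 hk
    have o1 : ConjClasses.mk (Quotient.out κ : δ.ker) = κ := Quotient.out_eq κ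
    have o2 : ConjClasses.mk (Quotient.out κ' : δ.ker) = κ' := Quotient.out_eq κ'
    rw [o1, o2] at hk'
    exact hk'
  calc Nat.card (ConjClasses δ.ker)
      ≤ Nat.card (Σ t : {t // t ∈ s}, Z ⧸ Γ t.1) := Nat.card_le_card_of_injective Φ hinj
    _ = ∑ t ∈ s, (Γ t).index := by
        rw [Nat.card_sigma]
        exact Finset.sum_coe_sort s (fun t => (Γ t).index)

end Cfsg.Agent.Helper17.SLk
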