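import Mathlib
import Cfsg.Agent.Lib.Helper15.S52Defs

/-!
# S3452 piece S52-PSLX: a matrix `x ∈ SL₂(F)` with `tr x = s`, `tr (y x) = s² / 2`
-/

set_option autoImplicit false
set_option linter.unusedVariables false
set_option linter.unusedSectionVars false

namespace Cfsg.Agent.Helper15.S52

open Polynomial

/-- `2 ≠ 0` in a finite field of odd cardinality -/
theorem s52_pslx_two_ne_zero {F : Type*} [Field F] [Fintype F] (hodd : Fintype.card F % 2 = 1) :
    (2 : F) ≠ 0 := by
  intro h2
  have hchar : ringChar F = 2 := by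
    have hdvd : ringChar F ∣ 2 := by
      have := (ringChar.spec F 2).1 (by exact_mod_cast h2)
      exact this
    have hprime : (ringChar F).Prime := CharP.char_is_prime F (ringChar F)
    exact (Nat.prime_dvd_prime_iff_eq hprime Nat.prime_two).1 hdvd
  have := FiniteField.even_card_iff_char_two.1 hchar
  omega

/-- the quadratic form `z² - η w² = κ` has a solution over a finite field of odd order, `η ≠ 0` -/
theorem s52_pslx_quad {F : Type*} [Field F] [Fintype F] (hodd : Fintype.card F % 2 = 1)
    (η κ : F) (hη : η ≠ 0) : ∃ z w : F, z ^ 2 - η * w ^ 2 = κ := by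
  have hf : (X ^ 2 - C κ : F[X]).degree = 2 := by
    have := degree_X_pow_sub_C (R := F) (n := 2) (by norm_num) κ
    simpa using this
  have hg : (C (-η) * X ^ 2 : F[X]).degree = 2 := by
    have := degree_C_mul_X_pow (R := F) (a := -η) 2 (neg_ne_zero.2 hη)
    simpa using this
  obtain ⟨z, w, hzw⟩ := FiniteField.exists_root_sum_quadratic hf hg hodd
  refine ⟨z, w, ?_⟩
  simp only [eval_sub, eval_pow, eval_X, eval_C, eval_mul] at hzw
  linear_combination hzw

/-- PIECE S52-PSLX -/
theorem exists_x {F : Type*} [Field F] [Fintype F] (hodd : Fintype.card F % 2 = 1) (y : SL2 F)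
    (hs : GoodS y.1.trace) :
    ∃ x : SL2 F, x.1.trace = y.1.trace ∧ (y.1 * x.1).trace = y.1.trace ^ 2 / 2 := by
  have h2 : (2 : F) ≠ 0 := s52_pslx_two_ne_zero hodd
  have h4 : (4 : F) ≠ 0 := by
    have : (4 : F) = 2 * 2 := by norm_num
    rw [this]
    exact mul_ne_zero h2 h2
  obtain ⟨hs0, hsa⟩ := hs
  -- the entries of `y`
  set a : F := y.1 0 0 with ha
  set b : F := y.1 0 1 with hb
  set c : F := y.1 1 0 with hc
  set d : F := y.1 1 1 with hd
  have hdet : a * d - b * c = 1 := by
    have := y.2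
    rw [Matrix.det_fin_two] at this
    exact this
  have htr : y.1.trace = a + d := by
    rw [Matrix.trace_fin_two]
  set s : F := y.1.trace with hsdef
  -- `c ≠ 0`
  have hc0 : c ≠ 0 := by
    intro hc0
    have had : a * d = 1 := by
      rw [hc0, mul_zero, sub_zero] at hdet
      exact hdet
    have ha0 : a ≠ 0 := by
      intro h
      rw [h, zero_mul] at had
      exact zero_ne_one had
    have hdinv : d = a⁻¹ := by
      field_simp
      rw [mul_comm]
      exact had
    have := (hsa a ha0).1
    apply this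
    rw [htr, hdinv]
  -- `η ≠ 0`
  set η : F := (s ^ 2 - 4) / 4 with hηdef
  have hη : η ≠ 0 := by
    intro h0
    have hs4 : s ^ 2 - 4 = 0 := by
      rw [hηdef, div_eq_zero_iff] at h0
      rcases h0 with h0 | h0
      · exact h0
      · exact absurd h0 h4
    have hfac : (s - 2) * (s + 2) = 0 := by
      linear_combination hs4
    have h1 := hsa 1 one_ne_zero
    rw [inv_one] at h1
    rcases mul_eq_zero.1 hfac with h | h
    · apply h1.1
      linear_combination -h
    · apply h1.2
      linear_combination h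
  obtain ⟨z, w, hzw⟩ := s52_pslx_quad hodd η (c ^ 2 * η) hη
  -- the matrix
  set e : F := (z + (a - d) * w / 2) / c with hedef
  set x₂ : F := -((a - d) * e + b * w) / c with hx₂def
  have hce : c * e = z + (a - d) * w / 2 := by
    rw [hedef]
    field_simp
  have hcx₂ : c * x₂ = -((a - d) * e + b * w) := by
    rw [hx₂def]
    field_simp
  have hηeq : 4 * η = s ^ 2 - 4 := by
    rw [hηdef]
    field_simp
  have hkey : c * (c * ((s / 2 + e) * (s / 2 - e) - x₂ * w)) = c * (c * 1) := by
    have hs2 : 2 * (s / 2) = s := by field_simp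
    have hsad : s = a + d := htr
    have hw2 : 2 * ((a - d) * w / 2) = (a - d) * w := by field_simp
    set t : F := (a - d) * w / 2 with htdef
    set u : F := s / 2 with hudef
    -- c²(u² - e²) - c (c x₂) w = c²
    have e1 : c * (c * ((u + e) * (u - e) - x₂ * w))
        = c ^ 2 * u ^ 2 - (c * e) ^ 2 - c * (c * x₂) * w := by ring
    rw [e1, hcx₂, hce]
    -- now everything in z, t, u, a, d, b, c, w, e  (e still appears via c*e)
    have e2 : c * -((a - d) * e + b * w) * w = -((a - d) * (c * e) * w + b * c * w ^ 2) := by ring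
    rw [e2, hce]
    have hu4 : 4 * u ^ 2 = s ^ 2 := by
      rw [← hs2]; ring
    have hbc : b * c = a * d - 1 := by linear_combination -hdet
    -- 4 * goal
    have h4goal : 4 * (c ^ 2 * u ^ 2 - (z + t) ^ 2 - -((a - d) * (z + t) * w + b * c * w ^ 2))
        = 4 * (c * (c * 1)) := by
      have ht2 : (a - d) * w = 2 * t := hw2.symm
      have : 4 * (c ^ 2 * u ^ 2 - (z + t) ^ 2 - -((a - d) * (z + t) * w + b * c * w ^ 2))
          = c ^ 2 * (4 * u ^ 2) - 4 * (z + t) ^ 2 + 4 * ((a - d) * w) * (z + t)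
            + 4 * (b * c) * w ^ 2 := by ring
      rw [this, hu4, ht2, hbc]
      -- c² s² - 4(z+t)² + 8 t (z+t) + 4(ad-1) w²  = 4c²
      -- = c² s² - 4 z² + 4 t² + 4(ad-1)w²; 4t² = (a-d)² w²
      have ht4 : 4 * t ^ 2 = (a - d) ^ 2 * w ^ 2 := by
        have : (2 * t) ^ 2 = ((a - d) * w) ^ 2 := by rw [ht2]
        linear_combination this
      -- z² = c² η + η w²; 4η = s² - 4
      have hz4 : 4 * z ^ 2 = c ^ 2 * (s ^ 2 - 4) + (s ^ 2 - 4) * w ^ 2 := by
        rw [← hηeq]
        linear_combination 4 * hzw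
      have hs2' : s ^ 2 = (a + d) ^ 2 := by rw [hsad]
      linear_combination (-1 : F) * hz4 + ht4 + (-(w ^ 2)) * hs2'
    exact mul_left_cancel₀ h4 h4goal
  have hdetx : (s / 2 + e) * (s / 2 - e) - x₂ * w = 1 :=
    mul_left_cancel₀ hc0 (mul_left_cancel₀ hc0 hkey)
  refine ⟨⟨!![s / 2 + e, x₂; w, s / 2 - e], ?_⟩, ?_, ?_⟩
  · rw [Matrix.det_fin_two]
    simpa using hdetx
  · show (!![s / 2 + e, x₂; w, s / 2 - e] : Matrix (Fin 2) (Fin 2) F).trace = s
    rw [Matrix.trace_fin_two]
    simp only [Matrix.of_apply, Matrix.cons_val', Matrix.cons_val_zero, Matrix.cons_val_one,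
      Matrix.empty_val', Matrix.cons_val_fin_one]
    field_simp
    ring
  · show (y.1 * (!![s / 2 + e, x₂; w, s / 2 - e] : Matrix (Fin 2) (Fin 2) F)).trace = s ^ 2 / 2
    rw [Matrix.trace_fin_two]
    simp only [Matrix.mul_apply, Fin.sum_univ_two, Matrix.of_apply, Matrix.cons_val',
      Matrix.cons_val_zero, Matrix.cons_val_one, Matrix.empty_val', Matrix.cons_val_fin_one]
    show a * (s / 2 + e) + b * w + (c * x₂ + d * (s / 2 - e)) = s ^ 2 / 2
    rw [hcx₂]
    have hsad : s = a + d := htr
    have : a * (s / 2 + e) + b * w + (-((a - d) * e + b * w) + d * (s / 2 - e))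
        = (a + d) * (s / 2) := by ring
    rw [this, ← hsad]
    field_simp
end Cfsg.Agent.Helper15.S52
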