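import Mathlib
import Cfsg.Agent.Lib.Helper15.S74Defs
import Cfsg.Agent.Lib.Helper10.S62COUNT
import Cfsg.Agent.Lib.Helper1.S62NORMFIB

/-!
# S74-IRRCOUNT (S2474): level sets of `B w w` in the field model (helper4)

Transport of `S62.card_norm_eq` (with `S62.norm_fibres`, `Q = q^n`) along `φ : L ≃ₗ[F] W`.
-/

set_option autoImplicit false

open Cfsg.Agent.Helper15.S62

namespace Cfsg.Agent.Helper15.S74

universe u

variable {F : Type u} [Field F]

/-- S74-IRRCOUNT: level sets of `B w w` in the field model with adjoint `a ↦ a^(q^n)`. -/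
theorem irr_count [Fintype F] {W : Type u} [AddCommGroup W] [Module F W] [FiniteDimensional F W]
    (h2 : (2 : F) ≠ 0) (B : LinearMap.BilinForm F W) (hsymm : ∀ a b, B a b = B b a) (hnd : LND B)
    (n : ℕ) (hn : 1 ≤ n) {L : Type u} [Field L] [Algebra F L] [Module.Finite F L]
    (φ : L ≃ₗ[F] W) (hL : Module.finrank F L = 2 * n)
    (hadj : ∀ a x y : L, B (φ (a * x)) (φ y) = B (φ x) (φ (a ^ (Fintype.card F ^ n) * y))) :
    (∀ c : F, c ≠ 0 →
        Nat.card {w : W // B w w = c} = (Fintype.card F ^ n + 1) * Fintype.card F ^ (n - 1)) ∧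
      ∃ n₀ : ℕ, Nat.card {w : W // w ≠ 0 ∧ B w w = 0} = (Fintype.card F ^ n + 1) * n₀ := by
  classical
  have : Finite L := Module.finite_of_finite F
  let _ : Fintype L := Fintype.ofFinite L
  have hq1 : 1 < Fintype.card F := Fintype.one_lt_card
  have hcardL : Fintype.card L = (Fintype.card F ^ n) ^ 2 := by
    have h1 : Fintype.card L = Fintype.card F ^ Module.finrank F L := Module.card_eq_pow_finrank (K := F) (V := L)
    rw [h1, hL, ← pow_mul, mul_comm]
  -- the transported form
  let B' : LinearMap.BilinForm F L := B.compl₁₂ (φ : L →ₗ[F] W) (φ : L →ₗ[F] W)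
  have hB' : ∀ x y : L, B' x y = B (φ x) (φ y) := fun x y => rfl
  have hsymm' : ∀ x y, B' x y = B' y x := fun x y => by rw [hB', hB', hsymm]
  have hnd' : ∀ x, (∀ y, B' x y = 0) → x = 0 := by
    intro x hx
    have h1 : φ x = 0 := by
      apply hnd
      intro w
      have := hx (φ.symm w)
      rwa [hB', LinearEquiv.apply_symm_apply] at this
    exact φ.map_eq_zero_iff.1 h1
  have hadj' : ∀ a x y : L, B' (a * x) y = B' x (a ^ (Fintype.card F ^ n) * y) := by
    intro a x y
    rw [hB', hB']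
    exact hadj a x y
  have hQ : 2 ≤ Fintype.card F ^ n := by
    calc 2 ≤ Fintype.card F := hq1
      _ = Fintype.card F ^ 1 := (pow_one _).symm
      _ ≤ Fintype.card F ^ n := Nat.pow_le_pow_right (by omega) hn
  have hfib := norm_fibres (L := L) (Fintype.card F ^ n) hQ hcardL
  have key := card_norm_eq (F := F) (L := L) n hn h2 hcardL B' hsymm' hnd' hadj' hfib
  obtain ⟨k1, n₀, k2⟩ := key
  refine ⟨?_, n₀, ?_⟩
  · intro c hc
    rw [← k1 c hc]
    refine Nat.card_congr ⟨fun w => ⟨φ.symm w.1, ?_⟩, fun x => ⟨φ x.1, ?_⟩, ?_, ?_⟩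
    · rw [hB', LinearEquiv.apply_symm_apply]; exact w.2
    · have := x.2; rwa [hB'] at this
    · intro w; apply Subtype.ext; exact φ.apply_symm_apply w.1
    · intro x; apply Subtype.ext; exact φ.symm_apply_apply x.1
  · rw [← k2]
    refine Nat.card_congr ⟨fun w => ⟨φ.symm w.1, ?_, ?_⟩, fun x => ⟨φ x.1, ?_, ?_⟩, ?_, ?_⟩
    · intro h0
      exact w.2.1 (φ.symm.map_eq_zero_iff.1 h0)
    · rw [hB', LinearEquiv.apply_symm_apply]; exact w.2.2
    · intro h0
      exact x.2.1 (φ.map_eq_zero_iff.1 h0)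
    · have := x.2.2; rwa [hB'] at this
    · intro w; apply Subtype.ext; exact φ.apply_symm_apply w.1
    · intro x; apply Subtype.ext; exact φ.symm_apply_apply x.1

end Cfsg.Agent.Helper15.S74
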