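import Mathlib
import Cfsg.Agent.Lib.Helper15.S74Defs
import Cfsg.Agent.Lib.Helper19.S62COMPL
import Cfsg.Agent.Lib.Helper25.S74RESTR

/-!
# S74-NXCOMD core (S2474): `dim Wpart = 2n`, `dim Cpart = 1` (helper4).
WSMALL and EVENDET enter as hypotheses.
-/

set_option autoImplicit false

open Cfsg.Agent.Helper15.S62

namespace Cfsg.Agent.Helper15.S74

universe u

variable {F : Type u} [Field F]

/-- S74-NXCOMD with WSMALL (for this `y`) and EVENDET (general) as hypotheses. -/
theorem nxC_orth_dim_core [Fintype F] {V : Type u} [AddCommGroup V] [Module F V]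
    [FiniteDimensional F V]
    (hevendet : ∀ {U : Type u} [AddCommGroup U] [Module F U] [FiniteDimensional F U]
      (β : LinearMap.BilinForm F U), LND β → ∀ y : Module.End F U, Isom β y →
      (∀ v, y v = v → v = 0) → LinearMap.det y = (-1) ^ Module.finrank F U)
    (h2 : (2 : F) ≠ 0) (B : LinearMap.BilinForm F V) (hnd : LND B)
    (y : Module.End F V) (hy : Isom B y) (t : ℕ)
    (ht : t.Prime) (ht2 : t ≠ 2) (htF : (t : F) ≠ 0) (hyt : y ^ t = 1)
    (hws : ∃ d : ℕ, 1 ≤ d ∧ 2 * d ≤ Module.finrank F (Wpart y t) ∧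
      t ∣ Fintype.card F ^ (2 * d) - 1)
    (n : ℕ) (hdim : Module.finrank F V = 2 * n + 1)
    (hns : ¬ Small (Fintype.card F) t (n - 1)) :
    Module.finrank F (Wpart y t) = 2 * n ∧ Module.finrank F (Cpart y) = 1 := by
  classical
  have hcompl : IsCompl (Cpart y) (Wpart y t) := isCompl_Cpart_Wpart y t ht.pos htF hyt
  have hsum : Module.finrank F (Cpart y) + Module.finrank F (Wpart y t) = 2 * n + 1 := by
    rw [← hdim]
    exact Submodule.finrank_add_eq_of_isCompl hcompl
  -- lower bound
  obtain ⟨d, hd1, hd2, hd3⟩ := hws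
  have hdn : n ≤ d := by
    by_contra hlt
    rw [not_le] at hlt
    exact hns ⟨d, hd1, by omega, hd3⟩
  -- parity
  have hW : Invar y (Wpart y t) := invar_wpart y y t (Commute.refl y)
  have hlnd : LND (B.restrict (Wpart y t)) := lnd_restrict_wpart B hnd y hy t ht.pos htF hyt
  have hisom : Isom (B.restrict (Wpart y t)) (y.restrict hW) :=
    isom_restrict B y (Wpart y t) hW hy
  have hfree : ∀ v : Wpart y t, (y.restrict hW) v = v → v = 0 := by
    intro v hv
    have h1 : y (v : V) = (v : V) := by
      have := congrArg Subtype.val hv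
      simpa using this
    have h3 : (v : V) ∈ Cpart y ⊓ Wpart y t := ⟨mem_Cpart.2 h1, v.2⟩
    rw [hcompl.inf_eq_bot] at h3
    apply Subtype.ext
    simpa using h3
  have hdet := hevendet (B.restrict (Wpart y t)) hlnd (y.restrict hW) hisom hfree
  have hpow : (y.restrict hW) ^ t = 1 := by
    rw [restrict_pow y (Wpart y t) hW t]
    apply LinearMap.ext
    intro x
    apply Subtype.ext
    simp [hyt]
  have hdetpow : (LinearMap.det (y.restrict hW)) ^ t = 1 := by
    rw [← map_pow, hpow, map_one]
  have heven : Even (Module.finrank F (Wpart y t)) := by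
    by_contra hodd
    rw [Nat.not_even_iff_odd] at hodd
    rw [hdet, hodd.neg_one_pow] at hdetpow
    have htodd : Odd t := ht.odd_of_ne_two ht2
    rw [htodd.neg_one_pow] at hdetpow
    apply h2
    have h3 : (1 : F) + 1 = 0 := by
      nth_rewrite 1 [← hdetpow]
      ring
    rw [← one_add_one_eq_two]
    exact h3
  obtain ⟨m, hm⟩ := heven
  constructor <;> omega

end Cfsg.Agent.Helper15.S74
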