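import Mathlib
import Cfsg.Agent.Lib.Helper4.S74NXCOMDCore
import Cfsg.Agent.Lib.Helper12.S74WSMALL
import Cfsg.Agent.Lib.Helper6.S74EVENDET

/-!
# S74-NXCOMD (S2474): exact-signature wrapper (helper4)
-/

set_option autoImplicit false

open Cfsg.Agent.Helper15.S62

namespace Cfsg.Agent.Helper15.S74

universe u

variable {F : Type u} [Field F]

/-- S74-NXCOMD (uses WSMALL, EVENDET, RESTR): `dim (Wpart y t) = 2n` and `dim (Cpart y) = 1`. -/
theorem nxC_orth_dim [Fintype F] {V : Type u} [AddCommGroup V] [Module F V]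
    [FiniteDimensional F V] (h2 : (2 : F) ≠ 0) (B : LinearMap.BilinForm F V) (hnd : LND B)
    (y : Module.End F V) (hy : Isom B y) (t : ℕ)
    (ht : t.Prime) (ht2 : t ≠ 2) (htF : (t : F) ≠ 0) (hyt : y ^ t = 1) (hy1 : y ≠ 1)
    (n : ℕ) (hn : 1 ≤ n) (hdim : Module.finrank F V = 2 * n + 1)
    (hns : ¬ Small (Fintype.card F) t (n - 1)) :
    Module.finrank F (Wpart y t) = 2 * n ∧ Module.finrank F (Cpart y) = 1 :=
  nxC_orth_dim_core (fun β hβ y' hy' hf => det_of_fixed_point_free β hβ y' hy' hf)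
    h2 B hnd y hy t ht ht2 htF hyt (wpart_small B hnd y hy t ht ht2 htF hyt hy1) n hdim hns

end Cfsg.Agent.Helper15.S74
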