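import Mathlib
import Cfsg.Agent.Lib.Helper15.SylowIn

/-!
# KS12b bootstrap, part A (helper4): abstract lemmas on `2`-groups with two "large" exponent-two
subgroups, normalizer growth, and the four-group package of `S₄` and `S₄ × C₂`.
-/

set_option autoImplicit false
set_option maxRecDepth 100000

namespace Cfsg.Agent.Helper4.KSBoot

open Cfsg.Agent.Helper15
open scoped Pointwise

section abstract

variable {G : Type*} [Group G]

/-- normalizer growth in a finite `p`-group, ambient form -/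
theorem exists_mem_normalizer_not_mem [Finite G] {p : ℕ} [Fact p.Prime] {H K : Subgroup G}
    (hK : IsPGroup p K) (hlt : H < K) :
    ∃ x ∈ K, x ∈ Subgroup.normalizer (H : Set G) ∧ x ∉ H := by
  have : Group.IsNilpotent ↥K := hK.isNilpotent
  have hnc := Group.normalizerCondition_of_isNilpotent (G := ↥K)
  have hlt' : H.subgroupOf K < ⊤ := by
    rw [lt_top_iff_ne_top]
    intro he
    rw [Subgroup.subgroupOf_eq_top] at he
    exact absurd (le_antisymm hlt.le he) hlt.ne
  obtain ⟨x, hxn, hxH⟩ := SetLike.exists_of_lt (hnc _ hlt')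
  refine ⟨x, x.2, ?_, fun hc => hxH (by rw [Subgroup.mem_subgroupOf]; exact hc)⟩
  rw [Subgroup.mem_normalizer_iff] at hxn ⊢
  intro g
  constructor
  · intro hg
    have := (hxn ⟨g, hlt.le hg⟩).mp (by rw [Subgroup.mem_subgroupOf]; exact hg)
    rw [Subgroup.mem_subgroupOf] at this
    simpa using this
  · intro hg
    have hgK : g ∈ K := by
      have h1 : (x : G)⁻¹ * ((x : G) * g * (x : G)⁻¹) * (x : G) ∈ K :=
        K.mul_mem (K.mul_mem (K.inv_mem x.2) (hlt.le hg)) x.2
      have he : (x : G)⁻¹ * ((x : G) * g * (x : G)⁻¹) * (x : G) = g := by group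
      rwa [he] at h1
    have := (hxn ⟨g, hgK⟩).mpr (by rw [Subgroup.mem_subgroupOf]; simpa using hg)
    rw [Subgroup.mem_subgroupOf] at this
    exact this

/-- elements squaring to one commute as soon as their product squares to one -/
theorem comm_of_sq_eq_one {a e : G} (ha : a * a = 1) (he : e * e = 1) (hae : (a * e) * (a * e) = 1) :
    a * e = e * a := by
  have h1 : a * e = (a * e)⁻¹ := by
    rw [eq_inv_iff_mul_eq_one]; exact hae
  rw [h1, mul_inv_rev, inv_eq_of_mul_eq_one_left ha, inv_eq_of_mul_eq_one_left he]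

/-- a group of exponent two is commutative, elementwise form -/
theorem comm_of_exp_two {E : Subgroup G} (hE : ∀ x ∈ E, x * x = 1) {a b : G} (ha : a ∈ E)
    (hb : b ∈ E) : a * b = b * a :=
  comm_of_sq_eq_one (hE a ha) (hE b hb) (hE _ (E.mul_mem ha hb))

/-- index two, ambient form -/
theorem mul_mem_of_relIndex_two {E T : Subgroup G} (h : E.relIndex T = 2) {a b : G} (ha : a ∈ T)
    (hb : b ∈ T) (ha' : a ∉ E) (hb' : b ∉ E) : a * b ∈ E := by
  have h2 : (E.subgroupOf T).index = 2 := h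
  have := (Subgroup.mul_mem_iff_of_index_two h2 (a := ⟨a, ha⟩) (b := ⟨b, hb⟩)).mpr
    (by rw [Subgroup.mem_subgroupOf, Subgroup.mem_subgroupOf]; exact iff_of_false ha' hb')
  rw [Subgroup.mem_subgroupOf] at this
  exact this

/-- In a group `T` with two subgroups `E₁`, `E₂` of exponent two, `E₂` of "index at most two",
`E₁ ≰ E₂` and `E₁` self-centralizing, every subgroup of exponent two lies in `E₁` or `E₂`. -/
theorem le_or_le_of_exp_two {T E₁ E₂ A : Subgroup G}
    (hne : ¬ E₁ ≤ E₂) (hE₁T : E₁ ≤ T)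
    (h2 : ∀ a ∈ T, ∀ b ∈ T, a ∉ E₂ → b ∉ E₂ → a * b ∈ E₂)
    (hexp₁ : ∀ x ∈ E₁, x * x = 1) (hexp₂ : ∀ x ∈ E₂, x * x = 1)
    (hcent : ∀ x ∈ T, (∀ y ∈ E₁, x * y = y * x) → x ∈ E₁)
    (hAT : A ≤ T) (hA : ∀ a ∈ A, a * a = 1) : A ≤ E₁ ∨ A ≤ E₂ := by
  by_contra hcon
  obtain ⟨h1, h2'⟩ := not_or.mp hcon
  obtain ⟨a₁, ha₁A, ha₁⟩ := SetLike.not_le_iff_exists.mp h1
  obtain ⟨a₂, ha₂A, ha₂⟩ := SetLike.not_le_iff_exists.mp h2'
  obtain ⟨e₀, he₀1, he₀2⟩ := SetLike.not_le_iff_exists.mp hne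
  -- an element of `A` outside both
  obtain ⟨a, haA, ha1, ha2⟩ : ∃ a ∈ A, a ∉ E₁ ∧ a ∉ E₂ := by
    by_cases h : a₁ ∈ E₂
    · by_cases h' : a₂ ∈ E₁
      · refine ⟨a₁ * a₂, A.mul_mem ha₁A ha₂A, ?_, ?_⟩
        · intro hc
          exact ha₁ ((Subgroup.mul_mem_cancel_right E₁ h').mp hc)
        · intro hc
          exact ha₂ ((Subgroup.mul_mem_cancel_left E₂ h).mp hc)
      · exact ⟨a₂, ha₂A, h', ha₂⟩
    · exact ⟨a₁, ha₁A, ha₁, h⟩
  have haT : a ∈ T := hAT haA
  have haa : a * a = 1 := hA a haA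
  -- `a` commutes with the elements of `E₁` outside `E₂`
  have hcomm : ∀ e ∈ E₁, e ∉ E₂ → a * e = e * a := by
    intro e he1 he2
    exact comm_of_sq_eq_one haa (hexp₁ e he1) (hexp₂ _ (h2 a haT e (hE₁T he1) ha2 he2))
  apply ha1
  apply hcent a haT
  intro y hy
  by_cases hy2 : y ∈ E₂
  · have h3 : y * e₀ ∉ E₂ := fun hc => he₀2 ((Subgroup.mul_mem_cancel_left E₂ hy2).mp hc)
    have h4 := hcomm (y * e₀) (E₁.mul_mem hy he₀1) h3
    have h5 := hcomm e₀ he₀1 he₀2
    have h6 : a * y * e₀ = y * a * e₀ := by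
      calc a * y * e₀ = a * (y * e₀) := by group
        _ = y * e₀ * a := h4
        _ = y * (e₀ * a) := by group
        _ = y * (a * e₀) := by rw [h5]
        _ = y * a * e₀ := by group
    exact mul_right_cancel h6
  · exact hcomm y hy hy2

/-- If the `p`-group `V E` has `N_V(E) ≤ E` (and `E` normalizes `V`), then `V ≤ E`. -/
theorem le_of_inf_normalizer_le [Finite G] {p : ℕ} [Fact p.Prime] {V E : Subgroup G}
    (hEV : E ≤ Subgroup.normalizer (V : Set G)) (hp : IsPGroup p ↥(V ⊔ E))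
    (h : ∀ x ∈ V, x ∈ Subgroup.normalizer (E : Set G) → x ∈ E) : V ≤ E := by
  by_contra hcon
  have hlt : E < V ⊔ E := lt_of_le_of_ne le_sup_right (fun he => hcon (he ▸ le_sup_left))
  obtain ⟨x, hxK, hxn, hxE⟩ := exists_mem_normalizer_not_mem hp hlt
  have hx' : x ∈ (V : Set G) * (E : Set G) := by
    rw [← Subgroup.coe_mul_of_right_le_normalizer_left V E hEV]; exact hxK
  obtain ⟨v, hv, e, he, rfl⟩ := Set.mem_mul.mp hx'
  apply hxE
  have hvn : v ∈ Subgroup.normalizer (E : Set G) := by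
    have e1 : v = (v * e) * e⁻¹ := by group
    rw [e1]
    exact Subgroup.mul_mem _ hxn (Subgroup.inv_mem _ (Subgroup.le_normalizer he))
  exact E.mul_mem (h v hv hvn) he

/-- a normal `p`-subgroup of `K` lies in every Sylow `p`-subgroup of `K` -/
theorem le_of_isSylowIn_of_normal {p : ℕ} {T K N : Subgroup G} (hT : IsSylowIn p T K)
    (hN : IsPGroup p N) (hNK : N ≤ K) (hTN : T ≤ Subgroup.normalizer (N : Set G)) : N ≤ T := by
  have h1 : IsPGroup p ↥(T ⊔ N) := hT.isPGroup.to_sup_of_normal_right' hN hTN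
  have h2 := hT.eq_of_le h1 le_sup_left (sup_le hT.le hNK)
  exact h2 ▸ le_sup_right

/-- a subgroup with at most two elements is centralized by whatever normalizes it -/
theorem le_centralizer_of_card_le_two [Finite G] {V L : Subgroup G}
    (hLV : L ≤ Subgroup.normalizer (V : Set G)) (hc : Nat.card V ≤ 2) :
    L ≤ Subgroup.centralizer (V : Set G) := by
  intro g hg
  rw [Subgroup.mem_centralizer_iff]
  intro v hv
  by_contra hne
  have hw : g * v * g⁻¹ ∈ V := (Subgroup.mem_normalizer_iff.mp (hLV hg) v).mp hv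
  have hv1 : v ≠ 1 := by
    rintro rfl
    apply hne; simp
  have hw1 : g * v * g⁻¹ ≠ 1 := by
    intro h
    apply hv1
    calc v = g⁻¹ * (g * v * g⁻¹) * g := by group
      _ = 1 := by rw [h]; group
  have hwv : g * v * g⁻¹ ≠ v := by
    intro h
    apply hne
    calc v * g = (g * v * g⁻¹) * g := by rw [h]
      _ = g * v := by group
  haveI : Fintype ↥V := Fintype.ofFinite _
  have h3 : 2 < Fintype.card ↥V := by
    rw [Fintype.two_lt_card_iff]
    refine ⟨1, ⟨v, hv⟩, ⟨g * v * g⁻¹, hw⟩, ?_, ?_, ?_⟩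
    · intro h; exact hv1 (congrArg Subtype.val h).symm
    · intro h; exact hw1 (congrArg Subtype.val h).symm
    · intro h; exact hwv (congrArg Subtype.val h).symm
  rw [← Nat.card_eq_fintype_card] at h3
  omega

theorem le_normalizer_of_conj_mem {P E : Subgroup G}
    (h : ∀ g ∈ P, ∀ y ∈ E, g * y * g⁻¹ ∈ E) : P ≤ Subgroup.normalizer (E : Set G) := by
  intro g hg
  rw [Subgroup.mem_normalizer_iff]
  intro y
  constructor
  · exact h g hg y
  · intro hy
    have := h g⁻¹ (P.inv_mem hg) _ hy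
    simpa [mul_assoc] using this

end abstract

/-! ### The package attached to a normal self-centralizing subgroup of exponent two, index six -/

section pkg

variable {G : Type*} [Group G]

/-- the package of properties of the "four-group" `E` of a maximal 2-local `P ≅ S₄` or `S₄ × C₂`
with Sylow 2-subgroup `T` -/
structure Pkg (T P E : Subgroup G) : Prop where
  le : E ≤ T
  exp : ∀ x ∈ E, x * x = 1
  cent : ∀ x ∈ P, (∀ y ∈ E, x * y = y * x) → x ∈ E
  norm : P ≤ Subgroup.normalizer (E : Set G)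
  idx2 : E.relIndex T = 2
  idx3 : T.relIndex P = 3
  ne_bot : E ≠ ⊥

variable {H : Type*} [Group H]

/-- the subgroup of `G` corresponding to `N ≤ H` under `e : P ≃* H` -/
def pkgE {P : Subgroup G} (e : ↥P ≃* H) (N : Subgroup H) : Subgroup G :=
  (N.comap e.toMonoidHom).map P.subtype

theorem mem_pkgE {P : Subgroup G} (e : ↥P ≃* H) (N : Subgroup H) {x : G} :
    x ∈ pkgE e N ↔ ∃ hx : x ∈ P, e ⟨x, hx⟩ ∈ N := by
  unfold pkgE
  constructor
  · rintro ⟨y, hy, rfl⟩
    exact ⟨y.2, hy⟩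
  · rintro ⟨hx, h⟩
    exact ⟨⟨x, hx⟩, h, rfl⟩

theorem pkgE_le {P : Subgroup G} (e : ↥P ≃* H) (N : Subgroup H) : pkgE e N ≤ P :=
  Subgroup.map_subtype_le _

theorem symm_mem_pkgE {P : Subgroup G} (e : ↥P ≃* H) (N : Subgroup H) {n : H} (hn : n ∈ N) :
    ((e.symm n : ↥P) : G) ∈ pkgE e N := by
  rw [mem_pkgE]
  exact ⟨(e.symm n).2, by simpa using hn⟩

theorem card_pkgE {P : Subgroup G} (e : ↥P ≃* H) (N : Subgroup H) :
    Nat.card (pkgE e N) = Nat.card N := by
  unfold pkgE
  have h : N.comap e.toMonoidHom = N.map e.symm.toMonoidHom := by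
    ext x
    rw [Subgroup.mem_comap, Subgroup.mem_map]
    constructor
    · intro hx
      exact ⟨e x, hx, by simp⟩
    · rintro ⟨y, hy, rfl⟩
      simpa using hy
  rw [Subgroup.card_map_of_injective (Subgroup.subtype_injective P), h,
    Subgroup.card_map_of_injective e.symm.injective]

theorem relIndex_pkgE {P : Subgroup G} (e : ↥P ≃* H) (N : Subgroup H) :
    (pkgE e N).relIndex P = N.index := by
  unfold pkgE Subgroup.relIndex
  have h1 : ((N.comap e.toMonoidHom).map P.subtype).subgroupOf P = N.comap e.toMonoidHom := by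
    unfold Subgroup.subgroupOf
    exact Subgroup.comap_map_eq_self_of_injective (Subgroup.subtype_injective P) _
  rw [h1]
  exact Subgroup.index_comap_of_surjective N e.surjective

theorem pkg_of_equiv [Finite G] {P T : Subgroup G} (e : ↥P ≃* H) (N : Subgroup H) [hNn : N.Normal]
    (hexp : ∀ x ∈ N, x * x = 1) (hcent : ∀ x : H, (∀ y ∈ N, x * y = y * x) → x ∈ N)
    (hidx : N.index = 6) (hne : N ≠ ⊥) (hT : IsSylowIn 2 T P) : Pkg T P (pkgE e N) := by
  haveI : Fact (Nat.Prime 2) := ⟨Nat.prime_two⟩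
  have hexpE : ∀ x ∈ pkgE e N, x * x = 1 := by
    intro x hx
    obtain ⟨hxP, hxN⟩ := (mem_pkgE e N).mp hx
    have h1 := hexp _ hxN
    rw [← map_mul, map_eq_one_iff e e.injective] at h1
    exact congrArg Subtype.val h1
  have hnorm : P ≤ Subgroup.normalizer (pkgE e N : Set G) := by
    apply le_normalizer_of_conj_mem
    intro g hg y hy
    obtain ⟨hyP, hyN⟩ := (mem_pkgE e N).mp hy
    rw [mem_pkgE]
    refine ⟨P.mul_mem (P.mul_mem hg hyP) (P.inv_mem hg), ?_⟩
    have h1 : (⟨g * y * g⁻¹, P.mul_mem (P.mul_mem hg hyP) (P.inv_mem hg)⟩ : ↥P) =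
        ⟨g, hg⟩ * ⟨y, hyP⟩ * ⟨g, hg⟩⁻¹ := rfl
    rw [h1, map_mul, map_mul, map_inv]
    exact hNn.conj_mem _ hyN _
  have hpE : IsPGroup 2 (pkgE e N) := by
    intro x
    refine ⟨1, ?_⟩
    have := hexpE x.1 x.2
    apply Subtype.ext
    simp only [pow_one, pow_two]
    exact this
  have hle : pkgE e N ≤ T :=
    le_of_isSylowIn_of_normal hT hpE (pkgE_le e N) (hT.le.trans hnorm)
  have hne' : pkgE e N ≠ ⊥ := by
    intro h
    apply hne
    rw [Subgroup.eq_bot_iff_forall]
    intro n hn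
    have h1 := symm_mem_pkgE e N hn
    rw [h, Subgroup.mem_bot] at h1
    have h2 : (e.symm n : ↥P) = 1 := Subtype.ext h1
    have h3 := congrArg e h2
    simpa using h3
  -- index bookkeeping
  have h6 : (pkgE e N).relIndex T * T.relIndex P = 6 := by
    rw [Subgroup.relIndex_mul_relIndex _ _ _ hle hT.le, relIndex_pkgE, hidx]
  have hodd : ¬ 2 ∣ T.relIndex P := hT.not_dvd_relIndex
  obtain ⟨j, hj⟩ := (IsPGroup.iff_card (p := 2) (G := ↥T)).mp hT.isPGroup
  have hdvd : (pkgE e N).relIndex T ∣ 2 ^ j := by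
    rw [← hj]
    exact Subgroup.index_dvd_card _
  obtain ⟨i, -, hi⟩ := (Nat.dvd_prime_pow Nat.prime_two).mp hdvd
  have hi1 : i = 1 := by
    rw [hi] at h6
    rcases i with _ | _ | i
    · exfalso
      apply hodd
      rw [pow_zero, one_mul] at h6
      rw [h6]; decide
    · rfl
    · exfalso
      have h7 : 4 * (2 ^ i * T.relIndex P) = 6 := by
        rw [← h6]; ring
      generalize 2 ^ i * T.relIndex P = m at h7
      omega
  rw [hi1, pow_one] at hi
  refine ⟨hle, hexpE, ?_, hnorm, hi, ?_, hne'⟩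
  · intro x hxP hx
    rw [mem_pkgE]
    refine ⟨hxP, hcent _ ?_⟩
    intro n hn
    have h1 := hx _ (symm_mem_pkgE e N hn)
    have h2 : (⟨x, hxP⟩ : ↥P) * e.symm n = e.symm n * ⟨x, hxP⟩ := Subtype.ext h1
    have h3 := congrArg e h2
    simpa using h3
  · rw [hi] at h6
    omega

end pkg

/-! ### The four-group of `S₄` and of `S₄ × C₂` -/

section concrete

open Equiv

theorem v4_mul_aux : ∀ a b : Perm (Fin 4), a * a = 1 → Perm.sign a = 1 → b * b = 1 →
    Perm.sign b = 1 → (a * b) * (a * b) = 1 := by decide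

theorem v4_cent_aux : ∀ x : Perm (Fin 4),
    (∀ y : Perm (Fin 4), y * y = 1 → Perm.sign y = 1 → x * y = y * x) →
    x * x = 1 ∧ Perm.sign x = 1 := by decide

theorem v4_card_aux : Fintype.card {σ : Perm (Fin 4) // σ * σ = 1 ∧ Perm.sign σ = 1} = 4 := by
  decide

/-- the normal four-group of `S₄`: the even permutations squaring to one -/
def v4 : Subgroup (Perm (Fin 4)) where
  carrier := {σ | σ * σ = 1 ∧ Perm.sign σ = 1}
  mul_mem' := by
    intro a b ha hb
    exact ⟨v4_mul_aux a b ha.1 ha.2 hb.1 hb.2, by rw [map_mul, ha.2, hb.2, mul_one]⟩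
  one_mem' := ⟨mul_one 1, map_one _⟩
  inv_mem' := by
    intro a ha
    refine ⟨?_, by rw [map_inv, ha.2, inv_one]⟩
    rw [← mul_inv_rev, ha.1, inv_one]

theorem mem_v4 {σ : Perm (Fin 4)} : σ ∈ v4 ↔ σ * σ = 1 ∧ Perm.sign σ = 1 := Iff.rfl

instance v4_normal : v4.Normal := by
  constructor
  intro n hn g
  rw [mem_v4] at hn ⊢
  constructor
  · calc g * n * g⁻¹ * (g * n * g⁻¹) = g * (n * n) * g⁻¹ := by group
      _ = 1 := by rw [hn.1]; group
  · rw [map_mul, map_mul, map_inv, hn.2, mul_one, mul_inv_cancel]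

theorem v4_exp : ∀ x ∈ v4, x * x = 1 := fun _ hx => hx.1

theorem v4_cent : ∀ x : Perm (Fin 4), (∀ y ∈ v4, x * y = y * x) → x ∈ v4 := by
  intro x hx
  exact v4_cent_aux x (fun y h1 h2 => hx y ⟨h1, h2⟩)

theorem v4_card : Nat.card v4 = 4 := by
  have h : Nat.card v4 = Fintype.card {σ : Perm (Fin 4) // σ * σ = 1 ∧ Perm.sign σ = 1} := by
    rw [← Nat.card_eq_fintype_card]
    rfl
  rw [h, v4_card_aux]

theorem v4_index : v4.index = 6 := by
  have h1 := Subgroup.card_mul_index v4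
  rw [v4_card, Nat.card_eq_fintype_card, Fintype.card_perm, Fintype.card_fin] at h1
  have : (4 : ℕ).factorial = 24 := by decide
  omega

theorem v4_ne_bot : v4 ≠ ⊥ := by
  intro h
  have := v4_card
  rw [h, Subgroup.card_bot] at this
  omega

/-- the normal elementary abelian subgroup of order eight of `S₄ × C₂` -/
def v4c : Subgroup (Perm (Fin 4) × Multiplicative (ZMod 2)) := v4.prod ⊤

instance v4c_normal : v4c.Normal := by
  unfold v4c
  exact Subgroup.prod_normal v4 ⊤

theorem c2_sq : ∀ c : Multiplicative (ZMod 2), c * c = 1 := by decide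

theorem v4c_exp : ∀ x ∈ v4c, x * x = 1 := by
  intro x hx
  have h1 : x.1 ∈ v4 := (Subgroup.mem_prod.mp hx).1
  exact Prod.ext (v4_exp _ h1) (c2_sq _)

theorem v4c_cent : ∀ x : Perm (Fin 4) × Multiplicative (ZMod 2),
    (∀ y ∈ v4c, x * y = y * x) → x ∈ v4c := by
  intro x hx
  refine Subgroup.mem_prod.mpr ⟨v4_cent _ ?_, Subgroup.mem_top _⟩
  intro y hy
  have h1 := hx (y, 1) (Subgroup.mem_prod.mpr ⟨hy, Subgroup.mem_top _⟩)
  exact congrArg Prod.fst h1

theorem v4c_card : Nat.card v4c = 8 := by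
  unfold v4c
  rw [Nat.card_congr (Subgroup.prodEquiv v4 ⊤).toEquiv, Nat.card_prod, v4_card, Subgroup.card_top,
    Nat.card_eq_fintype_card]
  rfl

theorem v4c_index : v4c.index = 6 := by
  have h1 := Subgroup.card_mul_index v4c
  rw [v4c_card, Nat.card_prod, Nat.card_eq_fintype_card, Fintype.card_perm, Fintype.card_fin,
    Nat.card_eq_fintype_card] at h1
  have h2 : (4 : ℕ).factorial = 24 := by decide
  have h3 : Fintype.card (Multiplicative (ZMod 2)) = 2 := rfl
  rw [h2, h3] at h1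
  omega

theorem v4c_ne_bot : v4c ≠ ⊥ := by
  intro h
  have := v4c_card
  rw [h, Subgroup.card_bot] at this
  omega

/-- the central involution of `S₄ × C₂` -/
def c0 : Perm (Fin 4) × Multiplicative (ZMod 2) := (1, Multiplicative.ofAdd 1)

theorem c0_mem : c0 ∈ v4c := Subgroup.mem_prod.mpr ⟨Subgroup.one_mem _, Subgroup.mem_top _⟩

theorem c0_ne_one : c0 ≠ 1 := by
  intro h
  have h1 : (Multiplicative.ofAdd (1 : ZMod 2)) = 1 := congrArg Prod.snd h
  revert h1
  decide

theorem c0_central : ∀ x : Perm (Fin 4) × Multiplicative (ZMod 2), x * c0 = c0 * x := by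
  intro x
  unfold c0
  exact Prod.ext (by simp) (mul_comm _ _)

end concrete

end Cfsg.Agent.Helper4.KSBoot
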