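import Mathlib
import Cfsg.Prelude.Def_JComponents
import Cfsg.Agent.Lib.Helper4.ZNDefs

/-!
# S0518, piece MAXL: consequences of maximality of a 2-local (helper4)
-/

set_option autoImplicit false
open Cfsg

namespace Cfsg.Agent.Helper4.ZN

variable {G : Type*} [Group G]

theorem normalizer_eq_of_maximal {P X : Subgroup G} (hm : IsMaximalTwoLocal P) (hX : IsPGroup 2 ↥X)
    (hX1 : X ≠ ⊥) (hPX : P ≤ Subgroup.normalizer (X : Set G)) :
    Subgroup.normalizer (X : Set G) = P :=
  hm.2 _ ⟨X, hX, hX1, rfl⟩ hPX

theorem centralizer_eq_of_maximal {P : Subgroup G} {t : G} (hm : IsMaximalTwoLocal P) (ht1 : t ≠ 1)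
    (ht2 : t * t = 1) (hPt : ∀ x ∈ P, x * t = t * x) :
    Subgroup.centralizer ({t} : Set G) = P := by
  have htinv : t⁻¹ = t := inv_eq_of_mul_eq_one_left ht2
  -- the subgroup {1, t}
  have hz : ∀ x, x ∈ Subgroup.zpowers t ↔ x = 1 ∨ x = t := by
    intro x
    constructor
    · rintro ⟨n, rfl⟩
      rcases Int.even_or_odd n with ⟨k, rfl⟩ | ⟨k, rfl⟩
      · left
        show t ^ (k + k) = 1
        rw [zpow_add, ← (Commute.refl t).mul_zpow, ht2, one_zpow]
      · right
        show t ^ (2 * k + 1) = t
        rw [zpow_add, zpow_one, two_mul, zpow_add, ← (Commute.refl t).mul_zpow, ht2, one_zpow, one_mul]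
    · rintro (h | h)
      · rw [h]; exact Subgroup.one_mem _
      · rw [h]; exact Subgroup.mem_zpowers t
  have hnorm : Subgroup.normalizer ((Subgroup.zpowers t : Subgroup G) : Set G) =
      Subgroup.centralizer ({t} : Set G) := by
    ext g
    rw [Subgroup.mem_normalizer_iff, Subgroup.mem_centralizer_singleton_iff]
    constructor
    · intro h
      have h1 := (h t).mp (Subgroup.mem_zpowers t)
      rcases (hz _).mp h1 with h2 | h2
      · exfalso
        apply ht1
        have : g * t = g := by
          have := congrArg (· * g) h2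
          simpa using this
        exact mul_eq_left.mp this
      · have := congrArg (· * g) h2
        simpa using this
    · intro h x
      have hconj : g * t * g⁻¹ = t := by rw [h, mul_inv_cancel_right]
      constructor
      · intro hx
        rcases (hz x).mp hx with h1 | h1
        · rw [h1]; simp
        · rw [h1, hconj]; exact Subgroup.mem_zpowers t
      · intro hx
        rcases (hz _).mp hx with h1 | h1
        · have : x = 1 := by
            have := congrArg (fun y => g⁻¹ * y * g) h1
            simpa [mul_assoc] using this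
          rw [this]; exact Subgroup.one_mem _
        · have : x = t := by
            have h2 : g * x * g⁻¹ = g * t * g⁻¹ := by rw [h1, hconj]
            have := congrArg (fun y => g⁻¹ * y * g) h2
            simpa [mul_assoc] using this
          rw [this]; exact Subgroup.mem_zpowers t
  have h2grp : IsPGroup 2 ↥(Subgroup.zpowers t) := by
    intro x
    refine ⟨1, ?_⟩
    rcases (hz x.1).mp x.2 with h | h
    · apply Subtype.ext
      simp [h]
    · apply Subtype.ext
      simp only [pow_one, Subgroup.coe_pow, Subgroup.coe_one, h]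
      rw [pow_two, ht2]
  have hne : Subgroup.zpowers t ≠ ⊥ := by
    intro h
    apply ht1
    have := Subgroup.mem_zpowers t
    rw [h, Subgroup.mem_bot] at this
    exact this
  rw [← hnorm]
  apply normalizer_eq_of_maximal hm h2grp hne
  rw [hnorm]
  intro x hx
  rw [Subgroup.mem_centralizer_singleton_iff]
  exact hPt x hx

/-- common Sylow subgroup of prime index 3 in two distinct maximal 2-locals -/
theorem inf_eq_of_maximal {P₁ P₂ T : Subgroup G} [Finite ↥P₁] (hne : P₁ ≠ P₂) (hm₁ : IsMaximalTwoLocal P₁)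
    (hm₂ : IsMaximalTwoLocal P₂) (hT₁ : T ≤ P₁) (hT₂ : T ≤ P₂) (h3 : T.relIndex P₁ = 3) :
    P₁ ⊓ P₂ = T := by
  have hle : T ≤ P₁ ⊓ P₂ := le_inf hT₁ hT₂
  have hmul := Subgroup.relIndex_mul_relIndex T (P₁ ⊓ P₂) P₁ hle inf_le_left
  rw [h3] at hmul
  have hdvd : T.relIndex (P₁ ⊓ P₂) ∣ 3 := ⟨_, hmul.symm⟩
  rcases (Nat.dvd_prime Nat.prime_three).mp hdvd with h | h
  · exact le_antisymm (Subgroup.relIndex_eq_one.mp h) hle
  · exfalso
    rw [h] at hmul
    have h1 : (P₁ ⊓ P₂).relIndex P₁ = 1 := by omega
    have h2 : P₁ ≤ P₁ ⊓ P₂ := Subgroup.relIndex_eq_one.mp h1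
    have h3 : P₁ ≤ P₂ := h2.trans inf_le_right
    exact hne (hm₁.2 P₂ hm₂.1 h3).symm

end Cfsg.Agent.Helper4.ZN
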