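import Mathlib

/-!
# S3341 piece ARITH4 (helper4, for helper16's skeleton `plans/S3341_Skel2.lean.txt`)

The final inequality in the case `m = 4`: the class constant bound gives `|G| ≤ 720`.
-/

set_option autoImplicit false
set_option linter.unusedSectionVars false
set_option linter.unusedVariables false

namespace Cfsg.Agent.Helper16.SSC

section Arith

/-- PIECE ARITH4 -/
theorem arith_four {ι : Type*} [DecidableEq ι] (Xs : Finset ι) (one : ι) (a : ι → ℤ)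
    (deg : ι → ℕ) (f : ℕ) (ε : ℤ) (n : ℕ)
    (hε : ε = 1 ∨ ε = -1) (h1 : one ∈ Xs) (ha1 : a one = 1) (hd1 : deg one = 1)
    (hX : Xs.card = 4) (ha : ∀ χ ∈ Xs, a χ = 1 ∨ a χ = -1)
    (hdeg : ∀ χ ∈ Xs, 0 < deg χ) (hf : 0 < f)
    (hres : ∀ χ ∈ Xs, ∃ k : ℕ, (deg χ : ℤ) + 8 * a χ = 9 * k)
    (hrel : ∑ χ ∈ Xs, a χ * (deg χ : ℤ) = ε * f)
    (hcc : (n : ℝ) * (∑ χ ∈ Xs, (a χ : ℝ) / (deg χ : ℝ) + 2 * (ε : ℝ) / (f : ℝ)) ≤ 162) :
    n ≤ 720 := by
  classical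
  -- the congruence `ε f = 9 K - 32`
  have hK : ∃ K : ℤ, ε * (f : ℤ) = 9 * K - 32 := by
    choose! k hk using hres
    refine ⟨∑ χ ∈ Xs, a χ * (k χ : ℤ), ?_⟩
    rw [← hrel, Finset.mul_sum]
    have h4 : (32 : ℤ) = ∑ χ ∈ Xs, (8 : ℤ) := by
      rw [Finset.sum_const, hX]
      norm_num
    rw [h4, ← Finset.sum_sub_distrib]
    refine Finset.sum_congr rfl fun χ hχ => ?_
    have h := hk χ hχ
    rcases ha χ hχ with h' | h' <;> rw [h'] at h ⊢ <;> linarith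
  -- the term `2 ε / f`
  have hft : (-(2 : ℝ) / 5) ≤ 2 * (ε : ℝ) / (f : ℝ) := by
    have hf' : (0 : ℝ) < (f : ℝ) := by exact_mod_cast hf
    rcases hε with h | h
    · rw [h]
      have : (0 : ℝ) ≤ 2 * ((1 : ℤ) : ℝ) / (f : ℝ) := by
        push_cast
        positivity
      linarith
    · obtain ⟨K, hK⟩ := hK
      rw [h] at hK
      have h5 : 5 ≤ f := by omega
      have h5' : (5 : ℝ) ≤ (f : ℝ) := by exact_mod_cast h5
      rw [h]
      push_cast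
      rw [div_le_div_iff₀ (by norm_num) hf']
      linarith
  -- the nonprincipal terms
  have hterm : ∀ χ ∈ Xs.erase one, (-(1 : ℝ) / 8) ≤ (a χ : ℝ) / (deg χ : ℝ) := by
    intro χ hχ
    have hχX : χ ∈ Xs := Finset.mem_of_mem_erase hχ
    have hd : (0 : ℝ) < (deg χ : ℝ) := by exact_mod_cast hdeg χ hχX
    rcases ha χ hχX with h | h
    · rw [h]
      have : (0 : ℝ) ≤ ((1 : ℤ) : ℝ) / (deg χ : ℝ) := by
        push_cast
        positivity
      linarith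
    · obtain ⟨k, hk⟩ := hres χ hχX
      rw [h] at hk
      have h8 : 8 ≤ deg χ := by omega
      have h8' : (8 : ℝ) ≤ (deg χ : ℝ) := by exact_mod_cast h8
      rw [h]
      push_cast
      rw [div_le_div_iff₀ (by norm_num) hd]
      linarith
  have hcard : (Xs.erase one).card = 3 := by
    rw [Finset.card_erase_of_mem h1, hX]
  have hsum : (-(3 : ℝ) / 8) ≤ ∑ χ ∈ Xs.erase one, (a χ : ℝ) / (deg χ : ℝ) := by
    have := Finset.card_nsmul_le_sum (Xs.erase one) (fun χ => (a χ : ℝ) / (deg χ : ℝ))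
      (-(1 : ℝ) / 8) hterm
    rw [hcard] at this
    simp only [nsmul_eq_mul] at this
    linarith
  have hsplit : ∑ χ ∈ Xs, (a χ : ℝ) / (deg χ : ℝ) =
      1 + ∑ χ ∈ Xs.erase one, (a χ : ℝ) / (deg χ : ℝ) := by
    rw [← Finset.add_sum_erase Xs _ h1, ha1, hd1]
    norm_num
  have hbr : (9 : ℝ) / 40 ≤ ∑ χ ∈ Xs, (a χ : ℝ) / (deg χ : ℝ) + 2 * (ε : ℝ) / (f : ℝ) := by
    rw [hsplit]
    linarith
  have hn : (0 : ℝ) ≤ (n : ℝ) := Nat.cast_nonneg n
  have hfin : (n : ℝ) * (9 / 40) ≤ 162 :=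
    le_trans (mul_le_mul_of_nonneg_left hbr hn) hcc
  have : (n : ℝ) ≤ 720 := by linarith
  exact_mod_cast this

end Arith

end Cfsg.Agent.Helper16.SSC
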