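import Mathlib
import Cfsg.Agent.Lib.Helper16.SpUDefs

/-!
S2316 farm-out, PIECE SPU-NORMN: a monomial matrix with block-preserving permutation normalises the set of
upper triangular matrices with identity diagonal blocks.
-/

set_option autoImplicit false
set_option linter.unusedSectionVars false
set_option linter.unusedVariables false

namespace Cfsg.Agent.Helper16.SpU

open Matrix Cfsg.Agent.Helper6.SpN Cfsg.Agent.Helper13.SpBN Cfsg.Agent.Helper13.SylO
  Cfsg.Agent.Helper6.Uni Cfsg.Agent.Helper2.WordLen Cfsg.Agent.Helper2.BN Cfsg.Agent.Helper17.BNCox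

section sp
variable {m : ℕ} {F : Type*} [Field F]

/-- the inverse of a block-preserving permutation preserves the blocks -/
theorem spu_normn_blk_inv (A : Set (Fin m)) (π : Equiv.Perm (Fin m ⊕ Fin m))
    (hblk : ∀ a, blk A a (π a)) (a : Fin m ⊕ Fin m) : blk A a (π⁻¹ a) := by
  have := hblk (π⁻¹ a)
  have e : π (π⁻¹ a) = a := by simp
  rw [e] at this
  exact blk_symm A this

/-- the product of the two non-zero entries in the conjugation formula is `1` on the diagonal -/
theorem spu_normn_diag {n : symplecticGroup (Fin m) F} {π : Equiv.Perm (Fin m ⊕ Fin m)}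
    (hn : IsMon n.1 π) (c : Fin m ⊕ Fin m) :
    n.1 c (π⁻¹ c) * (n⁻¹ : symplecticGroup (Fin m) F).1 (π⁻¹ c) c = 1 := by
  have h2 := conj_apply hn (1 : symplecticGroup (Fin m) F) c c
  rw [mul_one, mul_inv_cancel] at h2
  have h3 : (1 : symplecticGroup (Fin m) F).1 = (1 : Matrix (Fin m ⊕ Fin m) (Fin m ⊕ Fin m) F) := rfl
  rw [h3, Matrix.one_apply_eq, Matrix.one_apply_eq, mul_one] at h2
  exact h2.symm

/-- PIECE SPU-NORMN: a monomial matrix with block-preserving permutation normalises the set of upper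
triangular matrices with identity diagonal blocks. -/
theorem blkId_conj_mon (A : Set (Fin m)) {n x : symplecticGroup (Fin m) F}
    {π : Equiv.Perm (Fin m ⊕ Fin m)} (hn : IsMon n.1 π) (hblk : ∀ a, blk A a (π a))
    (hx : x ∈ bor m F) (hx' : BlkId A x) :
    n * x * n⁻¹ ∈ bor m F ∧ BlkId A (n * x * n⁻¹) := by
  have hinv : ∀ a, blk A a (π⁻¹ a) := spu_normn_blk_inv A π hblk
  constructor
  · intro a b hab
    rw [conj_apply hn]
    by_cases hb : blk A a b
    · have h1 : blk A (π⁻¹ a) (π⁻¹ b) :=
        blk_trans A (blk_symm A (hinv a)) (blk_trans A hb (hinv b))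
      have hne : π⁻¹ a ≠ π⁻¹ b := by
        intro e
        have : a = b := π⁻¹.injective e
        rw [this] at hab
        exact lt_irrefl _ hab
      rw [hx' _ _ h1, Matrix.one_apply_ne hne, mul_zero, zero_mul]
    · have hb' : ¬ blk A b a := fun h => hb (blk_symm A h)
      have hlt : key (π⁻¹ b) < key (π⁻¹ a) := key_lt_of_not_blk A hb' hab (hinv b) (hinv a)
      rw [hx _ _ hlt, mul_zero, zero_mul]
  · intro c d hcd
    rw [conj_apply hn]
    have h1 : blk A (π⁻¹ c) (π⁻¹ d) :=
      blk_trans A (blk_symm A (hinv c)) (blk_trans A hcd (hinv d))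
    rw [hx' _ _ h1]
    by_cases hcd' : c = d
    · subst hcd'
      rw [Matrix.one_apply_eq, Matrix.one_apply_eq, mul_one]
      exact spu_normn_diag hn c
    · have hne : π⁻¹ c ≠ π⁻¹ d := fun e => hcd' (π⁻¹.injective e)
      rw [Matrix.one_apply_ne hne, Matrix.one_apply_ne hcd', mul_zero, zero_mul]

end sp

end Cfsg.Agent.Helper16.SpU
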