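import Mathlib
import Cfsg.Agent.Lib.Helper18.LevDefs
import Cfsg.Agent.Lib.Helper22.SubspaceAvoid

/-!
# S2522 (Lev), PIECE LEV-ECHOICE: choice of the vector `e` (`exists_e`).
Plan: plans/S2522_plan.md.  Skeleton: plans/S2522_Skel.lean.txt.
-/

set_option autoImplicit false

namespace Cfsg.Agent.Helper18.Lev

open Module

universe u v

section pieces
variable {K : Type u} [Field K] {V : Type v} [AddCommGroup V] [Module K V]

/-- the subspace `X = (g-1)⁻¹ (K x0)` is proper when `rank (g-1) ≥ 2`. -/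
theorem echoice_X_ne_top [FiniteDimensional K V] (g : V →ₗ[K] V)
    (hr : 2 ≤ finrank K (LinearMap.range (g - LinearMap.id))) (x0 : V) (hx0 : x0 ≠ 0) :
    Submodule.comap (g - LinearMap.id) (Submodule.span K {x0}) ≠ ⊤ := by
  intro htop
  have hle : LinearMap.range (g - LinearMap.id) ≤ Submodule.span K {x0} := by
    rintro _ ⟨v, rfl⟩
    have : v ∈ Submodule.comap (g - LinearMap.id) (Submodule.span K {x0}) := by
      rw [htop]; trivial
    exact this
  have h1 := Submodule.finrank_mono hle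
  rw [finrank_span_singleton hx0] at h1
  omega

/-- a non-eigenvector outside `X` with `y0 e ≠ 0` has the three pointwise properties. -/
theorem echoice_final (g : V →ₗ[K] V) (x0 : V) (hx0 : x0 ≠ 0) (y0 : V →ₗ[K] K) (e : V)
    (heX : e ∉ Submodule.comap (g - LinearMap.id) (Submodule.span K {x0}))
    (hy : y0 e ≠ 0) (hne : ∀ l : K, g e ≠ l • e) :
    LinearIndependent K ![e, g e - e] ∧ y0 e ≠ 0 ∧ x0 ∉ Submodule.span K {g e - e} := by
  refine ⟨?_, hy, ?_⟩
  · rw [LinearIndependent.pair_iff]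
    intro s t hst
    by_cases ht : t = 0
    · subst ht
      refine ⟨?_, rfl⟩
      rw [zero_smul, add_zero] at hst
      rcases smul_eq_zero.mp hst with h | h
      · exact h
      · exfalso
        apply hne 0
        rw [h, map_zero, smul_zero]
    · exfalso
      apply hne (t⁻¹ * (t - s))
      have h1 : t • g e = (t - s) • e := by
        have : s • e + t • (g e - e) = t • g e - (t - s) • e := by
          rw [smul_sub, sub_smul]; abel
        rw [this] at hst
        exact sub_eq_zero.mp hst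
      rw [mul_smul, ← h1, smul_smul, inv_mul_cancel₀ ht, one_smul]
  · intro h
    rw [Submodule.mem_span_singleton] at h
    obtain ⟨c, hc⟩ := h
    have hc0 : c ≠ 0 := by
      rintro rfl
      rw [zero_smul] at hc
      exact hx0 hc.symm
    apply heX
    rw [Submodule.mem_comap, Submodule.mem_span_singleton]
    refine ⟨c⁻¹, ?_⟩
    rw [← hc, smul_smul, inv_mul_cancel₀ hc0, one_smul]
    simp

/-- if `g` has an eigenvector for the eigenvalue `m`, a good `e` can be chosen outside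
`range (g - m)`. -/
theorem echoice_eigen (hK : 4 ≤ Cardinal.mk K) [FiniteDimensional K V] (g : V →ₗ[K] V)
    (hH : HH g) (x0 : V) (hx0 : x0 ≠ 0) (y0 : V →ₗ[K] K) (hy0 : y0 ≠ 0) (m : K) (f : V)
    (hf : f ≠ 0) (hgf : g f = m • f) :
    ∃ e : V, e ∉ LinearMap.range (g - m • LinearMap.id) ∧
      e ∉ Submodule.comap (g - LinearMap.id) (Submodule.span K {x0}) ∧ y0 e ≠ 0 ∧
      ∀ l : K, g e ≠ l • e := by
  have hE : LinearMap.ker (g - m • LinearMap.id) ≠ ⊤ := by
    intro h
    rw [LinearMap.ker_eq_top] at h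
    exact hH.1 m (sub_eq_zero.mp h)
  have hR : LinearMap.range (g - m • LinearMap.id) ≠ ⊤ := by
    intro h
    have hsurj : Function.Surjective ⇑(g - m • LinearMap.id : V →ₗ[K] V) :=
      LinearMap.range_eq_top.mp h
    have hinj : Function.Injective ⇑(g - m • LinearMap.id : V →ₗ[K] V) :=
      LinearMap.injective_iff_surjective.mpr hsurj
    apply hf
    apply hinj
    simp [hgf]
  have hY : LinearMap.ker y0 ≠ ⊤ := by
    intro h; exact hy0 (LinearMap.ker_eq_top.mp h)
  have hX := echoice_X_ne_top g hH.2 x0 hx0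
  obtain ⟨e, he1, he2, he3, he4⟩ :=
    Cfsg.Agent.Helper22.SubspaceAvoid.exists_notMem_four hK _ _ _ _ hE hR hY hX
  refine ⟨e, he2, he4, fun h => he3 h, ?_⟩
  intro l hl
  by_cases hlm : l = m
  · apply he1
    rw [LinearMap.mem_ker]
    simp [hl, hlm]
  · apply he2
    refine ⟨(l - m)⁻¹ • e, ?_⟩
    have hlm' : l - m ≠ 0 := sub_ne_zero.mpr hlm
    simp only [LinearMap.sub_apply, LinearMap.smul_apply, LinearMap.id_apply, map_smul, hl]
    rw [← sub_smul, smul_smul, inv_mul_cancel₀ hlm', one_smul]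

/-- if `g` has no eigenvector at all, a good `e` exists. -/
theorem echoice_noeigen (hK : 4 ≤ Cardinal.mk K) [FiniteDimensional K V] (g : V →ₗ[K] V)
    (hH : HH g) (x0 : V) (hx0 : x0 ≠ 0) (y0 : V →ₗ[K] K) (hy0 : y0 ≠ 0)
    (hno : ∀ (f : V) (m : K), f ≠ 0 → g f ≠ m • f) :
    ∃ e : V, e ∉ Submodule.comap (g - LinearMap.id) (Submodule.span K {x0}) ∧ y0 e ≠ 0 ∧
      ∀ l : K, g e ≠ l • e := by
  have hY : LinearMap.ker y0 ≠ ⊤ := by
    intro h; exact hy0 (LinearMap.ker_eq_top.mp h)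
  have hX := echoice_X_ne_top g hH.2 x0 hx0
  obtain ⟨e, he1, he2, -, -⟩ :=
    Cfsg.Agent.Helper22.SubspaceAvoid.exists_notMem_four hK _ _ _ _ hY hX hY hX
  refine ⟨e, he2, fun h => he1 h, ?_⟩
  intro l
  apply hno
  rintro rfl
  exact he1 (Submodule.zero_mem _)

/-- PIECE LEV-ECHOICE. -/
theorem exists_e (hK : 4 ≤ Cardinal.mk K) [FiniteDimensional K V] (g : V →ₗ[K] V) (hH : HH g)
    (x0 : V) (hx0 : x0 ≠ 0) (y0 : V →ₗ[K] K) (hy0 : y0 ≠ 0) :
    ∃ e : V, LinearIndependent K ![e, g e - e] ∧ y0 e ≠ 0 ∧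
      x0 ∉ Submodule.span K {g e - e} ∧
      (finrank K (LinearMap.range (g - LinearMap.id)) < finrank K V →
        e ∉ LinearMap.range (g - LinearMap.id)) := by
  by_cases hlt : finrank K (LinearMap.range (g - LinearMap.id)) < finrank K V
  · -- `1` is an eigenvalue
    have hker : LinearMap.ker (g - LinearMap.id) ≠ ⊥ := by
      intro hbot
      have h1 := LinearMap.finrank_range_add_finrank_ker (g - LinearMap.id)
      rw [hbot, finrank_bot] at h1
      omega
    obtain ⟨f, hfker, hf⟩ := (Submodule.ne_bot_iff _).mp hker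
    have hgf : g f = (1 : K) • f := by
      rw [LinearMap.mem_ker, LinearMap.sub_apply, LinearMap.id_apply] at hfker
      rw [one_smul]
      exact sub_eq_zero.mp hfker
    obtain ⟨e, he1, he2, he3, he4⟩ := echoice_eigen hK g hH x0 hx0 y0 hy0 1 f hf hgf
    rw [one_smul] at he1
    obtain ⟨h1, h2, h3⟩ := echoice_final g x0 hx0 y0 e he2 he3 he4
    exact ⟨e, h1, h2, h3, fun _ => he1⟩
  · by_cases hex : ∃ (f : V) (m : K), f ≠ 0 ∧ g f = m • f
    · obtain ⟨f, m, hf, hgf⟩ := hex
      obtain ⟨e, -, he2, he3, he4⟩ := echoice_eigen hK g hH x0 hx0 y0 hy0 m f hf hgf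
      obtain ⟨h1, h2, h3⟩ := echoice_final g x0 hx0 y0 e he2 he3 he4
      exact ⟨e, h1, h2, h3, fun h => absurd h hlt⟩
    · have hno : ∀ (f : V) (m : K), f ≠ 0 → g f ≠ m • f := by
        intro f m hf hgf
        exact hex ⟨f, m, hf, hgf⟩
      obtain ⟨e, he2, he3, he4⟩ := echoice_noeigen hK g hH x0 hx0 y0 hy0 hno
      obtain ⟨h1, h2, h3⟩ := echoice_final g x0 hx0 y0 e he2 he3 he4
      exact ⟨e, h1, h2, h3, fun h => absurd h hlt⟩

end pieces

end Cfsg.Agent.Helper18.Lev
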