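import Mathlib
import Cfsg.Agent.Lib.Helper11.DicksonIII
import Cfsg.Agent.Lib.Helper12.SL2Upper

set_option autoImplicit false
set_option linter.unusedVariables false
set_option linter.unusedSectionVars false
set_option linter.unusedSimpArgs false

/-! Dickson's generation theorem: matrix computations. -/

namespace Cfsg.Agent.Helper4.DGen

open Matrix Matrix.SpecialLinearGroup
open scoped MatrixGroups
open Cfsg.Agent.Helper2.SL2S
open Cfsg.Agent.Helper12 Cfsg.Agent.Helper4.DC Cfsg.Agent.Helper4.DSL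
open Cfsg.Agent.Helper11.Klein Cfsg.Agent.Helper11.Dickson

variable {F : Type*} [Field F]

/-- conjugating a lower unitriangular matrix by the Weyl element -/
theorem nn_one_conj_v (b : F) : (nn (1 : F))⁻¹ * v b * nn 1 = u (-b) := by
  rw [nn_conj_v one_ne_zero]; simp

/-- conjugating an upper unitriangular matrix by the Weyl element -/
theorem nn_one_conj_u (a : F) : (nn (1 : F))⁻¹ * u a * nn 1 = v (-a) := by
  have h1 : (1 : F) ≠ 0 := one_ne_zero
  apply sl2_ext <;>
  simp only [m00, m01, m10, m11, i00, i01, i10, i11, u00, u01, u10, u11, v00, v01, v10, v11,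
    nn00 h1, nn01 h1, nn10, nn11 h1] <;> simp

theorem not_isScalar2_of_01 (g : SL(2, F)) (h : g.1 0 1 ≠ 0) :
    ¬ IsScalar2 (g : Matrix (Fin 2) (Fin 2) F) := by
  intro hs
  exact h hs.1

theorem uv_01 (a b : F) : (u a * v b).1 0 1 = a := by
  rw [m01, u00, u01, v01, v11]; ring

theorem not_isScalar2_uv (b : F) : ¬ IsScalar2 ((u (1 : F) * v b : SL(2, F)) : Matrix (Fin 2) (Fin 2) F) := by
  apply not_isScalar2_of_01
  rw [uv_01]; exact one_ne_zero

/-- a scalar multiple of a non-scalar matrix which is scalar vanishes -/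
theorem coeff_eq_zero_of_scalar (g : SL(2, F)) (hns : ¬ IsScalar2 (g : Matrix (Fin 2) (Fin 2) F))
    (a c : F) (h : a • (g : Matrix (Fin 2) (Fin 2) F) = c • (1 : Matrix (Fin 2) (Fin 2) F)) :
    a = 0 := by
  by_contra hne
  apply hns
  have : (g : Matrix (Fin 2) (Fin 2) F) = (a⁻¹ * c) • (1 : Matrix (Fin 2) (Fin 2) F) := by
    rw [mul_smul, ← h, smul_smul, inv_mul_cancel₀ hne, one_smul]
  rw [this]
  exact isScalar2_smul_one _

theorem coe_scalar_of_sq (h2 : (2 : F) ≠ 0) (g : SL(2, F)) (h : g * g = 1) :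
    ∃ c : F, (g : Matrix (Fin 2) (Fin 2) F) = c • (1 : Matrix (Fin 2) (Fin 2) F) := by
  rcases SL2_sq_eq_one h2 g h with h | h
  · refine ⟨1, ?_⟩
    rw [h]; simp
  · refine ⟨-1, ?_⟩
    rw [h, negOneSL_coe]; simp

theorem pow_three_coeff (g : SL(2, F)) :
    (g : Matrix (Fin 2) (Fin 2) F) ^ 3 =
      ((g : Matrix (Fin 2) (Fin 2) F).trace ^ 2 - 1) • (g : Matrix (Fin 2) (Fin 2) F) -
      ((g : Matrix (Fin 2) (Fin 2) F).trace) • (1 : Matrix (Fin 2) (Fin 2) F) := by
  set M := (g : Matrix (Fin 2) (Fin 2) F) with hM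
  set τ := M.trace with hτ
  have h2 : M * M = τ • M - 1 := sq_eq_SL g
  have : M ^ 3 = M * M * M := by rw [pow_succ, pow_two]
  rw [this, h2, sub_mul, smul_mul_assoc, h2, one_mul]
  module

/-- a non-scalar element with `g⁴ = 1` has trace zero -/
theorem trace_of_pow_four (h2 : (2 : F) ≠ 0) (g : SL(2, F))
    (hns : ¬ IsScalar2 (g : Matrix (Fin 2) (Fin 2) F))
    (h4 : g ^ 4 = 1) : (g : Matrix (Fin 2) (Fin 2) F).trace = 0 := by
  have h5 : (g * g) * (g * g) = 1 := by
    rw [← h4]; simp only [pow_succ, pow_zero, one_mul, mul_assoc]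
  obtain ⟨c, hc⟩ := coe_scalar_of_sq h2 (g * g) h5
  rw [coe_mul, sq_eq_SL] at hc
  apply coeff_eq_zero_of_scalar g hns _ (c + 1)
  rw [add_smul, ← hc]; simp

/-- a non-scalar element with `g⁶ = 1` has trace `±1` -/
theorem trace_of_pow_six (h2 : (2 : F) ≠ 0) (g : SL(2, F))
    (hns : ¬ IsScalar2 (g : Matrix (Fin 2) (Fin 2) F))
    (h6 : g ^ 6 = 1) : (g : Matrix (Fin 2) (Fin 2) F).trace ^ 2 = 1 := by
  have h5 : (g ^ 3) * (g ^ 3) = 1 := by rw [← pow_add]; exact h6
  obtain ⟨c, hc⟩ := coe_scalar_of_sq h2 (g ^ 3) h5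
  rw [coe_pow, pow_three_coeff] at hc
  have h7 : ((g : Matrix (Fin 2) (Fin 2) F).trace ^ 2 - 1) • (g : Matrix (Fin 2) (Fin 2) F) =
      (c + (g : Matrix (Fin 2) (Fin 2) F).trace) • (1 : Matrix (Fin 2) (Fin 2) F) := by
    rw [add_smul, ← hc]; simp
  have := coeff_eq_zero_of_scalar g hns _ _ h7
  linear_combination this

end Cfsg.Agent.Helper4.DGen
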