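import Mathlib
import Cfsg.Agent.Lib.Helper4.DGenA

set_option autoImplicit false
set_option linter.unusedVariables false
set_option linter.unusedSectionVars false
set_option linter.unusedSimpArgs false

/-! Dickson's generation theorem: the dichotomy for a subgroup containing `u 1` and `v b`. -/

namespace Cfsg.Agent.Helper4.DGen

open Matrix Matrix.SpecialLinearGroup
open scoped MatrixGroups
open Cfsg.Agent.Helper2.SL2S
open Cfsg.Agent.Helper12 Cfsg.Agent.Helper4.DC Cfsg.Agent.Helper4.DSL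
open Cfsg.Agent.Helper11.Klein Cfsg.Agent.Helper11.Dickson
open Cfsg.Agent.Helper2.PN (mkn mkn_surjective)

variable {F : Type*} [Field F]

/-- central elements of `SL₂` are `±1` -/
theorem eq_one_or_neg_of_mem_center (h2 : (2 : F) ≠ 0) {z : SL(2, F)}
    (hz : z ∈ Subgroup.center SL(2, F)) : z = 1 ∨ z = negOneSL :=
  SL2_sq_eq_one h2 z (sq_eq_one_of_mem_center hz)

theorem nn_one_sq : nn (1 : F) * nn 1 = negOneSL := by
  have h1 : (1 : F) ≠ 0 := one_ne_zero
  apply sl2_ext <;>
  simp only [m00, m01, m10, m11, nn00 h1, nn01 h1, nn10, nn11 h1, neg00, neg01, neg10, neg11] <;>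
  simp

/-- a subgroup which covers `SL₂(F)` modulo the centre is everything -/
theorem eq_top_of_forall (h2 : (2 : F) ≠ 0) (Hc : Subgroup SL(2, F))
    (hall : ∀ g : SL(2, F), ∃ h ∈ Hc, h⁻¹ * g ∈ Subgroup.center SL(2, F)) : Hc = ⊤ := by
  have hneg : (negOneSL : SL(2, F)) ∈ Hc := by
    obtain ⟨h, hh, hz⟩ := hall (nn 1)
    have hzc := Subgroup.mem_center_iff.1 hz
    have e : nn (1 : F) = h * (h⁻¹ * nn 1) := by group
    have hsq : nn (1 : F) * nn 1 = h * h := by
      have hz2 : (h⁻¹ * nn (1 : F)) * (h⁻¹ * nn 1) = 1 := sq_eq_one_of_mem_center hz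
      calc nn (1 : F) * nn 1 = h * (h⁻¹ * nn 1) * (h * (h⁻¹ * nn 1)) := by rw [← e]
        _ = h * ((h⁻¹ * nn 1) * h) * (h⁻¹ * nn 1) := by group
        _ = h * (h * (h⁻¹ * nn 1)) * (h⁻¹ * nn 1) := by rw [hzc h]
        _ = h * h * ((h⁻¹ * nn 1) * (h⁻¹ * nn 1)) := by group
        _ = h * h := by rw [hz2, mul_one]
    rw [← nn_one_sq, hsq]
    exact Hc.mul_mem hh hh
  rw [eq_top_iff]
  intro g _
  obtain ⟨h, hh, hz⟩ := hall g
  rcases eq_one_or_neg_of_mem_center h2 hz with h1 | h1
  · have : g = h := by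
      have : g = h * (h⁻¹ * g) := by group
      rw [this, h1, mul_one]
    rw [this]; exact hh
  · have : g = h * negOneSL := by
      have : g = h * (h⁻¹ * g) := by group
      rw [this, h1]
    rw [this]; exact Hc.mul_mem hh hneg

/-- a subgroup whose image in `PSL₂` has full preimage is everything -/
theorem eq_top_of_preim (h2 : (2 : F) ≠ 0) (Hc : Subgroup SL(2, F))
    (h : preim (Hc.map (mkn (ι := Fin 2) (F := F))) = ⊤) : Hc = ⊤ := by
  apply eq_top_of_forall h2
  intro g
  have hg : g ∈ preim (Hc.map (mkn (ι := Fin 2) (F := F))) := by rw [h]; trivial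
  change (QuotientGroup.mk' _ g) ∈ Hc.map _ at hg
  obtain ⟨x, hx, hxg⟩ := hg
  refine ⟨x, hx, ?_⟩
  exact QuotientGroup.eq.1 hxg

theorem le_preim_map (Hc : Subgroup SL(2, F)) :
    Hc ≤ preim (Hc.map (mkn (ι := Fin 2) (F := F))) := by
  intro x hx
  change (QuotientGroup.mk' _ x) ∈ Hc.map _
  exact ⟨x, hx, rfl⟩

/-- the doubly transitive case: the subgroup is everything -/
theorem eq_top_of_nrm {Hs : Subgroup SL(2, F)} (N : Nrm Hs) (p : ℕ) [CharP F p] (hp : Odd p)
    (b : F) (hv : v b ∈ Hs) (hgen : Subfield.closure ({b} : Set F) = ⊤) : Hs = ⊤ := by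
  have hb : b ∈ N.fld p hp := (N.mem_fld p hp b).2 ((N.v_iff_u b).1 hv)
  have hle : Subfield.closure ({b} : Set F) ≤ N.fld p hp := by
    rw [Subfield.closure_le]
    intro x hx
    rw [Set.mem_singleton_iff] at hx
    rw [hx]; exact hb
  rw [hgen] at hle
  rw [eq_top_iff]
  intro g _
  apply N.mem_of_entries p hp
  intro i j
  exact hle (Subfield.mem_top _)

theorem pow_card_of_mem {G : Type*} [Group G] (K : Subgroup G) {x : G} (hx : x ∈ K) :
    x ^ Nat.card K = 1 := by
  have h := pow_card_eq_one' (G := ↥K) (x := ⟨x, hx⟩)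
  have h3 := congrArg Subtype.val h
  rw [Subgroup.coe_pow] at h3
  exact h3

section main

variable [Fintype F] (p : ℕ) [hp : Fact p.Prime] [CharP F p]

/-- **the dichotomy** for a full preimage containing `u 1` and `v b` -/
theorem dichotomy (hp2 : p ≠ 2)
    (H' : Subgroup (Matrix.ProjectiveSpecialLinearGroup (Fin 2) F)) (b : F) (hb : b ≠ 0)
    (hu : u 1 ∈ preim H') (hv : v b ∈ preim H') :
    Nrm (preim H') ∨
    (p = 3 ∧ (∀ g ∈ preim H', g ^ 4 = 1 ∨ g ^ 6 = 1 ∨ g ^ 10 = 1) ∧
      (Nonempty (H' ≃* alternatingGroup (Fin 4)) ∨ Nonempty (H' ≃* Equiv.Perm (Fin 4)) ∨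
        Nonempty (H' ≃* alternatingGroup (Fin 5)))) := by
  have hneg : negOneSL ∈ preim H' := center_le_preim H' negOne_mem_center
  obtain ⟨P', hP'⟩ := exists_sylow_mem p (⟨u 1, hu⟩ : ↥(preim H')) (by
    apply Subtype.ext
    simpa using u_pow_p p (1 : F))
  obtain ⟨Q', hQ'⟩ := exists_sylow_mem p (⟨v b, hv⟩ : ↥(preim H')) (by
    apply Subtype.ext
    simpa using v_pow_p p b)
  have hncuv : (⟨u 1, hu⟩ : ↥(preim H')) * ⟨v b, hv⟩ ≠ ⟨v b, hv⟩ * ⟨u 1, hu⟩ := by
    intro hc
    have h1 : u (1 : F) * v b = v b * u 1 := by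
      have := congrArg (fun y : ↥(preim H') => (y : SL(2, F))) hc
      simpa using this
    have h2 := ((commute_u_iff (one_ne_zero : (1 : F) ≠ 0) (v b)).1 h1.symm).1
    rw [v10] at h2
    exact hb h2
  have hQP' : Q' ≠ P' := by
    rintro rfl
    exact hncuv (sub_pGroup_comm p (Q' : Subgroup ↥(preim H')) Q'.2 _ hP' _ hQ')
  have hn' : 1 < Nat.card (Sylow p ↥(preim H')) := by
    haveI : Nontrivial (Sylow p ↥(preim H')) := ⟨⟨Q', P', hQP'⟩⟩
    exact Finite.one_lt_card
  have ax' : Ax p (ZZ (preim H')) := ax_of_subgroup p hp2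
  rcases ax'.main P' hn' with hcase | ⟨hP3, hcen⟩
  · left
    exact nrm_of_ax p hp2 (preim H') hneg hu b hb hv P' hP' hcase
  · right
    obtain rfl : p = 3 := by
      obtain ⟨n, hn''⟩ := IsPGroup.iff_card.1 P'.2
      rw [hP3] at hn''
      have : p ∣ 3 := by
        rcases Nat.eq_zero_or_pos n with h0 | h0
        · rw [h0, pow_zero] at hn''; omega
        · rw [hn'']; exact dvd_pow_self p h0.ne'
      exact (Nat.prime_dvd_prime_iff_eq hp.out Nat.prime_three).1 this
    refine ⟨rfl, ?_, ?_⟩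
    · -- orders of the elements
      have hZ2 : Nat.card (ZZ (preim H')) ∣ 2 := by
        rw [card_ZZ_preim]; exact Nat.gcd_dvd_left _ _
      intro g hg
      by_cases hgZ : (⟨g, hg⟩ : ↥(preim H')) ∈ ZZ (preim H')
      · left
        have h1 : g * g = 1 := sq_eq_one_of_mem_center (mem_ZZ.1 hgZ)
        calc g ^ 4 = (g * g) * (g * g) := by simp only [pow_succ, pow_zero, one_mul, mul_assoc]
          _ = 1 := by rw [h1, one_mul]
      · by_cases hdvd : 3 ∣ Nat.card (Cen (⟨g, hg⟩ : ↥(preim H')))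
        · right; left
          obtain ⟨Pg, hPg, hCen⟩ := ax'.pT _ hgZ hdvd
          have hcard := ax'.card_sup hPg
          rw [← hCen] at hcard
          obtain ⟨k, hk⟩ := IsPGroup.iff_card.1 hPg
          have hmem : (⟨g, hg⟩ : ↥(preim H')) ∈ Cen (⟨g, hg⟩ : ↥(preim H')) := self_mem_Cen _
          have hpow : (⟨g, hg⟩ : ↥(preim H')) ^ Nat.card (Cen (⟨g, hg⟩ : ↥(preim H'))) = 1 :=
            pow_card_of_mem _ hmem
          rw [hcard, hk] at hpow
          obtain ⟨m, hm⟩ := hZ2
          have hpow2 : ((⟨g, hg⟩ : ↥(preim H')) ^ 2) ^ 3 ^ k = 1 := by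
            rw [← pow_mul]
            have : 2 * 3 ^ k = (Nat.card (ZZ (preim H')) * 3 ^ k) * m := by
              rw [mul_right_comm, ← hm]
            rw [this, pow_mul, hpow, one_pow]
          have h3 := sub_pow_p 3 _ k hpow2
          have h4 : (g ^ 2) ^ 3 = 1 := by simpa using h3
          rw [← pow_mul] at h4
          exact h4
        · have hmem : (⟨g, hg⟩ : ↥(preim H')) ∈ Cen (⟨g, hg⟩ : ↥(preim H')) := self_mem_Cen _
          have hpow : (⟨g, hg⟩ : ↥(preim H')) ^ Nat.card (Cen (⟨g, hg⟩ : ↥(preim H'))) = 1 :=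
            pow_card_of_mem _ hmem
          obtain ⟨m, hm⟩ := hZ2
          rcases hcen _ hgZ hdvd with h | h
          · left
            have h5 : (⟨g, hg⟩ : ↥(preim H')) ^ 4 = 1 := by
              have : 4 = (Nat.card (ZZ (preim H')) * 2) * m := by
                have e : (Nat.card (ZZ (preim H')) * 2) * m = (Nat.card (ZZ (preim H')) * m) * 2 := by
                  ring
                rw [e, ← hm]
              rw [this, pow_mul, ← h, hpow, one_pow]
            have := congrArg Subtype.val h5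
            simpa using this
          · right; right
            have h5 : (⟨g, hg⟩ : ↥(preim H')) ^ 10 = 1 := by
              have : 10 = (Nat.card (ZZ (preim H')) * 5) * m := by
                have e : (Nat.card (ZZ (preim H')) * 5) * m = (Nat.card (ZZ (preim H')) * m) * 5 := by
                  ring
                rw [e, ← hm]
              rw [this, pow_mul, ← h, hpow, one_pow]
            have := congrArg Subtype.val h5
            simpa using this
    · have h3 : ∀ Q : Subgroup ↥(preim H'), IsPGroup 3 Q → Nat.card Q ∣ 3 := by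
        intro Q0 hQ0
        obtain ⟨P'', hP''⟩ := hQ0.exists_le_sylow
        have h1 : Nat.card (P'' : Subgroup ↥(preim H')) = 3 := by
          rw [Sylow.card_eq_multiplicity, ← Sylow.card_eq_multiplicity P', hP3]
        rw [← h1]
        exact Subgroup.card_dvd_of_le hP''
      have hx3 : (⟨u 1, hu⟩ : ↥(preim H')) ^ 3 = 1 := by
        apply Subtype.ext
        simpa using u_pow_p 3 (1 : F)
      have hy3 : (⟨v b, hv⟩ : ↥(preim H')) ^ 3 = 1 := by
        apply Subtype.ext
        simpa using v_pow_p 3 b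
      exact caseB H' h3 _ _ hx3 hy3 hncuv

end main

end Cfsg.Agent.Helper4.DGen
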