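import Mathlib
import Cfsg.Agent.Lib.Helper4.DGenB

set_option autoImplicit false
set_option linter.unusedVariables false
set_option linter.unusedSectionVars false
set_option linter.unusedSimpArgs false

/-! Dickson's generation theorem: the exceptional case in characteristic three. -/

namespace Cfsg.Agent.Helper4.DGen

open Matrix Matrix.SpecialLinearGroup
open scoped MatrixGroups
open Cfsg.Agent.Helper2.SL2S
open Cfsg.Agent.Helper12 Cfsg.Agent.Helper4.DC Cfsg.Agent.Helper4.DSL
open Cfsg.Agent.Helper11.Klein Cfsg.Agent.Helper11.Dickson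
open Cfsg.Agent.Helper2.PN (mkn mkn_surjective)

variable {F : Type*} [Field F]

/-- the trace condition coming from the element orders `4, 6, 10` -/
def TrC (t : F) : Prop := t = 0 ∨ t ^ 2 = 1 ∨ t ^ 4 = -1

section char3

variable [CharP F 3]

theorem two_ne_zero3 : (2 : F) ≠ 0 := two_ne_zero_of_odd (F := F) 3 (by norm_num)

theorem trC_of_ord (g : SL(2, F)) (hns : ¬ IsScalar2 (g : Matrix (Fin 2) (Fin 2) F))
    (h : g ^ 4 = 1 ∨ g ^ 6 = 1 ∨ g ^ 10 = 1) :
    TrC (g : Matrix (Fin 2) (Fin 2) F).trace := by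
  rcases h with h | h | h
  · left; exact trace_of_pow_four two_ne_zero3 g hns h
  · right; left; exact trace_of_pow_six two_ne_zero3 g hns h
  · right; right; exact trace_of_pow_ten g hns h

theorem TrC.pow_nine {t : F} (h : TrC t) : t ^ 9 = t := by
  rcases h with h | h | h
  · rw [h]; simp
  · calc t ^ 9 = (t ^ 2) ^ 4 * t := by ring
      _ = t := by rw [h]; ring
  · calc t ^ 9 = (t ^ 4) ^ 2 * t := by ring
      _ = t := by rw [h]; ring

theorem TrC.sq_ne {t : F} (h : TrC t) : t ^ 2 ≠ -1 := by
  have h2 : (2 : F) ≠ 0 := two_ne_zero3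
  intro hn
  rcases h with h | h | h
  · rw [h] at hn
    have : (1 : F) = 0 := by
      have e : (0 : F) ^ 2 = 0 := by ring
      rw [e] at hn
      linear_combination hn
    exact one_ne_zero this
  · rw [h] at hn
    apply h2
    linear_combination hn
  · have : t ^ 4 = 1 := by
      calc t ^ 4 = (t ^ 2) ^ 2 := by ring
        _ = 1 := by rw [hn]; ring
    rw [this] at h
    apply h2
    linear_combination h

/-- the two trace conditions -/
theorem trC_of_mem (Hs : Subgroup SL(2, F))
    (hord : ∀ g ∈ Hs, g ^ 4 = 1 ∨ g ^ 6 = 1 ∨ g ^ 10 = 1) (b : F)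
    (hu : u 1 ∈ Hs) (hv : v b ∈ Hs) : TrC (2 + b) ∧ TrC (2 - b) := by
  constructor
  · have h1 := trC_of_ord (u 1 * v b) (not_isScalar2_uv b) (hord _ (Hs.mul_mem hu hv))
    rw [trace_u_v] at h1
    simpa using h1
  · have hv' : v (-b) ∈ Hs := by rw [← Cfsg.Agent.Helper4.DSL.v_inv]; exact Hs.inv_mem hv
    have h1 := trC_of_ord (u 1 * v (-b)) (not_isScalar2_uv (-b)) (hord _ (Hs.mul_mem hu hv'))
    rw [trace_u_v] at h1
    have e : (2 : F) + 1 * -b = 2 - b := by ring
    rwa [e] at h1

theorem pow_nine_of_trC {b : F} (h : TrC (2 + b)) : b ^ 9 = b := by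
  have h3 := three_eq_zero (F := F)
  haveI : Fact (Nat.Prime 3) := ⟨Nat.prime_three⟩
  have h9 := h.pow_nine
  have e : ((2 : F) + b) ^ 3 ^ 2 = 2 ^ 3 ^ 2 + b ^ 3 ^ 2 := add_pow_char_pow 2 b 3 2
  norm_num at e
  rw [e] at h9
  linear_combination h9 - 170 * h3

/-- in a field with nine elements -/
theorem sq_eq_neg_one_of_trC {b : F} (h1 : TrC (2 + b)) (h2 : TrC (2 - b)) (hb0 : b ≠ 0)
    (hb3 : b ^ 3 ≠ b) : b ^ 2 = -1 := by
  have h3 := three_eq_zero (F := F)
  have h9 := pow_nine_of_trC h1
  have h8 : b ^ 8 = 1 := by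
    have : b * (b ^ 8 - 1) = 0 := by linear_combination h9
    rcases mul_eq_zero.1 this with h | h
    · exact absurd h hb0
    · linear_combination h
  have hne : b ^ 2 - 1 ≠ 0 := by
    intro h
    apply hb3
    linear_combination b * h
  have hprod : ((2 + b) ^ 2 + 1) * ((2 - b) ^ 2 + 1) * (b ^ 2 + 1) = 0 := by
    have e : (b ^ 2 - 1) * (((2 + b) ^ 2 + 1) * ((2 - b) ^ 2 + 1) * (b ^ 2 + 1)) = 0 := by
      linear_combination h8 + (b ^ 2 - 1) * (-2 * b ^ 4 + 6 * b ^ 2 + 8) * h3
    rcases mul_eq_zero.1 e with h | h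
    · exact absurd h hne
    · exact h
  rcases mul_eq_zero.1 hprod with h | h
  · rcases mul_eq_zero.1 h with h | h
    · exact absurd (by linear_combination h) h1.sq_ne
    · exact absurd (by linear_combination h) h2.sq_ne
  · linear_combination h

end char3

section card

variable [Fintype F]

/-- if every element satisfies `x ^ (n + 1) = x` then `q - 1` divides `n` -/
theorem card_sub_one_dvd (n : ℕ) (h : ∀ x : F, x ^ (n + 1) = x) : Fintype.card F - 1 ∣ n := by
  obtain ⟨ζ, hζ⟩ := IsCyclic.exists_generator (α := Fˣ)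
  have hord : orderOf ζ = Fintype.card F - 1 := by
    rw [orderOf_eq_card_of_forall_mem_zpowers hζ, Cfsg.Agent.Helper2.card_units_field]
  rw [← hord]
  apply orderOf_dvd_of_pow_eq_one
  apply Units.ext
  have h1 := h (ζ : F)
  rw [pow_succ] at h1
  have h2 : ((ζ : F) ^ n - 1) * ζ = 0 := by linear_combination h1
  rcases mul_eq_zero.1 h2 with h3 | h3
  · rw [Units.val_pow_eq_pow_val, Units.val_one]
    linear_combination h3
  · exact absurd h3 ζ.ne_zero

theorem forall_pow_of_closure [CharP F 3] (b : F) (hgen : Subfield.closure ({b} : Set F) = ⊤)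
    (k : ℕ) (hb : b ^ 3 ^ k = b) : ∀ x : F, x ^ 3 ^ k = x := by
  haveI : Fact (Nat.Prime 3) := ⟨Nat.prime_three⟩
  have : iterateFrobenius F 3 k = RingHom.id F := by
    apply RingHom.eq_of_eqOn_of_field_closure_eq_top hgen
    intro x hx
    rw [Set.mem_singleton_iff] at hx
    rw [hx, iterateFrobenius_def, RingHom.id_apply, hb]
  intro x
  have h1 := congrArg (fun f : F →+* F => f x) this
  simpa [iterateFrobenius_def] using h1

/-- the cardinality of the field in the exceptional case -/
theorem card_of_pow_nine [CharP F 3] (b : F) (hgen : Subfield.closure ({b} : Set F) = ⊤)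
    (hb : b ^ 9 = b) : Fintype.card F = 3 ∨ Fintype.card F = 9 := by
  haveI : Fact (Nat.Prime 3) := ⟨Nat.prime_three⟩
  have hall := forall_pow_of_closure b hgen 2 (by norm_num; exact hb)
  have hd : Fintype.card F - 1 ∣ 8 := card_sub_one_dvd 8 (by
    intro x
    have := hall x
    norm_num at this
    exact this)
  have h3 : 3 ∣ Fintype.card F := by
    obtain ⟨n, hn⟩ := FiniteField.card F 3
    rw [hn.2]
    exact dvd_pow_self 3 n.ne_zero
  have hle : Fintype.card F - 1 ≤ 8 := Nat.le_of_dvd (by norm_num) hd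
  have hpos : 1 < Fintype.card F := Fintype.one_lt_card
  obtain ⟨m, hm⟩ := h3
  have hm' : m ≤ 3 := by omega
  interval_cases m
  · omega
  · left; omega
  · exfalso
    rw [hm] at hd
    norm_num at hd
  · right; omega

theorem pow_three_ne_of_card [CharP F 3] (b : F) (hgen : Subfield.closure ({b} : Set F) = ⊤)
    (hq : Fintype.card F = 9) : b ^ 3 ≠ b := by
  intro hb
  have hall := forall_pow_of_closure b hgen 1 (by norm_num; exact hb)
  have hd : Fintype.card F - 1 ∣ 2 := card_sub_one_dvd 2 (by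
    intro x
    have := hall x
    norm_num at this
    exact this)
  rw [hq] at hd
  norm_num at hd

end card

end Cfsg.Agent.Helper4.DGen
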