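import Mathlib
import Cfsg.Agent.Lib.Helper4.DGenC
import Cfsg.Agent.Lib.Helper12.BinIco

set_option autoImplicit false
set_option linter.unusedVariables false
set_option linter.unusedSectionVars false
set_option linter.unusedSimpArgs false

/-! Dickson's generation theorem: the binary icosahedral subgroup of `SL₂(9)`. -/

namespace Cfsg.Agent.Helper4.DGen

open Matrix Matrix.SpecialLinearGroup
open scoped MatrixGroups
open Cfsg.Agent.Helper2.SL2S
open Cfsg.Agent.Helper12 Cfsg.Agent.Helper4.DC Cfsg.Agent.Helper4.DSL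
open Cfsg.Agent.Helper11.Klein Cfsg.Agent.Helper11.Dickson
open Cfsg.Agent.Helper2.PN (mkn mkn_surjective)

variable {F : Type*} [Field F]

/-- an element of trace `τ` with `τ² + τ - 1 = 0` has fifth power one -/
theorem pow_five_of_trace (g : SL(2, F))
    (ht : (g : Matrix (Fin 2) (Fin 2) F).trace ^ 2 + (g : Matrix (Fin 2) (Fin 2) F).trace - 1 = 0) :
    g ^ 5 = 1 := by
  apply Subtype.ext
  rw [coe_pow, pow_five_coeff, coe_one]
  set τ := (g : Matrix (Fin 2) (Fin 2) F).trace with hτ
  have h1 : τ ^ 4 - 3 * τ ^ 2 + 1 = 0 := by linear_combination (τ ^ 2 - τ - 1) * ht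
  have h2 : τ ^ 3 - 2 * τ = -1 := by linear_combination (τ - 1) * ht
  rw [h1, h2]
  simp

/-- an element of trace zero squares to `-1` -/
theorem sq_of_trace_zero (g : SL(2, F)) (ht : (g : Matrix (Fin 2) (Fin 2) F).trace = 0) :
    g * g = negOneSL := by
  apply Subtype.ext
  rw [coe_mul, sq_eq_SL, ht, negOneSL_coe]
  simp

theorem u_one_pow_three (h3 : (3 : F) = 0) : (u (1 : F)) ^ 3 = 1 := by
  rw [u_pow, u_eq_one_iff]
  push_cast
  linear_combination h3

theorem negOne_comm (g : SL(2, F)) : negOneSL * g = g * negOneSL :=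
  (Subgroup.mem_center_iff.1 negOne_mem_center g).symm

theorem negOne_sq : (negOneSL : SL(2, F)) ^ 2 = 1 := by
  rw [pow_two]; exact sq_eq_one_of_mem_center negOne_mem_center

section ico

variable (h3 : (3 : F) = 0) (b : F) (hb : b ^ 2 = -1)

/-- the element of order four -/
def aEl : SL(2, F) :=
  ⟨!![0, b - 1; -1 - b, 0], by rw [Matrix.det_fin_two_of]; linear_combination hb - h3⟩

theorem aEl00 : (aEl h3 b hb).1 0 0 = 0 := rfl
theorem aEl01 : (aEl h3 b hb).1 0 1 = b - 1 := rfl
theorem aEl10 : (aEl h3 b hb).1 1 0 = -1 - b := rfl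
theorem aEl11 : (aEl h3 b hb).1 1 1 = 0 := rfl

include h3 hb

theorem aEl_sq : aEl h3 b hb * aEl h3 b hb = negOneSL := by
  apply sq_of_trace_zero
  rw [Matrix.trace_fin_two, aEl00, aEl11, add_zero]

theorem aEl_conj : aEl h3 b hb * u 1 = v b * aEl h3 b hb := by
  apply sl2_ext <;>
  simp only [m00, m01, m10, m11, u00, u01, u10, u11, v00, v01, v10, v11, aEl00, aEl01, aEl10,
    aEl11]
  · ring
  · ring
  · ring
  · linear_combination (-1 : F) * hb

/-- the element of order five -/
def yEl : SL(2, F) := (u 1)⁻¹ * aEl h3 b hb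

theorem u_mul_yEl : u 1 * yEl h3 b hb = aEl h3 b hb := by
  rw [yEl]; group

theorem yEl_pow : yEl h3 b hb ^ 5 = 1 := by
  apply pow_five_of_trace
  have : ((yEl h3 b hb : SL(2, F)) : Matrix (Fin 2) (Fin 2) F).trace = 1 + b := by
    rw [yEl, u_inv, trace_u_mul, aEl00, aEl10, aEl11]; ring
  rw [this]
  linear_combination hb + b * h3

/-- the subgroup generated by `u 1` and `v b` has order at most `120` -/
theorem card_closure_le (Hc : Subgroup SL(2, F)) [Finite Hc]
    (hle : Hc ≤ Subgroup.closure ({u 1, v b} : Set SL(2, F))) : Nat.card Hc ≤ 120 := by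
  set x : SL(2, F) := u 1 with hx
  set y : SL(2, F) := yEl h3 b hb with hy
  set K : Subgroup SL(2, F) := Subgroup.closure ({x, y} : Set SL(2, F)) with hK
  have hxK : x ∈ K := Subgroup.subset_closure (by simp)
  have hyK : y ∈ K := Subgroup.subset_closure (by simp)
  have haK : aEl h3 b hb ∈ K := by rw [← u_mul_yEl]; exact K.mul_mem hxK hyK
  have hzK : (negOneSL : SL(2, F)) ∈ K := by rw [← aEl_sq h3 b hb]; exact K.mul_mem haK haK
  have hvK : v b ∈ K := by
    have : v b = aEl h3 b hb * u 1 * (aEl h3 b hb)⁻¹ := by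
      rw [aEl_conj]; group
    rw [this]
    exact K.mul_mem (K.mul_mem haK hxK) (K.inv_mem haK)
  have hHK : Hc ≤ K := by
    refine hle.trans ?_
    rw [Subgroup.closure_le]
    intro g hg
    simp only [Set.mem_insert_iff, Set.mem_singleton_iff] at hg
    rcases hg with rfl | rfl
    · exact hxK
    · exact hvK
  have hrel : Cfsg.Agent.Helper12.BinIco.BRel (⟨x, hxK⟩ : ↥K) ⟨y, hyK⟩ ⟨negOneSL, hzK⟩ := by
    refine ⟨?_, ?_, ?_, ?_, ?_, ?_⟩
    · apply Subtype.ext
      simpa using u_one_pow_three h3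
    · apply Subtype.ext
      simpa using yEl_pow h3 b hb
    · apply Subtype.ext
      simpa using negOne_sq (F := F)
    · apply Subtype.ext
      simpa using negOne_comm x
    · apply Subtype.ext
      simpa using negOne_comm y
    · apply Subtype.ext
      have : (x * y) ^ 2 = negOneSL := by
        rw [hx, hy, u_mul_yEl, pow_two, aEl_sq]
      simpa using this
  have hgen : Subgroup.closure ({(⟨x, hxK⟩ : ↥K), ⟨y, hyK⟩} : Set ↥K) = ⊤ := by
    have h1 := Subgroup.closure_closure_coe_preimage (k := ({x, y} : Set SL(2, F)))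
    have h2 : ((↑) ⁻¹' ({x, y} : Set SL(2, F)) : Set ↥K) = {(⟨x, hxK⟩ : ↥K), ⟨y, hyK⟩} := by
      ext g
      simp only [Set.mem_preimage, Set.mem_insert_iff, Set.mem_singleton_iff, Subtype.ext_iff]
    rw [← h2]
    exact h1
  obtain ⟨hfin, hcard⟩ := Cfsg.Agent.Helper12.BinIco.card_le hrel hgen
  exact (Subgroup.card_le_of_le hHK).trans hcard

/-- a subgroup containing `u 1` and `v b` contains `-1` -/
theorem negOne_mem (Hc : Subgroup SL(2, F)) (hu : u 1 ∈ Hc) (hv : v b ∈ Hc) :
    (negOneSL : SL(2, F)) ∈ Hc := by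
  have hv' : v (-b) ∈ Hc := by rw [← Cfsg.Agent.Helper4.DSL.v_inv]; exact Hc.inv_mem hv
  have hw : u 1 * v b * (u 1 * v (-b)) ∈ Hc := Hc.mul_mem (Hc.mul_mem hu hv) (Hc.mul_mem hu hv')
  have ht : ((u 1 * v b * (u 1 * v (-b)) : SL(2, F)) : Matrix (Fin 2) (Fin 2) F).trace = 0 := by
    rw [Matrix.trace_fin_two]
    simp only [m00, m01, m10, m11, u00, u01, u10, u11, v00, v01, v10, v11]
    linear_combination (-1 : F) * hb + h3
  rw [← sq_of_trace_zero _ ht]
  exact Hc.mul_mem hw hw

end ico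

/-- in the exceptional case the order is divisible by five -/
theorem five_dvd_card [CharP F 3] (Hs : Subgroup SL(2, F)) [Finite Hs]
    (hord : ∀ g ∈ Hs, g ^ 4 = 1 ∨ g ^ 6 = 1 ∨ g ^ 10 = 1) (b : F) (hb : b ^ 2 = -1)
    (hu : u 1 ∈ Hs) (hv : v b ∈ Hs) : 5 ∣ Nat.card Hs := by
  have h3 := three_eq_zero (F := F)
  have h2 : (2 : F) ≠ 0 := two_ne_zero3
  set g : SL(2, F) := u 1 * v b with hg
  have hgH : g ∈ Hs := Hs.mul_mem hu hv
  have hns := not_isScalar2_uv b
  have htr : (g : Matrix (Fin 2) (Fin 2) F).trace = 2 + b := by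
    rw [hg, trace_u_v]; ring
  have hb1 : b ≠ 1 := by
    intro h
    rw [h] at hb
    apply h2
    linear_combination hb
  have h4 : g ^ 4 ≠ 1 := by
    intro h
    have := trace_of_pow_four h2 g hns h
    rw [htr] at this
    apply hb1
    linear_combination this - h3
  have h6 : g ^ 6 ≠ 1 := by
    intro h
    have := trace_of_pow_six h2 g hns h
    rw [htr] at this
    apply hb1
    linear_combination this - hb - (b + 1) * h3
  have h10 : g ^ 10 = 1 := by
    rcases hord g hgH with h | h | h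
    · exact absurd h h4
    · exact absurd h h6
    · exact h
  have hdvd : orderOf g ∣ 10 := orderOf_dvd_of_pow_eq_one h10
  have h2' : ¬ orderOf g ∣ 2 := by
    intro h
    apply h4
    have := orderOf_dvd_iff_pow_eq_one.1 (h.trans (by norm_num : 2 ∣ 4))
    exact this
  have h5 : 5 ∣ orderOf g := by
    have hpos : 0 < orderOf g := Nat.pos_of_dvd_of_pos hdvd (by norm_num)
    have hle : orderOf g ≤ 10 := Nat.le_of_dvd (by norm_num) hdvd
    interval_cases (orderOf g) <;> simp_all
  have hsub : orderOf (⟨g, hgH⟩ : ↥Hs) = orderOf g := by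
    rw [← Subgroup.orderOf_coe]
  have := orderOf_dvd_natCard (⟨g, hgH⟩ : ↥Hs)
  rw [hsub] at this
  exact h5.trans this

end Cfsg.Agent.Helper4.DGen
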