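import Mathlib
import Cfsg.Agent.Lib.Helper4.DGenD

set_option autoImplicit false
set_option linter.unusedVariables false
set_option linter.unusedSectionVars false
set_option linter.unusedSimpArgs false

/-! Dickson's generation theorem in the normalized frame. -/

namespace Cfsg.Agent.Helper4.DGen

open Matrix Matrix.SpecialLinearGroup
open scoped MatrixGroups
open Cfsg.Agent.Helper2.SL2S
open Cfsg.Agent.Helper12 Cfsg.Agent.Helper4.DC Cfsg.Agent.Helper4.DSL
open Cfsg.Agent.Helper11.Klein Cfsg.Agent.Helper11.Dickson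
open Cfsg.Agent.Helper2.PN (mkn mkn_surjective)

variable {F : Type*} [Field F]

theorem preim_map_le (h2 : (2 : F) ≠ 0) (Hc : Subgroup SL(2, F)) (hneg : (negOneSL : SL(2, F)) ∈ Hc) :
    preim (Hc.map (mkn (ι := Fin 2) (F := F))) ≤ Hc := by
  intro g hg
  change (QuotientGroup.mk' _ g) ∈ Hc.map _ at hg
  obtain ⟨h, hh, hxg⟩ := hg
  have hz : h⁻¹ * g ∈ Subgroup.center SL(2, F) := QuotientGroup.eq.1 hxg
  rcases eq_one_or_neg_of_mem_center h2 hz with h1 | h1
  · have : g = h := by
      have : g = h * (h⁻¹ * g) := by group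
      rw [this, h1, mul_one]
    rw [this]; exact hh
  · have : g = h * negOneSL := by
      have : g = h * (h⁻¹ * g) := by group
      rw [this, h1]
    rw [this]; exact Hc.mul_mem hh hneg

theorem card_alt_four : Nat.card (alternatingGroup (Fin 4)) = 12 := by
  have := two_mul_card_alternatingGroup (α := Fin 4)
  rw [Fintype.card_perm, Fintype.card_fin] at this
  rw [Nat.card_eq_fintype_card]
  have h4 : Nat.factorial 4 = 24 := by decide
  omega

theorem card_alt_five : Nat.card (alternatingGroup (Fin 5)) = 60 := by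
  have := two_mul_card_alternatingGroup (α := Fin 5)
  rw [Fintype.card_perm, Fintype.card_fin] at this
  rw [Nat.card_eq_fintype_card]
  have h4 : Nat.factorial 5 = 120 := by decide
  omega

theorem card_perm_four : Nat.card (Equiv.Perm (Fin 4)) = 24 := by
  rw [Nat.card_eq_fintype_card, Fintype.card_perm, Fintype.card_fin]
  decide

section main

variable [Fintype F] (p : ℕ) [hp : Fact p.Prime] [CharP F p]

/-- **Dickson's generation theorem**, normalized frame -/
theorem normalized (hp2 : p ≠ 2) (Hc : Subgroup SL(2, F)) (b : F) (hb : b ≠ 0)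
    (hu : u 1 ∈ Hc) (hv : v b ∈ Hc) (hgen : Subfield.closure ({b} : Set F) = ⊤) :
    Hc = ⊤ ∨ (Fintype.card F = 9 ∧ b ^ 2 = -1 ∧ Nat.card Hc = 120) := by
  have h2 : (2 : F) ≠ 0 := two_ne_zero_of_odd (F := F) p hp2
  set H' := Hc.map (mkn (ι := Fin 2) (F := F)) with hH'
  have hle := le_preim_map Hc
  rcases dichotomy p hp2 H' b hb (hle hu) (hle hv) with N | ⟨rfl, hord, hiso⟩
  · left
    exact eq_top_of_preim h2 Hc (eq_top_of_nrm N p (hp.out.odd_of_ne_two hp2) b (hle hv) hgen)
  · obtain ⟨h1, h2'⟩ := trC_of_mem (preim H') hord b (hle hu) (hle hv)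
    have h9 := pow_nine_of_trC h1
    have hcardH' : Nat.card H' = 12 ∨ Nat.card H' = 24 ∨ Nat.card H' = 60 := by
      rcases hiso with ⟨⟨e⟩⟩ | ⟨⟨e⟩⟩ | ⟨⟨e⟩⟩
      · left; rw [Nat.card_congr e.toEquiv, card_alt_four]
      · right; left; rw [Nat.card_congr e.toEquiv, card_perm_four]
      · right; right; rw [Nat.card_congr e.toEquiv, card_alt_five]
    have hcardHs := card_preim H'
    rcases card_of_pow_nine b hgen h9 with hq | hq
    · left
      apply eq_top_of_preim h2
      have hg : Nat.gcd 2 (Fintype.card F - 1) = 2 := by rw [hq]; decide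
      rw [hg] at hcardHs
      apply Subgroup.eq_top_of_le_card
      rw [card_SL2, hq, hcardHs]
      omega
    · right
      have hb3 := pow_three_ne_of_card b hgen hq
      have hbsq := sq_eq_neg_one_of_trC h1 h2' hb hb3
      refine ⟨hq, hbsq, ?_⟩
      have h5 := five_dvd_card (preim H') hord b hbsq (hle hu) (hle hv)
      have hg : Nat.gcd 2 (Fintype.card F - 1) = 2 := by rw [hq]; decide
      rw [hg] at hcardHs
      have h120 : Nat.card (preim H') = 120 := by omega
      have h3 := three_eq_zero (F := F)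
      have hneg := negOne_mem h3 b hbsq Hc hu hv
      have heq : preim H' = Hc := le_antisymm (preim_map_le h2 Hc hneg) hle
      rw [← heq]
      exact h120

end main

end Cfsg.Agent.Helper4.DGen
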