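import Mathlib

/-!
# Groups generated by transvections over `ZMod p` (McLaughlin's theorem, S5075): definitions

`tv φ u` is the (total) transvection `x ↦ x + φ x • u` (identity when `φ u ≠ 0`).
For a subgroup `K` of `V ≃ₗ V`:
* `Phi K u`  : the subspace of all `φ` with `φ u = 0` and `tv φ u ∈ K`;
* `Wsp K u`  : the common kernel of `Phi K u`;
* `IsCenter K u` : `u ≠ 0` and `Phi K u ≠ ⊥`;
* `comm K = [V,K]`, `fix K = C_V(K)`.
-/

set_option autoImplicit false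

namespace Cfsg.Agent.Helper4.McL

open Module

section general

variable {F : Type*} [Field F] {V : Type*} [AddCommGroup V] [Module F V]

open Classical in
/-- the total transvection `x ↦ x + φ x • u` (identity if `φ u ≠ 0`). -/
noncomputable def tv (φ : Dual F V) (u : V) : V ≃ₗ[F] V :=
  if h : φ u = 0 then LinearEquiv.transvection h else 1

theorem tv_apply {φ : Dual F V} {u : V} (h : φ u = 0) (x : V) : tv φ u x = x + φ x • u := by
  rw [tv, dif_pos h]; rfl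

theorem tv_of_ne {φ : Dual F V} {u : V} (h : φ u ≠ 0) : tv φ u = 1 := by
  rw [tv, dif_neg h]

@[simp] theorem tv_zero_left (u : V) : tv (0 : Dual F V) u = 1 := by
  apply LinearEquiv.ext; intro x
  rw [tv_apply (by simp)]; simp

@[simp] theorem tv_zero_right (φ : Dual F V) : tv φ (0 : V) = 1 := by
  apply LinearEquiv.ext; intro x
  rw [tv_apply (by simp)]; simp

theorem tv_add_left {φ ψ : Dual F V} {u : V} (h : φ u = 0) (h' : ψ u = 0) :
    tv (φ + ψ) u = tv φ u * tv ψ u := by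
  apply LinearEquiv.ext; intro x
  have h2 : (φ + ψ) u = 0 := by simp [h, h']
  rw [LinearEquiv.mul_apply, tv_apply h2, tv_apply h', tv_apply h]
  simp only [LinearMap.add_apply, map_add, map_smul, smul_eq_mul, h, mul_zero, add_zero, add_smul]
  abel

theorem tv_add_right {φ : Dual F V} {u w : V} (h : φ u = 0) (h' : φ w = 0) :
    tv φ (u + w) = tv φ u * tv φ w := by
  apply LinearEquiv.ext; intro x
  have h2 : φ (u + w) = 0 := by simp [h, h']
  rw [LinearEquiv.mul_apply, tv_apply h2, tv_apply h', tv_apply h]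
  simp only [map_add, map_smul, smul_eq_mul, h', mul_zero, add_zero, smul_add]
  abel

theorem tv_smul_left (c : F) (φ : Dual F V) (u : V) : tv (c • φ) u = tv φ (c • u) := by
  by_cases hc : c = 0
  · subst hc; simp
  by_cases h : φ u = 0
  · have h1 : (c • φ) u = 0 := by simp [h]
    have h2 : φ (c • u) = 0 := by simp [h]
    apply LinearEquiv.ext; intro x
    rw [tv_apply h1, tv_apply h2]
    simp [smul_smul, mul_comm]
  · have h1 : (c • φ) u ≠ 0 := by simpa [hc] using h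
    have h2 : φ (c • u) ≠ 0 := by simpa [hc] using h
    rw [tv_of_ne h1, tv_of_ne h2]

theorem tv_neg_left (φ : Dual F V) (u : V) : tv (-φ) u = tv φ (-u) := by
  have := tv_smul_left (-1 : F) φ u
  have h1 : (-1 : F) • φ = -φ := neg_one_smul F φ
  have h2 : (-1 : F) • u = -u := neg_one_smul F u
  rwa [h1, h2] at this

theorem tv_inv (φ : Dual F V) (u : V) : (tv φ u)⁻¹ = tv (-φ) u := by
  by_cases h : φ u = 0
  · have h' : (-φ) u = 0 := by simp [h]
    rw [inv_eq_iff_mul_eq_one, ← tv_add_left h h']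
    simp
  · have h' : (-φ) u ≠ 0 := by simpa using h
    rw [tv_of_ne h, tv_of_ne h', inv_one]

theorem tv_pow {φ : Dual F V} {u : V} (h : φ u = 0) (n : ℕ) : (tv φ u) ^ n = tv (n • φ) u := by
  induction n with
  | zero => simp
  | succ n ih =>
    have hn : (n • φ) u = 0 := by simp [h]
    rw [pow_succ, ih, succ_nsmul, tv_add_left hn h]

/-- conjugation of a transvection -/
theorem conj_tv (g : V ≃ₗ[F] V) (φ : Dual F V) (u : V) :
    g * tv φ u * g⁻¹ = tv (φ ∘ₗ (g.symm : V →ₗ[F] V)) (g u) := by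
  by_cases h : φ u = 0
  · have h' : (φ ∘ₗ (g.symm : V →ₗ[F] V)) (g u) = 0 := by simp [h]
    apply LinearEquiv.ext; intro x
    rw [LinearEquiv.mul_apply, LinearEquiv.mul_apply, tv_apply h', tv_apply h]
    have hx : g⁻¹ x = g.symm x := rfl
    rw [hx]
    simp
  · have h' : (φ ∘ₗ (g.symm : V →ₗ[F] V)) (g u) ≠ 0 := by simpa using h
    rw [tv_of_ne h, tv_of_ne h']
    simp

theorem tv_eq_one_iff {φ : Dual F V} {u : V} (h : φ u = 0) : tv φ u = 1 ↔ φ = 0 ∨ u = 0 := by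
  constructor
  · intro h1
    by_contra hne
    push Not at hne
    obtain ⟨x, hx⟩ : ∃ x, φ x ≠ 0 := by
      by_contra hall
      push Not at hall
      exact hne.1 (LinearMap.ext hall)
    have := congrArg (fun g : V ≃ₗ[F] V => g x) h1
    simp only [LinearEquiv.coe_one, id_eq] at this
    rw [tv_apply h] at this
    have h3 : φ x • u = 0 := by simpa using this
    rcases smul_eq_zero.1 h3 with h4 | h4
    · exact hx h4
    · exact hne.2 h4
  · rintro (rfl | rfl) <;> simp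

/-- `g` is a transvection (possibly trivial). -/
def IsTv (g : V ≃ₗ[F] V) : Prop := ∃ (φ : Dual F V) (u : V), φ u = 0 ∧ g = tv φ u

theorem isTv_tv (φ : Dual F V) (u : V) : IsTv (tv φ u) := by
  by_cases h : φ u = 0
  · exact ⟨φ, u, h, rfl⟩
  · exact ⟨0, 0, by simp, by rw [tv_of_ne h]; simp⟩

theorem IsTv.inv {g : V ≃ₗ[F] V} (hg : IsTv g) : IsTv g⁻¹ := by
  obtain ⟨φ, u, -, rfl⟩ := hg
  rw [tv_inv]; exact isTv_tv _ _

theorem IsTv.conj {g : V ≃ₗ[F] V} (hg : IsTv g) (a : V ≃ₗ[F] V) : IsTv (a * g * a⁻¹) := by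
  obtain ⟨φ, u, -, rfl⟩ := hg
  rw [conj_tv]; exact isTv_tv _ _

/-- `[V,K]`. -/
def comm (K : Subgroup (V ≃ₗ[F] V)) : Submodule F V :=
  Submodule.span F {y | ∃ g ∈ K, ∃ x : V, y = g x - x}

/-- `C_V(K)`. -/
def fix (K : Subgroup (V ≃ₗ[F] V)) : Submodule F V where
  carrier := {x | ∀ g ∈ K, g x = x}
  add_mem' := by
    intro a b ha hb g hg
    rw [map_add, ha g hg, hb g hg]
  zero_mem' := by intro g _; simp
  smul_mem' := by
    intro c x hx g hg
    rw [map_smul, hx g hg]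

theorem mem_fix {K : Subgroup (V ≃ₗ[F] V)} {x : V} : x ∈ fix K ↔ ∀ g ∈ K, g x = x := Iff.rfl

theorem sub_mem_comm {K : Subgroup (V ≃ₗ[F] V)} {g : V ≃ₗ[F] V} (hg : g ∈ K) (x : V) :
    g x - x ∈ comm K :=
  Submodule.subset_span ⟨g, hg, x, rfl⟩

/-- `[V,K]` is `K`-invariant. -/
theorem map_mem_comm {K : Subgroup (V ≃ₗ[F] V)} {g : V ≃ₗ[F] V} (hg : g ∈ K) {x : V}
    (hx : x ∈ comm K) : g x ∈ comm K := by
  have : g x = (g x - x) + x := by abel
  rw [this]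
  exact Submodule.add_mem _ (sub_mem_comm hg x) hx

/-- `C_V(K)` is `K`-invariant. -/
theorem map_mem_fix {K : Subgroup (V ≃ₗ[F] V)} {g : V ≃ₗ[F] V} (hg : g ∈ K) {x : V}
    (hx : x ∈ fix K) : g x ∈ fix K := by
  rw [hx g hg]; exact hx

/-- `X` is `K`-invariant. -/
def Inv (K : Subgroup (V ≃ₗ[F] V)) (X : Submodule F V) : Prop := ∀ g ∈ K, ∀ x ∈ X, g x ∈ X

theorem inv_comm (K : Subgroup (V ≃ₗ[F] V)) : Inv K (comm K) := fun _ hg _ hx => map_mem_comm hg hx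

theorem inv_fix (K : Subgroup (V ≃ₗ[F] V)) : Inv K (fix K) := fun _ hg _ hx => map_mem_fix hg hx

end general

section prime

variable {p : ℕ} [Fact p.Prime] {V : Type*} [AddCommGroup V] [Module (ZMod p) V]

/-- `Φ_u(K)`: all `φ` with `φ u = 0` and `tv φ u ∈ K`; a subspace because the field is prime. -/
def Phi (K : Subgroup (V ≃ₗ[ZMod p] V)) (u : V) : Submodule (ZMod p) (Dual (ZMod p) V) where
  carrier := {φ | φ u = 0 ∧ tv φ u ∈ K}
  add_mem' := by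
    rintro φ ψ ⟨h1, h2⟩ ⟨h3, h4⟩
    refine ⟨by simp [h1, h3], ?_⟩
    rw [tv_add_left h1 h3]
    exact K.mul_mem h2 h4
  zero_mem' := ⟨by simp, by simp⟩
  smul_mem' := by
    rintro c φ ⟨h1, h2⟩
    refine ⟨by simp [h1], ?_⟩
    have hc : c • φ = (c.val : ℕ) • φ := by
      conv_lhs => rw [← ZMod.natCast_zmod_val c]
      rw [Nat.cast_smul_eq_nsmul]
    rw [hc, ← tv_pow h1]
    exact K.pow_mem h2 _

theorem mem_Phi {K : Subgroup (V ≃ₗ[ZMod p] V)} {u : V} {φ : Dual (ZMod p) V} :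
    φ ∈ Phi K u ↔ φ u = 0 ∧ tv φ u ∈ K := Iff.rfl

/-- `W_u(K)`: the common kernel of `Φ_u(K)`. -/
def Wsp (K : Subgroup (V ≃ₗ[ZMod p] V)) (u : V) : Submodule (ZMod p) V :=
  (Phi K u).dualCoannihilator

theorem mem_Wsp {K : Subgroup (V ≃ₗ[ZMod p] V)} {u x : V} :
    x ∈ Wsp K u ↔ ∀ φ ∈ Phi K u, φ x = 0 := by
  rw [Wsp, Submodule.mem_dualCoannihilator]

theorem self_mem_Wsp (K : Subgroup (V ≃ₗ[ZMod p] V)) (u : V) : u ∈ Wsp K u :=
  mem_Wsp.2 fun _ h => h.1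

theorem notMem_Wsp {K : Subgroup (V ≃ₗ[ZMod p] V)} {u x : V} :
    x ∉ Wsp K u ↔ ∃ φ ∈ Phi K u, φ x ≠ 0 := by
  rw [mem_Wsp]; push Not; rfl

/-- `u` is the centre of a nontrivial transvection of `K`. -/
def IsCenter (K : Subgroup (V ≃ₗ[ZMod p] V)) (u : V) : Prop := u ≠ 0 ∧ Phi K u ≠ ⊥

theorem isCenter_iff {K : Subgroup (V ≃ₗ[ZMod p] V)} {u : V} :
    IsCenter K u ↔ u ≠ 0 ∧ ∃ φ ∈ Phi K u, φ ≠ 0 := by
  rw [IsCenter, Submodule.ne_bot_iff]

theorem Phi_smul {K : Subgroup (V ≃ₗ[ZMod p] V)} {c : ZMod p} (hc : c ≠ 0) (u : V) :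
    Phi K (c • u) = Phi K u := by
  ext φ
  simp only [mem_Phi, map_smul, smul_eq_mul, mul_eq_zero, hc, false_or]
  constructor
  · rintro ⟨h1, h2⟩
    refine ⟨h1, ?_⟩
    have : tv φ u = tv (c⁻¹ • φ) (c • u) := by
      rw [tv_smul_left, smul_smul, inv_mul_cancel₀ hc, one_smul]
    rw [this]
    have h3 : (c⁻¹ • φ) ∈ Phi K (c • u) := (Phi K (c • u)).smul_mem _ ⟨by simp [h1], h2⟩
    exact h3.2
  · rintro ⟨h1, h2⟩
    refine ⟨h1, ?_⟩
    rw [← tv_smul_left]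
    exact ((Phi K u).smul_mem c ⟨h1, h2⟩).2

theorem Wsp_smul {K : Subgroup (V ≃ₗ[ZMod p] V)} {c : ZMod p} (hc : c ≠ 0) (u : V) :
    Wsp K (c • u) = Wsp K u := by
  rw [Wsp, Wsp, Phi_smul hc]

theorem IsCenter.smul {K : Subgroup (V ≃ₗ[ZMod p] V)} {u : V} (hu : IsCenter K u) {c : ZMod p}
    (hc : c ≠ 0) : IsCenter K (c • u) :=
  ⟨smul_ne_zero hc hu.1, by rw [Phi_smul hc]; exact hu.2⟩

/-- equivariance: `Φ_{g u} = Φ_u ∘ g⁻¹`. -/
theorem mem_Phi_map {K : Subgroup (V ≃ₗ[ZMod p] V)} {g : V ≃ₗ[ZMod p] V} (hg : g ∈ K) {u : V}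
    {φ : Dual (ZMod p) V} :
    φ ∘ₗ (g.symm : V →ₗ[ZMod p] V) ∈ Phi K (g u) ↔ φ ∈ Phi K u := by
  simp only [mem_Phi, LinearMap.comp_apply, LinearEquiv.coe_coe, LinearEquiv.symm_apply_apply]
  rw [← conj_tv]
  constructor
  · rintro ⟨h1, h2⟩
    refine ⟨h1, ?_⟩
    have := K.mul_mem (K.mul_mem (K.inv_mem hg) h2) hg
    simpa [mul_assoc] using this
  · rintro ⟨h1, h2⟩
    exact ⟨h1, K.mul_mem (K.mul_mem hg h2) (K.inv_mem hg)⟩

/-- the linear equivalence `Φ_u ≃ Φ_{g u}`, `φ ↦ φ ∘ g⁻¹`. -/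
noncomputable def PhiEquiv {K : Subgroup (V ≃ₗ[ZMod p] V)} {g : V ≃ₗ[ZMod p] V} (hg : g ∈ K) (u : V) :
    Phi K u ≃ₗ[ZMod p] Phi K (g u) where
  toFun φ := ⟨(φ : Dual (ZMod p) V) ∘ₗ (g.symm : V →ₗ[ZMod p] V), (mem_Phi_map hg).2 φ.2⟩
  map_add' := by intro a b; ext; simp
  map_smul' := by intro c a; ext; simp
  invFun ψ := ⟨(ψ : Dual (ZMod p) V) ∘ₗ (g : V →ₗ[ZMod p] V), by
    have h := ψ.2
    have : (ψ : Dual (ZMod p) V) =
        ((ψ : Dual (ZMod p) V) ∘ₗ (g : V →ₗ[ZMod p] V)) ∘ₗ (g.symm : V →ₗ[ZMod p] V) := by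
      ext x; simp
    rw [this] at h
    exact (mem_Phi_map hg).1 h⟩
  left_inv := by intro a; ext; simp
  right_inv := by intro a; ext; simp

theorem finrank_Phi_map {K : Subgroup (V ≃ₗ[ZMod p] V)} {g : V ≃ₗ[ZMod p] V} (hg : g ∈ K) (u : V) :
    finrank (ZMod p) (Phi K (g u)) = finrank (ZMod p) (Phi K u) :=
  (LinearEquiv.finrank_eq (PhiEquiv hg u)).symm

theorem mem_Wsp_map {K : Subgroup (V ≃ₗ[ZMod p] V)} {g : V ≃ₗ[ZMod p] V} (hg : g ∈ K) {u x : V} :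
    g x ∈ Wsp K (g u) ↔ x ∈ Wsp K u := by
  rw [mem_Wsp, mem_Wsp]
  constructor
  · intro h φ hφ
    have := h _ ((mem_Phi_map hg).2 hφ)
    simpa using this
  · intro h ψ hψ
    have h1 : (ψ : Dual (ZMod p) V) =
        ((ψ : Dual (ZMod p) V) ∘ₗ (g : V →ₗ[ZMod p] V)) ∘ₗ (g.symm : V →ₗ[ZMod p] V) := by
      ext x; simp
    rw [h1] at hψ
    have := h _ ((mem_Phi_map hg).1 hψ)
    simpa using this

theorem IsCenter.map {K : Subgroup (V ≃ₗ[ZMod p] V)} {u : V} (hu : IsCenter K u)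
    {g : V ≃ₗ[ZMod p] V} (hg : g ∈ K) : IsCenter K (g u) := by
  obtain ⟨h0, φ, hφ, hne⟩ := isCenter_iff.1 hu
  refine isCenter_iff.2 ⟨by simpa using h0, _, (mem_Phi_map hg).2 hφ, ?_⟩
  intro h
  apply hne
  ext x
  have := congrArg (fun ψ : Dual (ZMod p) V => ψ (g x)) h
  simpa using this

/-- the transvection with `φ ∈ Φ_u` lies in `K`. -/
theorem tv_mem {K : Subgroup (V ≃ₗ[ZMod p] V)} {u : V} {φ : Dual (ZMod p) V} (h : φ ∈ Phi K u) :
    tv φ u ∈ K := h.2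

/-- centres lie in `[V,K]`. -/
theorem IsCenter.mem_comm {K : Subgroup (V ≃ₗ[ZMod p] V)} {u : V} (hu : IsCenter K u) :
    u ∈ comm K := by
  obtain ⟨-, φ, hφ, hne⟩ := isCenter_iff.1 hu
  obtain ⟨x, hx⟩ : ∃ x, φ x ≠ 0 := by
    by_contra hall
    push Not at hall
    exact hne (LinearMap.ext hall)
  have h1 := sub_mem_comm hφ.2 x
  rw [tv_apply hφ.1] at h1
  have h2 : φ x • u ∈ comm K := by simpa using h1
  have := (comm K).smul_mem (φ x)⁻¹ h2
  rwa [smul_smul, inv_mul_cancel₀ hx, one_smul] at this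

/-- `C_V(K) ≤ W_u`. -/
theorem fix_le_Wsp (K : Subgroup (V ≃ₗ[ZMod p] V)) {u : V} (hu : u ≠ 0) : fix K ≤ Wsp K u := by
  intro x hx
  rw [mem_Wsp]
  intro φ hφ
  have h1 := hx _ hφ.2
  rw [tv_apply hφ.1] at h1
  have h2 : φ x • u = 0 := by simpa using h1
  rcases smul_eq_zero.1 h2 with h | h
  · exact h
  · exact absurd h hu

/-- The hypotheses of the "quasi-irreducible" analysis. -/
structure QHyp (K : Subgroup (V ≃ₗ[ZMod p] V)) : Prop where
  /-- `K` is generated by its transvections -/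
  gen : Subgroup.closure {g | g ∈ K ∧ IsTv g} = K
  /-- every `K`-invariant subspace contains `[V,K]` or lies in `C_V(K)` -/
  q1 : ∀ X : Submodule (ZMod p) V, Inv K X → comm K ≤ X ∨ X ≤ fix K
  /-- `K` acts faithfully on `[V,K]` modulo `C_V(K)` -/
  q3 : ∀ g ∈ K, (∀ x ∈ comm K, g x - x ∈ fix K) → g = 1

/-- the hypotheses of the irreducible analysis: `QHyp` and `[V,K] = V`. -/
structure MHyp (K : Subgroup (V ≃ₗ[ZMod p] V)) : Prop where
  q : QHyp K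
  top : comm K = ⊤

/-- a set of group elements that cannot be split into two commuting parts. -/
def Indec (Y : Set (V ≃ₗ[ZMod p] V)) : Prop :=
  ∀ P : Set (V ≃ₗ[ZMod p] V),
    (∀ s ∈ Y, ∀ t ∈ Y, s ∈ P → t ∉ P → s * t = t * s) → (∀ t ∈ Y, t ∈ P) ∨ (∀ t ∈ Y, t ∉ P)

/-- `K` has no nontrivial normal `p`-subgroup. -/
def NoNormalP (K : Subgroup (V ≃ₗ[ZMod p] V)) : Prop :=
  ∀ N : Subgroup (V ≃ₗ[ZMod p] V), N ≤ K → (∀ g ∈ K, ∀ n ∈ N, g * n * g⁻¹ ∈ N) →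
    IsPGroup p N → N = ⊥

end prime

end Cfsg.Agent.Helper4.McL
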