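import Mathlib
import Cfsg.Agent.Lib.Helper20.SchDefs

/-!
# S4395 piece SCH-DER (core): the `X`-level facts about `N = derSub P`, with the five SCH-ACT
statements taken as hypotheses.
-/

set_option autoImplicit false

namespace Cfsg.Agent.Helper20.Sch

open scoped commutatorElement

/-- `derSub P = ⁅P, P⁆`. -/
theorem sch_der_eq {X : Type*} [Group X] (P : Subgroup X) : derSub P = ⁅P, P⁆ := by
  unfold derSub
  exact Subgroup.map_subtype_commutator P

theorem sch_der_le {X : Type*} [Group X] (P : Subgroup X) : derSub P ≤ P := by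
  unfold derSub
  exact Subgroup.map_subtype_le _

theorem sch_der_mem_iff {X : Type*} [Group X] (P : Subgroup X) (u : ↥P) :
    (u : X) ∈ derSub P ↔ u ∈ commutator ↥P := by
  unfold derSub
  constructor
  · rintro ⟨v, hv, hvu⟩
    have : v = u := Subtype.ext hvu
    rwa [← this]
  · intro hu
    exact ⟨u, hu, rfl⟩

theorem sch_der_comm_mem {X : Type*} [Group X] (P : Subgroup X) (u v : X) (hu : u ∈ P)
    (hv : v ∈ P) : u * v * u⁻¹ * v⁻¹ ∈ derSub P := by
  rw [sch_der_eq]
  exact Subgroup.commutator_mem_commutator hu hv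

/-- If `N = derSub P` is central in `X` and `H ⊔ N = ⊤`, then `H = ⊤`. -/
theorem sch_der_nongen {X : Type*} [Group X] (P : Subgroup X)
    (hc : derSub P ≤ Subgroup.center X) (H : Subgroup X) (hH : H ⊔ derSub P = ⊤) : H = ⊤ := by
  -- every element is `h * n`
  have hdec : ∀ x : X, ∃ h ∈ H, ∃ n ∈ derSub P, x = h * n := by
    intro x
    have hx : x ∈ H ⊔ derSub P := by rw [hH]; trivial
    have hN : (derSub P) ≤ Subgroup.center X := hc
    -- use `mem_sup` for commuting subgroups: derSub P is central hence normal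
    have : (derSub P).Normal := by
      constructor
      intro n hn g
      have := (Subgroup.mem_center_iff.mp (hN hn)) g
      have h2 : g * n * g⁻¹ = n := by rw [this]; group
      rw [h2]; exact hn
    rw [Subgroup.mem_sup_of_normal_right] at hx
    obtain ⟨h, hh, n, hn, rfl⟩ := hx
    exact ⟨h, hh, n, hn, rfl⟩
  have hle : derSub P ≤ H := by
    rw [sch_der_eq, Subgroup.commutator_le]
    intro u hu v hv
    obtain ⟨h, hh, n, hn, rfl⟩ := hdec u
    obtain ⟨h', hh', n', hn', rfl⟩ := hdec v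
    have c1 := Subgroup.mem_center_iff.mp (hc hn)
    have c2 := Subgroup.mem_center_iff.mp (hc hn')
    have : ⁅h * n, h' * n'⁆ = ⁅h, h'⁆ := by
      rw [commutatorElement_def, commutatorElement_def]
      have e1 : (h * n)⁻¹ = h⁻¹ * n⁻¹ := by
        rw [mul_inv_rev]
        have := c1 h⁻¹
        -- h⁻¹ * n = n * h⁻¹  ⇒ n⁻¹ * h⁻¹ = h⁻¹ * n⁻¹
        calc n⁻¹ * h⁻¹ = n⁻¹ * (h⁻¹ * n) * n⁻¹ := by group
          _ = n⁻¹ * (n * h⁻¹) * n⁻¹ := by rw [this]
          _ = h⁻¹ * n⁻¹ := by group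
      have e2 : (h' * n')⁻¹ = h'⁻¹ * n'⁻¹ := by
        rw [mul_inv_rev]
        have := c2 h'⁻¹
        calc n'⁻¹ * h'⁻¹ = n'⁻¹ * (h'⁻¹ * n') * n'⁻¹ := by group
          _ = n'⁻¹ * (n' * h'⁻¹) * n'⁻¹ := by rw [this]
          _ = h'⁻¹ * n'⁻¹ := by group
      rw [e1, e2]
      -- move n, n' out
      have a1 : h * n * (h' * n') * (h⁻¹ * n⁻¹) * (h'⁻¹ * n'⁻¹)
          = h * (n * h') * (n' * h⁻¹) * (n⁻¹ * h'⁻¹) * n'⁻¹ := by group
      rw [a1, ← c1 h', ← c2 h⁻¹]
      have c1' : n⁻¹ * h'⁻¹ = h'⁻¹ * n⁻¹ := by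
        have := c1 h'⁻¹
        calc n⁻¹ * h'⁻¹ = n⁻¹ * (h'⁻¹ * n) * n⁻¹ := by group
          _ = n⁻¹ * (n * h'⁻¹) * n⁻¹ := by rw [this]
          _ = h'⁻¹ * n⁻¹ := by group
      rw [c1']
      have a2 : h * (h' * n) * (h⁻¹ * n') * (h'⁻¹ * n⁻¹) * n'⁻¹
          = h * h' * (n * h⁻¹) * (n' * h'⁻¹) * n⁻¹ * n'⁻¹ := by group
      rw [a2, ← c1 h⁻¹, ← c2 h'⁻¹]
      have a3 : h * h' * (h⁻¹ * n) * (h'⁻¹ * n') * n⁻¹ * n'⁻¹
          = h * h' * h⁻¹ * (n * h'⁻¹) * (n' * n⁻¹) * n'⁻¹ := by group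
      rw [a3, ← c1 h'⁻¹, ← c2 n⁻¹]
      group
    rw [this]
    exact Subgroup.commutator_le_self H (Subgroup.commutator_mem_commutator hh hh')
  rw [← hH]
  exact (sup_eq_left.mpr hle).symm

/-- SCH-DER core: the SCH-ACT statements as hypotheses. -/
theorem sch_der_core {p : ℕ} {X : Type*} [Group X] (P : Subgroup X) [P.Normal] (y : X)
    (hsup : P ⊔ Subgroup.zpowers y = ⊤)
    (h1 : commutator ↥P ≤ Subgroup.center ↥P)
    (h2 : ∀ v : ↥P, v ^ p ∈ commutator ↥P)
    (h3 : ∀ H : Subgroup ↥P, commutator ↥P ≤ H → H ≠ ⊤ →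
      (∀ x ∈ H, (MulAut.conjNormal y : MulAut ↥P) x ∈ H) → H ≤ commutator ↥P)
    (h4 : ∀ z ∈ commutator ↥P, (MulAut.conjNormal y : MulAut ↥P) z = z)
    (h5 : ∃ v : ↥P, v⁻¹ * (MulAut.conjNormal y : MulAut ↥P) v ∉ commutator ↥P) :
    (derSub P).Normal ∧ derSub P ≤ Subgroup.center X ∧ derSub P ≤ P ∧
    (∀ u ∈ P, u ^ p ∈ derSub P) ∧
    (∀ u ∈ P, ∀ v ∈ P, u * v * u⁻¹ * v⁻¹ ∈ derSub P) ∧
    (∀ H : Subgroup X, derSub P ≤ H → H ≤ P → H ≠ P → (∀ x ∈ H, y * x * y⁻¹ ∈ H) →
      H = derSub P) ∧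
    (∃ u ∈ P, u⁻¹ * (y * u * y⁻¹) ∉ derSub P) ∧
    (∀ H : Subgroup X, H ⊔ derSub P = ⊤ → H = ⊤) := by
  have hcen : derSub P ≤ Subgroup.center X := by
    intro z hz
    have hzP : z ∈ P := sch_der_le P hz
    have hzc : (⟨z, hzP⟩ : ↥P) ∈ commutator ↥P := (sch_der_mem_iff P ⟨z, hzP⟩).mp hz
    -- the centralizer of z contains P and y
    have hcent : (⊤ : Subgroup X) ≤ Subgroup.centralizer {z} := by
      rw [← hsup, sup_le_iff]
      constructor
      · intro u hu
        rw [Subgroup.mem_centralizer_singleton_iff]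
        have := Subgroup.mem_center_iff.mp (h1 hzc) ⟨u, hu⟩
        have := congrArg Subtype.val this
        simpa using this
      · rw [Subgroup.zpowers_le]
        rw [Subgroup.mem_centralizer_singleton_iff]
        have := h4 _ hzc
        have := congrArg Subtype.val this
        rw [MulAut.conjNormal_apply] at this
        simp only at this
        -- y * z * y⁻¹ = z
        calc y * z = y * z * y⁻¹ * y := by group
          _ = z * y := by rw [this]
    rw [Subgroup.mem_center_iff]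
    intro g
    have hg : g ∈ Subgroup.centralizer {z} := hcent (Subgroup.mem_top g)
    rw [Subgroup.mem_centralizer_singleton_iff] at hg
    exact hg
  refine ⟨?_, hcen, sch_der_le P, ?_, fun u hu v hv => sch_der_comm_mem P u v hu hv, ?_, ?_,
    fun H hH => sch_der_nongen P hcen H hH⟩
  · rw [sch_der_eq]
    exact Subgroup.commutator_normal P P
  · intro u hu
    have := h2 ⟨u, hu⟩
    rw [← sch_der_mem_iff] at this
    simpa using this
  · intro H hNH hHP hne hinv
    refine le_antisymm ?_ hNH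
    have key := h3 (H.subgroupOf P) ?_ ?_ ?_
    · intro x hx
      have hxP : x ∈ P := hHP hx
      have : (⟨x, hxP⟩ : ↥P) ∈ commutator ↥P := key (by
        rw [Subgroup.mem_subgroupOf]; exact hx)
      exact (sch_der_mem_iff P ⟨x, hxP⟩).mpr this
    · intro u hu
      rw [Subgroup.mem_subgroupOf]
      exact hNH ((sch_der_mem_iff P u).mpr hu)
    · intro htop
      apply hne
      refine le_antisymm hHP ?_
      rw [Subgroup.subgroupOf_eq_top] at htop
      exact htop
    · intro x hx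
      rw [Subgroup.mem_subgroupOf] at hx ⊢
      rw [MulAut.conjNormal_apply]
      exact hinv _ hx
  · obtain ⟨v, hv⟩ := h5
    refine ⟨v, v.2, ?_⟩
    intro hmem
    apply hv
    rw [← sch_der_mem_iff]
    simpa [MulAut.conjNormal_apply] using hmem

end Cfsg.Agent.Helper20.Sch
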