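import Mathlib
import Cfsg.Prelude.Def_Transfer
import Cfsg.Agent.Lib.Helper20.SchDefs
import Cfsg.Agent.Lib.Helper22.SchPLDefs
import Cfsg.Agent.Lib.Helper24.SchACT
import Cfsg.Agent.Lib.Helper4.SchDERCore

/-!
# S4395 piece SCH-DER: the `X`-level facts about `N = derSub P` (wrapper of `sch_der_core`
with the SCH-ACT theorems).
-/

set_option autoImplicit false

namespace Cfsg.Agent.Helper20.Sch

open Cfsg.Agent.Helper22.SchPL (SchAct)

universe u

variable {p q : ℕ} [Fact p.Prime] [Fact q.Prime]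

section structure_

/-- SCH-DER : the X-level facts about `N = derSub P`. -/
theorem derSub_facts {X : Type*} [Group X] [Finite X] (P : Subgroup X) [P.Normal] (y : X)
    (hPp : IsPGroup p P) (hsup : P ⊔ Subgroup.zpowers y = ⊤)
    (hact : SchAct p q ↥P (MulAut.conjNormal y)) :
    (derSub P).Normal ∧ derSub P ≤ Subgroup.center X ∧ derSub P ≤ P ∧
    (∀ u ∈ P, u ^ p ∈ derSub P) ∧
    (∀ u ∈ P, ∀ v ∈ P, u * v * u⁻¹ * v⁻¹ ∈ derSub P) ∧
    (∀ H : Subgroup X, derSub P ≤ H → H ≤ P → H ≠ P → (∀ x ∈ H, y * x * y⁻¹ ∈ H) →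
      H = derSub P) ∧
    (∃ u ∈ P, u⁻¹ * (y * u * y⁻¹) ∉ derSub P) ∧
    (∀ H : Subgroup X, H ⊔ derSub P = ⊤ → H = ⊤) :=
  sch_der_core P y hsup (SchAct.commutator_le_center hact hPp)
    (fun v => SchAct.pow_mem_commutator hact hPp v)
    (fun H hH hne hinv => SchAct.le_commutator_of_invariant hact hPp H hH hne hinv)
    (SchAct.fix_commutator hact hPp) (SchAct.exists_not_mem_commutator hact hPp)

end structure_

end Cfsg.Agent.Helper20.Sch
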