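import Mathlib
import Cfsg.Agent.Lib.Helper20.GL4SubDefs
import Cfsg.Agent.S0497

set_option autoImplicit false

/-! Piece FIN360 of S2553: a subgroup of the alternating group of degree 8 that embeds in the
symmetric group of degree 6 and contains a simple subgroup of order 360 is the alternating or the
symmetric group of degree 6. -/

namespace Cfsg.Agent.Helper20.GL4Sub

/-- FIN360 -/
theorem id360_of_embed (S K : Subgroup A8) (hSK : S ≤ K) (hS : IsSimpleGroup S)
    (h : Nat.card S = 360) (f : K →* Equiv.Perm (Fin 6)) (hf : Function.Injective f) :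
    Nonempty (K ≃* alternatingGroup (Fin 6)) ∨ Nonempty (K ≃* Equiv.Perm (Fin 6)) := by
  have h1 : Nat.card S ∣ Nat.card K := Subgroup.card_dvd_of_le hSK
  have hperm : Nat.card (Equiv.Perm (Fin 6)) = 720 := by
    rw [Nat.card_eq_fintype_card, Fintype.card_perm, Fintype.card_fin]; decide
  have h2 : Nat.card K ∣ 720 := by
    have := Subgroup.card_dvd_of_injective f hf
    rwa [hperm] at this
  rw [h] at h1
  have hpos : 0 < Nat.card K := Nat.card_pos
  have hcases : Nat.card K = 360 ∨ Nat.card K = 720 := by
    obtain ⟨a, ha⟩ := h1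
    obtain ⟨b, hb⟩ := h2
    have hab : a * b = 2 := by
      have : 360 * (a * b) = 360 * 2 := by rw [ha] at hb; rw [← mul_assoc, ← hb]
      omega
    have ha2 : a ∣ 2 := ⟨b, hab.symm⟩
    have hale : a ≤ 2 := Nat.le_of_dvd (by norm_num) ha2
    interval_cases a
    · omega
    · left; omega
    · right; omega
  rcases hcases with hc | hc
  · left
    have hKS : K = S := by
      apply le_antisymm _ hSK
      have : S = K := Subgroup.eq_of_le_of_card_ge hSK (by rw [hc, h])
      exact this ▸ le_refl _
    subst hKS
    exact Cfsg.Agent.S0497.result h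
  · right
    have hbij : Function.Bijective f :=
      (Nat.bijective_iff_injective_and_card f).2 ⟨hf, by rw [hc, hperm]⟩
    exact ⟨MulEquiv.ofBijective f hbij⟩

end Cfsg.Agent.Helper20.GL4Sub
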