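import Mathlib
import Cfsg.Agent.Lib.Helper20.GL4SubDefs
import Cfsg.Agent.Lib.Helper27.A7GL4b
import Cfsg.Agent.S0256

set_option autoImplicit false

/-! Piece ISO of S2553: the 4-dimensional general linear group over the field with two elements
is isomorphic to the alternating group of degree 8. -/

namespace Cfsg.Agent.Helper20.GL4Sub

namespace ISO

theorem card_GL4 : Nat.card (GL (Fin 4) (ZMod 2)) = 20160 := by
  rw [Matrix.card_GL_field, ZMod.card, Fin.prod_univ_four]
  norm_num

end ISO

/-- ISO -/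
theorem gl4_iso : Nonempty (GL (Fin 4) (ZMod 2) ≃* A8) := by
  have hF : Fintype.card (ZMod 2) = 2 := ZMod.card 2
  obtain ⟨e⟩ := Cfsg.Agent.S0256.result (F := ZMod 2) hF
  let φ : A8 →* GL (Fin 4) (ZMod 2) :=
    (Cfsg.Agent.Helper27.A7GL4.pslToGL hF).comp e.symm.toMonoidHom
  have hinj : Function.Injective φ := by
    change Function.Injective ((Cfsg.Agent.Helper27.A7GL4.pslToGL hF) ∘ e.symm)
    exact (Cfsg.Agent.Helper27.A7GL4.pslToGL_injective hF).comp e.symm.injective
  have hbij : Function.Bijective φ :=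
    (Nat.bijective_iff_injective_and_card φ).2 ⟨hinj, by rw [card_A8, ISO.card_GL4]⟩
  exact ⟨(MulEquiv.ofBijective φ hbij).symm⟩

end Cfsg.Agent.Helper20.GL4Sub
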