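import Mathlib
import Cfsg.Agent.Lib.Helper20.GL4SubDefs

set_option autoImplicit false

/-! Piece ORD15 of S2553: a permutation of 8 points with a fixed point does not have order 15. -/

namespace Cfsg.Agent.Helper20.GL4Sub

namespace ORD15

/-- if a prime divides the lcm of a multiset of naturals, it divides a member -/
theorem exists_dvd_of_dvd_lcm {p : ℕ} (hp : p.Prime) (m : Multiset ℕ) (h : p ∣ m.lcm) :
    ∃ a ∈ m, p ∣ a := by
  induction m using Multiset.induction_on with
  | empty =>
    rw [Multiset.lcm_zero] at h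
    exact absurd (Nat.dvd_one.1 h) hp.one_lt.ne'
  | cons a s ih =>
    rw [Multiset.lcm_cons] at h
    have h' : p ∣ Nat.lcm a s.lcm := h
    rcases (Nat.Prime.dvd_mul hp).1 (dvd_trans h' (Nat.lcm_dvd_mul a s.lcm)) with h1 | h1
    · exact ⟨a, Multiset.mem_cons_self a s, h1⟩
    · obtain ⟨b, hb, hpb⟩ := ih h1
      exact ⟨b, Multiset.mem_cons_of_mem hb, hpb⟩

/-- two distinct members of a multiset of naturals add up to at most the sum -/
theorem add_le_sum_of_ne (m : Multiset ℕ) {a b : ℕ} (ha : a ∈ m) (hb : b ∈ m) (hab : a ≠ b) :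
    a + b ≤ m.sum := by
  obtain ⟨t, rfl⟩ := Multiset.exists_cons_of_mem ha
  have hb' : b ∈ t := by
    rcases Multiset.mem_cons.1 hb with h | h
    · exact absurd h.symm hab
    · exact h
  obtain ⟨u, rfl⟩ := Multiset.exists_cons_of_mem hb'
  rw [Multiset.sum_cons, Multiset.sum_cons]
  omega

end ORD15

/-- ORD15 -/
theorem noFix15 : NoFix15 := by
  intro g x hx h15
  have hlcm : g.cycleType.lcm = 15 := by rw [Equiv.Perm.lcm_cycleType, h15]
  have hsum : g.cycleType.sum ≤ 7 := by
    rw [Equiv.Perm.sum_cycleType]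
    have hnot : x ∉ g.support := by
      rw [Equiv.Perm.mem_support]; exact not_not.2 hx
    have hsub : g.support ⊆ Finset.univ.erase x := by
      intro y hy
      rw [Finset.mem_erase]
      exact ⟨fun h => hnot (h ▸ hy), Finset.mem_univ _⟩
    have := Finset.card_le_card hsub
    rw [Finset.card_erase_of_mem (Finset.mem_univ x), Finset.card_univ, Fintype.card_fin] at this
    omega
  obtain ⟨a, ha, h3a⟩ := ORD15.exists_dvd_of_dvd_lcm Nat.prime_three g.cycleType
    (by rw [hlcm]; norm_num)
  obtain ⟨b, hb, h5b⟩ := ORD15.exists_dvd_of_dvd_lcm Nat.prime_five g.cycleType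
    (by rw [hlcm]; norm_num)
  have ha2 : 2 ≤ a := Equiv.Perm.two_le_of_mem_cycleType ha
  have hb2 : 2 ≤ b := Equiv.Perm.two_le_of_mem_cycleType hb
  have ha3 : 3 ≤ a := Nat.le_of_dvd (by omega) h3a
  have hb5 : 5 ≤ b := Nat.le_of_dvd (by omega) h5b
  by_cases hab : a = b
  · subst hab
    have h15a : 15 ∣ a := by
      have : Nat.Coprime 3 5 := by norm_num
      exact this.mul_dvd_of_dvd_of_dvd h3a h5b
    have h15le : 15 ≤ a := Nat.le_of_dvd (by omega) h15a
    have hle : a ≤ g.cycleType.sum := Multiset.single_le_sum (fun _ _ => Nat.zero_le _) a ha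
    omega
  · have := ORD15.add_le_sum_of_ne g.cycleType ha hb hab
    omega

end Cfsg.Agent.Helper20.GL4Sub
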