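import Mathlib

/-!
# S4705 piece V2 (helper23's farm-out): `two_elements`

Every `2`-element has its square in the centre, and value `-1` if it is not central.
-/

set_option autoImplicit false
set_option linter.unusedSectionVars false
set_option linter.unusedVariables false

namespace Cfsg.Agent.Helper23.B2

universe u

variable {G : Type u} [Group G] [Fintype G]

namespace V2

/-- integer solutions of `(v + 1) (v - (p - 2)) = 0` -/
theorem int_case_one {p n : ℤ} (h : n ^ 2 - (p - 3) * n = p - 2) : n = -1 ∨ n = p - 2 := by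
  have h1 : (n + 1) * (n - (p - 2)) = 0 := by ring_nf; ring_nf at h; linarith
  rcases mul_eq_zero.1 h1 with h2 | h2
  · left; linarith
  · right; linarith

/-- `v (v - (p - 3)) = -1` has no integer solution for `p > 5` -/
theorem int_case_two {p n : ℤ} (hp : 5 < p) (h : n ^ 2 - (p - 3) * n = -1) : False := by
  have h1 : n * (-(n - (p - 3))) = 1 := by ring_nf; ring_nf at h; linarith
  have hu : IsUnit n := IsUnit.of_mul_eq_one _ h1
  rcases Int.isUnit_iff.1 hu with h2 | h2
  · subst h2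
    have : p = 5 := by linarith
    omega
  · subst h2
    have : p = 1 := by linarith
    omega

theorem orderOf_sq {x : G} {i : ℕ} (hx : orderOf x = 2 ^ (i + 1)) : orderOf (x * x) = 2 ^ i := by
  have h1 : x * x = x ^ 2 := (pow_two x).symm
  rw [h1, orderOf_pow' x two_ne_zero, hx]
  have h2 : Nat.gcd (2 ^ (i + 1)) 2 = 2 := Nat.gcd_eq_right (dvd_pow_self 2 (Nat.succ_ne_zero i))
  rw [h2, pow_succ, Nat.mul_div_cancel _ (by norm_num : 0 < 2)]

end V2

variable {p : ℕ} [Fact p.Prime]

/-- PIECE V2 (§4): every `2`-element has its square in the centre, and value `-1` if it is not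
central. -/
theorem two_elements (hp : 5 < p) (f : G → ℂ) (hdeg : f 1 = (p : ℂ) - 2)
    (hFE : ∀ x : G, (∃ i : ℕ, orderOf x = 2 ^ i) → f (x * x) = f x ^ 2 - ((p : ℂ) - 3) * f x)
    (hint : ∀ x : G, (∃ i : ℕ, orderOf x = 2 ^ i) → ∃ n : ℤ, f x = (n : ℂ))
    (hcen : ∀ g : G, ‖f g‖ = (p : ℝ) - 2 → g ∈ Subgroup.center G)
    (htwo : ∀ z ∈ Subgroup.center G, (∃ k : ℕ, orderOf z = 2 ^ k) → f z = f 1)
    {x : G} (hx : ∃ i : ℕ, orderOf x = 2 ^ i) :
    x * x ∈ Subgroup.center G ∧ (x ∉ Subgroup.center G → f x = -1) := by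
  obtain ⟨i, hi⟩ := hx
  induction i generalizing x with
  | zero =>
    have hx1 : x = 1 := by
      rw [pow_zero] at hi
      exact orderOf_eq_one_iff.1 hi
    subst hx1
    refine ⟨by rw [mul_one]; exact Subgroup.one_mem _, fun h => absurd (Subgroup.one_mem _) h⟩
  | succ i ih =>
    have hy : orderOf (x * x) = 2 ^ i := V2.orderOf_sq hi
    obtain ⟨_, ihy⟩ := ih hy
    obtain ⟨n, hn⟩ := hint x ⟨i + 1, hi⟩
    have hfe := hFE x ⟨i + 1, hi⟩
    have hp5 : (5 : ℤ) < (p : ℤ) := by exact_mod_cast hp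
    have hyZ : x * x ∈ Subgroup.center G := by
      by_contra hnot
      have h1 := ihy hnot
      rw [h1, hn] at hfe
      have h2 : n ^ 2 - ((p : ℤ) - 3) * n = -1 := by
        have : ((n ^ 2 - ((p : ℤ) - 3) * n : ℤ) : ℂ) = ((-1 : ℤ) : ℂ) := by
          push_cast
          rw [← hfe]
        exact_mod_cast this
      exact V2.int_case_two hp5 h2
    refine ⟨hyZ, fun hxZ => ?_⟩
    have h1 : f (x * x) = f 1 := htwo (x * x) hyZ ⟨i, hy⟩
    rw [h1, hdeg, hn] at hfe
    have h2 : n ^ 2 - ((p : ℤ) - 3) * n = (p : ℤ) - 2 := by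
      have : ((n ^ 2 - ((p : ℤ) - 3) * n : ℤ) : ℂ) = (((p : ℤ) - 2 : ℤ) : ℂ) := by
        push_cast
        rw [← hfe]
      exact_mod_cast this
    rcases V2.int_case_one h2 with h3 | h3
    · rw [hn, h3]
      push_cast
      ring
    · exfalso
      apply hxZ
      apply hcen
      rw [hn, h3]
      have hc : (0 : ℝ) ≤ (p : ℝ) - 2 := by
        have : (5 : ℝ) < (p : ℝ) := by exact_mod_cast hp
        linarith
      have : (((p : ℤ) - 2 : ℤ) : ℂ) = (((p : ℝ) - 2 : ℝ) : ℂ) := by push_cast; ring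
      rw [this, Complex.norm_real, Real.norm_of_nonneg hc]

end Cfsg.Agent.Helper23.B2
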