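import Mathlib
import Cfsg.Agent.Lib.Helper23.S61Defs

/-!
# S2861 piece S61-DIH: the target statement for the dihedral groups `D_{2r}`, `r` an odd prime
-/

set_option autoImplicit false
set_option linter.unusedVariables false
set_option linter.unusedSectionVars false

namespace Cfsg.Agent.Helper23.S61

open Cfsg DihedralGroup

/-- `2 x = 0` forces `x = 0` in `ZMod r`, `r` an odd prime -/
theorem s61_dih_two_mul {r : ℕ} (hr : r.Prime) (hr2 : r ≠ 2) (x : ZMod r) (h : x + x = 0) :
    x = 0 := by
  have : Fact r.Prime := ⟨hr⟩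
  have h2 : (2 : ZMod r) ≠ 0 := by
    intro h0
    have h0' : ((2 : ℕ) : ZMod r) = 0 := by exact_mod_cast h0
    have hdvd : r ∣ 2 := (ZMod.natCast_eq_zero_iff 2 r).1 h0'
    exact hr2 ((Nat.prime_dvd_prime_iff_eq hr Nat.prime_two).1 hdvd)
  have h' : (2 : ZMod r) * x = 0 := by rw [two_mul]; exact h
  rcases mul_eq_zero.1 h' with h3 | h3
  · exact absurd h3 h2
  · exact h3

/-- an element of `D_{2r}` with square one is `1` or a reflection -/
theorem s61_dih_sq {r : ℕ} (hr : r.Prime) (hr2 : r ≠ 2) (a : DihedralGroup r) (ha : a ^ 2 = 1) :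
    a = 1 ∨ ∃ i : ZMod r, a = sr i := by
  cases a with
  | r i =>
    left
    rw [pow_two, r_mul_r, one_def] at ha
    have hi : i + i = 0 := by
      injection ha
    rw [s61_dih_two_mul hr hr2 i hi, one_def]
  | sr i => exact Or.inr ⟨i, rfl⟩

/-- commuting reflections of `D_{2r}` are equal -/
theorem s61_dih_comm_sr {r : ℕ} (hr : r.Prime) (hr2 : r ≠ 2) (i j : ZMod r)
    (h : (sr i : DihedralGroup r) * sr j = sr j * sr i) : i = j := by
  rw [sr_mul_sr, sr_mul_sr] at h
  have h1 : j - i = i - j := by injection h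
  have h2 : (i - j) + (i - j) = 0 := by
    have : (i - j) + (i - j) = (i - j) - (j - i) := by ring
    rw [this, h1, sub_self]
  exact sub_eq_zero.1 (s61_dih_two_mul hr hr2 _ h2)

/-- a rotation commuting with a reflection is trivial -/
theorem s61_dih_comm_r {r : ℕ} (hr : r.Prime) (hr2 : r ≠ 2) (i j : ZMod r)
    (h : (DihedralGroup.r j : DihedralGroup r) * sr i = sr i * DihedralGroup.r j) : j = 0 := by
  rw [r_mul_sr, sr_mul_r] at h
  have h1 : i - j = i + j := by injection h
  have h2 : j + j = 0 := by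
    have : j + j = (i + j) - (i - j) := by ring
    rw [this, h1, sub_self]
  exact s61_dih_two_mul hr hr2 _ h2

/-- a nontrivial elementary abelian `2`-subgroup of `D_{2r}` is `{1, sr i}` -/
theorem s61_dih_elemAb {r : ℕ} (hr : r.Prime) (hr2 : r ≠ 2) (Y : Subgroup (DihedralGroup r))
    (hY : IsElementaryAbelian 2 Y) (hne : Y ≠ ⊥) :
    ∃ i : ZMod r, sr i ∈ Y ∧ ∀ y ∈ Y, y = 1 ∨ y = sr i := by
  obtain ⟨hcomm, hexp⟩ := hY
  obtain ⟨y0, hy01⟩ := (Subgroup.ne_bot_iff_exists_ne_one).1 hne
  have hy0Y : (y0 : DihedralGroup r) ∈ Y := y0.2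
  have hy0ne : (y0 : DihedralGroup r) ≠ 1 := by
    intro h
    apply hy01
    exact Subtype.ext h
  rcases s61_dih_sq hr hr2 _ (hexp _ hy0Y) with h1 | ⟨i, hi⟩
  · exact absurd h1 hy0ne
  · refine ⟨i, hi ▸ hy0Y, ?_⟩
    intro y hy
    rcases s61_dih_sq hr hr2 y (hexp y hy) with h1 | ⟨j, hj⟩
    · exact Or.inl h1
    · right
      have hc : (sr i : DihedralGroup r) * sr j = sr j * sr i := by
        have := hcomm.is_comm.comm (⟨sr i, hi ▸ hy0Y⟩ : Y) ⟨sr j, hj ▸ hy⟩
        exact congrArg Subtype.val this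
      rw [hj, s61_dih_comm_sr hr hr2 i j hc]

/-- PIECE S61-DIH -/
theorem target_dih {r : ℕ} (hr : r.Prime) (hr2 : r ≠ 2) (q : ℕ) :
    Target 2 q (DihedralGroup r) := by
  intro B Y hB hYB hnorm hY hcard hncl
  have hYne : Y ≠ ⊥ := by
    intro h
    rw [h] at hncl
    have hbot : Subgroup.normalClosure (((⊥ : Subgroup (DihedralGroup r)) : Set (DihedralGroup r)))
        = ⊥ := by
      apply le_antisymm
      · exact Subgroup.normalClosure_le_normal (le_refl _)
      · exact bot_le
    rw [hbot] at hncl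
    have hmem : (sr (0 : ZMod r) : DihedralGroup r) ∈ (⊥ : Subgroup (DihedralGroup r)) := by
      rw [hncl]; trivial
    rw [Subgroup.mem_bot, one_def] at hmem
    cases hmem
  refine ⟨hYne, ?_⟩
  obtain ⟨i, hiY, hYel⟩ := s61_dih_elemAb hr hr2 Y hY hYne
  have hsr1 : (sr i : DihedralGroup r) ≠ 1 := by
    intro h
    rw [one_def] at h
    cases h
  -- `B ≤ Y`
  have hBY : B ≤ Y := by
    intro b hb
    have h1 := hnorm b hb (sr i) hiY
    have h2 : b * sr i * b⁻¹ = sr i := by
      rcases hYel _ h1 with h | h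
      · exfalso
        apply hsr1
        have : sr i = b⁻¹ * (b * sr i * b⁻¹) * b := by group
        rw [this, h]; group
      · exact h
    have hcomm : b * sr i = sr i * b := by
      have : b * sr i = (b * sr i * b⁻¹) * b := by group
      rw [this, h2]
    cases b with
    | r j =>
      have hj : j = 0 := s61_dih_comm_r hr hr2 i j hcomm
      rw [hj, ← one_def]
      exact Y.one_mem
    | sr j =>
      have hij : i = j := s61_dih_comm_sr hr hr2 i j hcomm.symm
      rw [← hij]
      exact hiY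
  intro V hVB hVnorm hV hVne
  apply le_antisymm
  · exact le_trans hVB hBY
  · obtain ⟨j, hjV, _⟩ := s61_dih_elemAb hr hr2 V hV hVne
    have hjY : (sr j : DihedralGroup r) ∈ Y := hBY (hVB hjV)
    have hji : (sr j : DihedralGroup r) = sr i := by
      rcases hYel _ hjY with h | h
      · rw [one_def] at h
        cases h
      · exact h
    intro y hy
    rcases hYel y hy with h | h
    · rw [h]; exact V.one_mem
    · rw [h, ← hji]; exact hjV

end Cfsg.Agent.Helper23.S61
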