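import Mathlib
import Cfsg.Agent.Lib.Helper23.SlhDefs

/-!
S3050 farm-out, PIECE SLH-B3: the image of the torus element `hh c` under the block homomorphism `P`.
-/

set_option autoImplicit false
set_option linter.unusedSectionVars false
set_option linter.unusedVariables false
set_option linter.unusedSimpArgs false

namespace Cfsg.Agent.Helper23.Slh

open Cfsg.Agent.Helper12.NatMod

local notation "SL2" => Matrix.SpecialLinearGroup (Fin 2)

section Blocks

variable {F : Type*} [Field F] [CharP F 2] {R : Type*} [Ring R]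

/-- equality of `2 × 2` matrices entry by entry -/
theorem slh_b3_mk_eq {S : Type*} {x y z w x' y' z' w' : S} (h1 : x = x') (h2 : y = y') (h3 : z = z')
    (h4 : w = w') : !![x, y; z, w] = !![x', y'; z', w'] := by
  subst h1 h2 h3 h4; rfl

/-- the `SL₂` identity in characteristic 2 -/
theorem slh_b3_hh_eq (c : Fˣ) :
    hh c = uu (c : F) * ll ((c⁻¹ : Fˣ) : F) * uu (c : F) * (uu 1 * ll 1 * uu 1) := by
  apply sl2_ext
  have h11 : (1 : F) + 1 = 0 := CharTwo.add_self_eq_zero 1
  have hc : (c : F) * ((c⁻¹ : Fˣ) : F) = 1 := by rw [← Units.val_mul, mul_inv_cancel, Units.val_one]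
  have hc' : ((c⁻¹ : Fˣ) : F) * (c : F) = 1 := by rw [← Units.val_mul, inv_mul_cancel, Units.val_one]
  simp only [Matrix.SpecialLinearGroup.coe_mul, uu_coe, ll_coe, hh_coe, Matrix.mul_fin_two]
  apply slh_b3_mk_eq
  · simp only [mul_one, mul_zero, add_zero, zero_add, one_mul, hc, hc', h11, zero_mul]
  · simp only [mul_one, mul_zero, add_zero, zero_add, one_mul, hc, hc', h11, zero_mul]
  · simp only [mul_one, mul_zero, add_zero, zero_add, one_mul, hc, hc', h11, zero_mul]
  · simp only [mul_one, mul_zero, add_zero, zero_add, one_mul, hc, hc', h11, zero_mul]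

/-- the block computation in a (noncommutative) ring of characteristic 2 -/
theorem slh_b3_calc (hxx : ∀ x : R, x + x = 0) (a a' b b' : R) (haa : a * a = 1)
    (hbb' : b * b' = 1) (hb'b : b' * b = 1) (hcomm : a * a' = a' * a) (hab : a * b = b * a)
    (ha'b : a' * b = b * a') (hab' : a * b' = b' * a) :
    (!![a, b; 0, a] * !![a', 0; b', a'] * !![a, b; 0, a] *
      (!![1, 1; 0, 1] * !![1, 0; 1, 1] * !![1, 1; 0, 1]) : Matrix (Fin 2) (Fin 2) R) =
      !![b, a + a'; a + a', b'] := by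
  have h11 : (1 : R) + 1 = 0 := hxx 1
  have hW : (!![1, 1; 0, 1] * !![1, 0; 1, 1] * !![1, 1; 0, 1] : Matrix (Fin 2) (Fin 2) R) =
      !![0, 1; 1, 0] := by
    simp only [Matrix.mul_fin_two]
    apply slh_b3_mk_eq <;>
      simp only [mul_one, mul_zero, add_zero, zero_add, one_mul, h11, zero_mul]
  rw [hW]
  have e1 : a * a' * b = b * a' * a := by
    rw [mul_assoc, ha'b, ← mul_assoc, hab, mul_assoc, hcomm, ← mul_assoc]
  have e2 : a * a' * a = a' := by
    rw [hcomm, mul_assoc, haa, mul_one]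
  have e3 : a * b' * a = b' := by
    rw [hab', mul_assoc, haa, mul_one]
  simp only [Matrix.mul_fin_two]
  apply slh_b3_mk_eq
  · simp only [mul_one, mul_zero, add_zero, zero_add, one_mul, zero_mul, hbb']
    rw [add_mul, one_mul, e1, add_comm (b * a' * a) b, add_assoc, hxx, add_zero]
  · simp only [mul_one, mul_zero, add_zero, zero_add, one_mul, zero_mul, hbb']
    rw [add_mul, one_mul, e2, add_comm]
  · simp only [mul_one, mul_zero, add_zero, zero_add, one_mul, zero_mul, hbb']
    rw [mul_assoc a b' b, hb'b, mul_one, e2]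
  · simp only [mul_one, mul_zero, add_zero, zero_add, one_mul, zero_mul, hbb']
    exact e3

/-- PIECE SLH-B3.  The torus: `hh c = uu c * ll c⁻¹ * uu c * (uu 1 * ll 1 * uu 1)` in characteristic 2. -/
theorem P_hh (h2 : (2 : R) = 0) (P : SL2 F →* Matrix (Fin 2) (Fin 2) R)
    (α β : F → R) (hD : BlockData P α β) (h1 : BlockRel1 α β) (hr2 : BlockRel2 α β) (c : Fˣ) :
    P (hh c) = !![β (c : F), α (c : F) + α ((c⁻¹ : Fˣ) : F);
      α (c : F) + α ((c⁻¹ : Fˣ) : F), β ((c⁻¹ : Fˣ) : F)] := by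
  have hxx : ∀ x : R, x + x = 0 := fun x => by rw [← two_mul, h2, zero_mul]
  have hcc : (c : F) + (c : F) = 0 := CharTwo.add_self_eq_zero _
  have haa : α (c : F) * α (c : F) = 1 := by rw [← h1.α_add, hcc, h1.α_zero]
  have hbb' := hr2.β_inv c
  have hb'b : β ((c⁻¹ : Fˣ) : F) * β (c : F) = 1 := by
    have := hr2.β_inv c⁻¹
    rwa [inv_inv] at this
  have hcomm := h1.α_comm (c : F) ((c⁻¹ : Fˣ) : F)
  have hab := h1.αβ_comm (c : F)
  have ha'b := hr2.αβ_comm' c
  have hab' : α (c : F) * β ((c⁻¹ : Fˣ) : F) = β ((c⁻¹ : Fˣ) : F) * α (c : F) := by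
    have := hr2.αβ_comm' c⁻¹
    rwa [inv_inv] at this
  rw [slh_b3_hh_eq c, map_mul, map_mul, map_mul, map_mul, map_mul, hD.uu_eq, hD.ll_eq, hD.uu_eq,
    hD.ll_eq, h1.α_one, h1.β_one]
  exact slh_b3_calc hxx _ _ _ _ haa hbb' hb'b hcomm hab ha'b hab'

end Blocks

end Cfsg.Agent.Helper23.Slh
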