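import Mathlib
import Cfsg.Agent.Lib.Helper23.SlhDefs

/-!
S3050 farm-out, PIECE SLH-GACT: an abelian `Γ`-group is a module for `SL₂(F)`.
-/

set_option autoImplicit false
set_option linter.unusedSectionVars false
set_option linter.unusedVariables false

namespace Cfsg.Agent.Helper23.Slh

open Cfsg.Agent.Helper12.NatMod

local notation "SL2" => Matrix.SpecialLinearGroup (Fin 2)

section PartG

variable {Γ : Type*} [Group Γ] {F : Type*} [Field F] {S : Sys Γ F}

/-- in an abelian `Γ`-group the kernel of `π` acts trivially -/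
theorem slh_gact_ker_le {Q : Type*} [Group Q] (A : GGrp S Q) (hcomm : ∀ a b : Q, a * b = b * a) :
    S.π.ker ≤ A.φ.ker := by
  intro g hg
  rw [MonoidHom.mem_ker] at hg ⊢
  obtain ⟨q, hq⟩ := A.inner g hg
  ext y
  rw [hq y, hcomm q y, mul_assoc, mul_inv_cancel, mul_one, MulAut.one_apply]

/-- the action of `SL₂(F)` on an abelian `Γ`-group -/
noncomputable def slh_gact_hom {Q : Type*} [Group Q] (A : GGrp S Q)
    (hcomm : ∀ a b : Q, a * b = b * a) : SL2 F →* MulAut Q :=
  S.π.liftOfRightInverse (Function.surjInv S.surj) (Function.rightInverse_surjInv S.surj)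
    ⟨A.φ, slh_gact_ker_le A hcomm⟩

theorem slh_gact_hom_apply {Q : Type*} [Group Q] (A : GGrp S Q)
    (hcomm : ∀ a b : Q, a * b = b * a) (g : Γ) : slh_gact_hom A hcomm (S.π g) = A.φ g :=
  MonoidHom.liftOfRightInverse_comp_apply _ _ _ _ g

/-- PIECE SLH-GACT.  An abelian `Γ`-group is a module for `SL₂(F)`: the kernel of `π` acts trivially (inner
automorphisms of an abelian group), so `φ` factors through `π`. -/
theorem exists_action {Q : Type*} [Group Q] (A : GGrp S Q) (hcomm : ∀ a b : Q, a * b = b * a) :
    ∃ inst : DistribMulAction (SL2 F) (Additive Q), ∀ (g : Γ) (y : Q),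
      (letI := inst; (S.π g) • (Additive.ofMul y)) = Additive.ofMul (A.φ g y) := by
  refine ⟨{ smul := fun s a => Additive.ofMul (slh_gact_hom A hcomm s (Additive.toMul a))
            one_smul := ?h1
            mul_smul := ?h2
            smul_zero := ?h3
            smul_add := ?h4 }, ?h5⟩
  case h1 =>
    intro a
    show Additive.ofMul (slh_gact_hom A hcomm 1 (Additive.toMul a)) = a
    rw [map_one, MulAut.one_apply]
    rfl
  case h2 =>
    intro s t a
    show Additive.ofMul (slh_gact_hom A hcomm (s * t) (Additive.toMul a)) =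
      Additive.ofMul (slh_gact_hom A hcomm s (Additive.toMul
        (Additive.ofMul (slh_gact_hom A hcomm t (Additive.toMul a)))))
    rw [map_mul, MulAut.mul_apply]
    rfl
  case h3 =>
    intro s
    show Additive.ofMul (slh_gact_hom A hcomm s (Additive.toMul (0 : Additive Q))) = 0
    rw [toMul_zero, map_one]
    rfl
  case h4 =>
    intro s a b
    show Additive.ofMul (slh_gact_hom A hcomm s (Additive.toMul (a + b))) =
      Additive.ofMul (slh_gact_hom A hcomm s (Additive.toMul a)) +
        Additive.ofMul (slh_gact_hom A hcomm s (Additive.toMul b))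
    rw [toMul_add, map_mul]
    rfl
  case h5 =>
    intro g y
    show Additive.ofMul (slh_gact_hom A hcomm (S.π g) (Additive.toMul (Additive.ofMul y))) =
      Additive.ofMul (A.φ g y)
    rw [slh_gact_hom_apply]
    rfl

end PartG

end Cfsg.Agent.Helper23.Slh
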