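import Mathlib
import Cfsg.Agent.Lib.Helper4.PrimeCycle

/-!
# Transitive groups of prime degree with Sylow normalizer of even order: the dihedral subgroup
(helper4)
-/

set_option autoImplicit false
set_option linter.unusedSectionVars false
set_option linter.unusedVariables false
set_option linter.style.haveILetI false

namespace Cfsg.Agent.Helper4.PrimeDihedral

open Equiv

variable {α : Type*} [Fintype α] [DecidableEq α] {p : ℕ} [hp : Fact p.Prime]

theorem not_sq_dvd_factorial : ¬ p ^ 2 ∣ p.factorial := by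
  intro h
  have hpos : 0 < p := hp.1.pos
  obtain ⟨m, hm⟩ : ∃ m, p = m + 1 := ⟨p - 1, by omega⟩
  rw [hm, Nat.factorial_succ, sq] at h
  have h1 : m + 1 ∣ m.factorial := Nat.dvd_of_mul_dvd_mul_left (by omega) h
  have h2 : (m + 1).Prime := hm ▸ hp.1
  have := (Nat.Prime.dvd_factorial h2).mp h1
  omega

/-- powers of a translation -/
theorem zpow_apply (σ : Perm α) (e : ZMod p ≃ α) (he : ∀ j, e (j + 1) = σ (e j)) (n : ℤ)
    (j : ZMod p) : (σ ^ n) (e j) = e (j + (n : ZMod p)) := by
  have hnat : ∀ (n : ℕ) (j : ZMod p), (σ ^ n) (e j) = e (j + (n : ZMod p)) := by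
    intro n
    induction n with
    | zero => intro j; simp
    | succ n ih =>
      intro j
      rw [pow_succ', Perm.mul_apply, ih, ← he]
      congr 1
      push_cast
      ring
  induction n using Int.induction_on with
  | zero => simp
  | succ n _ =>
    have := hnat (n + 1) j
    exact_mod_cast this
  | pred n _ =>
    have h1 := hnat (n + 1) (j + ((-(n : ℤ) - 1 : ℤ) : ZMod p))
    have h2 : j + ((-(n : ℤ) - 1 : ℤ) : ZMod p) + ((n + 1 : ℕ) : ZMod p) = j := by
      push_cast; ring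
    rw [h2] at h1
    have h3 : σ ^ (-(n : ℤ) - 1) = (σ ^ (n + 1))⁻¹ := by
      rw [← zpow_natCast, ← zpow_neg]
      congr 1
      push_cast; ring
    rw [h3, Perm.inv_eq_iff_eq]
    exact h1.symm

/-- the dihedral structure -/
theorem exists_dihedral (hα : Fintype.card α = p) (hp2 : p ≠ 2) (G : Subgroup (Perm α))
    [MulAction.IsPretransitive G α] (P : Sylow p G)
    (heven : Even (Nat.card (Subgroup.normalizer ((P : Subgroup G) : Set G)))) :
    ∃ (e : ZMod p ≃ α) (g t : ↥G), (∀ j, (g : Perm α) (e j) = e (j + 1)) ∧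
      (∀ j, (t : Perm α) (e j) = e (-j)) ∧ orderOf t = 2 := by
  haveI : Nonempty α := by
    rw [← Fintype.card_pos_iff, hα]; exact hp.1.pos
  obtain ⟨a⟩ := ‹Nonempty α›
  -- `p` divides the order of `G`
  have hpG : p ∣ Nat.card ↥G := by
    have h1 := MulAction.index_stabilizer_of_transitive (G := ↥G) (X := α) (x := a)
    rw [Nat.card_eq_fintype_card, hα] at h1
    rw [← h1]
    exact Subgroup.index_dvd_card _
  have hGdvd : Nat.card ↥G ∣ p.factorial := by
    have h1 := Subgroup.card_subgroup_dvd_card G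
    rwa [Nat.card_eq_fintype_card (α := Perm α), Fintype.card_perm, hα] at h1
  -- the Sylow subgroup has order `p`
  have hPcard : Nat.card ↥(P : Subgroup ↥G) = p := by
    obtain ⟨k, hk⟩ := IsPGroup.iff_card.mp P.2
    have hk1 : k ≤ 1 := by
      by_contra hk2
      apply not_sq_dvd_factorial (p := p)
      refine (pow_dvd_pow p (by omega : 2 ≤ k)).trans ?_
      rw [← hk]
      exact (Subgroup.card_subgroup_dvd_card _).trans hGdvd
    have hk0 : k ≠ 0 := by
      intro h0
      rw [h0, pow_zero] at hk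
      have := P.card_eq_multiplicity
      rw [hk] at this
      have h2 : (Nat.card ↥G).factorization p = 0 := by
        by_contra hne
        have : 1 < p ^ (Nat.card ↥G).factorization p :=
          Nat.one_lt_pow hne hp.1.one_lt
        omega
      have h3 : 0 < (Nat.card ↥G).factorization p :=
        hp.1.factorization_pos_of_dvd Nat.card_pos.ne' hpG
      omega
    have : k = 1 := by omega
    rw [hk, this, pow_one]
  obtain ⟨x, hx⟩ := exists_prime_orderOf_dvd_card' (G := ↥(P : Subgroup ↥G)) p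
    (by rw [hPcard])
  obtain ⟨g, hg⟩ : ∃ g : ↥G, g = (x : ↥G) := ⟨_, rfl⟩
  have hgo : orderOf g = p := by rw [hg, Subgroup.orderOf_coe]; exact hx
  have hgP : g ∈ (P : Subgroup ↥G) := by rw [hg]; exact x.2
  have hσo : orderOf ((g : ↥G) : Perm α) = p := by rw [Subgroup.orderOf_coe]; exact hgo
  obtain ⟨e₀, he₀⟩ := Cfsg.Agent.Helper4.exists_equiv_zmod hα ((g : ↥G) : Perm α) hσo
  have hPz : (P : Subgroup ↥G) = Subgroup.zpowers g := by
    symm
    apply Subgroup.eq_of_le_of_card_ge (Subgroup.zpowers_le.mpr hgP)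
    rw [hPcard, Nat.card_zpowers, hgo]
  -- an involution in the normalizer
  obtain ⟨t₀, ht₀⟩ := exists_prime_orderOf_dvd_card'
    (G := ↥(Subgroup.normalizer ((P : Subgroup ↥G) : Set ↥G))) 2 (even_iff_two_dvd.mp heven)
  obtain ⟨t, ht⟩ : ∃ t : ↥G, t = (t₀ : ↥G) := ⟨_, rfl⟩
  have hto : orderOf t = 2 := by rw [ht, Subgroup.orderOf_coe]; exact ht₀
  have htN : t ∈ Subgroup.normalizer ((P : Subgroup ↥G) : Set ↥G) := by rw [ht]; exact t₀.2
  have htg : t * g * t⁻¹ ∈ Subgroup.zpowers g := by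
    rw [← hPz]
    exact (Subgroup.mem_normalizer_iff.mp htN g).mp hgP
  obtain ⟨k, hk⟩ := Subgroup.mem_zpowers_iff.mp htg
  obtain ⟨σ, hσ⟩ : ∃ σ : Perm α, σ = ((g : ↥G) : Perm α) := ⟨_, rfl⟩
  obtain ⟨τ, hτ⟩ : ∃ τ : Perm α, τ = ((t : ↥G) : Perm α) := ⟨_, rfl⟩
  rw [← hσ] at he₀
  have hk' : σ ^ k = τ * σ * τ⁻¹ := by
    rw [hσ, hτ]
    have := congrArg (fun y : ↥G => (y : Perm α)) hk
    simpa using this
  have hτ2 : τ * τ = 1 := by
    rw [hτ]
    have h1 : t ^ 2 = 1 := by rw [← hto]; exact pow_orderOf_eq_one t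
    have := congrArg (fun y : ↥G => (y : Perm α)) h1
    simpa [sq] using this
  have hτ1 : τ ≠ 1 := by
    intro h
    have h1 : t = 1 := by
      apply Subtype.ext
      rw [← hτ, h]; rfl
    rw [h1, orderOf_one] at hto
    omega
  -- the affine form of `τ`
  obtain ⟨c, hc⟩ : ∃ c : ZMod p, c = e₀.symm (τ (e₀ 0)) := ⟨_, rfl⟩
  have hconj : ∀ n : ℕ, τ * σ ^ n = (σ ^ k) ^ n * τ := by
    intro n
    rw [hk', conj_pow]
    group
  have haff : ∀ j : ZMod p, τ (e₀ j) = e₀ (c + (k : ZMod p) * j) := by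
    intro j
    have h1 : e₀ j = (σ ^ (j.val)) (e₀ 0) := by
      have := zpow_apply σ e₀ he₀ (j.val : ℤ) 0
      rw [zpow_natCast] at this
      rw [this]
      congr 1
      simp
    rw [h1]
    have h2 : τ ((σ ^ j.val) (e₀ 0)) = (τ * σ ^ j.val) (e₀ 0) := rfl
    rw [h2, hconj, Perm.mul_apply]
    have h3 : τ (e₀ 0) = e₀ c := by rw [hc]; simp
    rw [h3, ← zpow_natCast, ← zpow_mul, zpow_apply σ e₀ he₀]
    congr 1
    push_cast
    simp
  have hinv : ∀ j : ZMod p, c + (k : ZMod p) * (c + (k : ZMod p) * j) = j := by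
    intro j
    have h1 : τ (τ (e₀ j)) = e₀ j := by
      have := congrArg (fun π : Perm α => π (e₀ j)) hτ2
      simpa using this
    rw [haff, haff] at h1
    exact e₀.injective h1
  have h0 := hinv 0
  have h1 := hinv 1
  have hk2 : ((k : ZMod p) - 1) * ((k : ZMod p) + 1) = 0 := by
    have : (k : ZMod p) * (k : ZMod p) = 1 := by
      have e1 : c + (k : ZMod p) * (c + (k : ZMod p) * 1) =
          (c + (k : ZMod p) * (c + (k : ZMod p) * 0)) + (k : ZMod p) * (k : ZMod p) := by ring
      rw [e1, h0] at h1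
      simpa using h1
    ring_nf
    rw [sq, this]; ring
  have h2ne : (2 : ZMod p) ≠ 0 := by
    intro h
    have h3 : ((2 : ℕ) : ZMod p) = 0 := by exact_mod_cast h
    rw [ZMod.natCast_eq_zero_iff] at h3
    have := Nat.le_of_dvd (by norm_num) h3
    have := hp.1.two_le
    omega
  rcases mul_eq_zero.mp hk2 with hk1 | hk1
  · -- `k = 1` is impossible
    exfalso
    have hk1' : (k : ZMod p) = 1 := sub_eq_zero.mp hk1
    rw [hk1'] at h0
    have hc0 : c = 0 := by
      have : c * 2 = 0 := by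
        have e1 : c + 1 * (c + 1 * 0) = c * 2 := by ring
        rw [e1] at h0; exact h0
      rcases mul_eq_zero.mp this with h | h
      · exact h
      · exact absurd h h2ne
    apply hτ1
    ext ω
    obtain ⟨j, rfl⟩ := e₀.surjective ω
    rw [haff, hk1', hc0]
    simp
  · have hk1' : (k : ZMod p) = -1 := eq_neg_of_add_eq_zero_left hk1
    obtain ⟨d, hd⟩ : ∃ d : ZMod p, d = c * 2⁻¹ := ⟨_, rfl⟩
    have hcd : c = d + d := by
      rw [hd, ← mul_two, mul_assoc, inv_mul_cancel₀ h2ne, mul_one]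
    refine ⟨(Equiv.addRight d).trans e₀, g, t, ?_, ?_, hto⟩
    · intro j
      rw [← hσ]
      show σ (e₀ (j + d)) = e₀ (j + 1 + d)
      rw [← he₀]
      congr 1
      ring
    · intro j
      rw [← hτ]
      show τ (e₀ (j + d)) = e₀ (-j + d)
      rw [haff, hk1', hcd]
      congr 1
      ring

end Cfsg.Agent.Helper4.PrimeDihedral
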