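import Mathlib
import Cfsg.Prelude
import Cfsg.Agent.Lib.Helper13.SylODefs
import Cfsg.Agent.Lib.Helper6.SYLOORB
import Cfsg.Agent.Lib.Helper11.SylOSYL
import Cfsg.Agent.Lib.Helper12.SylOASMCore
import Cfsg.Agent.Lib.Helper12.SylOBIG
import Cfsg.Agent.Lib.Helper24.SylOCOMMON

/-!
# S4613, (B, N)-route (helper4): own assembly of `Data P p → SylOpp p H` from the landed pieces
(the same term as helper12's recipe for `sylOpp_of_data`, under a distinct name).
-/

set_option autoImplicit false

namespace Cfsg.Agent.Helper13.SylO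

open Cfsg Cfsg.Agent.Helper2.WordLen Cfsg.Agent.Helper2.BN Cfsg.Agent.Helper17.BNCox

theorem sylo_h4_of_data {H : Type*} [Group H] {P : Cfsg.BNPair H} {p : ℕ} [Fact p.Prime]
    [Finite H] (D : Data P p) : SylOpp p H :=
  sylo_asm_core D (Data.sylow D) rfl (Data.exists_conj D) (Data.inf_eq_bot_iff D)
    (fun g hg => sylo_big_big_cell_core D (sylo_orb_exists_mul D) g hg)
    (fun g hg => sylo_big_opp_of_mem_core D (sylo_orb_exists_mul D) (sylo_orb_eq_one_of_mem D) g hg)
    (Data.mem_of_opp D) (common_opp P (π P D.n₀) D.hn₀)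

end Cfsg.Agent.Helper13.SylO
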