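import Mathlib
import Cfsg.Agent.Lib.Helper26.CG3Defs

/-!
# S3412 PIECE G7A (helper4): the centre of a subgroup `T ≤ C(t)` of order 16 lies in `{1, t}`.
-/

set_option autoImplicit false
set_option linter.unusedSectionVars false

namespace Cfsg.Agent.Helper26.CG3

universe u

variable {H : Type u} [Group H] [Finite H] {t : H}

/-- G7a -/
theorem center_sylow (h : LG H t) (T : Subgroup H) (hT : Nat.card T = 16)
    (hle : T ≤ Subgroup.centralizer ({t} : Set H)) (z : H) (hz : z ∈ T)
    (hcen : ∀ x ∈ T, z * x = x * z) : z = 1 ∨ z = t := by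
  by_contra hcon
  rw [not_or] at hcon
  obtain ⟨hz1, hzt⟩ := hcon
  have htz : t * z = z * t :=
    Subgroup.mem_centralizer_iff.1 (hle hz) t (Set.mem_singleton t)
  have hTz : T ≤ Subgroup.centralizer ({z} : Set H) := by
    intro x hx
    rw [Subgroup.mem_centralizer_iff]
    intro y hy
    rw [Set.mem_singleton_iff] at hy
    subst hy
    exact hcen x hx
  have hdvd : 16 ∣ cc z := by
    have := Subgroup.card_dvd_of_le hTz
    rwa [hT] at this
  have h48 : cc z = 48 := by
    rcases h.vals z htz hz1 hzt with e | e | e | e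
    · exact e
    · rw [e] at hdvd; omega
    · rw [e] at hdvd; omega
    · rw [e] at hdvd; omega
  have h4 := h.s4 z htz hzt h48
  have hTtz : T ≤ Subgroup.centralizer ({t} : Set H) ⊓ Subgroup.centralizer ({z} : Set H) :=
    le_inf hle hTz
  have := Subgroup.card_dvd_of_le hTtz
  rw [hT, h4] at this
  omega

end Cfsg.Agent.Helper26.CG3
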