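import Mathlib
import Cfsg.Agent.Lib.Helper26.CG3Defs
import Cfsg.Agent.Lib.Helper4.CG3G7A

/-!
# S3412 PIECE G7B, core (helper4): an involution `j` with `cc j = 48` is conjugate to `t`;
the two Sylow facts SY1, SY2 (helper8's piece CG3-SY) enter as hypotheses.
-/

set_option autoImplicit false
set_option linter.unusedSectionVars false

namespace Cfsg.Agent.Helper26.CG3

universe u

variable {H : Type u} [Group H] [Finite H] {t : H}

theorem g7b_core
    (hsy1 : ∀ (K A : Subgroup H), (Nat.card K = 48 ∨ Nat.card K = 5616) → IsPGroup 2 A → A ≤ K →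
      ∃ T : Subgroup H, Nat.card T = 16 ∧ A ≤ T ∧ T ≤ K)
    (hsy2 : Nat.card H = 5616 → ∀ (T₁ T₂ : Subgroup H), Nat.card T₁ = 16 → Nat.card T₂ = 16 →
      ∃ c : H, ∀ x : H, x ∈ T₁ ↔ c * x * c⁻¹ ∈ T₂)
    (h : LG H t) (j : H) (hj : orderOf j = 2) (hc : cc j = 48) : IsConj t j := by
  have hj1 : j ≠ 1 := by
    intro e; rw [e, orderOf_one] at hj; omega
  -- a Sylow 2-subgroup of `C(j)` containing `j`
  have hA : IsPGroup 2 (Subgroup.zpowers j) := by
    apply IsPGroup.of_card (n := 1)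
    rw [Nat.card_zpowers, hj, pow_one]
  have hAK : Subgroup.zpowers j ≤ Subgroup.centralizer ({j} : Set H) := by
    rw [Subgroup.zpowers_le]
    rw [Subgroup.mem_centralizer_iff]
    intro y hy
    rw [Set.mem_singleton_iff] at hy
    rw [hy]
  obtain ⟨T₁, hT₁, hjT₁, hT₁j⟩ := hsy1 _ _ (Or.inl hc) hA hAK
  have hjmem : j ∈ T₁ := hjT₁ (Subgroup.mem_zpowers j)
  -- a Sylow 2-subgroup of `C(t)`
  obtain ⟨T₀, hT₀, -, hT₀t⟩ := hsy1 (Subgroup.centralizer ({t} : Set H)) ⊥ (Or.inl h.cct)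
    IsPGroup.of_bot bot_le
  obtain ⟨c, hcT⟩ := hsy2 h.card T₁ T₀ hT₁ hT₀
  -- `z = c j c⁻¹` is central in `T₀`
  have hzT₀ : c * j * c⁻¹ ∈ T₀ := (hcT j).1 hjmem
  have hzcen : ∀ x ∈ T₀, (c * j * c⁻¹) * x = x * (c * j * c⁻¹) := by
    intro x hx
    have hx' : c⁻¹ * x * c ∈ T₁ := by
      rw [hcT]
      have : c * (c⁻¹ * x * c) * c⁻¹ = x := by group
      rw [this]; exact hx
    have hcomm : j * (c⁻¹ * x * c) = (c⁻¹ * x * c) * j :=
      Subgroup.mem_centralizer_iff.1 (hT₁j hx') j (Set.mem_singleton j)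
    calc (c * j * c⁻¹) * x = c * (j * (c⁻¹ * x * c)) * c⁻¹ := by group
      _ = c * ((c⁻¹ * x * c) * j) * c⁻¹ := by rw [hcomm]
      _ = x * (c * j * c⁻¹) := by group
  rcases center_sylow h T₀ hT₀ hT₀t (c * j * c⁻¹) hzT₀ hzcen with e | e
  · exfalso
    apply hj1
    calc j = c⁻¹ * (c * j * c⁻¹) * c := by group
      _ = 1 := by rw [e]; group
  · exact (isConj_iff.2 ⟨c, e⟩).symm

end Cfsg.Agent.Helper26.CG3
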