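import Mathlib
import Cfsg.Agent.Lib.Helper26.CG3Defs
import Cfsg.Agent.Lib.Helper8.CG3SY
import Cfsg.Agent.Lib.Helper4.CG3G7A
import Cfsg.Agent.Lib.Helper4.CG3G7BCore

/-!
# S3412 PIECE G7B (helper4): an involution `j` with `cc j = 48` is conjugate to `t`
(wrapper of `g7b_core` with helper8's Sylow facts).
-/

set_option autoImplicit false
set_option linter.unusedSectionVars false

namespace Cfsg.Agent.Helper26.CG3

universe u

variable {H : Type u} [Group H] [Finite H] {t : H}

/-- G7b (from SY1, SY2, G7a) -/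
theorem conj_of_cc48 (h : LG H t) (j : H) (hj : orderOf j = 2) (hc : cc j = 48) : IsConj t j :=
  g7b_core (fun K A hK hA hAK => exists_sylow_between K A hK hA hAK)
    (fun hcard T₁ T₂ h1 h2 => conj_sylow hcard T₁ T₂ h1 h2) h j hj hc

end Cfsg.Agent.Helper26.CG3
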