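import Mathlib
import Cfsg.Agent.Lib.Helper26.CG3Defs
import Cfsg.Agent.Lib.Helper26.CG3Tbl

/-!
# S3412 PIECE T5, core (helper4): `code_w2`, `code_yab`, `code_yval` from the table, with the T0 interface
(helper2's pieces CG3-T0A / CG3-T0B) as hypotheses.
-/

set_option autoImplicit false
set_option linter.unusedSectionVars false

namespace Cfsg.Agent.Helper26.CG3

/-- table fact: a centralizer of order 8 inside `C(T0)` is abelian -/
theorem t5_tab_yab : ∀ n ∈ LT, n ≠ I0 → (look n).length = 8 →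
    ∀ a ∈ look n, ∀ b ∈ look n, cb a b = true := by
  decide +kernel

/-- table fact: all elements `≠ 1, t` of a centralizer of order 8 inside `C(T0)` have centralizer of order 8 -/
theorem t5_tab_yval : ∀ n ∈ LT, n ≠ I0 → (look n).length = 8 →
    ∀ a ∈ look n, a ≠ I0 → a ≠ T0 → a ∈ LT ∧ (look a).length = 8 := by
  decide +kernel

/-- table fact: a centralizer of order 6 inside `C(T0)` has exactly two elements with centralizer of order 6 -/
theorem t5_tab_w2 : ∀ n ∈ LT, n ≠ I0 → (look n).length = 6 →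
    (look n).Nodup ∧ (∀ m ∈ look n, m < 19683 ∧ cdet m = 1) ∧ (∀ m ∈ look n, m ∈ LT) ∧
      ((look n).filter (fun m => decide (m ≠ I0 ∧ (look m).length = 6))).length = 2 := by
  decide +kernel

section core

variable
  (hRt : ∀ h : Code, Rc t0 h ↔ h.1 ∈ LT)
  (hRl : ∀ g h : Code, (g.1 ∈ LT ∨ g.1 = X0) → g.1 ≠ I0 → (Rc g h ↔ h.1 ∈ look g.1))
  (hcl : ∀ g : Code, (g.1 ∈ LT ∨ g.1 = X0) → g.1 ≠ I0 → cR Rc g = (look g.1).length)
  (hce : cR Rc e0 = 5616)
include hRt hRl hcl hce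

theorem t5_ne_I0 (g : Code) (n : ℕ) (hn : n ≠ 5616) (hc : cR Rc g = n) : g.1 ≠ I0 := by
  intro e
  have : g = e0 := Subtype.ext e
  rw [this, hce] at hc
  exact hn hc.symm

theorem t5_yab_core : ∀ g : Code, Rc t0 g → cR Rc g = 8 →
    ∀ h k : Code, Rc g h → Rc g k → Rc h k := by
  intro g hg hc h k hh hk
  have hgL : g.1 ∈ LT := (hRt g).1 hg
  have hg1 : g.1 ≠ I0 := t5_ne_I0 hRt hRl hcl hce g 8 (by norm_num) hc
  have hlen : (look g.1).length = 8 := by rw [← hcl g (Or.inl hgL) hg1]; exact hc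
  have hh' := (hRl g h (Or.inl hgL) hg1).1 hh
  have hk' := (hRl g k (Or.inl hgL) hg1).1 hk
  exact t5_tab_yab g.1 hgL hg1 hlen h.1 hh' k.1 hk'

theorem t5_yval_core : ∀ g : Code, Rc t0 g → cR Rc g = 8 →
    ∀ h : Code, Rc g h → h ≠ e0 → h ≠ t0 → cR Rc h = 8 := by
  intro g hg hc h hh he ht
  have hgL : g.1 ∈ LT := (hRt g).1 hg
  have hg1 : g.1 ≠ I0 := t5_ne_I0 hRt hRl hcl hce g 8 (by norm_num) hc
  have hlen : (look g.1).length = 8 := by rw [← hcl g (Or.inl hgL) hg1]; exact hc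
  have hh' := (hRl g h (Or.inl hgL) hg1).1 hh
  have h1 : h.1 ≠ I0 := fun e => he (Subtype.ext e)
  have h2 : h.1 ≠ T0 := fun e => ht (Subtype.ext e)
  obtain ⟨hL, hl8⟩ := t5_tab_yval g.1 hgL hg1 hlen h.1 hh' h1 h2
  rw [hcl h (Or.inl hL) h1]
  exact hl8

theorem t5_w2_core
    (hcm : ∀ (l : List ℕ), l.Nodup → (∀ n ∈ l, n < 19683 ∧ cdet n = 1) →
      ∀ (p : ℕ → Prop) [DecidablePred p],
        Nat.card {h : Code // h.1 ∈ l ∧ p h.1} = (l.filter (fun n => decide (p n))).length) :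
    ∀ g : Code, Rc t0 g → cR Rc g = 6 → Nat.card {h : Code // Rc g h ∧ cR Rc h = 6} = 2 := by
  intro g hg hc
  have hgL : g.1 ∈ LT := (hRt g).1 hg
  have hg1 : g.1 ≠ I0 := t5_ne_I0 hRt hRl hcl hce g 6 (by norm_num) hc
  have hlen : (look g.1).length = 6 := by rw [← hcl g (Or.inl hgL) hg1]; exact hc
  obtain ⟨hnd, hval, hLT, hcount⟩ := t5_tab_w2 g.1 hgL hg1 hlen
  have hiff : ∀ h : Code, (Rc g h ∧ cR Rc h = 6) ↔
      (h.1 ∈ look g.1 ∧ (h.1 ≠ I0 ∧ (look h.1).length = 6)) := by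
    intro h
    constructor
    · rintro ⟨h1, h2⟩
      have hm := (hRl g h (Or.inl hgL) hg1).1 h1
      have hne : h.1 ≠ I0 := t5_ne_I0 hRt hRl hcl hce h 6 (by norm_num) h2
      refine ⟨hm, hne, ?_⟩
      rw [← hcl h (Or.inl (hLT h.1 hm)) hne]
      exact h2
    · rintro ⟨h1, h2, h3⟩
      refine ⟨(hRl g h (Or.inl hgL) hg1).2 h1, ?_⟩
      rw [hcl h (Or.inl (hLT h.1 h1)) h2]
      exact h3
  rw [Nat.card_congr (Equiv.subtypeEquivRight hiff)]
  rw [hcm (look g.1) hnd hval (fun m => m ≠ I0 ∧ (look m).length = 6)]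
  exact hcount

end core

end Cfsg.Agent.Helper26.CG3
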