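import Mathlib
import Cfsg.Agent.Lib.Helper26.CG3Defs
import Cfsg.Agent.Lib.Helper26.CG3Tbl
import Cfsg.Agent.Lib.Helper2.CG3T0A
import Cfsg.Agent.Lib.Helper2.CG3T0B
import Cfsg.Agent.Lib.Helper4.CG3T5Core

/-!
# S3412 PIECE T5 (helper4): `code_w2`, `code_yab`, `code_yval` (wrappers of the core with helper2's T0 interface).
-/

set_option autoImplicit false

namespace Cfsg.Agent.Helper26.CG3

/-- T5 -/
theorem code_w2 : ∀ g : Code, Rc t0 g → cR Rc g = 6 → Nat.card {h : Code // Rc g h ∧ cR Rc h = 6} = 2 :=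
  t5_w2_core Rc_t0_iff Rc_iff_look cR_look cR_e0
    (fun l hl hv p _ => card_code_mem l hl hv p)

/-- T5 -/
theorem code_yab : ∀ g : Code, Rc t0 g → cR Rc g = 8 → ∀ h k : Code, Rc g h → Rc g k → Rc h k :=
  t5_yab_core Rc_t0_iff Rc_iff_look cR_look cR_e0

/-- T5 -/
theorem code_yval : ∀ g : Code, Rc t0 g → cR Rc g = 8 → ∀ h : Code, Rc g h → h ≠ e0 → h ≠ t0 → cR Rc h = 8 :=
  t5_yval_core Rc_t0_iff Rc_iff_look cR_look cR_e0

end Cfsg.Agent.Helper26.CG3
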