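import Mathlib
import Cfsg.Agent.Lib.Helper27.M11UDefs

/-!
# S0420 piece ISO (helper4, for helper27's skeleton `plans/S0420_Skel.lean.txt`)

The final isomorphism: a faithful action on `12` points in which generators `x, u, s` of `G` act as
`X0, U0, S8` identifies `G` with `X0grp = closure {X0, U0, S8}`.
-/

set_option autoImplicit false
set_option linter.unusedSectionVars false
set_option linter.unusedVariables false

namespace Cfsg.Agent.Helper27.M11U

universe u v

section Final

variable {G : Type u} [Group G] [Fintype G]

namespace ISO

/-- the transported action is injective when the action is faithful -/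
theorem trHom_injective {X : Type v} [MulAction G X]
    (hfaith : Function.Injective (MulAction.toPermHom G X)) (e : X ≃ Fin 12) :
    Function.Injective (trHom (G := G) e) := by
  intro g h hgh
  apply hfaith
  have h1 : (e.permCongrHom : Equiv.Perm X →* Equiv.Perm (Fin 12)) (MulAction.toPermHom G X g) =
      (e.permCongrHom : Equiv.Perm X →* Equiv.Perm (Fin 12)) (MulAction.toPermHom G X h) := hgh
  exact e.permCongrHom.injective h1

end ISO

/-- PIECE ISO: the final isomorphism. -/
theorem iso_of_coord {X : Type v} [MulAction G X]
    (hfaith : Function.Injective (MulAction.toPermHom G X)) (e : X ≃ Fin 12) {x u s : G}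
    (hx : trHom e x = X0) (hu : trHom e u = U0) (hs : trHom e s = S8)
    (hgen : Subgroup.closure {x, u, s} = ⊤) : Nonempty (G ≃* X0grp) := by
  have hinj := ISO.trHom_injective hfaith e
  have hrange : (trHom (G := G) e).range = X0grp := by
    rw [MonoidHom.range_eq_map, ← hgen, MonoidHom.map_closure]
    unfold X0grp
    congr 1
    ext σ
    simp only [Set.mem_image, Set.mem_insert_iff, Set.mem_singleton_iff]
    constructor
    · rintro ⟨g, (rfl | rfl | rfl), rfl⟩
      · exact Or.inl hx
      · exact Or.inr (Or.inl hu)
      · exact Or.inr (Or.inr hs)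
    · rintro (rfl | rfl | rfl)
      · exact ⟨x, Or.inl rfl, hx⟩
      · exact ⟨u, Or.inr (Or.inl rfl), hu⟩
      · exact ⟨s, Or.inr (Or.inr rfl), hs⟩
  exact ⟨(MonoidHom.ofInjective hinj).trans (MulEquiv.subgroupCongr hrange)⟩

end Final

end Cfsg.Agent.Helper27.M11U
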