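import Mathlib

/-!
# S0420 piece STABNE (helper4, for helper27's skeleton `plans/S0420_Skel.lean.txt`)

An irreducible representation of degree `11` has no nonzero vector fixed by the whole group:
the line spanned by such a vector would be a subrepresentation of dimension `1`.
-/

set_option autoImplicit false
set_option linter.unusedSectionVars false
set_option linter.unusedVariables false

namespace Cfsg.Agent.Helper27.M11U

universe u v

section Abstract

variable {G : Type u} [Group G] [Fintype G]

/-- PIECE STABNE: an irreducible representation of degree `11` has no nonzero fixed vector. -/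
theorem not_all_fix (ρ : Representation ℂ G (Fin 11 → ℂ)) (hρ : ρ.IsIrreducible)
    (v : Fin 11 → ℂ) (hv : v ≠ 0) (h : ∀ g : G, ρ g v = v) : False := by
  -- the line through `v` as a subrepresentation
  let W : Subrepresentation ρ :=
    { toSubmodule := Submodule.span ℂ {v}
      apply_mem_toSubmodule := by
        intro g w hw
        obtain ⟨c, rfl⟩ := Submodule.mem_span_singleton.1 hw
        rw [map_smul, h g]
        exact Submodule.mem_span_singleton.2 ⟨c, rfl⟩ }
  have : IsSimpleOrder (Subrepresentation ρ) := hρ
  rcases eq_bot_or_eq_top W with hW | hW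
  · have h1 : W.toSubmodule = (⊥ : Subrepresentation ρ).toSubmodule := by rw [hW]
    have h2 : v ∈ (⊥ : Submodule ℂ (Fin 11 → ℂ)) := by
      have : v ∈ W.toSubmodule := Submodule.mem_span_singleton_self v
      rw [h1] at this
      exact this
    exact hv ((Submodule.mem_bot ℂ).1 h2)
  · have h1 : W.toSubmodule = (⊤ : Subrepresentation ρ).toSubmodule := by rw [hW]
    have h2 : Submodule.span ℂ {v} = (⊤ : Submodule ℂ (Fin 11 → ℂ)) := h1
    have h3 : Module.finrank ℂ (Submodule.span ℂ {v}) = 11 := by
      rw [h2, finrank_top]
      simp
    have h4 : Module.finrank ℂ (Submodule.span ℂ {v}) ≤ 1 := by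
      have := finrank_span_le_card (R := ℂ) ({v} : Set (Fin 11 → ℂ))
      simpa using this
    omega

end Abstract

end Cfsg.Agent.Helper27.M11U
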