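import Mathlib
import Cfsg.Agent.Lib.Helper20.OrderCount

/-!
# S3431, piece CYC: `tools_cyc` (cyclic Sylow subgroups: counting elements of order `p ^ k` and `p`)
-/

set_option autoImplicit false

namespace Cfsg.Agent.Helper26.NSE

open Cfsg.Agent.Helper20

namespace CYC

variable {G : Type*} [Group G] [Finite G]

/-- the number of elements of order `d` of `G` lying in a cyclic subgroup `H`, `d ∣ |H|`. -/
theorem card_in_cyclic (H : Subgroup G) [IsCyclic H] (d : ℕ) (hd : d ∣ Nat.card H) :
    Nat.card {g : G // orderOf g = d ∧ g ∈ H} = Nat.totient d := by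
  classical
  haveI : Fintype H := Fintype.ofFinite H
  have e : {g : G // orderOf g = d ∧ g ∈ H} ≃ {x : H // orderOf x = d} :=
    { toFun := fun g => ⟨⟨g.1, g.2.2⟩, by rw [← Subgroup.orderOf_coe]; exact g.2.1⟩
      invFun := fun x => ⟨x.1.1, by rw [Subgroup.orderOf_coe]; exact x.2, x.1.2⟩
      left_inv := fun g => rfl
      right_inv := fun x => rfl }
  rw [Nat.card_congr e, Nat.card_eq_fintype_card, Fintype.card_subtype]
  exact IsCyclic.card_orderOf_eq_totient (by rwa [← Nat.card_eq_fintype_card])

end CYC

section Tools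

variable {G : Type*} [Group G] [Finite G]

open CYC in
/-- PIECE CYC: if `p ^ k` is the exact power of `p` in `|G|` and there is an element of order
`p ^ k`, the Sylow `p`-subgroups are cyclic; the elements of order `p ^ k` are their generators,
and every element of order `p` lies in one of them. -/
theorem tools_cyc (p k : ℕ) (hp : p.Prime) (hk : 0 < k) (h1 : p ^ k ∣ Nat.card G)
    (h2 : ¬ p ^ (k + 1) ∣ Nat.card G) (h : ordCnt G (p ^ k) ≠ 0) :
    ordCnt G (p ^ k) = Nat.totient (p ^ k) * Nat.card (Sylow p G) ∧
      ordCnt G p ≤ (p - 1) * Nat.card (Sylow p G) := by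
  classical
  haveI : Fact p.Prime := ⟨hp⟩
  haveI : Fintype (Sylow p G) := Fintype.ofFinite _
  have hG0 : Nat.card G ≠ 0 := Nat.card_pos.ne'
  have hfac : (Nat.card G).factorization p = k := by
    have a1 := (hp.pow_dvd_iff_le_factorization hG0).mp h1
    have a2 : ¬ k + 1 ≤ (Nat.card G).factorization p :=
      fun h' => h2 ((hp.pow_dvd_iff_le_factorization hG0).mpr h')
    omega
  have hcardP : ∀ P : Sylow p G, Nat.card (P : Subgroup G) = p ^ k := fun P => by
    rw [P.card_eq_multiplicity, hfac]
  obtain ⟨g0, hg0⟩ := (ordCnt_pos_iff (p ^ k)).1 (Nat.pos_of_ne_zero h)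
  have hz : ∀ g : G, orderOf g = p ^ k →
      Nat.card (Subgroup.zpowers g) = p ^ (Nat.card G).factorization p := by
    intro g hg; rw [Nat.card_zpowers, hg, hfac]
  -- every Sylow subgroup is cyclic
  have hcyc : ∀ P : Sylow p G, IsCyclic (P : Subgroup G) := by
    intro P
    let Q : Sylow p G := Sylow.ofCard (Subgroup.zpowers g0) (hz g0 hg0)
    obtain ⟨x, hx⟩ := MulAction.exists_smul_eq G Q P
    have hQ : IsCyclic (Q : Subgroup G) := by
      show IsCyclic (Subgroup.zpowers g0); infer_instance
    have : IsCyclic ((x • Q : Sylow p G) : Subgroup G) :=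
      isCyclic_of_surjective (Q.equivSMul x) (Q.equivSMul x).surjective
    rw [hx] at this; exact this
  constructor
  · -- elements of order p^k
    have e : {g : G // orderOf g = p ^ k} ≃
        Σ P : Sylow p G, {g : G // orderOf g = p ^ k ∧ g ∈ (P : Subgroup G)} :=
      { toFun := fun g => ⟨Sylow.ofCard (Subgroup.zpowers g.1) (hz g.1 g.2),
          ⟨g.1, g.2, Subgroup.mem_zpowers g.1⟩⟩
        invFun := fun x => ⟨x.2.1, x.2.2.1⟩
        left_inv := fun g => rfl
        right_inv := by
          rintro ⟨P, g, hg, hgP⟩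
          apply Sigma.subtype_ext
          · apply Sylow.ext
            show Subgroup.zpowers g = P
            apply Subgroup.eq_of_le_of_card_ge ((Subgroup.zpowers_le).2 hgP)
            rw [hcardP P, Nat.card_zpowers, hg]
          · rfl }
    rw [ordCnt_def, Nat.card_congr e, Nat.card_sigma]
    have : ∀ P : Sylow p G, Nat.card {g : G // orderOf g = p ^ k ∧ g ∈ (P : Subgroup G)} =
        Nat.totient (p ^ k) := by
      intro P
      haveI := hcyc P
      exact card_in_cyclic (P : Subgroup G) (p ^ k) (by rw [hcardP P])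
    rw [Finset.sum_congr rfl (fun P _ => this P), Finset.sum_const, Finset.card_univ, smul_eq_mul,
      Nat.card_eq_fintype_card, mul_comm]
  · -- elements of order p
    have hex : ∀ g : {g : G // orderOf g = p}, ∃ P : Sylow p G, g.1 ∈ (P : Subgroup G) := by
      intro g
      have hpg : IsPGroup p (Subgroup.zpowers g.1) :=
        IsPGroup.of_card (n := 1) (by rw [Nat.card_zpowers, g.2, pow_one])
      obtain ⟨P, hP⟩ := hpg.exists_le_sylow
      exact ⟨P, hP (Subgroup.mem_zpowers g.1)⟩
    choose f hf using hex
    let F : {g : G // orderOf g = p} →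
        Σ P : Sylow p G, {g : G // orderOf g = p ∧ g ∈ (P : Subgroup G)} :=
      fun g => ⟨f g, ⟨g.1, g.2, hf g⟩⟩
    have hinj : Function.Injective F := by
      intro g g' hgg
      have : (F g).2.1 = (F g').2.1 := by rw [hgg]
      exact Subtype.ext this
    have hle := Nat.card_le_card_of_injective F hinj
    rw [Nat.card_sigma] at hle
    have : ∀ P : Sylow p G, Nat.card {g : G // orderOf g = p ∧ g ∈ (P : Subgroup G)} =
        p - 1 := by
      intro P
      haveI := hcyc P
      rw [card_in_cyclic (P : Subgroup G) p (by rw [hcardP P]; exact dvd_pow_self p hk.ne'),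
        Nat.totient_prime hp]
    rw [Finset.sum_congr rfl (fun P _ => this P), Finset.sum_const, Finset.card_univ, smul_eq_mul,
      ← Nat.card_eq_fintype_card, mul_comm] at hle
    exact hle

end Tools

end Cfsg.Agent.Helper26.NSE
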