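import Mathlib
import Cfsg.Agent.Lib.Helper20.OrderCount

/-!
# S3431, piece WEAKB: `tools_weakB` (`p ∥ |G|`, `p ∤ m`: `n_p` divides the number of elements of order `p m`)
-/

set_option autoImplicit false

namespace Cfsg.Agent.Helper26.NSE

open Cfsg.Agent.Helper20

namespace WEAKB

variable {G : Type*} [Group G]

theorem orderOf_conj' (x g : G) : orderOf (x * g * x⁻¹) = orderOf g := by
  have := (MulAut.conj x).orderOf_eq g
  rwa [MulAut.conj_apply] at this

theorem mem_smul_of_mem {p : ℕ} [Fact p.Prime] (P : Sylow p G) (x a : G)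
    (h : a ∈ (P : Subgroup G)) : x * a * x⁻¹ ∈ ((x • P : Sylow p G) : Subgroup G) := by
  rw [Sylow.coe_subgroup_smul]
  have := Subgroup.smul_mem_pointwise_smul a (MulAut.conj x) (P : Subgroup G) h
  rwa [MulAut.smul_def, MulAut.conj_apply] at this

theorem mem_of_mem_smul {p : ℕ} [Fact p.Prime] (P : Sylow p G) (x a : G)
    (h : a ∈ ((x • P : Sylow p G) : Subgroup G)) : x⁻¹ * a * x ∈ (P : Subgroup G) := by
  rw [Sylow.coe_subgroup_smul, Subgroup.mem_pointwise_smul_iff_inv_smul_mem, MulAut.smul_def,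
    ← map_inv, MulAut.conj_apply, inv_inv] at h
  exact h

theorem conj_pow' (x g : G) (m : ℕ) : (x⁻¹ * g * x) ^ m = x⁻¹ * g ^ m * x := by
  have := conj_pow (i := m) (a := x⁻¹) (b := g)
  rwa [inv_inv] at this

/-- conjugation by `x` as a bijection between the fibres over `P` and over `x • P`. -/
def fibreEquiv (p n m : ℕ) [Fact p.Prime] (P : Sylow p G) (x : G) :
    {g : G // orderOf g = n ∧ g ^ m ∈ (P : Subgroup G)} ≃
      {g : G // orderOf g = n ∧ g ^ m ∈ ((x • P : Sylow p G) : Subgroup G)} where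
  toFun g := ⟨x * g.1 * x⁻¹, by rw [orderOf_conj']; exact g.2.1, by
    rw [conj_pow]; exact mem_smul_of_mem P x _ g.2.2⟩
  invFun g := ⟨x⁻¹ * g.1 * x, by
    have := orderOf_conj' x⁻¹ g.1
    rw [inv_inv] at this; rw [this]; exact g.2.1, by
    rw [conj_pow']; exact mem_of_mem_smul P x _ g.2.2⟩
  left_inv g := by
    apply Subtype.ext
    show x⁻¹ * (x * g.1 * x⁻¹) * x = g.1
    group
  right_inv g := by
    apply Subtype.ext
    show x * (x⁻¹ * g.1 * x) * x⁻¹ = g.1
    group

end WEAKB

section Tools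

variable {G : Type*} [Group G] [Finite G]

open WEAKB in
/-- PIECE WEAKB: if `p` divides `|G|` exactly once and `p ∤ m`, then `g ↦ ⟨g ^ m⟩` is a
`G`-equivariant map from the elements of order `p * m` to the Sylow `p`-subgroups, so all its
fibres have the same size. -/
theorem tools_weakB (p m : ℕ) (hp : p.Prime) (h1 : p ∣ Nat.card G) (h2 : ¬ p ^ 2 ∣ Nat.card G)
    (hm : ¬ p ∣ m) : Nat.card (Sylow p G) ∣ ordCnt G (p * m) := by
  classical
  haveI : Fact p.Prime := ⟨hp⟩
  haveI : Fintype (Sylow p G) := Fintype.ofFinite _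
  have hm0 : m ≠ 0 := fun h => hm (h ▸ dvd_zero p)
  have hG0 : Nat.card G ≠ 0 := Nat.card_pos.ne'
  have hfac : (Nat.card G).factorization p = 1 := by
    have a1 := (hp.pow_dvd_iff_le_factorization hG0).mp (by simpa using h1 : p ^ 1 ∣ Nat.card G)
    have a2 : ¬ 2 ≤ (Nat.card G).factorization p :=
      fun h' => h2 ((hp.pow_dvd_iff_le_factorization hG0).mpr h')
    omega
  have hcardP : ∀ P : Sylow p G, Nat.card (P : Subgroup G) = p := fun P => by
    rw [P.card_eq_multiplicity, hfac, pow_one]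
  have hord : ∀ g : G, orderOf g = p * m → orderOf (g ^ m) = p := by
    intro g hg
    rw [orderOf_pow_of_dvd hm0 (by rw [hg]; exact dvd_mul_left m p), hg,
      Nat.mul_div_cancel _ (Nat.pos_of_ne_zero hm0)]
  have hz : ∀ g : G, orderOf g = p * m →
      Nat.card (Subgroup.zpowers (g ^ m)) = p ^ (Nat.card G).factorization p := by
    intro g hg; rw [Nat.card_zpowers, hord g hg, hfac, pow_one]
  have e : {g : G // orderOf g = p * m} ≃
      Σ P : Sylow p G, {g : G // orderOf g = p * m ∧ g ^ m ∈ (P : Subgroup G)} :=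
    { toFun := fun g => ⟨Sylow.ofCard (Subgroup.zpowers (g.1 ^ m)) (hz g.1 g.2),
        ⟨g.1, g.2, Subgroup.mem_zpowers (g.1 ^ m)⟩⟩
      invFun := fun x => ⟨x.2.1, x.2.2.1⟩
      left_inv := fun g => rfl
      right_inv := by
        rintro ⟨P, g, hg, hgP⟩
        apply Sigma.subtype_ext
        · apply Sylow.ext
          show Subgroup.zpowers (g ^ m) = P
          apply Subgroup.eq_of_le_of_card_ge ((Subgroup.zpowers_le).2 hgP)
          rw [hcardP P, Nat.card_zpowers, hord g hg]
        · rfl }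
  rw [ordCnt_def, Nat.card_congr e, Nat.card_sigma]
  obtain ⟨P0⟩ : Nonempty (Sylow p G) := inferInstance
  have hconst : ∀ P : Sylow p G,
      Nat.card {g : G // orderOf g = p * m ∧ g ^ m ∈ (P : Subgroup G)} =
        Nat.card {g : G // orderOf g = p * m ∧ g ^ m ∈ (P0 : Subgroup G)} := by
    intro P
    obtain ⟨x, hx⟩ := MulAction.exists_smul_eq G P0 P
    rw [← hx]
    exact (Nat.card_congr (fibreEquiv p (p * m) m P0 x)).symm
  rw [Finset.sum_congr rfl (fun P _ => hconst P), Finset.sum_const, Finset.card_univ, smul_eq_mul,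
    Nat.card_eq_fintype_card]
  exact dvd_mul_right _ _

end Tools

end Cfsg.Agent.Helper26.NSE
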