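import Mathlib
import Cfsg.Agent.Lib.Helper26.TIDefs2
import Cfsg.Agent.Lib.Helper25.TISL2REC

/-!
# S1786 piece TI-BRSL2 (core): statement (d) from the field of TI-BRALG, `Cfg1.decomp` and `Cfg8.match1`
(the latter three taken as hypotheses) and `sl2_of_shears`.
-/

set_option autoImplicit false

namespace Cfsg.Agent.Helper26.TI

open Multiplicative

variable {G : Type*} [Group G]

theorem tibrsl2_core {V P A PA U U' : Subgroup G} (h : Cfg8 V P A PA U U')
    (F : Type) [Field F] [Fintype F]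
    (eU : ↥U ≃* Multiplicative F) (eA : ↥A ≃* Multiplicative F) (eV : ↥V ≃* Multiplicative F)
    (hfield : ∀ (u : ↥U) (a : ↥A) (v : ↥V),
        (u : G) * (a : G) * (u : G)⁻¹ * (a : G)⁻¹ = (v : G) →
          toAdd (eV v) = toAdd (eU u) * toAdd (eA a))
    (hdecomp : ∀ x ∈ P, ∃ u ∈ U, ∀ a ∈ A, (u⁻¹ * x) * a = a * (u⁻¹ * x))
    (hmatchL : ∀ x ∈ P, (∃ a ∈ A, x * a ≠ a * x) →
      ∃ y ∈ PA, ∀ v ∈ V, ∀ a ∈ A, (x * a * x⁻¹ = v * a ↔ y * v * y⁻¹ = a * v))
    (hmatchR : ∀ x ∈ PA, (∃ v ∈ V, x * v ≠ v * x) →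
      ∃ y ∈ P, ∀ a ∈ A, ∀ v ∈ V, (x * v * x⁻¹ = a * v ↔ y * a * y⁻¹ = v * a)) :
    ∀ hN : ((Subgroup.centralizer ((V ⊔ A : Subgroup G) : Set G)).subgroupOf (P ⊔ PA)).Normal,
      Nonempty (↥(P ⊔ PA) ⧸ (Subgroup.centralizer ((V ⊔ A : Subgroup G) : Set G)).subgroupOf (P ⊔ PA) ≃*
        Matrix.SpecialLinearGroup (Fin 2) F) := by
  have hL := h.left
  have hR := h.right
  have hVA : ∀ v ∈ V, ∀ a ∈ A, v * a = a * v :=
    fun v hv a ha => (hL.loc.cent a (hL.le ha) v hv).symm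
  have hdisj : V ⊓ A = ⊥ := by
    obtain ⟨g, hAg, -⟩ := hL.conj
    rcases hL.loc.base.ti g with h1 | h1
    · exact absurd (hAg.trans h1) hL.ne
    · rw [inf_comm, hAg]; exact h1
  have hPV : ∀ x ∈ P, ∀ v ∈ V, x * v = v * x := hL.loc.cent
  have hPAA : ∀ y ∈ PA, ∀ a ∈ A, y * a = a * y := hL.locA.cent
  -- the shear of `u ∈ U`
  have hUshear : ∀ u : ↥U, ∀ a : ↥A, ∃ v : ↥V,
      (u : G) * (a : G) * (u : G)⁻¹ = (v : G) * (a : G) ∧
        toAdd (eV v) = toAdd (eU u) * toAdd (eA a) := by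
    intro u a
    have hv : (u : G) * a * (u : G)⁻¹ * (a : G)⁻¹ ∈ V :=
      hL.loc.comm u (hL.U_le u.2) a (hL.le a.2)
    refine ⟨⟨_, hv⟩, ?_, hfield u a ⟨_, hv⟩ rfl⟩
    simp only
    group
  have hP : ∀ x ∈ P, ∃ f : F, ∀ a : ↥A, ∃ v : ↥V,
      x * (a : G) * x⁻¹ = (v : G) * (a : G) ∧ toAdd (eV v) = f * toAdd (eA a) := by
    intro x hx
    obtain ⟨u, hu, hd⟩ := hdecomp x hx
    refine ⟨toAdd (eU ⟨u, hu⟩), fun a => ?_⟩
    obtain ⟨v, hv1, hv2⟩ := hUshear ⟨u, hu⟩ a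
    refine ⟨v, ?_, hv2⟩
    rw [← hv1]
    have hda := hd a a.2
    have e1 : x * (a : G) = u * a * u⁻¹ * x := by
      calc x * (a : G) = u * (u⁻¹ * x * a) := by group
        _ = u * (a * (u⁻¹ * x)) := by rw [hda]
        _ = u * a * u⁻¹ * x := by group
    rw [e1]
    group
  have hPall : ∀ f : F, ∃ x ∈ P, ∀ a : ↥A, ∃ v : ↥V,
      x * (a : G) * x⁻¹ = (v : G) * (a : G) ∧ toAdd (eV v) = f * toAdd (eA a) := by
    intro f
    refine ⟨(eU.symm (ofAdd f) : ↥U), hL.U_le (eU.symm (ofAdd f)).2, fun a => ?_⟩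
    obtain ⟨v, hv1, hv2⟩ := hUshear (eU.symm (ofAdd f)) a
    refine ⟨v, hv1, ?_⟩
    rw [hv2, MulEquiv.apply_symm_apply, toAdd_ofAdd]
  -- commutators of `PA` with `V`
  have hPAcomm : ∀ y ∈ PA, ∀ v : ↥V, ∃ a : ↥A, y * (v : G) * y⁻¹ = (a : G) * (v : G) := by
    intro y hy v
    have ha : y * (v : G) * y⁻¹ * (v : G)⁻¹ ∈ A := hR.loc.comm y hy v (hR.le v.2)
    refine ⟨⟨_, ha⟩, ?_⟩
    simp only
    group
  have hPA : ∀ y ∈ PA, ∃ f : F, ∀ v : ↥V, ∃ a : ↥A,
      y * (v : G) * y⁻¹ = (a : G) * (v : G) ∧ toAdd (eA a) = f * toAdd (eV v) := by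
    intro y hy
    by_cases hc : ∀ v ∈ V, y * v = v * y
    · refine ⟨0, fun v => ⟨1, ?_, ?_⟩⟩
      · rw [hc v v.2]; simp
      · simp
    · push_neg at hc
      obtain ⟨v0, hv0, hne⟩ := hc
      obtain ⟨x', hx', hiff⟩ := hmatchR y hy ⟨v0, hv0, hne⟩
      obtain ⟨f', hf'⟩ := hP x' hx'
      -- the key relation
      have hkey : ∀ (v : ↥V) (a : ↥A), y * (v : G) * y⁻¹ = (a : G) * (v : G) →
          toAdd (eV v) = f' * toAdd (eA a) := by
        intro v a hva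
        have h1 := (hiff a a.2 v v.2).mp hva
        obtain ⟨v1, hv1, hv1f⟩ := hf' a
        have : (v1 : G) = (v : G) := by
          have := hv1.symm.trans h1
          exact mul_right_cancel this
        have hvv : v1 = v := Subtype.ext this
        rw [← hvv]; exact hv1f
      have hf'0 : f' ≠ 0 := by
        intro h0
        obtain ⟨a, ha⟩ := hPAcomm y hy ⟨v0, hv0⟩
        have := hkey ⟨v0, hv0⟩ a ha
        rw [h0, zero_mul] at this
        have hv01 : (⟨v0, hv0⟩ : ↥V) = 1 := by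
          have : eV ⟨v0, hv0⟩ = 1 := by
            rw [← ofAdd_toAdd (eV ⟨v0, hv0⟩), this]; rfl
          exact (MulEquiv.map_eq_one_iff eV).mp this
        have : v0 = 1 := congrArg Subtype.val hv01
        apply hne
        rw [this]; simp
      refine ⟨f'⁻¹, fun v => ?_⟩
      obtain ⟨a, ha⟩ := hPAcomm y hy v
      refine ⟨a, ha, ?_⟩
      rw [hkey v a ha, ← mul_assoc, inv_mul_cancel₀ hf'0, one_mul]
  have hPAall : ∀ f : F, ∃ y ∈ PA, ∀ v : ↥V, ∃ a : ↥A,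
      y * (v : G) * y⁻¹ = (a : G) * (v : G) ∧ toAdd (eA a) = f * toAdd (eV v) := by
    intro f
    by_cases hf0 : f = 0
    · refine ⟨1, PA.one_mem, fun v => ⟨1, by simp, by simp [hf0]⟩⟩
    · set u : ↥U := eU.symm (ofAdd f⁻¹) with hu
      have hu1 : (u : G) ≠ 1 := by
        intro h1
        have : u = 1 := Subtype.ext h1
        have h2 : eU u = 1 := by rw [this, map_one]
        rw [hu, MulEquiv.apply_symm_apply] at h2
        have : f⁻¹ = 0 := by
          have := congrArg toAdd h2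
          simpa using this
        exact hf0 (inv_eq_zero.mp this)
      set a0 : ↥A := eA.symm (ofAdd 1) with ha0
      have ha01 : (a0 : G) ≠ 1 := by
        intro h1
        have : a0 = 1 := Subtype.ext h1
        have h2 : eA a0 = 1 := by rw [this, map_one]
        rw [ha0, MulEquiv.apply_symm_apply] at h2
        have : (1 : F) = 0 := by
          have := congrArg toAdd h2
          simpa using this
        exact one_ne_zero this
      have hnc : (u : G) * a0 ≠ a0 * u := hL.U_nc u u.2 hu1 a0 a0.2 ha01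
      obtain ⟨y, hy, hiff⟩ := hmatchL u (hL.U_le u.2) ⟨a0, a0.2, hnc⟩
      refine ⟨y, hy, fun v => ?_⟩
      obtain ⟨a, ha⟩ := hPAcomm y hy v
      refine ⟨a, ha, ?_⟩
      have h1 := (hiff v v.2 a a.2).mpr ha
      have h2 : (u : G) * a * (u : G)⁻¹ * (a : G)⁻¹ = (v : G) := by
        rw [h1]; group
      have h3 := hfield u a v h2
      rw [hu, MulEquiv.apply_symm_apply, toAdd_ofAdd] at h3
      rw [h3, ← mul_assoc, mul_inv_cancel₀ hf0, one_mul]
  exact sl2_of_shears V A P PA F eV eA hVA hdisj hPV hPAA hP hPall hPA hPAall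

end Cfsg.Agent.Helper26.TI
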