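import Mathlib
import Cfsg.Agent.S1135

/-!
# Symmetric difference sets in `ZMod p` are trivial (helper4)
-/

set_option autoImplicit false
set_option linter.unusedSectionVars false
set_option linter.unusedVariables false
set_option linter.style.haveILetI false

namespace Cfsg.Agent.Helper4.SymDiffSet

variable {p : ℕ} [hp : Fact p.Prime]

theorem two_ne_zero_zmod (hp2 : p ≠ 2) : (2 : ZMod p) ≠ 0 := by
  intro h
  have h3 : ((2 : ℕ) : ZMod p) = 0 := by exact_mod_cast h
  rw [ZMod.natCast_eq_zero_iff] at h3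
  have := Nat.le_of_dvd (by norm_num) h3
  have := hp.1.two_le
  omega

/-- the parity of the number of representations `2z = x + y` with `x, y ∈ D`, for `D = -D` -/
theorem card_mod_two (hp2 : p ≠ 2) (D : Set (ZMod p)) (hD : ∀ j, j ∈ D ↔ -j ∈ D) (z : ZMod p) :
    Nat.card {i : ZMod p // (2 * z - i ∈ D) ∧ (0 - i ∈ D)} % 2 = 1 ↔ z ∈ D := by
  classical
  have h2 := two_ne_zero_zmod (p := p) hp2
  obtain ⟨ι, hι⟩ : ∃ ι : {i : ZMod p // (2 * z - i ∈ D) ∧ (0 - i ∈ D)} →
      {i : ZMod p // (2 * z - i ∈ D) ∧ (0 - i ∈ D)}, ∀ x, ((ι x : _) : ZMod p) = 2 * z - x := by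
    refine ⟨fun x => ⟨2 * z - x, ?_, ?_⟩, fun x => rfl⟩
    · have := x.2.2
      rw [hD] at this
      have e1 : 2 * z - (2 * z - (x : ZMod p)) = -(0 - (x : ZMod p)) := by ring
      rw [e1]; exact this
    · have := x.2.1
      rw [hD] at this
      have e1 : 0 - (2 * z - (x : ZMod p)) = -(2 * z - (x : ZMod p)) := by ring
      rw [e1]; exact this
  have hinv : ∀ x, ι (ι x) = x := by
    intro x
    apply Subtype.ext
    rw [hι, hι]; ring
  have hmod := Cfsg.Agent.S1135.natCard_mod_fix ι hinv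
  rw [hmod]
  have hfix : ∀ x : {i : ZMod p // (2 * z - i ∈ D) ∧ (0 - i ∈ D)}, ι x = x ↔ (x : ZMod p) = z := by
    intro x
    constructor
    · intro h
      have h1 := congrArg Subtype.val h
      rw [hι] at h1
      have h3 : 2 * ((x : ZMod p) - z) = 0 := by
        have : 2 * ((x : ZMod p) - z) = (x : ZMod p) - (2 * z - x) := by ring
        rw [this, h1, sub_self]
      rcases mul_eq_zero.mp h3 with h4 | h4
      · exact absurd h4 h2
      · exact sub_eq_zero.mp h4
    · intro h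
      apply Subtype.ext
      rw [hι, h]; ring
  constructor
  · intro h
    have hne : Nat.card {x : {i : ZMod p // (2 * z - i ∈ D) ∧ (0 - i ∈ D)} // ι x = x} ≠ 0 := by
      intro h0
      rw [h0] at h
      omega
    rw [Nat.card_ne_zero] at hne
    obtain ⟨⟨x⟩, -⟩ := hne
    have hxz := (hfix x.1).mp x.2
    have := x.1.2.1
    rw [hxz] at this
    have e1 : 2 * z - z = z := by ring
    rwa [e1] at this
  · intro hz
    have hz' : (2 * z - z ∈ D) ∧ (0 - z ∈ D) := by
      have e1 : 2 * z - z = z := by ring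
      have e2 : 0 - z = -z := by ring
      rw [e1, e2]
      exact ⟨hz, (hD z).mp hz⟩
    have : Nat.card {x : {i : ZMod p // (2 * z - i ∈ D) ∧ (0 - i ∈ D)} // ι x = x} = 1 := by
      rw [Nat.card_eq_one_iff_unique]
      refine ⟨⟨?_⟩, ⟨⟨⟨z, hz'⟩, (hfix _).mpr rfl⟩⟩⟩
      intro a b
      apply Subtype.ext
      apply Subtype.ext
      rw [(hfix a.1).mp a.2, (hfix b.1).mp b.2]
    rw [this]

/-- a symmetric subset of `ZMod p` all of whose difference counts agree contains all or none of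
the nonzero residues -/
theorem all_or_none (hp2 : p ≠ 2) (D : Set (ZMod p)) (hD : ∀ j, j ∈ D ↔ -j ∈ D) (lam : ℕ)
    (hlam : ∀ u w : ZMod p, u ≠ w → Nat.card {i : ZMod p // (u - i ∈ D) ∧ (w - i ∈ D)} = lam)
    (z z' : ZMod p) (hz : z ≠ 0) (hz' : z' ≠ 0) : z ∈ D ↔ z' ∈ D := by
  have h2 := two_ne_zero_zmod (p := p) hp2
  have h1 := hlam (2 * z) 0 (mul_ne_zero h2 hz)
  have h1' := hlam (2 * z') 0 (mul_ne_zero h2 hz')
  rw [← card_mod_two hp2 D hD z, ← card_mod_two hp2 D hD z', h1, h1']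

end Cfsg.Agent.Helper4.SymDiffSet
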