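import Mathlib
import Cfsg.Agent.Lib.Helper4.PrimeDihedral
import Cfsg.Agent.Lib.Helper4.SymDiffSet

/-!
# Subgroups of index `p` in a 2-transitive group of prime degree `p` containing a reflection
(helper4)
-/

set_option autoImplicit false
set_option linter.unusedSectionVars false
set_option linter.unusedVariables false
set_option linter.style.haveILetI false

namespace Cfsg.Agent.Helper4.PrimeIndexP

open Equiv

variable {α : Type*} [Fintype α] [DecidableEq α] {p : ℕ} [hp : Fact p.Prime]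

theorem card_dvd_factorial (hα : Fintype.card α = p) (G : Subgroup (Perm α)) :
    Nat.card ↥G ∣ p.factorial := by
  have h1 := Subgroup.card_subgroup_dvd_card G
  rwa [Nat.card_eq_fintype_card (α := Perm α), Fintype.card_perm, hα] at h1

theorem not_dvd_card_of_index (hα : Fintype.card α = p) (G : Subgroup (Perm α))
    (H : Subgroup ↥G) (hH : H.index = p) : ¬ p ∣ Nat.card ↥H := by
  intro h
  apply PrimeDihedral.not_sq_dvd_factorial (p := p)
  refine Dvd.dvd.trans ?_ (card_dvd_factorial hα G)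
  rw [← Subgroup.card_mul_index H, hH, sq]
  exact Nat.mul_dvd_mul_right h p

theorem card_stabilizer_mul (hα : Fintype.card α = p) (G : Subgroup (Perm α))
    [MulAction.IsPretransitive G α] (a : α) :
    Nat.card (MulAction.stabilizer G a) * p = Nat.card G := by
  have h1 := MulAction.index_stabilizer_of_transitive (G := ↥G) (X := α) (x := a)
  rw [Nat.card_eq_fintype_card, hα] at h1
  rw [← h1]
  exact Subgroup.card_mul_index _

/-- the dihedral structure, with the reflection inside a given subgroup of index `p` -/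
theorem exists_dihedral_in (hα : Fintype.card α = p) (hp2 : p ≠ 2) (G : Subgroup (Perm α))
    [MulAction.IsPretransitive G α] (P : Sylow p G)
    (heven : Even (Nat.card (Subgroup.normalizer ((P : Subgroup G) : Set G))))
    (H : Subgroup ↥G) (hH : H.index = p) :
    ∃ (e : ZMod p ≃ α) (g t : ↥G), (∀ j, g • e j = e (j + 1)) ∧ (∀ j, t • e j = e (-j)) ∧
      t ∈ H := by
  obtain ⟨e, g, t, hg, ht, hto⟩ := PrimeDihedral.exists_dihedral hα hp2 G P heven
  -- `t` fixes a coset of `H`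
  have htp : IsPGroup 2 ↥(Subgroup.zpowers t) := by
    apply IsPGroup.of_card (n := 1)
    rw [Nat.card_zpowers, hto, pow_one]
  have hnd : ¬ 2 ∣ Nat.card (↥G ⧸ H) := by
    have : Nat.card (↥G ⧸ H) = p := hH
    rw [this]
    intro h
    rcases (Nat.dvd_prime hp.1).mp h with h1 | h1
    · omega
    · exact hp2 h1.symm
  haveI : Fact (Nat.Prime 2) := ⟨Nat.prime_two⟩
  obtain ⟨c, hc⟩ := htp.nonempty_fixed_point_of_prime_not_dvd_card (↥G ⧸ H) hnd
  obtain ⟨x, rfl⟩ := QuotientGroup.mk_surjective c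
  have hx : x⁻¹ * (t * x) ∈ H := by
    have h1 := hc ⟨t, Subgroup.mem_zpowers t⟩
    have h2 : ((t * x : ↥G) : ↥G ⧸ H) = (x : ↥G ⧸ H) := h1
    exact QuotientGroup.eq.mp h2.symm
  refine ⟨e.trans (MulAction.toPerm (x⁻¹ : ↥G)), x⁻¹ * g * x, x⁻¹ * (t * x), ?_, ?_, hx⟩
  · intro j
    show (x⁻¹ * g * x) • ((x⁻¹ : ↥G) • e j) = (x⁻¹ : ↥G) • e (j + 1)
    rw [← hg j]
    simp only [mul_smul, smul_inv_smul]
    rfl
  · intro j
    show (x⁻¹ * (t * x)) • ((x⁻¹ : ↥G) • e j) = (x⁻¹ : ↥G) • e (-j)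
    rw [← ht j]
    simp only [mul_smul, smul_inv_smul]
    rfl

theorem pow_smul_eq (G : Subgroup (Perm α)) (e : ZMod p ≃ α) (g : ↥G)
    (hg : ∀ j, g • e j = e (j + 1)) (n : ℕ) (j : ZMod p) :
    (g ^ n) • e j = e (j + (n : ZMod p)) := by
  induction n generalizing j with
  | zero => simp
  | succ n ih =>
    rw [pow_succ', mul_smul, ih, hg]
    congr 1
    push_cast; ring

theorem orderOf_eq (G : Subgroup (Perm α)) (e : ZMod p ≃ α) (g : ↥G)
    (hg : ∀ j, g • e j = e (j + 1)) : orderOf g = p := by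
  apply orderOf_eq_prime
  · apply Subtype.ext
    ext ω
    obtain ⟨j, rfl⟩ := e.surjective ω
    have := pow_smul_eq G e g hg p j
    rw [ZMod.natCast_self, add_zero] at this
    exact this
  · intro h
    have h1 := hg 0
    rw [h, one_smul, zero_add] at h1
    have h01 := e.injective h1
    haveI : Fact (1 < p) := ⟨hp.1.one_lt⟩
    exact zero_ne_one h01

/-- the main theorem: in the 2-transitive case a subgroup of index `p` containing the reflection
is the stabilizer of its centre -/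
theorem eq_stabilizer (hα : Fintype.card α = p) (hp2 : p ≠ 2) (G : Subgroup (Perm α))
    [MulAction.IsPretransitive G α] (h2 : MulAction.IsMultiplyPretransitive G α 2)
    (H : Subgroup ↥G) (hH : H.index = p) (e : ZMod p ≃ α) (g t : ↥G)
    (hg : ∀ j, g • e j = e (j + 1)) (ht : ∀ j, t • e j = e (-j)) (htH : t ∈ H) :
    H = MulAction.stabilizer ↥G (e 0) := by
  classical
  have hpH := not_dvd_card_of_index hα G H hH
  have hgo := orderOf_eq G e g hg
  have hHG : Nat.card ↥H * p = Nat.card ↥G := by rw [← hH]; exact Subgroup.card_mul_index H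
  obtain ⟨Δ, hΔ⟩ : ∃ Δ : Set α, Δ = MulAction.orbit ↥H (e 0) := ⟨_, rfl⟩
  obtain ⟨D, hDdef⟩ : ∃ D : Set (ZMod p), D = {j | e j ∈ Δ} := ⟨_, rfl⟩
  have hmemD : ∀ j, j ∈ D ↔ e j ∈ Δ := by intro j; rw [hDdef]; rfl
  have hsmul' : ∀ h : ↥G, h ∈ H → ∀ a, a ∈ Δ → h • a ∈ Δ := by
    intro h hh a ha
    rw [hΔ] at ha ⊢
    obtain ⟨h', rfl⟩ := ha
    refine ⟨⟨h, hh⟩ * h', ?_⟩
    show ((⟨h, hh⟩ : ↥H) * h') • e 0 = h • (h' • e 0)
    rw [mul_smul]; rfl
  have hsmul : ∀ h : ↥G, h ∈ H → ∀ a, (h • a ∈ Δ ↔ a ∈ Δ) := by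
    intro h hh a
    constructor
    · intro ha
      have := hsmul' h⁻¹ (H.inv_mem hh) _ ha
      rwa [inv_smul_smul] at this
    · exact hsmul' h hh a
  have hD : ∀ j, j ∈ D ↔ -j ∈ D := by
    intro j
    rw [hmemD, hmemD, ← ht j, hsmul t htH]
  have h0D : (0 : ZMod p) ∈ D := by
    rw [hmemD, hΔ]; exact MulAction.mem_orbit_self _
  -- the counting function
  obtain ⟨N, hN⟩ : ∃ N : α → α → ℕ, N = fun a b =>
      Nat.card {y : ↥G // y⁻¹ • a ∈ Δ ∧ y⁻¹ • b ∈ Δ} := ⟨_, rfl⟩
  have hNinv : ∀ (x : ↥G) (a b : α), N (x • a) (x • b) = N a b := by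
    intro x a b
    rw [hN]
    apply Nat.card_congr
    refine Equiv.subtypeEquiv (Equiv.mulLeft x⁻¹) (fun y => ?_)
    simp only [Equiv.coe_mulLeft, mul_inv_rev, inv_inv, mul_smul]
  -- the product decomposition of `G`
  obtain ⟨φ, hφ⟩ : ∃ φ : ZMod p × ↥H → ↥G, φ = fun x => g ^ (x.1.val) * (x.2 : ↥G) := ⟨_, rfl⟩
  haveI : NeZero p := ⟨hp.1.ne_zero⟩
  have hφinj : Function.Injective φ := by
    rintro ⟨i, h⟩ ⟨j, h'⟩ hij
    rw [hφ] at hij
    simp only at hij
    have h1 : (g ^ j.val)⁻¹ * g ^ i.val = (h' : ↥G) * (h : ↥G)⁻¹ := by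
      have : g ^ i.val = g ^ j.val * (h' : ↥G) * (h : ↥G)⁻¹ := by rw [← hij]; group
      rw [this]; group
    have h2 : (g ^ j.val)⁻¹ * g ^ i.val ∈ Subgroup.zpowers g ⊓ H := by
      refine Subgroup.mem_inf.mpr ⟨?_, ?_⟩
      · exact Subgroup.mul_mem _ (Subgroup.inv_mem _ (Subgroup.pow_mem _ (Subgroup.mem_zpowers g) _))
          (Subgroup.pow_mem _ (Subgroup.mem_zpowers g) _)
      · rw [h1]; exact H.mul_mem h'.2 (H.inv_mem h.2)
    have hcop : Nat.Coprime (Nat.card ↥(Subgroup.zpowers g)) (Nat.card ↥H) := by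
      rw [Nat.card_zpowers, hgo]
      exact (Nat.Prime.coprime_iff_not_dvd hp.1).mpr hpH
    rw [Subgroup.inf_eq_bot_of_coprime hcop, Subgroup.mem_bot] at h2
    have h3 : g ^ i.val = g ^ j.val := by
      have : g ^ i.val = g ^ j.val * ((g ^ j.val)⁻¹ * g ^ i.val) := by group
      rw [this, h2, mul_one]
    have h4 : i.val = j.val := by
      rw [pow_eq_pow_iff_modEq, hgo] at h3
      exact Nat.ModEq.eq_of_lt_of_lt h3 (ZMod.val_lt i) (ZMod.val_lt j)
    have h5 : i = j := ZMod.val_injective p h4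
    subst h5
    have h6 : (h : ↥G) = (h' : ↥G) := mul_left_cancel hij
    rw [Subtype.ext h6]
  have hφbij : Function.Bijective φ := by
    rw [Nat.bijective_iff_injective_and_card]
    refine ⟨hφinj, ?_⟩
    rw [Nat.card_prod, Nat.card_zmod, mul_comm, hHG]
  have hinvsmul : ∀ (n : ℕ) (u : ZMod p), (g ^ n)⁻¹ • e u = e (u - (n : ZMod p)) := by
    intro n u
    rw [inv_smul_eq_iff, pow_smul_eq G e g hg]
    congr 1; ring
  have hNform : ∀ u w : ZMod p, N (e u) (e w) =
      Nat.card {i : ZMod p // (u - i ∈ D) ∧ (w - i ∈ D)} * Nat.card ↥H := by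
    intro u w
    rw [hN, ← Nat.card_prod]
    apply Nat.card_congr
    refine Equiv.trans ?_ (Equiv.prodSubtypeFstEquivSubtypeProd
      (p := fun i : ZMod p => (u - i ∈ D) ∧ (w - i ∈ D)))
    symm
    refine Equiv.subtypeEquiv (Equiv.ofBijective φ hφbij) (fun x => ?_)
    have key : ∀ v : ZMod p, ((φ x)⁻¹ • e v ∈ Δ ↔ v - x.1 ∈ D) := by
      intro v
      rw [hφ]
      simp only
      rw [mul_inv_rev, mul_smul, hinvsmul, hsmul _ (H.inv_mem x.2.2), hmemD,
        ZMod.natCast_zmod_val]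
    show _ ↔ ((φ x)⁻¹ • e u ∈ Δ ∧ (φ x)⁻¹ • e w ∈ Δ)
    rw [key, key]
  have hHpos : 0 < Nat.card ↥H := Nat.card_pos
  rw [MulAction.is_two_pretransitive_iff] at h2
  have hconst : ∀ u w : ZMod p, u ≠ w →
      Nat.card {i : ZMod p // (u - i ∈ D) ∧ (w - i ∈ D)} =
      Nat.card {i : ZMod p // ((1 : ZMod p) - i ∈ D) ∧ ((0 : ZMod p) - i ∈ D)} := by
    intro u w huw
    haveI : Fact (1 < p) := ⟨hp.1.one_lt⟩
    obtain ⟨x, hx1, hx2⟩ := h2 (a := e u) (b := e w) (c := e 1) (d := e 0)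
      (fun h => huw (e.injective h)) (fun h => one_ne_zero (e.injective h))
    have h3 := hNinv x (e u) (e w)
    rw [hx1, hx2, hNform, hNform] at h3
    exact (Nat.eq_of_mul_eq_mul_right hHpos h3).symm
  haveI : Fact (1 < p) := ⟨hp.1.one_lt⟩
  have hall := SymDiffSet.all_or_none hp2 D hD _ hconst
  -- the two cases
  by_cases h1D : (1 : ZMod p) ∈ D
  · exfalso
    have hDall : ∀ z : ZMod p, z ∈ D := by
      intro z
      by_cases hz : z = 0
      · rw [hz]; exact h0D
      · exact (hall 1 z one_ne_zero hz).mp h1D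
    have hΔall : Δ = Set.univ := by
      rw [Set.eq_univ_iff_forall]
      intro ω
      obtain ⟨j, rfl⟩ := e.surjective ω
      exact (hmemD j).mp (hDall j)
    have h3 := MulAction.index_stabilizer ↥H (e 0)
    rw [← hΔ, hΔall, Set.ncard_univ, Nat.card_eq_fintype_card, hα] at h3
    apply hpH
    rw [← h3]
    exact Subgroup.index_dvd_card _
  · have hD0 : ∀ z : ZMod p, z ∈ D → z = 0 := by
      intro z hz
      by_contra hz0
      exact h1D ((hall z 1 hz0 one_ne_zero).mp hz)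
    have hle : H ≤ MulAction.stabilizer ↥G (e 0) := by
      intro h hh
      rw [MulAction.mem_stabilizer_iff]
      have h3 : h • e 0 ∈ Δ := (hsmul h hh _).mpr ((hmemD 0).mp h0D)
      obtain ⟨j, hj⟩ := e.surjective (h • e 0)
      rw [← hj] at h3 ⊢
      rw [hD0 j ((hmemD j).mpr h3)]
    apply Subgroup.eq_of_le_of_card_ge hle
    have h4 := card_stabilizer_mul hα G (e 0)
    have h5 : Nat.card ↥(MulAction.stabilizer ↥G (e 0)) = Nat.card ↥H :=
      Nat.eq_of_mul_eq_mul_right hp.1.pos (h4.trans hHG.symm)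
    rw [h5]

end Cfsg.Agent.Helper4.PrimeIndexP
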