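import Mathlib
import Cfsg.Agent.Lib.Helper4.PrimeIndexP

/-!
# Sylow `p`-subgroups of transitive groups of prime degree `p` (helper4)
-/

set_option autoImplicit false
set_option linter.unusedSectionVars false
set_option linter.unusedVariables false
set_option linter.style.haveILetI false

namespace Cfsg.Agent.Helper4.PrimeSylow

open Equiv

variable {α : Type*} [Fintype α] [DecidableEq α] {p : ℕ} [hp : Fact p.Prime]

theorem p_dvd_card (hα : Fintype.card α = p) (G : Subgroup (Perm α))
    [MulAction.IsPretransitive G α] : p ∣ Nat.card ↥G := by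
  haveI : Nonempty α := by
    rw [← Fintype.card_pos_iff, hα]; exact hp.1.pos
  obtain ⟨a⟩ := ‹Nonempty α›
  have h1 := MulAction.index_stabilizer_of_transitive (G := ↥G) (X := α) (x := a)
  rw [Nat.card_eq_fintype_card, hα] at h1
  rw [← h1]
  exact Subgroup.index_dvd_card _

/-- a subgroup of `G` of order divisible by `p` has `p`-part exactly `p` -/
theorem card_sylow (hα : Fintype.card α = p) (G : Subgroup (Perm α))
    [MulAction.IsPretransitive G α] (P : Sylow p G) : Nat.card ↥(P : Subgroup ↥G) = p := by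
  have hpG := p_dvd_card hα G
  have hGdvd := PrimeIndexP.card_dvd_factorial hα G
  obtain ⟨k, hk⟩ := IsPGroup.iff_card.mp P.2
  have hk1 : k ≤ 1 := by
    by_contra hk2
    apply PrimeDihedral.not_sq_dvd_factorial (p := p)
    refine (pow_dvd_pow p (by omega : 2 ≤ k)).trans ?_
    rw [← hk]
    exact (Subgroup.card_subgroup_dvd_card _).trans hGdvd
  have hk0 : k ≠ 0 := by
    intro h0
    rw [h0, pow_zero] at hk
    have := P.card_eq_multiplicity
    rw [hk] at this
    have h2 : (Nat.card ↥G).factorization p = 0 := by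
      by_contra hne
      have : 1 < p ^ (Nat.card ↥G).factorization p :=
        Nat.one_lt_pow hne hp.1.one_lt
      omega
    have h3 : 0 < (Nat.card ↥G).factorization p :=
      hp.1.factorization_pos_of_dvd Nat.card_pos.ne' hpG
    omega
  have : k = 1 := by omega
  rw [hk, this, pow_one]

/-- a generator of the Sylow subgroup, as the translation of `ZMod p` -/
theorem exists_gen (hα : Fintype.card α = p) (G : Subgroup (Perm α))
    [MulAction.IsPretransitive G α] (P : Sylow p G) :
    ∃ (e : ZMod p ≃ α) (g : ↥G), (P : Subgroup ↥G) = Subgroup.zpowers g ∧ orderOf g = p ∧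
      ∀ j, (g : Perm α) (e j) = e (j + 1) := by
  have hPcard := card_sylow hα G P
  obtain ⟨x, hx⟩ := exists_prime_orderOf_dvd_card' (G := ↥(P : Subgroup ↥G)) p
    (by rw [hPcard])
  obtain ⟨g, hg⟩ : ∃ g : ↥G, g = (x : ↥G) := ⟨_, rfl⟩
  have hgo : orderOf g = p := by rw [hg, Subgroup.orderOf_coe]; exact hx
  have hgP : g ∈ (P : Subgroup ↥G) := by rw [hg]; exact x.2
  have hσo : orderOf ((g : ↥G) : Perm α) = p := by rw [Subgroup.orderOf_coe]; exact hgo
  obtain ⟨e₀, he₀⟩ := Cfsg.Agent.Helper4.exists_equiv_zmod hα ((g : ↥G) : Perm α) hσo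
  have hPz : (P : Subgroup ↥G) = Subgroup.zpowers g := by
    symm
    apply Subgroup.eq_of_le_of_card_ge (Subgroup.zpowers_le.mpr hgP)
    rw [hPcard, Nat.card_zpowers, hgo]
  exact ⟨e₀, g, hPz, hgo, fun j => (he₀ j).symm⟩

/-- the Sylow subgroup is self-centralizing -/
theorem centralizer_eq (hα : Fintype.card α = p) (G : Subgroup (Perm α))
    [MulAction.IsPretransitive G α] (P : Sylow p G) :
    Subgroup.centralizer ((P : Subgroup ↥G) : Set ↥G) = (P : Subgroup ↥G) := by
  obtain ⟨e, g, hPz, hgo, hg⟩ := exists_gen hα G P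
  apply le_antisymm
  · intro c hc
    have hcg : g * c = c * g := hc g (by
      show g ∈ (P : Subgroup ↥G)
      rw [hPz]; exact Subgroup.mem_zpowers g)
    obtain ⟨d, hd⟩ : ∃ d : ZMod p, d = e.symm ((c : Perm α) (e 0)) := ⟨_, rfl⟩
    have hcg' : ∀ y : α, (c : Perm α) ((g : Perm α) y) = (g : Perm α) ((c : Perm α) y) := by
      intro y
      have := congrArg (fun z : ↥G => (z : Perm α) y) hcg
      simpa using this.symm
    have hpow : ∀ n : ℕ, (c : Perm α) (e (n : ZMod p)) = e ((n : ZMod p) + d) := by
      intro n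
      induction n with
      | zero => simp [hd]
      | succ n ih =>
        push_cast
        rw [← hg, hcg', ih, hg]
        congr 1
        ring
    have hall : ∀ j : ZMod p, (c : Perm α) (e j) = e (j + d) := by
      intro j
      have := hpow j.val
      rwa [ZMod.natCast_zmod_val] at this
    have hc_eq : c = g ^ d.val := by
      apply Subtype.ext
      ext y
      obtain ⟨j, rfl⟩ := e.surjective y
      rw [hall]
      have h1 := PrimeDihedral.zpow_apply ((g : ↥G) : Perm α) e (fun j => (hg j).symm)
        (d.val : ℤ) j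
      rw [zpow_natCast] at h1
      rw [Subgroup.coe_pow, h1]
      congr 1
      simp
    rw [hPz, hc_eq]
    exact Subgroup.pow_mem _ (Subgroup.mem_zpowers g) _
  · rw [hPz]
    intro x hx y hy
    obtain ⟨m, rfl⟩ := Subgroup.mem_zpowers_iff.mp hx
    obtain ⟨n, rfl⟩ := Subgroup.mem_zpowers_iff.mp hy
    exact (Commute.zpow_zpow_self g n m).eq

/-- order of the Sylow normalizer -/
theorem card_normalizer (hα : Fintype.card α = p) (G : Subgroup (Perm α))
    [MulAction.IsPretransitive G α] (P : Sylow p G) :
    ∃ k, k ∣ p - 1 ∧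
      Nat.card ↥(Subgroup.normalizer ((P : Subgroup ↥G) : Set ↥G)) = p * k := by
  have hPcard := card_sylow hα G P
  have key := Subgroup.card_dvd_of_injective _
    (QuotientGroup.kerLift_injective (P : Subgroup ↥G).normalizerMonoidHom)
  rw [Subgroup.normalizerMonoidHom_ker, ← Subgroup.index, ← Subgroup.relIndex] at key
  haveI : IsCyclic ↥(P : Subgroup ↥G) := isCyclic_of_prime_card hPcard
  rw [IsCyclic.card_mulAut, hPcard, Nat.totient_prime hp.1, centralizer_eq hα G P] at key
  refine ⟨_, key, ?_⟩
  have h1 := ((P : Subgroup ↥G).subgroupOf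
    (Subgroup.normalizer ((P : Subgroup ↥G) : Set ↥G))).card_mul_index
  have h2 : Nat.card ↥((P : Subgroup ↥G).subgroupOf
      (Subgroup.normalizer ((P : Subgroup ↥G) : Set ↥G))) = p := by
    refine Eq.trans ?_ hPcard
    exact Nat.card_congr (Subgroup.subgroupOfEquivOfLe Subgroup.le_normalizer).toEquiv
  rw [h2] at h1
  exact h1.symm

/-- the Sylow count -/
theorem card_eq_sylow_mul (hα : Fintype.card α = p) (G : Subgroup (Perm α))
    [MulAction.IsPretransitive G α] (P : Sylow p G) :
    Nat.card ↥G = Nat.card ↥(Subgroup.normalizer ((P : Subgroup ↥G) : Set ↥G)) *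
      Nat.card (Sylow p ↥G) ∧ Nat.card (Sylow p ↥G) ≡ 1 [MOD p] := by
  refine ⟨?_, card_sylow_modEq_one p ↥G⟩
  rw [Sylow.card_eq_index_normalizer P]
  exact (Subgroup.card_mul_index _).symm

/-- a nontrivial normal subgroup has order divisible by `p` -/
theorem p_dvd_card_normal (hα : Fintype.card α = p) (G : Subgroup (Perm α))
    [MulAction.IsPretransitive G α] (M : Subgroup ↥G) [M.Normal] (hM : M ≠ ⊥) :
    p ∣ Nat.card ↥M := by
  haveI : MulAction.IsPreprimitive ↥G α := by
    apply MulAction.IsPreprimitive.of_prime_card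
    rw [Nat.card_eq_fintype_card, hα]; exact hp.1
  have hfix : MulAction.fixedPoints ↥M α ≠ Set.univ := by
    intro h
    apply hM
    rw [Subgroup.eq_bot_iff_forall]
    intro m hm
    apply Subtype.ext
    ext y
    have : y ∈ MulAction.fixedPoints ↥M α := by rw [h]; exact Set.mem_univ y
    exact this ⟨m, hm⟩
  haveI : MulAction.IsPretransitive ↥M α :=
    MulAction.IsQuasiPreprimitive.isPretransitive_of_normal hfix
  haveI : Nonempty α := by
    rw [← Fintype.card_pos_iff, hα]; exact hp.1.pos
  obtain ⟨a⟩ := ‹Nonempty α›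
  have h1 := MulAction.index_stabilizer_of_transitive (G := ↥M) (X := α) (x := a)
  rw [Nat.card_eq_fintype_card, hα] at h1
  rw [← h1]
  exact Subgroup.index_dvd_card _

end Cfsg.Agent.Helper4.PrimeSylow
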