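import Mathlib
import Cfsg.Agent.Lib.Helper3.BSWDefs
import Cfsg.Agent.Lib.Helper4.BSWHSTRUCT
import Cfsg.Agent.Lib.Helper4.BSWCENT
import Cfsg.Agent.Lib.Helper4.BSWFUS
import Cfsg.Agent.Lib.Helper14.BSWNCGEN

/-! S3282, piece NCK: the class multiplication count `NC t t x` for `x ∈ K#`. -/

set_option autoImplicit false
set_option linter.unusedSectionVars false

namespace Cfsg.Agent.Helper3.BSW

universe u

variable {G : Type u} [Group G] [Finite G] {t s : G} {K : Subgroup G}

namespace NCK

open HSTRUCT

/-- conjugates of an involution are involutions -/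
theorem orderOf_of_isConj {G : Type u} [Group G] {a b : G} (hab : IsConj a b) :
    orderOf b = orderOf a := by
  obtain ⟨c, rfl⟩ := isConj_iff.1 hab
  have := (MulAut.conj c).orderOf_eq a
  simpa [MulAut.conj_apply] using this

/-- under `Hyp`, being conjugate to `t` is having order two -/
theorem isConj_iff_order_two (h : Hyp t s K) (u : G) : IsConj t u ↔ orderOf u = 2 := by
  constructor
  · intro hu
    rw [orderOf_of_isConj hu, h.ht]
  · intro hu
    exact h.hconj t u h.ht hu

/-- if `u`, `v` are involutions with `u v = x` then `u` inverts `x` -/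
theorem inverts_of_prod {G : Type u} [Group G] {u v x : G} (hu : orderOf u = 2) (hv : orderOf v = 2)
    (huv : u * v = x) : u * x * u⁻¹ = x⁻¹ := by
  have hu2 := mul_self_of_order_two hu
  have hv2 := mul_self_of_order_two hv
  have hui := inv_of_order_two hu
  subst huv
  rw [hui]
  have : (u * v)⁻¹ = v * u := by
    apply inv_eq_of_mul_eq_one_left
    calc v * u * (u * v) = v * (u * u) * v := by group
      _ = 1 := by rw [hu2, mul_one, hv2]
  rw [this]
  calc u * (u * v) * u = (u * u) * v * u := by group
    _ = v * u := by rw [hu2, one_mul]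

/-- the pairs of involutions with product `x ∈ K#` are the `(ks, ksx)`, `k ∈ K` -/
noncomputable def pairsEquiv (h : Hyp t s K) {x : G} (hx : x ∈ K) (h1 : x ≠ 1) :
    K ≃ {p : G × G // IsConj t p.1 ∧ IsConj t p.2 ∧ p.1 * p.2 = x} := by
  refine Equiv.ofBijective (fun k => ⟨((k : G) * s, (k : G) * s * x), ?_, ?_, ?_⟩) ⟨?_, ?_⟩
  · exact (isConj_iff_order_two h _).2 (coset_props h k.2).1
  · rw [isConj_iff_order_two h]
    have e : (k : G) * s * x = ((k : G) * x⁻¹) * s := by
      rw [mul_assoc, s_mul h hx, ← mul_assoc]
    rw [e]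
    exact (coset_props h (K.mul_mem k.2 (K.inv_mem hx))).1
  · have h2 := mul_self_of_order_two (coset_props h k.2).1
    change (k : G) * s * ((k : G) * s * x) = x
    rw [← mul_assoc, h2, one_mul]
  · intro a b hab
    have h' := congrArg (fun z : {p : G × G // IsConj t p.1 ∧ IsConj t p.2 ∧ p.1 * p.2 = x} =>
      z.1.1) hab
    have h'' : (a : G) * s = (b : G) * s := h'
    exact Subtype.ext (mul_right_cancel h'')
  · rintro ⟨⟨u, v⟩, hu, hv, huv⟩
    have hu2 : orderOf u = 2 := (isConj_iff_order_two h u).1 hu
    have hv2 : orderOf v = 2 := (isConj_iff_order_two h v).1 hv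
    have huv' : u * v = x := huv
    have hinv := inverts_of_prod hu2 hv2 huv'
    have hmem : u * x * u⁻¹ ∈ K := by rw [hinv]; exact K.inv_mem hx
    have huH := (conj_mem h hx h1 hmem).1
    have hv_eq : v = u * x := by
      have hui := inv_of_order_two hu2
      calc v = u⁻¹ * (u * v) := by group
        _ = u * x := by rw [huv', hui]
    rcases (mem_H_iff h u).1 huH with huK | ⟨k, hk, rfl⟩
    · exfalso
      have hut : u = t := by
        rcases sq_eq_one_mem h huK (mul_self_of_order_two hu2) with h' | h'
        · exact absurd h' (ne_one_of_order_two hu2)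
        · exact h'
      have hcomm : u * x * u⁻¹ = x := by
        rw [h.hKab u huK x hx, mul_assoc, mul_inv_cancel, mul_one]
      rw [hcomm] at hinv
      have hx2 : x * x = 1 := by
        nth_rewrite 1 [hinv]
        exact inv_mul_cancel x
      have hxt : x = t := by
        rcases sq_eq_one_mem h hx hx2 with h' | h'
        · exact absurd h' h1
        · exact h'
      have : v = 1 := by
        rw [hv_eq, hut, hxt]
        exact mul_self_of_order_two h.ht
      exact ne_one_of_order_two hv2 this
    · refine ⟨⟨k, hk⟩, ?_⟩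
      apply Subtype.ext
      change ((k : G) * s, (k : G) * s * x) = (k * s, v)
      rw [hv_eq]

end NCK

/-- PIECE NCK (G6). -/
theorem NC_on_K (h : Hyp t s K) {x : G} (hx : x ∈ K) (h1 : x ≠ 1) :
    NC t t x = 4 * Nat.card K ^ 3 := by
  rw [NC_eq, card_H h, ← Nat.card_congr (NCK.pairsEquiv h hx h1)]
  ring

end Cfsg.Agent.Helper3.BSW
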