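import Mathlib
import Cfsg.Agent.Lib.Helper3.BSWDefs
import Cfsg.Agent.Lib.Helper4.BSWHSTRUCT
import Cfsg.Agent.Lib.Helper4.BSWNCK
import Cfsg.Agent.Lib.Helper14.BSWNCGEN

/-! S3282, piece NCR: the class multiplication count `NC t t y` for `y ∈ R'`. -/

set_option autoImplicit false
set_option linter.unusedSectionVars false

namespace Cfsg.Agent.Helper3.BSW

universe u

variable {G : Type u} [Group G] [Finite G] {t s : G} {K : Subgroup G}

namespace NCR

open HSTRUCT NCK

/-- an element of `R'` is not an involution -/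
theorem not_order_two (h : Hyp t s K) {y : G} (hy : InR K y) : orderOf y ≠ 2 := by
  intro hy2
  obtain ⟨c, hc⟩ := isConj_iff.1 (h.hconj t y h.ht hy2)
  apply hy.2 c⁻¹
  have : c⁻¹ * y * c⁻¹⁻¹ = t := by
    rw [← hc]
    group
  rw [this]
  exact h.htK

/-- the pairs of involutions with product `y ∈ R'` correspond to the involutions inverting `y` -/
noncomputable def pairsEquiv (h : Hyp t s K) {y : G} (hy : InR K y) :
    {u : G // orderOf u = 2 ∧ u * y * u⁻¹ = y⁻¹} ≃
      {p : G × G // IsConj t p.1 ∧ IsConj t p.2 ∧ p.1 * p.2 = y} := by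
  refine Equiv.ofBijective (fun u => ⟨((u : G), (u : G) * y), ?_, ?_, ?_⟩) ⟨?_, ?_⟩
  · exact (isConj_iff_order_two h _).2 u.2.1
  · rw [isConj_iff_order_two h]
    have hu2 := mul_self_of_order_two u.2.1
    have hui := inv_of_order_two u.2.1
    have hinv := u.2.2
    rw [hui] at hinv
    have : Fact (Nat.Prime 2) := ⟨Nat.prime_two⟩
    apply orderOf_eq_prime
    · rw [sq]
      calc (u : G) * y * ((u : G) * y) = ((u : G) * y * (u : G)) * y := by group
        _ = y⁻¹ * y := by rw [hinv]
        _ = 1 := inv_mul_cancel y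
    · intro h1
      have h1 : (u : G) * y = 1 := h1
      apply not_order_two h hy
      have hyu : y = (u : G) := by
        calc y = (u : G)⁻¹ * ((u : G) * y) := by group
          _ = (u : G) := by rw [h1, mul_one, hui]
      rw [hyu]
      exact u.2.1
  · have hu2 := mul_self_of_order_two u.2.1
    change (u : G) * ((u : G) * y) = y
    rw [← mul_assoc, hu2, one_mul]
  · intro a b hab
    have h' := congrArg (fun z : {p : G × G // IsConj t p.1 ∧ IsConj t p.2 ∧ p.1 * p.2 = y} =>
      z.1.1) hab
    exact Subtype.ext h'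
  · rintro ⟨⟨u, v⟩, hu, hv, huv⟩
    have hu2 : orderOf u = 2 := (isConj_iff_order_two h u).1 hu
    have hv2 : orderOf v = 2 := (isConj_iff_order_two h v).1 hv
    have huv' : u * v = y := huv
    have hinv := inverts_of_prod hu2 hv2 huv'
    have hv_eq : v = u * y := by
      have hui := inv_of_order_two hu2
      calc v = u⁻¹ * (u * v) := by group
        _ = u * y := by rw [huv', hui]
    refine ⟨⟨u, hu2, hinv⟩, ?_⟩
    apply Subtype.ext
    change (u, u * y) = (u, v)
    rw [hv_eq]

end NCR

/-- PIECE NCR (G6). -/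
theorem NC_on_R (h : Hyp t s K) {y : G} (hy : InR K y) :
    NC t t y = 4 * Nat.card K ^ 2 * rc y := by
  rw [NC_eq, card_H h, ← Nat.card_congr (NCR.pairsEquiv h hy)]
  unfold rc
  ring

end Cfsg.Agent.Helper3.BSW
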