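import Mathlib
import Cfsg.Prelude.Def_JComponents
import Cfsg.Agent.Lib.Helper4.KSBootA
import Cfsg.Agent.Lib.Helper7.JC48B
import Cfsg.Agent.Lib.Helper25.KULOC
import Cfsg.Agent.Lib.Helper2.StronglyEmbedded
import Cfsg.Agent.S2947
import Cfsg.Agent.S1225

/-!
# KS12b bootstrap, part B (helper4): generalities — existence of maximal straddling subgroups,
`N_G(J(S)) ≤ L` for the unique maximal 2-local `L` over `S`, and the strongly embedded case.
-/

set_option autoImplicit false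

namespace Cfsg.Agent.Helper4.KSBoot

open Cfsg Cfsg.Agent.Helper15 Cfsg.Agent.Helper4.ZJ Cfsg.Agent.Helper7.JC48
  Cfsg.Agent.Helper27.KU

universe u

variable {G : Type u} [Group G] [Finite G]

/-- a nonempty family of straddling subgroups has a lexicographically maximal member -/
theorem exists_maxStraddling {M : Subgroup G} (h : (straddlingTwoSubgroups M).Nonempty) :
    (maxStraddlingTwoSubgroups M).Nonempty := by
  let f : Subgroup G → ℕ ×ₗ ℕ ×ₗ ℕ := fun T =>
    toLex (maxElemAbelianOrder T, toLex (Nat.card ↥(thompsonSubgroupOf 2 T), Nat.card ↥T))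
  obtain ⟨T₀, hT₀, hmax⟩ := Set.exists_max_image (straddlingTwoSubgroups M) f (Set.toFinite _) h
  refine ⟨T₀, hT₀, ?_⟩
  intro T hT
  have h1 := hmax T hT
  simp only [f] at h1
  rw [Prod.Lex.toLex_le_toLex] at h1
  rcases h1 with h1 | ⟨h1, h2⟩
  · refine ⟨h1.le, fun he => ?_⟩
    simp only at h1
    omega
  · simp only at h1 h2
    rw [Prod.Lex.toLex_le_toLex] at h2
    refine ⟨h1.le, fun _ => ?_⟩
    rcases h2 with h2 | ⟨h2, h3⟩
    · refine ⟨h2.le, fun he => ?_⟩
      simp only at h2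
      omega
    · simp only at h2 h3
      exact ⟨h2.le, fun _ => h3⟩

/-- a Sylow 2-subgroup of a group of even order is nontrivial -/
theorem sylow_ne_bot (hev : Even (Nat.card G)) (S : Sylow 2 G) : (S : Subgroup G) ≠ ⊥ := by
  haveI : Fact (Nat.Prime 2) := ⟨Nat.prime_two⟩
  intro h
  have h1 := S.card_eq_multiplicity
  rw [h, Subgroup.card_bot] at h1
  have h2 : (Nat.card G).factorization 2 = 0 := by
    by_contra hne
    have : 2 ≤ 2 ^ (Nat.card G).factorization 2 := by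
      calc 2 = 2 ^ 1 := by norm_num
        _ ≤ 2 ^ (Nat.card G).factorization 2 := Nat.pow_le_pow_right (by norm_num) (by omega)
    omega
  have h3 : 2 ∣ Nat.card G := even_iff_two_dvd.mp hev
  have h4 : 0 < (Nat.card G).factorization 2 :=
    Nat.Prime.factorization_pos_of_dvd Nat.prime_two Nat.card_pos.ne' h3
  omega

/-- if `L` is the only maximal 2-local over `S`, then `N_G(J(S)) ≤ L` -/
theorem normalizer_J_le_of_uniq (hev : Even (Nat.card G)) (S : Sylow 2 G) {L : Subgroup G}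
    (huniq : ∀ L' : Subgroup G, IsMaximalTwoLocal L' → (S : Subgroup G) ≤ L' → L' = L) :
    Subgroup.normalizer (thompsonSubgroupOf 2 (S : Subgroup G) : Set G) ≤ L := by
  haveI : Fact (Nat.Prime 2) := ⟨Nat.prime_two⟩
  have hS1 := sylow_ne_bot hev S
  have hloc : IsTwoLocal (Subgroup.normalizer (thompsonSubgroupOf 2 (S : Subgroup G) : Set G)) :=
    ⟨_, isPGroup_J S.isPGroup', J_ne_bot S.isPGroup' hS1, rfl⟩
  obtain ⟨L', hL', hle⟩ := exists_maximalTwoLocal_ge hloc
  have := huniq L' hL' ((le_normalizer_J _).trans hle)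
  exact this ▸ hle

/-- the strongly embedded case: all involutions of `L` lie in `O₂(L)`, so `J(S) = J(O₂(L))` -/
theorem boot_alpha (S : Sylow 2 G) {L : Subgroup G} (hLloc : IsTwoLocal L)
    (hSL : (S : Subgroup G) ≤ L) (hSE : IsStronglyEmbedded L) :
    L ≤ Subgroup.normalizer (thompsonSubgroupOf 2 (S : Subgroup G) : Set G) := by
  haveI : Fact (Nat.Prime 2) := ⟨Nat.prime_two⟩
  have hSE' := (Cfsg.Agent.Helper2.stronglyEmbedded_iff L).mp hSE
  obtain ⟨hLtop, -, hconj⟩ := hSE'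
  set Q := pCoreOf 2 L with hQ
  have hQ1 : Q ≠ ⊥ := loc_pCoreOf_ne_bot hLloc
  have hQ2 : IsPGroup 2 Q := Cfsg.Agent.Helper14.pCoreOf_isPGroup 2 L
  have hQL : Q ≤ L := Cfsg.Agent.Helper14.pCoreOf_le 2 L
  have hLQ : L ≤ Subgroup.normalizer (Q : Set G) := Cfsg.Agent.Helper14.le_normalizer_pCoreOf 2 L
  obtain ⟨z, hzQ, hz⟩ := exists_orderOf_eq_prime_of_ne_bot hQ2 hQ1
  obtain ⟨g, hg⟩ : ∃ g : G, g ∉ L := by
    by_contra hcon
    push Not at hcon
    exact hLtop (eq_top_iff.mpr fun x _ => hcon x)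
  have hu : orderOf (g⁻¹ * z * g) = 2 := by
    have := orderOf_conj' g⁻¹ z
    rw [inv_inv] at this
    rw [this, hz]
  have huL : g⁻¹ * z * g ∉ L := hconj g hg z hz (hQL hzQ)
  -- every involution of `L` lies in `Q`
  have hinv : ∀ t ∈ L, orderOf t = 2 → t ∈ Q := by
    intro t htL ht
    obtain ⟨⟨d, hd, hdt⟩, -⟩ :=
      Cfsg.Agent.S1225.result L hSE (g⁻¹ * z * g) hu huL z t hz (hQL hzQ) ht htL
    rw [← hdt]
    exact (Subgroup.mem_normalizer_iff.mp (hLQ hd.1) z).mp hzQ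
  -- hence `J(S) ≤ Q`
  have hJQ : thompsonSubgroupOf 2 (S : Subgroup G) ≤ Q := by
    apply thompsonSubgroupOf_le
    intro A hA a ha
    obtain ⟨hAS, hAe, -⟩ := mem_famE.1 hA
    have ha2 : a ^ 2 = 1 := hAe.2 a ha
    by_cases ha1 : a = 1
    · rw [ha1]; exact Q.one_mem
    · exact hinv a (hSL (hAS ha)) (orderOf_eq_prime ha2 ha1)
  have hQS : Q ≤ (S : Subgroup G) :=
    le_of_isSylowIn_of_normal (isSylowIn_of_sylow_le S hSL) hQ2 hQL (hSL.trans hLQ)
  have hJ : thompsonSubgroupOf 2 Q = thompsonSubgroupOf 2 (S : Subgroup G) :=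
    J_eq_of_between hJQ hQS
  rw [← hJ]
  exact hLQ.trans (normalizer_le_normalizer_J Q)

end Cfsg.Agent.Helper4.KSBoot
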