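import Mathlib
import Cfsg.Prelude.Def_JComponents
import Cfsg.Agent.Lib.Helper4.KSBootB

/-!
# KS12b bootstrap, part C (helper4): the configuration `T < U ≤ L`, `T` Sylow in two distinct
maximal 2-locals `P₁`, `P₂` of shape `S₄` or `S₄ × C₂`.
-/

set_option autoImplicit false

namespace Cfsg.Agent.Helper4.KSBoot

open Cfsg Cfsg.Agent.Helper15 Cfsg.Agent.Helper4.ZJ Cfsg.Agent.Helper7.JC48
  Cfsg.Agent.Helper27.KU

universe u

variable {G : Type u} [Group G] [Finite G]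

/-- the configuration -/
structure Config (U : Sylow 2 G) (L T P₁ P₂ E₁ E₂ : Subgroup G) : Prop where
  hLmax : IsMaximalTwoLocal L
  hUL : (U : Subgroup G) ≤ L
  hTU : T ≤ (U : Subgroup G)
  hTne : T ≠ (U : Subgroup G)
  hP₁ : IsMaximalTwoLocal P₁
  hP₂ : IsMaximalTwoLocal P₂
  hne : P₁ ≠ P₂
  hS₁ : IsSylowIn 2 T P₁
  hS₂ : IsSylowIn 2 T P₂
  pk₁ : Pkg T P₁ E₁
  pk₂ : Pkg T P₂ E₂
  hcard : Nat.card E₁ = Nat.card E₂

namespace Config

variable {U : Sylow 2 G} {L T P₁ P₂ E₁ E₂ : Subgroup G}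

theorem symm (c : Config U L T P₁ P₂ E₁ E₂) : Config U L T P₂ P₁ E₂ E₁ :=
  ⟨c.hLmax, c.hUL, c.hTU, c.hTne, c.hP₂, c.hP₁, c.hne.symm, c.hS₂, c.hS₁, c.pk₂, c.pk₁,
    c.hcard.symm⟩

theorem isPGroup_E₁ (c : Config U L T P₁ P₂ E₁ E₂) : IsPGroup 2 E₁ :=
  c.hS₁.isPGroup.to_le c.pk₁.le

theorem normalizer_E₁ (c : Config U L T P₁ P₂ E₁ E₂) :
    Subgroup.normalizer (E₁ : Set G) = P₁ :=
  c.hP₁.2 _ ⟨E₁, c.isPGroup_E₁, c.pk₁.ne_bot, rfl⟩ c.pk₁.norm

theorem E₁_ne (c : Config U L T P₁ P₂ E₁ E₂) : E₁ ≠ E₂ := by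
  intro h
  apply c.hne
  rw [← c.normalizer_E₁, ← c.symm.normalizer_E₁, h]

theorem not_le (c : Config U L T P₁ P₂ E₁ E₂) : ¬ E₁ ≤ E₂ := by
  intro h
  exact c.E₁_ne (Subgroup.eq_of_le_of_card_ge h c.hcard.ge)

/-- exponent-two subgroups of `T` lie in `E₁` or `E₂` -/
theorem exp_two_le (c : Config U L T P₁ P₂ E₁ E₂) {A : Subgroup G} (hAT : A ≤ T)
    (hA : ∀ a ∈ A, a * a = 1) : A ≤ E₁ ∨ A ≤ E₂ := by
  apply le_or_le_of_exp_two c.not_le c.pk₁.le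
    (fun a ha b hb ha' hb' => mul_mem_of_relIndex_two c.pk₂.idx2 ha hb ha' hb')
    c.pk₁.exp c.pk₂.exp (fun x hx h => c.pk₁.cent x (c.hS₁.le hx) h) hAT hA

theorem inf_P₁ (c : Config U L T P₁ P₂ E₁ E₂) : (U : Subgroup G) ⊓ P₁ = T :=
  c.hS₁.eq_of_le (U.isPGroup'.to_le inf_le_left) (le_inf c.hTU c.hS₁.le) inf_le_right

/-- a conjugate of `E₁` by an element normalizing `T` is `E₁` or `E₂` -/
theorem conj_cases (c : Config U L T P₁ P₂ E₁ E₂) {x : G}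
    (hx : x ∈ Subgroup.normalizer (T : Set G)) :
    E₁.map (MulAut.conj x).toMonoidHom = E₁ ∨ E₁.map (MulAut.conj x).toMonoidHom = E₂ := by
  have h1 : E₁.map (MulAut.conj x).toMonoidHom ≤ T := by
    rw [← map_conj_eq_of_mem_normalizer hx]
    exact map_conj_mono c.pk₁.le x
  have h2 : ∀ a ∈ E₁.map (MulAut.conj x).toMonoidHom, a * a = 1 := by
    rintro _ ⟨y, hy, rfl⟩
    rw [← map_mul, c.pk₁.exp y hy, map_one]
  rcases c.exp_two_le h1 h2 with h | h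
  · left
    exact Subgroup.eq_of_le_of_card_ge h (card_map_conj E₁ x).ge
  · right
    exact Subgroup.eq_of_le_of_card_ge h (by rw [card_map_conj, c.hcard])

/-- an element of `U` normalizing `T` outside `T` swaps `E₁` and `E₂` -/
theorem swap (c : Config U L T P₁ P₂ E₁ E₂) {x : G} (hxU : x ∈ (U : Subgroup G))
    (hx : x ∈ Subgroup.normalizer (T : Set G)) (hxT : x ∉ T) :
    E₁.map (MulAut.conj x).toMonoidHom = E₂ := by
  rcases c.conj_cases hx with h | h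
  · exfalso
    apply hxT
    rw [← c.inf_P₁]
    refine Subgroup.mem_inf.mpr ⟨hxU, ?_⟩
    rw [← c.normalizer_E₁]
    exact mem_normalizer_of_map_conj_eq h
  · exact h

/-- `T = E₁ E₂`, so whatever commutes with `E₁` and `E₂` elementwise commutes with `T` -/
theorem comm_T (c : Config U L T P₁ P₂ E₁ E₂) {v : G} (h1 : ∀ e ∈ E₁, e * v = v * e)
    (h2 : ∀ e ∈ E₂, e * v = v * e) : ∀ t ∈ T, t * v = v * t := by
  intro t ht
  by_cases ht1 : t ∈ E₁
  · exact h1 t ht1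
  · obtain ⟨e₀, he₀2, he₀1⟩ := SetLike.not_le_iff_exists.mp c.symm.not_le
    have h3 : t * e₀ ∈ E₁ :=
      mul_mem_of_relIndex_two c.pk₁.idx2 ht (c.pk₂.le he₀2) ht1 he₀1
    have h4 := h1 _ h3
    have h5 := h2 _ he₀2
    have h6 : t * v * e₀ = v * t * e₀ := by
      calc t * v * e₀ = t * (v * e₀) := by group
        _ = t * (e₀ * v) := by rw [h5]
        _ = t * e₀ * v := by group
        _ = v * (t * e₀) := h4
        _ = v * t * e₀ := by group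
    exact mul_right_cancel h6

end Config

end Cfsg.Agent.Helper4.KSBoot
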