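import Mathlib
import Cfsg.Prelude.Def_JComponents
import Cfsg.Agent.Lib.Helper4.KSBootC
import Cfsg.Agent.Lib.Helper14.Normalize

/-!
# KS12b bootstrap, part D (helper4): in the configuration of part C, `L ≤ N_G(J(U))`.
-/

set_option autoImplicit false

namespace Cfsg.Agent.Helper4.KSBoot

open Cfsg Cfsg.Agent.Helper15 Cfsg.Agent.Helper4.ZJ Cfsg.Agent.Helper7.JC48
  Cfsg.Agent.Helper27.KU

universe u

variable {G : Type u} [Group G] [Finite G]

theorem key_arith : ∀ d v : ℕ, d ∣ 8 → d ≠ 8 → v ∣ d → 2 < v → d ≤ v := by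
  intro d v hd hd8 hv hv2
  have hd' : d ≤ 8 := Nat.le_of_dvd (by norm_num) hd
  have hdpos : 0 < d := Nat.pos_of_dvd_of_pos hd (by norm_num)
  have hv' : v ≤ d := Nat.le_of_dvd hdpos hv
  interval_cases d <;> interval_cases v <;> omega

namespace Config

variable {U : Sylow 2 G} {L T P₁ P₂ E₁ E₂ : Subgroup G}

theorem main (hL : IsCharacteristicTwoType G)
    (hZ : ∀ S : Sylow 2 G, Subgroup.centralizer (omegaCenterOf (S : Subgroup G) : Set G) ≤
      Subgroup.normalizer ((S : Subgroup G) : Set G))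
    (c : Config U L T P₁ P₂ E₁ E₂)
    (hcase : Nat.card E₁ = 4 ∨
      (Nat.card E₁ = 8 ∧ ∃ c₁ ∈ E₁, c₁ ≠ 1 ∧ ∀ x ∈ P₁, x * c₁ = c₁ * x)) :
    L ≤ Subgroup.normalizer (thompsonSubgroupOf 2 (U : Subgroup G) : Set G) := by
  haveI : Fact (Nat.Prime 2) := ⟨Nat.prime_two⟩
  have hchar : L ⊓ Subgroup.centralizer (pCoreOf 2 L : Set G) ≤ pCoreOf 2 L := by
    obtain ⟨R, hR2, hR1, hLR⟩ := c.hLmax.1
    rw [hLR]
    exact Cfsg.Agent.Helper14.charP_iff_ambient.mp (hL.2 R hR2 hR1)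
  set Q := pCoreOf 2 L with hQ
  have hQL : Q ≤ L := Cfsg.Agent.Helper14.pCoreOf_le 2 L
  have hLQ : L ≤ Subgroup.normalizer (Q : Set G) := Cfsg.Agent.Helper14.le_normalizer_pCoreOf 2 L
  have hQ2 : IsPGroup 2 Q := Cfsg.Agent.Helper14.pCoreOf_isPGroup 2 L
  have hSylU : IsSylowIn 2 (U : Subgroup G) L := isSylowIn_of_sylow_le U c.hUL
  have hQU : Q ≤ (U : Subgroup G) :=
    le_of_isSylowIn_of_normal hSylU hQ2 hQL (c.hUL.trans hLQ)
  set V := omegaCenterOf Q with hV
  have hmemV : ∀ x, x ∈ V ↔ x ∈ Q ∧ x ∈ Subgroup.centralizer (Q : Set G) ∧ x ^ 2 = 1 :=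
    fun x => Cfsg.Agent.Helper14.mem_omegaOne_center_iff
  have hLV : L ≤ Subgroup.normalizer (V : Set G) :=
    Cfsg.Agent.Helper14.le_normalizer_omegaOne (Cfsg.Agent.Helper14.le_normalizer_inf hLQ
      (Cfsg.Agent.Helper14.le_normalizer_centralizer_of_le_normalizer hLQ))
  have hVexp : ∀ x ∈ V, x * x = 1 := by
    intro x hx
    have := ((hmemV x).mp hx).2.2
    rwa [pow_two] at this
  have hVQ : V ≤ Q := fun x hx => ((hmemV x).mp hx).1
  have hVU : V ≤ (U : Subgroup G) := hVQ.trans hQU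
  have hZV : omegaCenterOf (U : Subgroup G) ≤ V := by
    intro x hx
    have hx' : x ∈ (U : Subgroup G) ∧ x ∈ Subgroup.centralizer ((U : Subgroup G) : Set G) ∧
        x ^ 2 = 1 := Cfsg.Agent.Helper14.mem_omegaOne_center_iff.mp hx
    have hxC : x ∈ Subgroup.centralizer (Q : Set G) := Subgroup.centralizer_le hQU hx'.2.1
    exact (hmemV x).mpr ⟨hchar ⟨c.hUL hx'.1, hxC⟩, hxC, hx'.2.2⟩
  have hCV : Subgroup.centralizer (V : Set G) ≤ Subgroup.normalizer ((U : Subgroup G) : Set G) :=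
    (Subgroup.centralizer_le hZV).trans (hZ U)
  have hdone : L ≤ Subgroup.centralizer (V : Set G) →
      L ≤ Subgroup.normalizer (thompsonSubgroupOf 2 (U : Subgroup G) : Set G) :=
    fun h => (h.trans hCV).trans (normalizer_le_normalizer_J _)
  -- the swapping element
  have hTlt : T < (U : Subgroup G) := lt_of_le_of_ne c.hTU c.hTne
  obtain ⟨u, huU, huN, huT⟩ := exists_mem_normalizer_not_mem U.isPGroup' hTlt
  have hsw1 := c.swap huU huN huT
  have hsw2 := c.symm.swap huU huN huT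
  have hb1 : V ⊓ T ≤ E₁ ⊓ E₂ := by
    have hA : ∀ a ∈ V ⊓ T, a * a = 1 := fun a ha => hVexp a ha.1
    have hinv : ∀ a ∈ V ⊓ T, u⁻¹ * a * u ∈ V ⊓ T := by
      intro a ha
      have hu1 : u⁻¹ ∈ Subgroup.normalizer (V : Set G) := Subgroup.inv_mem _ (hLV (c.hUL huU))
      have hu2 : u⁻¹ ∈ Subgroup.normalizer (T : Set G) := Subgroup.inv_mem _ huN
      refine ⟨?_, ?_⟩
      · have := (Subgroup.mem_normalizer_iff.mp hu1 a).mp ha.1
        simpa using this
      · have := (Subgroup.mem_normalizer_iff.mp hu2 a).mp ha.2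
        simpa using this
    rcases c.exp_two_le inf_le_right hA with h | h
    · intro a ha
      have h2 : a ∈ E₂ := by
        rw [← hsw1, mem_map_conj_iff]
        exact h (hinv a ha)
      exact Subgroup.mem_inf.mpr ⟨h ha, h2⟩
    · intro a ha
      have h2 : a ∈ E₁ := by
        rw [← hsw2, mem_map_conj_iff]
        exact h (hinv a ha)
      exact Subgroup.mem_inf.mpr ⟨h2, h ha⟩
  have hVE₁ : V ≤ E₁ := by
    apply le_of_inf_normalizer_le (p := 2)
    · exact (c.pk₁.le.trans c.hTU).trans (c.hUL.trans hLV)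
    · exact U.isPGroup'.to_le (sup_le hVU (c.pk₁.le.trans c.hTU))
    · intro x hxV hxN
      have hxT : x ∈ T := by
        rw [← c.inf_P₁]
        exact ⟨hVU hxV, by rw [← c.normalizer_E₁]; exact hxN⟩
      exact (hb1 ⟨hxV, hxT⟩).1
  have hVE₂ : V ≤ E₂ := by
    apply le_of_inf_normalizer_le (p := 2)
    · exact (c.pk₂.le.trans c.hTU).trans (c.hUL.trans hLV)
    · exact U.isPGroup'.to_le (sup_le hVU (c.pk₂.le.trans c.hTU))
    · intro x hxV hxN
      have hxT : x ∈ T := by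
        rw [← c.symm.inf_P₁]
        exact ⟨hVU hxV, by rw [← c.symm.normalizer_E₁]; exact hxN⟩
      exact (hb1 ⟨hxV, hxT⟩).2
  have hVD : V ≤ E₁ ⊓ E₂ := le_inf hVE₁ hVE₂
  have hDdvd : Nat.card ↥(E₁ ⊓ E₂) ∣ Nat.card E₁ := Subgroup.card_dvd_of_le inf_le_left
  have hDne : Nat.card ↥(E₁ ⊓ E₂) ≠ Nat.card E₁ := by
    intro h
    apply c.not_le
    have := Subgroup.eq_of_le_of_card_ge (inf_le_left : E₁ ⊓ E₂ ≤ E₁) h.ge
    rw [← this]
    exact inf_le_right
  rcases hcase with hc4 | ⟨hc8, c₁, hc₁E, hc₁1, hc₁c⟩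
  · -- the `S₄` case
    rw [hc4] at hDdvd hDne
    have hD2 : Nat.card ↥(E₁ ⊓ E₂) ≤ 2 := by
      have h4 : Nat.card ↥(E₁ ⊓ E₂) ≤ 4 := Nat.le_of_dvd (by norm_num) hDdvd
      have h3 : Nat.card ↥(E₁ ⊓ E₂) ≠ 3 := by
        intro h
        rw [h] at hDdvd
        omega
      omega
    exact hdone (le_centralizer_of_card_le_two hLV ((Subgroup.card_le_of_le hVD).trans hD2))
  · -- the `S₄ × C₂` case
    by_cases hcV : L ≤ Subgroup.centralizer (V : Set G)
    · exact hdone hcV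
    have hV2 : 2 < Nat.card V := by
      by_contra h
      exact hcV (le_centralizer_of_card_le_two hLV (by omega))
    rw [hc8] at hDdvd hDne
    have hVDeq : V = E₁ ⊓ E₂ :=
      Subgroup.eq_of_le_of_card_ge hVD
        (key_arith _ _ hDdvd hDne (Subgroup.card_dvd_of_le hVD) hV2)
    have hc₁T : c₁ ∈ T := c.pk₁.le hc₁E
    have hc₁E₂ : c₁ ∈ E₂ :=
      c.pk₂.cent c₁ (c.hS₂.le hc₁T) (fun y hy => (hc₁c y (c.hS₁.le (c.pk₂.le hy))).symm)
    have hc₁V : c₁ ∈ V := by
      rw [hVDeq]; exact ⟨hc₁E, hc₁E₂⟩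
    set K := L ⊓ Subgroup.centralizer (V : Set G) with hK
    set R := pCoreOf 2 K with hR
    have hTC : T ≤ Subgroup.centralizer (V : Set G) := by
      intro t ht
      rw [Subgroup.mem_centralizer_iff]
      intro v hv
      exact (c.comm_T (v := v) (fun e he => comm_of_exp_two c.pk₁.exp he (hVE₁ hv))
        (fun e he => comm_of_exp_two c.pk₂.exp he (hVE₂ hv)) t ht).symm
    have hKN : K ≤ Subgroup.normalizer ((U : Subgroup G) : Set G) := inf_le_right.trans hCV
    have hUK2 : IsPGroup 2 ↥((U : Subgroup G) ⊓ K) := U.isPGroup'.to_le inf_le_left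
    have hUKR : (U : Subgroup G) ⊓ K ≤ R :=
      Cfsg.Agent.Helper14.le_pCoreOf inf_le_right
        (Cfsg.Agent.Helper14.le_normalizer_inf hKN Subgroup.le_normalizer) hUK2
    have hTR : T ≤ R := (le_inf c.hTU (le_inf (c.hTU.trans c.hUL) hTC)).trans hUKR
    have hLK : L ≤ Subgroup.normalizer (K : Set G) :=
      Cfsg.Agent.Helper14.le_normalizer_inf Subgroup.le_normalizer
        (Cfsg.Agent.Helper14.le_normalizer_centralizer_of_le_normalizer hLV)
    have hLR : L ≤ Subgroup.normalizer (R : Set G) :=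
      hLK.trans (Cfsg.Agent.Helper14.normalizer_le_normalizer_pCoreOf 2 K)
    have hRK : R ≤ K := Cfsg.Agent.Helper14.pCoreOf_le 2 K
    have hR2 : IsPGroup 2 R := Cfsg.Agent.Helper14.pCoreOf_isPGroup 2 K
    have hRU : R ≤ (U : Subgroup G) :=
      le_of_isSylowIn_of_normal hSylU hR2 (hRK.trans inf_le_left) (c.hUL.trans hLR)
    have hRC : R ≤ Subgroup.centralizer (V : Set G) := hRK.trans inf_le_right
    have hRT : R = T := by
      by_contra hne
      have hlt : T < R := lt_of_le_of_ne hTR (Ne.symm hne)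
      obtain ⟨u', hu'R, hu'N, hu'T⟩ := exists_mem_normalizer_not_mem hR2 hlt
      have hsw' := c.swap (hRU hu'R) hu'N hu'T
      have hP : P₂ = P₁.map (MulAut.conj u').toMonoidHom := by
        rw [← c.normalizer_E₁, ← c.symm.normalizer_E₁, ← hsw', normalizer_map_conj]
      have hcomm : Commute u' c₁ :=
        ((Subgroup.mem_centralizer_iff.mp (hRC hu'R)) c₁ hc₁V).symm
      have hc₁P₂ : ∀ x ∈ P₂, x * c₁ = c₁ * x := by
        intro x hx
        rw [hP, mem_map_conj_iff] at hx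
        have h1 : Commute (u'⁻¹ * x * u') c₁ := hc₁c _ hx
        have h2 : Commute (u' * (u'⁻¹ * x * u') * u'⁻¹) c₁ :=
          (hcomm.mul_left h1).mul_left hcomm.inv_left
        have e1 : u' * (u'⁻¹ * x * u') * u'⁻¹ = x := by group
        rw [e1] at h2
        exact h2
      have hz2 : IsPGroup 2 (Subgroup.zpowers c₁) :=
        c.isPGroup_E₁.to_le (by rw [Subgroup.zpowers_le]; exact hc₁E)
      have hz1 : Subgroup.zpowers c₁ ≠ ⊥ := by
        rw [Ne, Subgroup.zpowers_eq_bot]; exact hc₁1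
      have hloc : IsTwoLocal (Subgroup.normalizer (Subgroup.zpowers c₁ : Set G)) :=
        ⟨_, hz2, hz1, rfl⟩
      have hcen : ∀ P : Subgroup G, (∀ x ∈ P, x * c₁ = c₁ * x) →
          P ≤ Subgroup.normalizer (Subgroup.zpowers c₁ : Set G) := by
        intro P hP
        apply le_normalizer_of_conj_mem
        intro g hg y hy
        obtain ⟨k, rfl⟩ := Subgroup.mem_zpowers_iff.mp hy
        have h1 : Commute g (c₁ ^ k) := Commute.zpow_right (hP g hg) k
        have e1 : g * c₁ ^ k * g⁻¹ = c₁ ^ k := by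
          rw [h1.eq, mul_assoc, mul_inv_cancel, mul_one]
        rw [e1]
        exact Subgroup.zpow_mem_zpowers c₁ k
      have e1 := c.hP₁.2 _ hloc (hcen P₁ hc₁c)
      have e2 := c.hP₂.2 _ hloc (hcen P₂ hc₁P₂)
      exact c.hne (e1.symm.trans e2)
    have hLT : L ≤ Subgroup.normalizer (T : Set G) := hRT ▸ hLR
    have hLP : L ⊓ P₁ ≤ T := by
      have h3 := Subgroup.relIndex_mul_relIndex T (L ⊓ P₁) P₁
        (le_inf (c.hTU.trans c.hUL) c.hS₁.le) inf_le_right
      rw [c.pk₁.idx3] at h3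
      have h4 : (L ⊓ P₁).relIndex P₁ ≠ 1 := by
        intro h
        rw [Subgroup.relIndex_eq_one] at h
        have hPL : P₁ ≤ L := h.trans inf_le_left
        have hLP : L = P₁ := c.hP₁.2 L c.hLmax.1 hPL
        exact c.hTne (c.hS₁.eq_of_le U.isPGroup' c.hTU (hLP ▸ c.hUL)).symm
      have h5 : T.relIndex (L ⊓ P₁) = 1 := by
        have h6 : (L ⊓ P₁).relIndex P₁ ∣ 3 := ⟨_, by rw [← h3, mul_comm]⟩
        rcases (Nat.dvd_prime Nat.prime_three).mp h6 with h7 | h7
        · exact absurd h7 h4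
        · rw [h7] at h3
          omega
      rwa [Subgroup.relIndex_eq_one] at h5
    have hLU : L ≤ (U : Subgroup G) := by
      intro g hg
      rcases c.conj_cases (hLT hg) with h | h
      · have h1 : g ∈ L ⊓ P₁ :=
          ⟨hg, by rw [← c.normalizer_E₁]; exact mem_normalizer_of_map_conj_eq h⟩
        exact c.hTU (hLP h1)
      · have h1 : E₁.map (MulAut.conj (u⁻¹ * g)).toMonoidHom = E₁ := by
          rw [← map_conj_map_conj, h, ← hsw1, map_conj_inv_map_conj]
        have h2 : u⁻¹ * g ∈ L ⊓ P₁ :=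
          ⟨L.mul_mem (L.inv_mem (c.hUL huU)) hg,
            by rw [← c.normalizer_E₁]; exact mem_normalizer_of_map_conj_eq h1⟩
        have h3 : u⁻¹ * g ∈ (U : Subgroup G) := c.hTU (hLP h2)
        have e1 : g = u * (u⁻¹ * g) := by group
        rw [e1]
        exact Subgroup.mul_mem _ huU h3
    exact hLU.trans (le_normalizer_J _)

end Config

end Cfsg.Agent.Helper4.KSBoot
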