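import Mathlib
import Cfsg.Prelude.Def_JComponents
import Cfsg.Agent.Lib.Helper4.KSBootD

/-!
# KS12b bootstrap (helper4)

`MainMax G` is the conclusion of S2954 for MAXIMAL 2-locals `M ⊇ N_G(J(S))`.  Assuming it, the
theorem `boot` shows: if the Sylow 2-subgroup `S` lies in a unique maximal 2-local `L`, then
`L = N_G(J(S))`, i.e. `J(S) ⊴ L`.  This is the "open case" `T = S` of S2951–S2953 and the reduction
of S2954 from arbitrary 2-locals `M` to maximal ones.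
-/

set_option autoImplicit false

namespace Cfsg.Agent.Helper4.KSBoot

open Cfsg Cfsg.Agent.Helper15 Cfsg.Agent.Helper4.ZJ Cfsg.Agent.Helper7.JC48
  Cfsg.Agent.Helper27.KU

universe u

/-- the conclusion of S2954, for maximal 2-locals `M` only -/
def MainMax (G : Type u) [Group G] : Prop :=
  ∀ (S : Sylow 2 G) (M : Subgroup G), IsMaximalTwoLocal M →
    Subgroup.normalizer (thompsonSubgroupOf 2 (S : Subgroup G) : Set G) ≤ M →
    ∀ T ∈ maxStraddlingTwoSubgroups M,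
      ∃ P₁ P₂ : Subgroup G, P₁ ≠ P₂ ∧ IsMaximalTwoLocal P₁ ∧ IsMaximalTwoLocal P₂ ∧
        IsSylowTwoIn T P₁ ∧ IsSylowTwoIn T P₂ ∧
        ((Nonempty (↥P₁ ≃* Equiv.Perm (Fin 4)) ∧ Nonempty (↥P₂ ≃* Equiv.Perm (Fin 4))) ∨
          (Nonempty (↥P₁ ≃* Equiv.Perm (Fin 4) × Multiplicative (ZMod 2)) ∧
            Nonempty (↥P₂ ≃* Equiv.Perm (Fin 4) × Multiplicative (ZMod 2))))

variable {G : Type u} [Group G] [Finite G]

/-- the bootstrap for a Sylow 2-subgroup `U` containing a member of `T*(L)` -/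
theorem boot_core (hL : IsCharacteristicTwoType G)
    (hZ : ∀ S : Sylow 2 G, Subgroup.centralizer (omegaCenterOf (S : Subgroup G) : Set G) ≤
      Subgroup.normalizer ((S : Subgroup G) : Set G))
    (hMain : MainMax G) (U : Sylow 2 G) {L : Subgroup G} (hLmax : IsMaximalTwoLocal L)
    (hUL : (U : Subgroup G) ≤ L)
    (huniq : ∀ L' : Subgroup G, IsMaximalTwoLocal L' → (U : Subgroup G) ≤ L' → L' = L)
    {T : Subgroup G} (hT : T ∈ maxStraddlingTwoSubgroups L) (hTU : T ≤ (U : Subgroup G)) :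
    L ≤ Subgroup.normalizer (thompsonSubgroupOf 2 (U : Subgroup G) : Set G) := by
  haveI : Fact (Nat.Prime 2) := ⟨Nat.prime_two⟩
  have hMJ := normalizer_J_le_of_uniq hL.1 U huniq
  obtain ⟨P₁, P₂, hne, hP₁, hP₂, hS₁, hS₂, hiso⟩ := hMain U L hLmax hMJ T hT
  have hS₁' := isSylowIn_of_two hS₁
  have hS₂' := isSylowIn_of_two hS₂
  have hTne : T ≠ (U : Subgroup G) := by
    intro h
    apply hne
    rw [huniq P₁ hP₁ (h ▸ hS₁.1), huniq P₂ hP₂ (h ▸ hS₂.1)]
  rcases hiso with ⟨⟨e₁⟩, ⟨e₂⟩⟩ | ⟨⟨e₁⟩, ⟨e₂⟩⟩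
  · have pk₁ := pkg_of_equiv e₁ v4 v4_exp v4_cent v4_index v4_ne_bot hS₁'
    have pk₂ := pkg_of_equiv e₂ v4 v4_exp v4_cent v4_index v4_ne_bot hS₂'
    have hc₁ : Nat.card (pkgE e₁ v4) = 4 := by rw [card_pkgE, v4_card]
    have hc₂ : Nat.card (pkgE e₂ v4) = 4 := by rw [card_pkgE, v4_card]
    have c : Config U L T P₁ P₂ (pkgE e₁ v4) (pkgE e₂ v4) :=
      ⟨hLmax, hUL, hTU, hTne, hP₁, hP₂, hne, hS₁', hS₂', pk₁, pk₂, hc₁.trans hc₂.symm⟩
    exact c.main hL hZ (Or.inl hc₁)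
  · have pk₁ := pkg_of_equiv e₁ v4c v4c_exp v4c_cent v4c_index v4c_ne_bot hS₁'
    have pk₂ := pkg_of_equiv e₂ v4c v4c_exp v4c_cent v4c_index v4c_ne_bot hS₂'
    have hc₁ : Nat.card (pkgE e₁ v4c) = 8 := by rw [card_pkgE, v4c_card]
    have hc₂ : Nat.card (pkgE e₂ v4c) = 8 := by rw [card_pkgE, v4c_card]
    have c : Config U L T P₁ P₂ (pkgE e₁ v4c) (pkgE e₂ v4c) :=
      ⟨hLmax, hUL, hTU, hTne, hP₁, hP₂, hne, hS₁', hS₂', pk₁, pk₂, hc₁.trans hc₂.symm⟩
    refine c.main hL hZ (Or.inr ⟨hc₁, ((e₁.symm c0 : ↥P₁) : G), symm_mem_pkgE e₁ v4c c0_mem, ?_, ?_⟩)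
    · intro h
      have h1 : (e₁.symm c0 : ↥P₁) = 1 := Subtype.ext h
      have h2 := congrArg e₁ h1
      rw [MulEquiv.apply_symm_apply, map_one] at h2
      exact c0_ne_one h2
    · intro x hx
      have h1 : e₁ (⟨x, hx⟩ * e₁.symm c0) = e₁ (e₁.symm c0 * ⟨x, hx⟩) := by
        rw [map_mul, map_mul, MulEquiv.apply_symm_apply]
        exact c0_central _
      exact congrArg Subtype.val (e₁.injective h1)

/-- **Bootstrap.** Assume the conclusion of S2954 for maximal 2-locals.  If the Sylow 2-subgroup `S`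
lies in a unique maximal 2-local subgroup `L`, then `L` normalizes `J(S)`. -/
theorem boot (hL : IsCharacteristicTwoType G)
    (hN : ∀ N : Subgroup G, IsTwoLocal N → Group.IsSolvable ↥N)
    (hZ : ∀ S : Sylow 2 G, Subgroup.centralizer (omegaCenterOf (S : Subgroup G) : Set G) ≤
      Subgroup.normalizer ((S : Subgroup G) : Set G))
    (hO : pCore 2 G = ⊥) (hMain : MainMax G) (S : Sylow 2 G) {L : Subgroup G}
    (hLmax : IsMaximalTwoLocal L) (hSL : (S : Subgroup G) ≤ L)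
    (huniq : ∀ L' : Subgroup G, IsMaximalTwoLocal L' → (S : Subgroup G) ≤ L' → L' = L) :
    L ≤ Subgroup.normalizer (thompsonSubgroupOf 2 (S : Subgroup G) : Set G) := by
  haveI : Fact (Nat.Prime 2) := ⟨Nat.prime_two⟩
  have hMJ := normalizer_J_le_of_uniq hL.1 S huniq
  by_cases hstr : straddlingTwoSubgroups L = ∅
  · exact boot_alpha S hLmax.1 hSL
      ((Cfsg.Agent.S2947.result hL hN hZ hO S L hLmax.1 hMJ).mpr hstr)
  · obtain ⟨T, hT⟩ := exists_maxStraddling (Set.nonempty_iff_ne_empty.mpr hstr)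
    obtain ⟨hT2, -, hTL, -⟩ := hT.1
    obtain ⟨U, hTU, hUL⟩ := exists_sylow_le_of_sylow_le S hSL hT2 hTL
    obtain ⟨k, hkL, hk⟩ :=
      (isSylowIn_of_sylow_le S hSL).exists_conj (isSylowIn_of_sylow_le U hUL)
    have huniqU : ∀ L' : Subgroup G, IsMaximalTwoLocal L' → (U : Subgroup G) ≤ L' → L' = L := by
      intro L' hL' hUL'
      have h1 : (S : Subgroup G) ≤ L'.map (MulAut.conj k⁻¹).toMonoidHom := by
        have := map_conj_mono hUL' k⁻¹
        rwa [← hk, map_conj_inv_map_conj] at this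
      have h2 := huniq _ (isMaximalTwoLocal_map_conj k⁻¹ hL') h1
      have h3 : L' = L.map (MulAut.conj k).toMonoidHom := by
        rw [← h2, map_conj_map_conj_inv]
      rw [h3, map_conj_eq_self_of_mem hkL]
    have hcore := boot_core hL hZ hMain U hLmax hUL huniqU hT hTU
    rw [← hk, normalizer_J_map_conj] at hcore
    have h4 := map_conj_mono hcore k⁻¹
    rwa [map_conj_inv_map_conj, map_conj_eq_self_of_mem (L.inv_mem hkL)] at h4

end Cfsg.Agent.Helper4.KSBoot
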