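import Mathlib
import Cfsg.Agent.Lib.Helper4.McLDefs

/-!
# S5075 piece Q0: basic consequences of `QHyp`
-/

set_option autoImplicit false

namespace Cfsg.Agent.Helper4.McL

open Module

variable {p : ℕ} [Fact p.Prime] {V : Type*} [AddCommGroup V] [Module (ZMod p) V]
variable {K : Subgroup (V ≃ₗ[ZMod p] V)}

/-- induction principle: a property of elements of `K` that holds for the transvections `tv φ u`,
`φ ∈ Φ_u`, for `1`, and is stable under products, holds on `K` (inverses of transvections are
transvections). -/
theorem tv_induction (hgen : Subgroup.closure {g | g ∈ K ∧ IsTv g} = K)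
    (P : (V ≃ₗ[ZMod p] V) → Prop)
    (htv : ∀ (u : V) (φ : Dual (ZMod p) V), φ ∈ Phi K u → P (tv φ u)) (hone : P 1)
    (hmul : ∀ a b, P a → P b → P (a * b)) : ∀ g ∈ K, P g := by
  have key : ∀ g ∈ Subgroup.closure {g | g ∈ K ∧ IsTv g}, P g ∧ P g⁻¹ := by
    intro g hg
    induction hg using Subgroup.closure_induction with
    | mem g hg =>
      obtain ⟨hgK, φ, u, hφu, rfl⟩ := hg
      refine ⟨htv u φ ⟨hφu, hgK⟩, ?_⟩
      rw [tv_inv]
      exact htv u (-φ) ((Phi K u).neg_mem ⟨hφu, hgK⟩)
    | one => simpa using hone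
    | mul a b _ _ ha hb =>
      refine ⟨hmul _ _ ha.1 hb.1, ?_⟩
      rw [mul_inv_rev]
      exact hmul _ _ hb.2 ha.2
    | inv a _ ha =>
      refine ⟨ha.2, ?_⟩
      rw [inv_inv]
      exact ha.1
  intro g hg
  rw [← hgen] at hg
  exact (key g hg).1

/-- it suffices to check invariance under the transvections of `K`. -/
theorem inv_of_tv (hgen : Subgroup.closure {g | g ∈ K ∧ IsTv g} = K) (X : Submodule (ZMod p) V)
    (h : ∀ (u : V) (φ : Dual (ZMod p) V), φ ∈ Phi K u → ∀ x ∈ X, tv φ u x ∈ X) : Inv K X := by
  refine tv_induction hgen (fun g => ∀ x ∈ X, g x ∈ X) h ?_ ?_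
  · intro x hx; exact hx
  · intro a b ha hb x hx
    rw [LinearEquiv.mul_apply]
    exact ha _ (hb x hx)

/-- `[V,K]` is the span of the centres. -/
theorem comm_eq_span_centers (hgen : Subgroup.closure {g | g ∈ K ∧ IsTv g} = K) :
    comm K = Submodule.span (ZMod p) {u | IsCenter K u} := by
  apply le_antisymm
  · have key : ∀ g ∈ K, ∀ x : V, g x - x ∈ Submodule.span (ZMod p) {u | IsCenter K u} := by
      refine tv_induction hgen
        (fun g => ∀ x : V, g x - x ∈ Submodule.span (ZMod p) {u | IsCenter K u}) ?_ ?_ ?_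
      · intro u φ hφ x
        rw [tv_apply hφ.1]
        have : x + φ x • u - x = φ x • u := by abel
        rw [this]
        by_cases hc : IsCenter K u
        · exact Submodule.smul_mem _ _ (Submodule.subset_span hc)
        · have h0 : φ x • u = 0 := by
            by_cases hu : u = 0
            · rw [hu, smul_zero]
            · have hb : Phi K u = ⊥ := by
                by_contra hne
                exact hc ⟨hu, hne⟩
              have : φ = 0 := by
                have := hφ
                rw [hb, Submodule.mem_bot] at this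
                exact this
              rw [this]; simp
          rw [h0]; exact Submodule.zero_mem _
      · intro x; simp
      · intro a b ha hb x
        have : (a * b) x - x = (a (b x) - b x) + (b x - x) := by
          rw [LinearEquiv.mul_apply]; abel
        rw [this]
        exact Submodule.add_mem _ (ha _) (hb _)
    rw [comm, Submodule.span_le]
    rintro y ⟨g, hg, x, rfl⟩
    exact key g hg x
  · rw [Submodule.span_le]
    intro u hu
    exact hu.mem_comm

/-- `C_V(K)` is the intersection of the `W_u`, `u` a centre. -/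
theorem mem_fix_iff_forall_Wsp (hgen : Subgroup.closure {g | g ∈ K ∧ IsTv g} = K) {x : V} :
    x ∈ fix K ↔ ∀ u, IsCenter K u → x ∈ Wsp K u := by
  constructor
  · intro hx u hu
    exact fix_le_Wsp K hu.1 hx
  · intro h
    refine tv_induction hgen (fun g => g x = x) ?_ rfl ?_
    · intro u φ hφ
      rw [tv_apply hφ.1]
      by_cases hc : IsCenter K u
      · have := mem_Wsp.1 (h u hc) φ hφ
        rw [this]; simp
      · by_cases hu : u = 0
        · rw [hu]; simp
        · have hb : Phi K u = ⊥ := by
            by_contra hne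
            exact hc ⟨hu, hne⟩
          have : φ = 0 := by
            have := hφ
            rw [hb, Submodule.mem_bot] at this
            exact this
          rw [this]; simp
    · intro a b ha hb
      rw [LinearEquiv.mul_apply, hb, ha]

/-- (Q2a) no centre lies in `C_V(K)`. -/
theorem QHyp.center_notMem_fix (hQ : QHyp K) {u : V} (hu : IsCenter K u) : u ∉ fix K := by
  intro hfix
  obtain ⟨hu0, φ, hφ, hne⟩ := isCenter_iff.1 hu
  have h1 : tv φ u = 1 := by
    apply hQ.q3 _ hφ.2
    intro x _
    rw [tv_apply hφ.1]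
    have : x + φ x • u - x = φ x • u := by abel
    rw [this]
    exact Submodule.smul_mem _ _ hfix
  rcases (tv_eq_one_iff hφ.1).1 h1 with h | h
  · exact hne h
  · exact hu0 h

/-- (Q2b) a nonzero `φ ∈ Φ_u` does not vanish on `[V,K]`. -/
theorem QHyp.exists_comm_ne (hQ : QHyp K) {u : V} {φ : Dual (ZMod p) V} (hu : u ≠ 0)
    (hφ : φ ∈ Phi K u) (hne : φ ≠ 0) : ∃ x ∈ comm K, φ x ≠ 0 := by
  by_contra hall
  push Not at hall
  have h1 : tv φ u = 1 := by
    apply hQ.q3 _ hφ.2
    intro x hx
    rw [tv_apply hφ.1, hall x hx]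
    simp
  rcases (tv_eq_one_iff hφ.1).1 h1 with h | h
  · exact hne h
  · exact hu h

/-- a nonzero `φ ∈ Φ_u` does not vanish at some centre. -/
theorem QHyp.exists_center_ne (hQ : QHyp K) {u : V} {φ : Dual (ZMod p) V} (hu : u ≠ 0)
    (hφ : φ ∈ Phi K u) (hne : φ ≠ 0) : ∃ r, IsCenter K r ∧ φ r ≠ 0 := by
  by_contra hall
  push Not at hall
  obtain ⟨x, hx, hφx⟩ := hQ.exists_comm_ne hu hφ hne
  apply hφx
  rw [comm_eq_span_centers hQ.gen] at hx
  have hle : Submodule.span (ZMod p) {u | IsCenter K u} ≤ LinearMap.ker φ := by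
    rw [Submodule.span_le]
    intro r hr
    exact hall r hr
  exact hle hx

/-- a nonempty `K`-invariant set of centres spans at least `[V,K]`. -/
theorem QHyp.comm_le_span (hQ : QHyp K) (S : Set V) (hS : ∀ x ∈ S, IsCenter K x) (hne : S.Nonempty)
    (hinv : ∀ g ∈ K, ∀ x ∈ S, g x ∈ S) : comm K ≤ Submodule.span (ZMod p) S := by
  have hI : Inv K (Submodule.span (ZMod p) S) := by
    intro g hg x hx
    induction hx using Submodule.span_induction with
    | mem y hy => exact Submodule.subset_span (hinv g hg y hy)
    | zero => simp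
    | add a b _ _ ha hb => rw [map_add]; exact Submodule.add_mem _ ha hb
    | smul c a _ ha => rw [map_smul]; exact Submodule.smul_mem _ _ ha
  rcases hQ.q1 _ hI with h | h
  · exact h
  · exfalso
    obtain ⟨x, hx⟩ := hne
    exact hQ.center_notMem_fix (hS x hx) (h (Submodule.subset_span hx))

end Cfsg.Agent.Helper4.McL
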