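import Mathlib
import Cfsg.Agent.Lib.Helper4.McLDefs
import Cfsg.Agent.Lib.Helper4.McLQ0
import Cfsg.Agent.Lib.Helper27.McLPAIR

/-!
# S5075 piece Q1: `dim Φ_u` is constant on centres and orthogonality is symmetric
-/

set_option autoImplicit false

namespace Cfsg.Agent.Helper4.McL

open Module

variable {p : ℕ} [Fact p.Prime] {V : Type*} [AddCommGroup V] [Module (ZMod p) V]
  [Module.Finite (ZMod p) V] {K : Subgroup (V ≃ₗ[ZMod p] V)}

/-- the arrow lemma -/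
theorem arrow {u w : V} (hu : IsCenter K u) (hw : IsCenter K w) (h : u ∉ Wsp K w) :
    (w ∉ Wsp K u ∧ finrank (ZMod p) (Phi K u) = finrank (ZMod p) (Phi K w)) ∨
    (w ∈ Wsp K u ∧ finrank (ZMod p) (Phi K u) < finrank (ZMod p) (Phi K w)) := by
  obtain ⟨ψ, hψ, hψu⟩ := notMem_Wsp.1 h
  by_cases hwu : w ∈ Wsp K u
  · right
    refine ⟨hwu, ?_⟩
    apply Submodule.finrank_lt_finrank_of_lt
    refine lt_of_le_of_ne ?_ ?_
    · intro φ hφ
      exact phi_of_pair hψ hφ (mem_Wsp.1 hwu φ hφ) hψu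
    · intro heq
      have : ψ ∈ Phi K u := by rw [heq]; exact hψ
      exact hψu this.1
  · left
    refine ⟨hwu, ?_⟩
    obtain ⟨φ, hφ, hφw⟩ := notMem_Wsp.1 hwu
    obtain ⟨g, hg, hgu⟩ := exists_map_smul hφ hψ hφw hψu
    rw [← finrank_Phi_map hg u, hgu, Phi_smul hψu]

theorem QHyp.finrank_Phi_eq_max (hQ : QHyp K) {u0 : V} (hu0 : IsCenter K u0)
    (hmax : ∀ x, IsCenter K x → finrank (ZMod p) (Phi K x) ≤ finrank (ZMod p) (Phi K u0))
    {u : V} (hu : IsCenter K u) :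
    finrank (ZMod p) (Phi K u) = finrank (ZMod p) (Phi K u0) := by
  by_contra hne
  have hlt : finrank (ZMod p) (Phi K u) < finrank (ZMod p) (Phi K u0) :=
    lt_of_le_of_ne (hmax u hu) hne
  set M : Set V := {x | IsCenter K x ∧ finrank (ZMod p) (Phi K x) = finrank (ZMod p) (Phi K u0)}
    with hM
  have hMW : ∀ w ∈ M, w ∈ Wsp K u := by
    intro w hw
    by_contra hwu
    rcases arrow hw.1 hu hwu with ⟨-, h2⟩ | ⟨-, h2⟩
    · rw [hw.2] at h2; omega
    · rw [hw.2] at h2; omega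
  have hle : comm K ≤ Submodule.span (ZMod p) M := by
    apply hQ.comm_le_span M (fun x hx => hx.1) ⟨u0, hu0, rfl⟩
    intro g hg x hx
    exact ⟨hx.1.map hg, by rw [finrank_Phi_map hg]; exact hx.2⟩
  have hle2 : Submodule.span (ZMod p) M ≤ Wsp K u := by
    rw [Submodule.span_le]
    exact hMW
  obtain ⟨hu1, φ, hφ, hφne⟩ := isCenter_iff.1 hu
  obtain ⟨x, hx, hφx⟩ := hQ.exists_comm_ne hu1 hφ hφne
  exact hφx (mem_Wsp.1 (hle2 (hle hx)) φ hφ)

theorem QHyp.finrank_Phi_eq (hQ : QHyp K) {u w : V} (hu : IsCenter K u) (hw : IsCenter K w) :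
    finrank (ZMod p) (Phi K u) = finrank (ZMod p) (Phi K w) := by
  classical
  -- a centre of maximal rank
  let E : Set ℕ := {n | ∃ x, IsCenter K x ∧ finrank (ZMod p) (Phi K x) = n}
  have hEne : E.Nonempty := ⟨_, u, hu, rfl⟩
  have hEb : BddAbove E := by
    refine ⟨finrank (ZMod p) (Dual (ZMod p) V), ?_⟩
    rintro n ⟨x, -, rfl⟩
    exact Submodule.finrank_le _
  obtain ⟨u0, hu0, hu0m⟩ := Nat.sSup_mem hEne hEb
  have hmax : ∀ x, IsCenter K x → finrank (ZMod p) (Phi K x) ≤ finrank (ZMod p) (Phi K u0) := by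
    intro x hx
    rw [hu0m]
    exact le_csSup hEb ⟨x, hx, rfl⟩
  rw [hQ.finrank_Phi_eq_max hu0 hmax hu, hQ.finrank_Phi_eq_max hu0 hmax hw]

theorem QHyp.perp_symm (hQ : QHyp K) {u w : V} (hu : IsCenter K u) (hw : IsCenter K w)
    (h : w ∈ Wsp K u) : u ∈ Wsp K w := by
  by_contra hne
  rcases arrow hu hw hne with ⟨h1, -⟩ | ⟨-, h2⟩
  · exact h1 h
  · rw [hQ.finrank_Phi_eq hu hw] at h2
    exact lt_irrefl _ h2

end Cfsg.Agent.Helper4.McL
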