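import Mathlib
import Cfsg.Agent.Lib.Helper4.McLDefs
import Cfsg.Agent.Lib.Helper4.McLQ0
import Cfsg.Agent.Lib.Helper4.McLQ1
import Cfsg.Agent.Lib.Helper27.McLQ3

/-!
# S5075 piece Q4: centres are unique modulo `C_V(K)`; the centres and `0` form `[V,K]`;
`[V,K] ⊓ C_V(K) = ⊥`
-/

set_option autoImplicit false

namespace Cfsg.Agent.Helper4.McL

open Module

variable {p : ℕ} [Fact p.Prime] {V : Type*} [AddCommGroup V] [Module (ZMod p) V]
  [Module.Finite (ZMod p) V] {K : Subgroup (V ≃ₗ[ZMod p] V)}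

/-- every element of `[V,K]` is (a centre or `0`) plus an element of `C_V(K)`. -/
theorem QHyp.exists_center_add_fix (hQ : QHyp K) (hp : p ≠ 2) {x : V} (hx : x ∈ comm K) :
    ∃ c y, (c = 0 ∨ IsCenter K c) ∧ y ∈ fix K ∧ x = c + y := by
  let Y : Submodule (ZMod p) V :=
    { carrier := {x | ∃ c y, (c = 0 ∨ IsCenter K c) ∧ y ∈ fix K ∧ x = c + y}
      add_mem' := by
        rintro _ _ ⟨c, y, hc, hy, rfl⟩ ⟨c', y', hc', hy', rfl⟩
        rcases hc with rfl | hc
        · exact ⟨c', y + y', hc', Submodule.add_mem _ hy hy', by abel⟩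
        rcases hc' with rfl | hc'
        · exact ⟨c, y + y', Or.inr hc, Submodule.add_mem _ hy hy', by abel⟩
        rcases hQ.add_isCenter_or hp hc hc' with h | h
        · exact ⟨c + c', y + y', Or.inr h, Submodule.add_mem _ hy hy', by abel⟩
        · exact ⟨0, (c + c') + (y + y'), Or.inl rfl,
            Submodule.add_mem _ h (Submodule.add_mem _ hy hy'), by abel⟩
      zero_mem' := ⟨0, 0, Or.inl rfl, Submodule.zero_mem _, by simp⟩
      smul_mem' := by
        rintro a _ ⟨c, y, hc, hy, rfl⟩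
        by_cases ha : a = 0
        · exact ⟨0, 0, Or.inl rfl, Submodule.zero_mem _, by simp [ha]⟩
        rcases hc with rfl | hc
        · exact ⟨0, a • y, Or.inl rfl, Submodule.smul_mem _ _ hy, by simp⟩
        · exact ⟨a • c, a • y, Or.inr (hc.smul ha), Submodule.smul_mem _ _ hy, by
            rw [smul_add]⟩ }
  have hle : comm K ≤ Y := by
    rw [comm_eq_span_centers hQ.gen, Submodule.span_le]
    intro c hc
    exact ⟨c, 0, Or.inr hc, Submodule.zero_mem _, by simp⟩
  exact hle hx

/-- step (1): `W_u ∩ [V,K] ⊆ W_u'` when `u' - u ∈ C_V(K)`. -/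
theorem QHyp.Wsp_transfer (hQ : QHyp K) (hp : p ≠ 2) {u u' : V} (hu : IsCenter K u)
    (hu' : IsCenter K u') (h : u' - u ∈ fix K) {x : V} (hx : x ∈ comm K) (hxu : x ∈ Wsp K u) :
    x ∈ Wsp K u' := by
  obtain ⟨c, y, hc, hy, rfl⟩ := hQ.exists_center_add_fix hp hx
  have hy' : y ∈ Wsp K u' := fix_le_Wsp K hu'.1 hy
  refine Submodule.add_mem _ ?_ hy'
  rcases hc with rfl | hc
  · exact Submodule.zero_mem _
  · have hcu : c ∈ Wsp K u := by
      have : c = (c + y) - y := by abel
      rw [this]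
      exact Submodule.sub_mem _ hxu (fix_le_Wsp K hu.1 hy)
    have h1 : u ∈ Wsp K c := hQ.perp_symm hu hc hcu
    have h2 : u' ∈ Wsp K c := by
      have : u' = u + (u' - u) := by abel
      rw [this]
      exact Submodule.add_mem _ h1 (fix_le_Wsp K hc.1 h)
    exact hQ.perp_symm hc hu' h2

/-- step (2): the restrictions of `Φ_u` and `Φ_u'` to `[V,K]` coincide. -/
theorem QHyp.exists_Phi_agree (hQ : QHyp K) (hp : p ≠ 2) {u u' : V} (hu : IsCenter K u)
    (hu' : IsCenter K u') (h : u' - u ∈ fix K) {φ : Dual (ZMod p) V} (hφ : φ ∈ Phi K u) :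
    ∃ φ' ∈ Phi K u', ∀ x ∈ comm K, φ' x = φ x := by
  have h' : u - u' ∈ fix K := by
    have : u - u' = -(u' - u) := by abel
    rw [this]
    exact Submodule.neg_mem _ h
  set ρ : Dual (ZMod p) V →ₗ[ZMod p] Dual (ZMod p) (comm K) := (comm K).subtype.dualMap with hρ
  have hρa : ∀ (ψ : Dual (ZMod p) V) (x : comm K), ρ ψ x = ψ (x : V) := fun ψ x => rfl
  have key : ∀ {a b : V}, IsCenter K a → IsCenter K b → b - a ∈ fix K →
      ((Phi K a).map ρ).dualCoannihilator ≤ ((Phi K b).map ρ).dualCoannihilator := by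
    intro a b ha hb hab x hx
    rw [Submodule.mem_dualCoannihilator] at hx ⊢
    have hxa : (x : V) ∈ Wsp K a := by
      rw [mem_Wsp]
      intro ψ hψ
      have := hx (ρ ψ) (Submodule.mem_map_of_mem hψ)
      rwa [hρa] at this
    have hxb := hQ.Wsp_transfer hp ha hb hab x.2 hxa
    rintro _ ⟨ψ, hψ, rfl⟩
    rw [hρa]
    exact mem_Wsp.1 hxb ψ hψ
  have heq : ((Phi K u).map ρ).dualCoannihilator = ((Phi K u').map ρ).dualCoannihilator :=
    le_antisymm (key hu hu' h) (key hu' hu h')
  have h2 : (Phi K u).map ρ = (Phi K u').map ρ := by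
    rw [← Subspace.dualCoannihilator_dualAnnihilator_eq (W := (Phi K u).map ρ),
      ← Subspace.dualCoannihilator_dualAnnihilator_eq (W := (Phi K u').map ρ), heq]
  have h3 : ρ φ ∈ (Phi K u').map ρ := by
    rw [← h2]
    exact Submodule.mem_map_of_mem hφ
  obtain ⟨φ', hφ', hφφ'⟩ := h3
  refine ⟨φ', hφ', ?_⟩
  intro x hx
  have := congrArg (fun ψ : Dual (ZMod p) (comm K) => ψ ⟨x, hx⟩) hφφ'
  simpa [hρa] using this

/-- centres are unique modulo `C_V(K)`. -/
theorem QHyp.center_unique (hQ : QHyp K) (hp : p ≠ 2) {u u' : V} (hu : IsCenter K u)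
    (hu' : IsCenter K u') (h : u' - u ∈ fix K) : u' = u := by
  obtain ⟨hu0, φ, hφ, hφne⟩ := isCenter_iff.1 hu
  obtain ⟨φ', hφ', hagree⟩ := hQ.exists_Phi_agree hp hu hu' h hφ
  -- φ' u = 0
  have hφ'u : φ' u = 0 := by
    have h1 : u = u' - (u' - u) := by abel
    have h2 : φ' (u' - u) = 0 := mem_Wsp.1 (fix_le_Wsp K hu'.1 h) φ' hφ'
    rw [h1, map_sub, hφ'.1, h2, sub_zero]
  -- the element g
  have hg : (tv φ' u')⁻¹ * tv φ u ∈ K := K.mul_mem (K.inv_mem hφ'.2) hφ.2
  have hcalc : ∀ x : V, ((tv φ' u')⁻¹ * tv φ u) x = x + φ x • u - φ' x • u' := by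
    intro x
    rw [LinearEquiv.mul_apply, tv_inv, tv_apply hφ.1,
      tv_apply (show (-φ') u' = 0 by simp [hφ'.1])]
    have h5 : (-φ') (x + φ x • u) = -(φ' x) := by simp [hφ'u]
    rw [h5, neg_smul]
    abel
  have h1 : (tv φ' u')⁻¹ * tv φ u = 1 := by
    apply hQ.q3 _ hg
    intro x hx
    rw [hcalc, hagree x hx]
    have : x + φ x • u - φ x • u' - x = -(φ x • (u' - u)) := by
      rw [smul_sub]; abel
    rw [this]
    exact Submodule.neg_mem _ (Submodule.smul_mem _ _ h)
  obtain ⟨x, hx, hφx⟩ := hQ.exists_comm_ne hu0 hφ hφne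
  have h2 := congrArg (fun g : V ≃ₗ[ZMod p] V => g x) h1
  simp only [LinearEquiv.coe_one, id_eq] at h2
  rw [hcalc, hagree x hx] at h2
  have h3 : φ x • (u - u') = 0 := by
    rw [smul_sub]
    have : φ x • u - φ x • u' = (x + φ x • u - φ x • u') - x := by abel
    rw [this, h2, sub_self]
  rcases smul_eq_zero.1 h3 with h4 | h4
  · exact absurd h4 hφx
  · exact (sub_eq_zero.1 h4).symm

/-- every nonzero element of `[V,K]` is a centre. -/
theorem QHyp.isCenter_of_mem_comm (hQ : QHyp K) (hp : p ≠ 2) {x : V} (hx : x ∈ comm K)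
    (h0 : x ≠ 0) : IsCenter K x := by
  let S : Submodule (ZMod p) V :=
    { carrier := {x | x = 0 ∨ IsCenter K x}
      add_mem' := by
        rintro a b (rfl | ha) (rfl | hb)
        · left; simp
        · right; simpa using hb
        · right; simpa using ha
        · rcases hQ.add_isCenter_or hp ha hb with h | h
          · exact Or.inr h
          · left
            have hna : IsCenter K (-a) := by
              have := ha.smul (c := (-1 : ZMod p)) (by simp)
              simpa using this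
            have hsub : b - (-a) ∈ fix K := by
              have : b - (-a) = a + b := by abel
              rw [this]; exact h
            have := hQ.center_unique hp hna hb hsub
            rw [this]; simp
      zero_mem' := Or.inl rfl
      smul_mem' := by
        rintro c a (rfl | ha)
        · left; simp
        · by_cases hc : c = 0
          · left; simp [hc]
          · exact Or.inr (ha.smul hc) }
  have hle : comm K ≤ S := by
    rw [comm_eq_span_centers hQ.gen, Submodule.span_le]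
    intro c hc
    exact Or.inr hc
  rcases hle hx with h | h
  · exact absurd h h0
  · exact h

/-- `[V,K] ⊓ C_V(K) = ⊥`. -/
theorem QHyp.comm_inf_fix (hQ : QHyp K) (hp : p ≠ 2) : comm K ⊓ fix K = ⊥ := by
  rw [eq_bot_iff]
  rintro x ⟨hx1, hx2⟩
  rw [Submodule.mem_bot]
  by_contra h0
  exact hQ.center_notMem_fix (hQ.isCenter_of_mem_comm hp hx1 h0) hx2

end Cfsg.Agent.Helper4.McL
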