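import Mathlib
import Cfsg.Agent.Lib.Helper4.McLDefs
import Cfsg.Agent.Lib.Helper4.McLQ1
import Cfsg.Agent.Lib.Helper4.McLQ4

/-!
# S5075 piece MB: basics in the irreducible situation (`MHyp`)
-/

set_option autoImplicit false

namespace Cfsg.Agent.Helper4.McL

open Module

variable {p : ℕ} [Fact p.Prime] {V : Type*} [AddCommGroup V] [Module (ZMod p) V]
  [Module.Finite (ZMod p) V] {K : Subgroup (V ≃ₗ[ZMod p] V)}

theorem MHyp.isCenter (hM : MHyp K) (hp : p ≠ 2) {x : V} (hx : x ≠ 0) : IsCenter K x :=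
  hM.q.isCenter_of_mem_comm hp (by rw [hM.top]; trivial) hx

theorem MHyp.finrank_Phi_eq (hM : MHyp K) (hp : p ≠ 2) {x y : V} (hx : x ≠ 0) (hy : y ≠ 0) :
    finrank (ZMod p) (Phi K x) = finrank (ZMod p) (Phi K y) :=
  hM.q.finrank_Phi_eq (hM.isCenter hp hx) (hM.isCenter hp hy)

theorem MHyp.symm (hM : MHyp K) (hp : p ≠ 2) {x y : V} (hx : x ≠ 0) (hy : y ≠ 0)
    (h : y ∈ Wsp K x) : x ∈ Wsp K y :=
  hM.q.perp_symm (hM.isCenter hp hx) (hM.isCenter hp hy) h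

theorem finrank_Phi_add_finrank_Wsp (K : Subgroup (V ≃ₗ[ZMod p] V)) (u : V) :
    finrank (ZMod p) (Phi K u) + finrank (ZMod p) (Wsp K u) = finrank (ZMod p) V :=
  Subspace.finrank_add_finrank_dualCoannihilator_eq _

end Cfsg.Agent.Helper4.McL
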