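import Mathlib
import Cfsg.Agent.Lib.Helper4.McLDefs
import Cfsg.Agent.Lib.Helper4.McLMB
import Cfsg.Agent.Lib.Helper27.McLPAIR

/-!
# S5075 piece M7: `dim (W_u ⊓ W_v) = dim W_u - 1` for non-orthogonal `u, v`
-/

set_option autoImplicit false

namespace Cfsg.Agent.Helper4.McL

open Module

variable {p : ℕ} [Fact p.Prime] {V : Type*} [AddCommGroup V] [Module (ZMod p) V]
  [Module.Finite (ZMod p) V] {K : Subgroup (V ≃ₗ[ZMod p] V)}

/-- the hyperplane `{ψ | ψ u = 0}` of the dual -/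
def evKer (p : ℕ) [Fact p.Prime] {V : Type*} [AddCommGroup V] [Module (ZMod p) V] (u : V) :
    Submodule (ZMod p) (Dual (ZMod p) V) :=
  LinearMap.ker (Dual.eval (ZMod p) V u)

theorem mem_evKer {u : V} {ψ : Dual (ZMod p) V} : ψ ∈ evKer p u ↔ ψ u = 0 := by
  rw [evKer, LinearMap.mem_ker]; rfl

theorem finrank_evKer {u : V} {ψ : Dual (ZMod p) V} (h : ψ u ≠ 0) :
    finrank (ZMod p) (evKer p u) + 1 = finrank (ZMod p) (Dual (ZMod p) V) := by
  have h1 := LinearMap.finrank_range_add_finrank_ker (Dual.eval (ZMod p) V u)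
  have h2 : LinearMap.range (Dual.eval (ZMod p) V u) = ⊤ := by
    rw [LinearMap.range_eq_top]
    intro c
    refine ⟨(c * (ψ u)⁻¹) • ψ, ?_⟩
    show ((c * (ψ u)⁻¹) • ψ) u = c
    rw [LinearMap.smul_apply, smul_eq_mul, mul_assoc, inv_mul_cancel₀ h, mul_one]
  rw [h2, finrank_top, finrank_self] at h1
  rw [evKer]; omega

theorem Phi_inf_Phi (hM : MHyp K) (hp : p ≠ 2) {u v : V} (hu : u ≠ 0) (hv : v ≠ 0)
    (h : v ∉ Wsp K u) : Phi K u ⊓ Phi K v = Phi K v ⊓ evKer p u := by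
  obtain ⟨φ, hφ, hφv⟩ := notMem_Wsp.1 h
  ext ψ
  simp only [Submodule.mem_inf, mem_evKer]
  constructor
  · rintro ⟨h1, h2⟩
    exact ⟨h2, h1.1⟩
  · rintro ⟨h1, h2⟩
    exact ⟨phi_of_pair hφ h1 h2 hφv, h1⟩

theorem MHyp.finrank_Wsp_inf (hM : MHyp K) (hp : p ≠ 2) {u v : V} (hu : u ≠ 0) (hv : v ≠ 0)
    (h : v ∉ Wsp K u) :
    finrank (ZMod p) ↥(Wsp K u ⊓ Wsp K v) + 1 = finrank (ZMod p) ↥(Wsp K u) := by
  have hu' : u ∉ Wsp K v := fun h' => h (hM.symm hp hv hu h')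
  obtain ⟨ψ, hψ, hψu⟩ := notMem_Wsp.1 hu'
  have he : finrank (ZMod p) (Phi K u) = finrank (ZMod p) (Phi K v) := hM.finrank_Phi_eq hp hu hv
  -- Φ_v ⊔ evKer u = ⊤
  have hsup : Phi K v ⊔ evKer p u = ⊤ := by
    rw [eq_top_iff]
    intro χ _
    have : χ = (χ - (χ u * (ψ u)⁻¹) • ψ) + (χ u * (ψ u)⁻¹) • ψ := by abel
    rw [this, add_comm]
    refine Submodule.add_mem_sup (Submodule.smul_mem _ _ hψ) ?_
    rw [mem_evKer, LinearMap.sub_apply, LinearMap.smul_apply, smul_eq_mul, mul_assoc,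
      inv_mul_cancel₀ hψu, mul_one, sub_self]
  have h1 := Submodule.finrank_sup_add_finrank_inf_eq (Phi K v) (evKer p u)
  rw [hsup, finrank_top] at h1
  have h2 := finrank_evKer hψu
  have h3 := Submodule.finrank_sup_add_finrank_inf_eq (Phi K u) (Phi K v)
  rw [Phi_inf_Phi hM hp hu hv h] at h3
  have h4 := finrank_Phi_add_finrank_Wsp K u
  have h5 : Wsp K u ⊓ Wsp K v = (Phi K u ⊔ Phi K v).dualCoannihilator := by
    rw [Submodule.dualCoannihilator_sup_eq]; rfl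
  have h6 := Subspace.finrank_add_finrank_dualCoannihilator_eq (Phi K u ⊔ Phi K v)
  rw [h5]
  have h7 : finrank (ZMod p) (Dual (ZMod p) V) = finrank (ZMod p) V := Subspace.dual_finrank_eq
  omega

end Cfsg.Agent.Helper4.McL
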