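import Mathlib
import Cfsg.Agent.Lib.Helper4.McLDefs
import Cfsg.Agent.Lib.Helper4.McLMB
import Cfsg.Agent.Lib.Helper4.McLM7

/-!
# S5075 piece M8: the dichotomy `dim W_u = 1` or `dim Φ_u = 1`, by double counting
-/

set_option autoImplicit false

namespace Cfsg.Agent.Helper4.McL

open Module Finset

section arith

theorem m8_arith_int (x A B : ℤ) (hx : 2 ≤ x) (hA : 1 ≤ A) (hB : 1 ≤ B)
    (h : (x ^ 4 * A * B - x ^ 2 * A) * (x * A - 1) ≤ (x ^ 2 * A - x) * (x ^ 2 * A - x ^ 2)) :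
    False := by
  have hpos : 0 < x * A - 1 := by nlinarith
  have hR : (x ^ 2 * A - x) * (x ^ 2 * A - x ^ 2) = (x ^ 3 * (A - 1)) * (x * A - 1) := by ring
  rw [hR] at h
  have key : x ^ 4 * A * B - x ^ 2 * A ≤ x ^ 3 * (A - 1) := le_of_mul_le_mul_right h hpos
  have hx4 : 0 ≤ x ^ 4 * A := by positivity
  have h7 : x ^ 4 * A ≤ x ^ 4 * A * B := le_mul_of_one_le_right hx4 hB
  have h8 : x ^ 2 * A * (x ^ 2 - 1) ≤ x ^ 3 * (A - 1) := by
    calc x ^ 2 * A * (x ^ 2 - 1) = x ^ 4 * A - x ^ 2 * A := by ring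
      _ ≤ x ^ 4 * A * B - x ^ 2 * A := by linarith
      _ ≤ x ^ 3 * (A - 1) := key
  have hx3 : 0 < x ^ 3 := by positivity
  have h9 : x ^ 3 * (A - 1) < x ^ 2 * A * x := by nlinarith
  have h10 : x ^ 2 * A * (x ^ 2 - 1) < x ^ 2 * A * x := lt_of_le_of_lt h8 h9
  have hx2A : 0 < x ^ 2 * A := by positivity
  have h11 : x ^ 2 - 1 < x := lt_of_mul_lt_mul_left h10 hx2A.le
  nlinarith [mul_nonneg (show (0:ℤ) ≤ x by linarith) (show (0:ℤ) ≤ x - 2 by linarith)]

theorem m8_arith_core (P a b : ℕ) (hP : 2 ≤ P) (ha : 1 ≤ a) (hb : 1 ≤ b)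
    (h : (P ^ 4 * a * b - P ^ 2 * a) * (P * a - 1) ≤ (P ^ 2 * a - P) * (P ^ 2 * a - P ^ 2)) :
    False := by
  have hP0 : 0 < P := by omega
  have s1 : P ^ 2 * a ≤ P ^ 4 * a * b := by
    calc P ^ 2 * a = P ^ 2 * a * 1 := by ring
      _ ≤ P ^ 4 * a * b :=
        Nat.mul_le_mul (Nat.mul_le_mul_right a (Nat.pow_le_pow_right hP0 (by norm_num))) hb
  have s2 : 1 ≤ P * a := Nat.succ_le_of_lt (Nat.mul_pos hP0 (by omega))
  have s3 : P ≤ P ^ 2 * a := by
    calc P = P * 1 := by ring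
      _ ≤ P * (P * a) := Nat.mul_le_mul_left P s2
      _ = P ^ 2 * a := by ring
  have s4 : P ^ 2 ≤ P ^ 2 * a := Nat.le_mul_of_pos_right _ (by omega)
  have hZ : ((P ^ 4 * a * b - P ^ 2 * a : ℕ) : ℤ) * ((P * a - 1 : ℕ) : ℤ) ≤
      ((P ^ 2 * a - P : ℕ) : ℤ) * ((P ^ 2 * a - P ^ 2 : ℕ) : ℤ) := by exact_mod_cast h
  rw [Nat.cast_sub s1, Nat.cast_sub s2, Nat.cast_sub s3, Nat.cast_sub s4] at hZ
  push_cast at hZ
  exact m8_arith_int (P : ℤ) a b (by exact_mod_cast hP) (by exact_mod_cast ha) (by exact_mod_cast hb) hZ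

theorem m8_dichotomy_arith {P k d : ℕ} (hP : 2 ≤ P) (hk : 2 ≤ k) (hd : k + 2 ≤ d)
    (h : (P ^ d - P ^ k) * (P ^ (k - 1) - 1) ≤ (P ^ k - P) * (P ^ k - P ^ 2)) : False := by
  obtain ⟨j, rfl⟩ : ∃ j, k = j + 2 := ⟨k - 2, by omega⟩
  obtain ⟨i, rfl⟩ : ∃ i, d = j + 4 + i := ⟨d - (j + 4), by omega⟩
  have ha : 1 ≤ P ^ j := Nat.one_le_pow _ _ (by omega)
  have hi : 1 ≤ P ^ i := Nat.one_le_pow _ _ (by omega)
  have e1 : P ^ (j + 4 + i) = P ^ 4 * P ^ j * P ^ i := by rw [pow_add, pow_add]; ring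
  have e2 : P ^ (j + 2) = P ^ 2 * P ^ j := by rw [pow_add]; ring
  have e3 : P ^ (j + 2 - 1) = P * P ^ j := by
    have : j + 2 - 1 = j + 1 := by omega
    rw [this, pow_succ]; ring
  rw [e1, e2, e3] at h
  exact m8_arith_core P (P ^ j) (P ^ i) hP ha hi h

end arith

variable {p : ℕ} [Fact p.Prime] {V : Type*} [AddCommGroup V] [Module (ZMod p) V]

/-- the number of elements of a subspace -/
theorem card_filter_mem [Fintype V] (W : Submodule (ZMod p) V)
    [DecidablePred (· ∈ W)] :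
    #{x : V | x ∈ W} = p ^ finrank (ZMod p) W := by
  rw [← Fintype.card_subtype]
  have := Module.card_eq_pow_finrank (K := ZMod p) (V := W)
  rw [ZMod.card] at this
  convert this

variable [Module.Finite (ZMod p) V] {K : Subgroup (V ≃ₗ[ZMod p] V)}

theorem MHyp.dichotomy (hM : MHyp K) (hp : p ≠ 2) {u : V} (hu : u ≠ 0) :
    finrank (ZMod p) ↥(Wsp K u) = 1 ∨ finrank (ZMod p) ↥(Phi K u) = 1 := by
  classical
  have hpp : p.Prime := Fact.out
  have : Finite V := Module.finite_of_finite (ZMod p)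
  letI : Fintype V := Fintype.ofFinite V
  have hek := finrank_Phi_add_finrank_Wsp K u
  have he1 : 1 ≤ finrank (ZMod p) (Phi K u) := by
    rw [Nat.one_le_iff_ne_zero, Ne, Submodule.finrank_eq_zero]
    exact (hM.isCenter hp hu).2
  have hk1 : 1 ≤ finrank (ZMod p) (Wsp K u) := by
    rw [Nat.one_le_iff_ne_zero, Ne, Submodule.finrank_eq_zero]
    intro h
    have := self_mem_Wsp K u
    rw [h, Submodule.mem_bot] at this
    exact hu this
  by_contra hcon
  push Not at hcon
  obtain ⟨hcon1, hcon2⟩ := hcon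
  set k := finrank (ZMod p) (Wsp K u) with hk
  set d := finrank (ZMod p) V with hd
  have hk2 : 2 ≤ k := by omega
  have hd2 : k + 2 ≤ d := by omega
  have hkx : ∀ x : V, x ≠ 0 → finrank (ZMod p) (Wsp K x) = k := by
    intro x hx
    have h1 := finrank_Phi_add_finrank_Wsp K x
    have h2 := hM.finrank_Phi_eq hp hx hu
    omega
  have hcardV : #(univ : Finset V) = p ^ d := by
    rw [Finset.card_univ]
    have := Module.card_eq_pow_finrank (K := ZMod p) (V := V)
    rw [ZMod.card] at this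
    convert this
  set s : Finset V := univ.filter (fun v => v ∉ Wsp K u) with hs
  set t : Finset V := univ.filter (fun m => m ∈ Wsp K u ∧ m ∉ Submodule.span (ZMod p) {u}) with ht
  have hscard : #s = p ^ d - p ^ k := by
    have h1 := Finset.card_filter_add_card_filter_not (s := (univ : Finset V))
      (fun v => v ∈ Wsp K u)
    rw [card_filter_mem, hcardV, ← hk] at h1
    rw [hs]; omega
  have hspan_le : Submodule.span (ZMod p) {u} ≤ Wsp K u := by
    rw [Submodule.span_le, Set.singleton_subset_iff]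
    exact self_mem_Wsp K u
  have htcard : #t = p ^ k - p := by
    have h1 := Finset.card_filter_add_card_filter_not
      (s := (univ.filter (fun m => m ∈ Wsp K u) : Finset V))
      (fun m => m ∈ Submodule.span (ZMod p) {u})
    rw [Finset.filter_filter, Finset.filter_filter, card_filter_mem] at h1
    have h2 : (univ.filter (fun m => m ∈ Wsp K u ∧ m ∈ Submodule.span (ZMod p) {u}) : Finset V)
        = univ.filter (fun m => m ∈ Submodule.span (ZMod p) {u}) := by
      ext m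
      simp only [mem_filter, mem_univ, true_and]
      exact ⟨fun h => h.2, fun h => ⟨hspan_le h, h⟩⟩
    rw [h2, card_filter_mem, finrank_span_singleton hu, pow_one, ← hk] at h1
    rw [ht]; omega
  have hm : ∀ v ∈ s, p ^ (k - 1) - 1 ≤ #(t.bipartiteAbove (fun v m => m ∈ Wsp K v) v) := by
    intro v hv
    have hv' : v ∉ Wsp K u := (mem_filter.1 hv).2
    have hv0 : v ≠ 0 := by
      rintro rfl
      exact hv' (Submodule.zero_mem _)
    have h7 := hM.finrank_Wsp_inf hp hu hv0 hv'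
    have hsub : (univ.filter (fun m => m ∈ Wsp K u ⊓ Wsp K v) : Finset V).erase 0 ⊆
        t.bipartiteAbove (fun v m => m ∈ Wsp K v) v := by
      intro m hm
      rw [mem_erase, mem_filter, Submodule.mem_inf] at hm
      obtain ⟨hm0, -, hmu, hmv⟩ := hm
      rw [mem_bipartiteAbove, ht, mem_filter]
      refine ⟨⟨mem_univ _, hmu, ?_⟩, hmv⟩
      intro hmem
      obtain ⟨c, rfl⟩ := Submodule.mem_span_singleton.1 hmem
      have hc : c ≠ 0 := by
        rintro rfl
        exact hm0 (zero_smul _ _)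
      have huv : u ∈ Wsp K v := by
        have := (Wsp K v).smul_mem c⁻¹ hmv
        rwa [smul_smul, inv_mul_cancel₀ hc, one_smul] at this
      exact hv' (hM.symm hp hv0 hu huv)
    have hcard : #((univ.filter (fun m => m ∈ Wsp K u ⊓ Wsp K v) : Finset V).erase 0) =
        p ^ (k - 1) - 1 := by
      rw [Finset.card_erase_of_mem (by simp), card_filter_mem]
      have : finrank (ZMod p) ↥(Wsp K u ⊓ Wsp K v) = k - 1 := by omega
      rw [this]
    rw [← hcard]
    exact Finset.card_le_card hsub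
  have hn : ∀ m ∈ t, #(s.bipartiteBelow (fun v m => m ∈ Wsp K v) m) ≤ p ^ k - p ^ 2 := by
    intro m hm
    rw [ht, mem_filter] at hm
    obtain ⟨-, hmu, hmspan⟩ := hm
    have hm0 : m ≠ 0 := by
      rintro rfl
      exact hmspan (Submodule.zero_mem _)
    have hum : u ∈ Wsp K m := hM.symm hp hu hm0 hmu
    have hsub : s.bipartiteBelow (fun v m => m ∈ Wsp K v) m ⊆
        (univ.filter (fun v => v ∈ Wsp K m) : Finset V) \
          (univ.filter (fun v => v ∈ Wsp K m ⊓ Wsp K u) : Finset V) := by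
      intro v hv
      rw [mem_bipartiteBelow, hs, mem_filter] at hv
      obtain ⟨⟨-, hvu⟩, hmv⟩ := hv
      have hv0 : v ≠ 0 := by
        rintro rfl
        exact hvu (Submodule.zero_mem _)
      rw [mem_sdiff, mem_filter, mem_filter, Submodule.mem_inf]
      refine ⟨⟨mem_univ _, hM.symm hp hv0 hm0 hmv⟩, ?_⟩
      rintro ⟨-, -, h⟩
      exact hvu h
    have hle2 : (univ.filter (fun v => v ∈ Wsp K m ⊓ Wsp K u) : Finset V) ⊆
        (univ.filter (fun v => v ∈ Wsp K m) : Finset V) := by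
      intro v hv
      rw [mem_filter, Submodule.mem_inf] at hv
      rw [mem_filter]
      exact ⟨mem_univ _, hv.2.1⟩
    have hj : 2 ≤ finrank (ZMod p) ↥(Wsp K m ⊓ Wsp K u) := by
      have hlt : Submodule.span (ZMod p) {u} < Wsp K m ⊓ Wsp K u := by
        refine lt_of_le_of_ne ?_ ?_
        · rw [Submodule.span_le, Set.singleton_subset_iff]
          exact ⟨hum, self_mem_Wsp K u⟩
        · intro heq
          apply hmspan
          rw [heq]
          exact ⟨self_mem_Wsp K m, hmu⟩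
      have := Submodule.finrank_lt_finrank_of_lt hlt
      rw [finrank_span_singleton hu] at this
      omega
    calc #(s.bipartiteBelow (fun v m => m ∈ Wsp K v) m)
        ≤ #((univ.filter (fun v => v ∈ Wsp K m) : Finset V) \
          (univ.filter (fun v => v ∈ Wsp K m ⊓ Wsp K u) : Finset V)) := Finset.card_le_card hsub
      _ = p ^ k - p ^ finrank (ZMod p) ↥(Wsp K m ⊓ Wsp K u) := by
        rw [Finset.card_sdiff_of_subset hle2, card_filter_mem, card_filter_mem, hkx m hm0]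
      _ ≤ p ^ k - p ^ 2 := Nat.sub_le_sub_left (Nat.pow_le_pow_right hpp.pos hj) _
  have hcount := Finset.card_nsmul_le_card_nsmul (s := s) (t := t)
    (r := fun v m => m ∈ Wsp K v) hm hn
  rw [hscard, htcard, smul_eq_mul, smul_eq_mul] at hcount
  exact m8_dichotomy_arith hpp.two_le hk2 hd2 hcount

end Cfsg.Agent.Helper4.McL
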