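import Mathlib
import Cfsg.Prelude
import Cfsg.Agent.Lib.Helper4.SylOLoc
import Cfsg.Agent.Lib.Helper13.SoBN5
import Cfsg.Agent.Lib.Helper13.SdCard
import Cfsg.Agent.Lib.Helper18.SuDeg

/-!
# S4613 piece PA-POODD (helper4), core: `NoPAut p (PΩ_{2m+1}(q))`, `q` odd, from the abstract
`SylO` statements (taken as hypotheses at the concrete types).

The (B, N) data are those of `Helper13.SoBN.steinberg_POmegaOdd`.
-/

set_option autoImplicit false
set_option linter.unusedSectionVars false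
set_option linter.unusedVariables false

namespace Cfsg.Agent.Helper28.PA

open Matrix Cfsg Cfsg.Agent.Helper13.BNAbs Cfsg.Agent.Helper13.SuP Cfsg.Agent.Helper13.SuBN
  Cfsg.Agent.Helper13.SoBC Cfsg.Agent.Helper13.SoP Cfsg.Agent.Helper13.SoBN
  Cfsg.Agent.Helper13.SylO
  Cfsg.Agent.Helper2.WordLen Cfsg.Agent.Helper2.BN Cfsg.Agent.Helper17.BNCox

section family

variable {n : ℕ} {F : Type*} [Field F] {φ : F →+* F}
variable (hφφ : ∀ x, φ (φ x) = x) (hodd : n % 2 = 1) {sL : Fin (n / 2) → WSU n φ}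
  (hsL : ∀ i, IsMon (mt (sL i)) (piL (ix n i)))
  (hM : ∃ u v : F, v ≠ 0 ∧ v + φ v + u * φ u = 0)

include hφφ hodd hsL hM in
/-- a simple reflection does not normalize `U` into `B` -/
theorem poodd_conj_not_mem (i : Fin (n / 2)) :
    ∃ u ∈ unip n φ, srO φ sL i * u * (srO φ sL i)⁻¹ ∉ bor n φ := by
  obtain ⟨x, _, hxB, hx⟩ := exists_Xr_apply_ne_zero' hφφ hodd hM i
  have hsm : srO φ sL i ∈ mon n φ := srO_mem_mon hφφ hsL i
  have ht : dpart x hxB ∈ tor n φ := dpart_mem_tor x hxB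
  have hu : (dpart x hxB)⁻¹ * x ∈ unip n φ := inv_dpart_mul_mem_unip x hxB
  refine ⟨_, hu, ?_⟩
  intro hcon
  have h1 : srO φ sL i * dpart x hxB * (srO φ sL i)⁻¹ ∈ bor n φ :=
    conj_mem_bor_of_mon hsm (by rw [← tor_eq_inf]; exact ht)
  have h2 : srO φ sL i * x * (srO φ sL i)⁻¹ ∈ bor n φ := by
    have e : srO φ sL i * x * (srO φ sL i)⁻¹ =
        (srO φ sL i * dpart x hxB * (srO φ sL i)⁻¹) *
          (srO φ sL i * ((dpart x hxB)⁻¹ * x) * (srO φ sL i)⁻¹) := by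
      group
    rw [e]
    exact (bor n φ).mul_mem h1 hcon
  have h3 := h2 (rb n i) (ix n i) (ix_lt_rb i)
  rw [conj_apply (srO_isMon hφφ hsL i), pr_inv, pr_rb, pr_ix] at h3
  rcases mul_eq_zero.1 h3 with h4 | h4
  · rcases mul_eq_zero.1 h4 with h5 | h5
    · have := (srO_isMon hφφ hsL i).apply_ne_zero (ix n i)
      rw [pr_ix] at this
      exact this h5
    · exact hx h5
  · have := (srO_isMon hφφ hsL i).inv'.apply_ne_zero (ix n i)
    rw [pr_inv, pr_ix] at this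
    exact this h4

/-- `B` normalizes `U` -/
theorem poodd_conj_mem_unip {b u : WSU n φ} (hb : b ∈ bor n φ) (hu : u ∈ unip n φ) :
    b * u * b⁻¹ ∈ unip n φ := by
  have hbi : b⁻¹ ∈ bor n φ := (bor n φ).inv_mem hb
  have hbu : b * u ∈ bor n φ := (bor n φ).mul_mem hb hu.1
  refine ⟨(bor n φ).mul_mem hbu hbi, fun a => ?_⟩
  rw [mul_apply_diag hbu hbi, mul_apply_diag hb hu.1, hu.2 a, mul_one,
    ← mul_apply_diag hb hbi, mul_inv_cancel, mt_one, Matrix.one_apply_eq]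

end family

/-- the split (B, N) data of type `B_m` -/
theorem poodd_data {F : Type*} [Field F] [Fintype F] (p : ℕ) [Fact p.Prime] [CharP F p]
    (h2 : (2 : F) ≠ 0) (m : ℕ) (hm : 1 ≤ m) :
    ∃ P : Cfsg.BNPair (WSU (2 * m + 1) (RingHom.id F)), Nonempty (Data P p) := by
  classical
  obtain ⟨n, hn⟩ : ∃ n : ℕ, n = 2 * m + 1 := ⟨_, rfl⟩
  have hoddn : n % 2 = 1 := by omega
  let φ : F →+* F := RingHom.id F
  have hφφ : ∀ x, φ (φ x) = x := fun x => rfl
  have htr : ∀ r : F, φ r = r → ∃ s : F, s + φ s = r := by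
    intro r _
    refine ⟨r / 2, ?_⟩
    show r / 2 + r / 2 = r
    field_simp
    ring
  have hM : ∃ u v : F, v ≠ 0 ∧ v + φ v + u * φ u = 0 := by
    refine ⟨2, -2, neg_ne_zero.2 h2, ?_⟩
    show (-2 : F) + -2 + 2 * 2 = 0
    ring
  have hsw : ∀ z : Fin n, z ≠ Fin.rev z → ∃ N : WSU n φ, IsMon (mt N) (piL z) := by
    intro z hz
    obtain ⟨u, v, hv0, huv⟩ := hM
    have hzc : z ≠ mid n hoddn := by
      intro e
      apply hz
      rw [e]
      exact mid_rev hoddn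
    exact exists_mon_piL hφφ hzc hz (mid_rev hoddn) huv hv0
  obtain ⟨sL, hsL⟩ : ∃ sL : Fin (n / 2) → WSU n φ, ∀ i, IsMon (mt (sL i)) (piL (ix n i)) :=
    ⟨fun i => Classical.choose (hsw (ix n i) (ix_ne_rev i)),
      fun i => Classical.choose_spec (hsw (ix n i) (ix_ne_rev i))⟩
  have hgen : bor n φ ⊔ mon n φ = ⊤ := sup_eq_top_of_swaps hφφ htr hsw
  obtain ⟨N0, hN0⟩ := exists_n0_of_swaps hsw
  have : Finite (WSU n φ) := finite_WSU
  subst hn
  refine ⟨soBN hφφ hoddn hsL hM hgen, ⟨{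
    U := unip (2 * m + 1) φ
    T := tor (2 * m + 1) φ
    n₀ := ⟨N0, ⟨Fin.revPerm, hN0⟩⟩
    hUB := unip_le_bor
    hTB := tor_le_bor
    hUn := fun b hb u hu => poodd_conj_mem_unip hb hu
    hUp := unip_isPGroup p
    hcard := card_bor
    hTp := Cfsg.Agent.Helper13.SdP.not_dvd_card_tor p
    hS := ⟨_, ⟨⟨0, by omega⟩, rfl⟩⟩
    hs := by
      rintro _ ⟨i, rfl⟩
      exact poodd_conj_not_mem hφφ hoddn hsL hM i
    hT := fun x hx => mem_tor_iff_conj hN0 x hx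
    hn₀ := n0_allDescO hφφ hoddn hsL hM hgen hN0 }⟩⟩

/-- core of PA-POODD: the abstract `SylO` statements are hypotheses -/
theorem poodd_core {F : Type*} [Field F] [Fintype F] (p : ℕ) [Fact p.Prime] [CharP F p]
    (m : ℕ) (hm : 3 ≤ m) (hodd : Odd (Fintype.card F))
    (h_data : ∀ P : Cfsg.BNPair (WSU (2 * m + 1) (RingHom.id F)),
      Data P p → SylOpp p (WSU (2 * m + 1) (RingHom.id F)))
    (h_sub : ∀ K : Subgroup (WSU (2 * m + 1) (RingHom.id F)), K.Normal → ¬ p ∣ K.index →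
      SylOpp p (WSU (2 * m + 1) (RingHom.id F)) → SylOpp p ↥K)
    (h_quot1 : ∀ (K : Subgroup (WSU (2 * m + 1) (RingHom.id F)))
      (f : ↥K →* ↥(Cfsg.Omega F (Cfsg.quadFormOdd m F))), Function.Surjective f →
      f.ker ≤ Subgroup.center ↥K → SylOpp p ↥K →
      SylOpp p ↥(Cfsg.Omega F (Cfsg.quadFormOdd m F)))
    (h_quot2 : ∀ f : ↥(Cfsg.Omega F (Cfsg.quadFormOdd m F)) →*
        Cfsg.POmega F (Cfsg.quadFormOdd m F), Function.Surjective f →
      f.ker ≤ Subgroup.center ↥(Cfsg.Omega F (Cfsg.quadFormOdd m F)) →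
      SylOpp p ↥(Cfsg.Omega F (Cfsg.quadFormOdd m F)) →
      SylOpp p (Cfsg.POmega F (Cfsg.quadFormOdd m F)))
    (h_T : SylOpp p (Cfsg.POmega F (Cfsg.quadFormOdd m F)) →
      NoPAut p (Cfsg.POmega F (Cfsg.quadFormOdd m F))) :
    NoPAut p (Cfsg.POmega F (Cfsg.quadFormOdd m F)) := by
  classical
  have hp : p.Prime := Fact.out
  have hpdvd : p ∣ Fintype.card F := by
    obtain ⟨k, _, hk⟩ := FiniteField.card F p
    rw [hk]
    exact dvd_pow_self p k.ne_zero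
  have hp2 : p ≠ 2 := by
    intro e
    rw [e] at hpdvd
    exact (Nat.not_even_iff_odd.2 hodd) (even_iff_two_dvd.2 hpdvd)
  have h2 : (2 : F) ≠ 0 := by
    intro h0
    have h3 : ((2 : ℕ) : F) = 0 := by exact_mod_cast h0
    rw [CharP.cast_eq_zero_iff F p] at h3
    exact hp2 ((Nat.prime_dvd_prime_iff_eq hp Nat.prime_two).1 h3)
  obtain ⟨P, ⟨D⟩⟩ := poodd_data (F := F) p h2 m (by omega)
  have hfin : Finite (WSU (2 * m + 1) (RingHom.id F)) := finite_WSU
  obtain ⟨j, hj, z, hz, hzj⟩ := exists_hom_isometryGroup (F := F) h2 m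
  obtain ⟨k, hk⟩ := exists_index_commutator (F := F) h2 m
  have hmap := Cfsg.Agent.Helper21.SoFinal.commutator_eq_map j z hz hzj
  have hΩ : Cfsg.Omega F (Cfsg.quadFormOdd m F) ≤ j.range := by
    show commutator (Cfsg.isometryGroup F (Cfsg.quadFormOdd m F)) ≤ j.range
    rw [← hmap]
    exact Subgroup.map_le_range j _
  have hidx : ¬ p ∣ ((Cfsg.Omega F (Cfsg.quadFormOdd m F)).comap j).index := by
    rw [Subgroup.index_comap]
    intro hdvd
    have h1 : (Cfsg.Omega F (Cfsg.quadFormOdd m F)).relIndex j.range ∣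
        (Cfsg.Omega F (Cfsg.quadFormOdd m F)).index :=
      Subgroup.relIndex_dvd_index_of_normal _ _
    have h3 : p ∣ 2 ^ k := by
      rw [← hk]
      exact hdvd.trans h1
    exact hp2 ((Nat.prime_dvd_prime_iff_eq hp Nat.prime_two).1 (hp.dvd_of_dvd_pow h3))
  have hnormal : ((Cfsg.Omega F (Cfsg.quadFormOdd m F)).comap j).Normal := inferInstance
  exact sylo_chain p j hj (Cfsg.Omega F (Cfsg.quadFormOdd m F)) hΩ (h_data P D)
    (h_sub _ hnormal hidx) (h_quot1 _) h_quot2 h_T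

end Cfsg.Agent.Helper28.PA
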