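import Mathlib
import Cfsg.Agent.Lib.Helper24.CharComplete
import Cfsg.Agent.Lib.Helper24.CharLinear
import Cfsg.Agent.Lib.Helper24.CharHom
import Cfsg.Agent.Lib.Helper24.CharAlgebra
import Cfsg.Agent.Lib.Helper24.J1MONO
import Cfsg.Agent.Lib.Helper15.GL23Defs
import Cfsg.Agent.Lib.Helper3.J1Defs

/-!
# S0448 pieces K1ONE (helper4, for helper3): restriction of a character of `H0 = Z2 × A5` to
`K1 = Z2 × A4` and to its Sylow 2-subgroup `E8`, trivial character.
`k1one_core` gives both pieces K1ONE and K1E8.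
-/

set_option autoImplicit false
set_option linter.unusedSectionVars false
set_option linter.unusedVariables false

namespace Cfsg.Agent.Helper3.J1

open Cfsg Cfsg.Agent.Helper24 Cfsg.Agent.Helper15.GL23
open scoped ComplexConjugate

/-- `K1 = Z2 × A4`: the elements whose `A5`-part fixes the point `4` -/
def k1one_K1 : Subgroup H0 where
  carrier := {h | (h.2 : Equiv.Perm (Fin 5)) 4 = 4}
  mul_mem' := by
    intro a b ha hb
    simp only [Set.mem_ofPred_eq] at ha hb ⊢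
    rw [Prod.snd_mul, Subgroup.coe_mul, Equiv.Perm.mul_apply, hb, ha]
  one_mem' := by
    simp only [Set.mem_ofPred_eq]
    rfl
  inv_mem' := by
    intro a ha
    simp only [Set.mem_ofPred_eq] at ha ⊢
    rw [Prod.snd_inv, Subgroup.coe_inv, Equiv.Perm.inv_eq_iff_eq]
    exact ha.symm

theorem k1one_mem (h : H0) : h ∈ k1one_K1 ↔ (h.2 : Equiv.Perm (Fin 5)) 4 = 4 := Iff.rfl

instance k1one_dec : DecidablePred (· ∈ k1one_K1) := fun h =>
  decidable_of_iff _ (k1one_mem h).symm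

/-- type of an element of `H0`: `0` identity, `1` involution, `2` conjugate to `x0`, `3` conjugate to `w0`,
`4` the others -/
def k1one_ty (h : H0) : Fin 5 :=
  if h = 1 then 0 else if h * h = 1 then 1 else if ∃ g : H0, g * h * g⁻¹ = x0 then 2
  else if ∃ g : H0, g * h * g⁻¹ = w0 then 3 else 4

theorem k1one_ty_ne : ∀ h : H0, h ∈ k1one_K1 → k1one_ty h ≠ 4 := by decide +kernel

theorem k1one_cards :
    (Finset.univ.filter (fun h : H0 => h ∈ k1one_K1 ∧ k1one_ty h = 0)).card = 1 ∧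
    (Finset.univ.filter (fun h : H0 => h ∈ k1one_K1 ∧ k1one_ty h = 1)).card = 7 ∧
    (Finset.univ.filter (fun h : H0 => h ∈ k1one_K1 ∧ k1one_ty h = 2)).card = 8 ∧
    (Finset.univ.filter (fun h : H0 => h ∈ k1one_K1 ∧ k1one_ty h = 3)).card = 8 := by
  decide +kernel

theorem k1one_sq_ty : ∀ h : H0, h ∈ k1one_K1 → h * h = 1 → k1one_ty h = 0 ∨ k1one_ty h = 1 := by
  decide +kernel

theorem k1one_sq_mul : ∀ a b : H0, a ∈ k1one_K1 → b ∈ k1one_K1 → a * a = 1 → b * b = 1 →
    (a * b) * (a * b) = 1 := by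
  decide +kernel

theorem k1one_sq_cards :
    (Finset.univ.filter (fun h : H0 => (h ∈ k1one_K1 ∧ h * h = 1) ∧ k1one_ty h = 0)).card = 1 ∧
    (Finset.univ.filter (fun h : H0 => (h ∈ k1one_K1 ∧ h * h = 1) ∧ k1one_ty h = 1)).card = 7 ∧
    (Finset.univ.filter (fun h : H0 => (h ∈ k1one_K1 ∧ h * h = 1) ∧ k1one_ty h = 2)).card = 0 ∧
    (Finset.univ.filter (fun h : H0 => (h ∈ k1one_K1 ∧ h * h = 1) ∧ k1one_ty h = 3)).card = 0 := by
  decide +kernel

/-- the values on the five types -/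
def k1one_valfn (D T ξ U : ℂ) : Fin 5 → ℂ := ![D, T, ξ, U, 0]

theorem k1one_valfn_eq (D T ξ U : ℂ) : k1one_valfn D T ξ U 0 = D ∧ k1one_valfn D T ξ U 1 = T ∧
    k1one_valfn D T ξ U 2 = ξ ∧ k1one_valfn D T ξ U 3 = U ∧ k1one_valfn D T ξ U 4 = 0 :=
  ⟨rfl, rfl, rfl, rfl, rfl⟩

theorem k1one_card : (Finset.univ.filter (fun h : H0 => h ∈ k1one_K1)).card = 24 := by decide +kernel

theorem k1one_sq_card : (Finset.univ.filter (fun h : H0 => h ∈ k1one_K1 ∧ h * h = 1)).card = 8 := by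
  decide +kernel

/-- the value of a character with the given data at an element of type `i` -/
theorem k1one_val {ψ : H0 → ℂ} (hψ : IsCharacter H0 ψ) (D T ξ U : ℤ) (hD : ψ 1 = (D : ℂ))
    (hT : ∀ h : H0, orderOf h = 2 → ψ h = (T : ℂ)) (hX : ψ x0 = (ξ : ℂ)) (hU : ψ w0 = (U : ℂ))
    (h : H0) (h4 : k1one_ty h ≠ 4) :
    ψ h = k1one_valfn D T ξ U (k1one_ty h) := by
  have hcl := isClassFunction_of_isCharacter hψ
  obtain ⟨e0, e1, e2, e3, e4⟩ := k1one_valfn_eq (D : ℂ) T ξ U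
  unfold k1one_ty at h4 ⊢
  split_ifs at h4 ⊢ with h1 h2 h3 h5
  · rw [h1, e0]
    exact hD
  · have : orderOf h = 2 := by
      have : Fact (Nat.Prime 2) := ⟨Nat.prime_two⟩
      exact orderOf_eq_prime (by rw [pow_two]; exact h2) h1
    rw [e1]
    exact hT h this
  · obtain ⟨g, hg⟩ := h3
    have := hcl h g
    rw [hg] at this
    rw [← this, e2]
    exact hX
  · obtain ⟨g, hg⟩ := h5
    have := hcl h g
    rw [hg] at this
    rw [← this, e3]
    exact hU
  · exact absurd rfl h4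

/-- fiberwise evaluation of a sum -/
theorem k1one_sum (ψ : H0 → ℂ) (S : Finset H0) (val : Fin 5 → ℂ)
    (h : ∀ x ∈ S, ψ x = val (k1one_ty x)) :
    ∑ x ∈ S, ψ x = ∑ i : Fin 5, ((S.filter (fun x => k1one_ty x = i)).card : ℂ) * val i := by
  rw [← Finset.sum_fiberwise S k1one_ty ψ]
  refine Finset.sum_congr rfl fun i _ => ?_
  rw [← nsmul_eq_mul, ← Finset.sum_const]
  refine Finset.sum_congr rfl fun x hx => ?_
  rw [Finset.mem_filter] at hx
  rw [h x hx.1, hx.2]

/-- the Sylow 2-subgroup `E8 = ⟨z0, u0, u0'⟩` of `K1`: the elements of square `1` -/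
def k1one_E8 : Subgroup k1one_K1 where
  carrier := {k | k * k = 1}
  mul_mem' := by
    intro a b ha hb
    simp only [Set.mem_ofPred_eq] at ha hb ⊢
    apply Subtype.ext
    have ha' : (a : H0) * (a : H0) = 1 := by
      have := congrArg Subtype.val ha
      simpa using this
    have hb' : (b : H0) * (b : H0) = 1 := by
      have := congrArg Subtype.val hb
      simpa using this
    simpa using k1one_sq_mul a b a.2 b.2 ha' hb'
  one_mem' := by
    simp only [Set.mem_ofPred_eq, mul_one]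
  inv_mem' := by
    intro a ha
    simp only [Set.mem_ofPred_eq] at ha ⊢
    rw [← mul_inv_rev, ha, inv_one]

theorem k1one_E8_mem (k : k1one_K1) : k ∈ k1one_E8 ↔ k * k = 1 := Iff.rfl

instance k1one_E8_dec : DecidablePred (· ∈ k1one_E8) := fun k =>
  decidable_of_iff _ (k1one_E8_mem k).symm

/-- the sum over `K1` -/
theorem k1one_sum_K1 (ψ : H0 → ℂ) :
    ∑ k : k1one_K1, ψ k = ∑ h ∈ Finset.univ.filter (fun h : H0 => h ∈ k1one_K1), ψ h :=
  (Finset.sum_subtype (Finset.univ.filter (fun h : H0 => h ∈ k1one_K1)) (by simp) ψ).symm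

/-- the sum over `E8` -/
theorem k1one_sum_E8 (ψ : H0 → ℂ) :
    ∑ e : k1one_E8, ψ ((e : k1one_K1) : H0) =
      ∑ h ∈ Finset.univ.filter (fun h : H0 => h ∈ k1one_K1 ∧ h * h = 1), ψ h := by
  rw [← Finset.sum_subtype (Finset.univ.filter (fun k : k1one_K1 => k ∈ k1one_E8)) (by simp)
    (fun k : k1one_K1 => ψ k)]
  rw [Finset.sum_filter]
  have h1 : ∀ a : k1one_K1, (if a ∈ k1one_E8 then ψ a else 0) =
      (fun h : H0 => if h * h = 1 then ψ h else 0) a := by
    intro a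
    have : a ∈ k1one_E8 ↔ (a : H0) * (a : H0) = 1 := by
      rw [k1one_E8_mem]
      constructor
      · intro h
        have := congrArg Subtype.val h
        simpa using this
      · intro h
        apply Subtype.ext
        simpa using h
    simp only [this]
  rw [Finset.sum_congr rfl (fun a _ => h1 a), k1one_sum_K1 (fun h : H0 => if h * h = 1 then ψ h else 0),
    ← Finset.sum_filter, Finset.filter_filter]

theorem k1one_natcard_K1 : Nat.card k1one_K1 = 24 := by
  rw [Nat.card_eq_fintype_card, Fintype.card_subtype]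
  exact k1one_card

theorem k1one_natcard_E8 : Nat.card k1one_E8 = 8 := by
  have h := k1one_sum_E8 (fun _ => (1 : ℂ))
  simp only [Finset.sum_const, nsmul_eq_mul, mul_one, Finset.card_univ, k1one_sq_card] at h
  rw [Nat.card_eq_fintype_card]
  exact_mod_cast h

/-- the two sums -/
theorem k1one_sums {ψ : H0 → ℂ} (hψ : IsCharacter H0 ψ) (D T ξ U : ℤ) (hD : ψ 1 = (D : ℂ))
    (hT : ∀ h : H0, orderOf h = 2 → ψ h = (T : ℂ)) (hX : ψ x0 = (ξ : ℂ)) (hU : ψ w0 = (U : ℂ)) :
    ∑ k : k1one_K1, ψ k = (D : ℂ) + 7 * T + 8 * ξ + 8 * U ∧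
    ∑ e : k1one_E8, ψ ((e : k1one_K1) : H0) = (D : ℂ) + 7 * T := by
  obtain ⟨e0, e1, e2, e3, e4⟩ := k1one_valfn_eq (D : ℂ) T ξ U
  constructor
  · rw [k1one_sum_K1, k1one_sum ψ _ (k1one_valfn D T ξ U)]
    · simp only [Fin.sum_univ_five, Finset.filter_filter]
      rw [k1one_cards.1, k1one_cards.2.1, k1one_cards.2.2.1, k1one_cards.2.2.2, e0, e1, e2, e3, e4]
      push_cast
      ring
    · intro x hx
      rw [Finset.mem_filter] at hx
      exact k1one_val hψ D T ξ U hD hT hX hU x (k1one_ty_ne x hx.2)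
  · rw [k1one_sum_E8, k1one_sum ψ _ (k1one_valfn D T ξ U)]
    · simp only [Fin.sum_univ_five, Finset.filter_filter]
      rw [k1one_sq_cards.1, k1one_sq_cards.2.1, k1one_sq_cards.2.2.1, k1one_sq_cards.2.2.2, e0, e1, e2, e3, e4]
      push_cast
      ring
    · intro x hx
      rw [Finset.mem_filter] at hx
      exact k1one_val hψ D T ξ U hD hT hX hU x (k1one_ty_ne x hx.2.1)

/-- the core of K1ONE and K1E8 -/
theorem k1one_core {ψ : H0 → ℂ} (hψ : IsCharacter H0 ψ) (D T ξ U : ℤ) (hD : ψ 1 = (D : ℂ))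
    (hT : ∀ h : H0, orderOf h = 2 → ψ h = (T : ℂ)) (hX : ψ x0 = (ξ : ℂ)) (hU : ψ w0 = (U : ℂ)) :
    ∃ m n : ℕ, D + 7 * T + 8 * ξ + 8 * U = 24 * m ∧ D + 7 * T = 8 * n ∧ m ≤ n := by
  have hχ := isCharacter_restrict k1one_K1 hψ
  obtain ⟨m, n, hm, hn, hmn⟩ := res_mono (H := k1one_K1) k1one_E8 hχ 1
  obtain ⟨s1, s2⟩ := k1one_sums hψ D T ξ U hD hT hX hU
  refine ⟨m, n, ?_, ?_, hmn⟩
  · unfold classInner at hm
    simp only [MonoidHom.one_apply, Units.val_one, map_one, mul_one] at hm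
    rw [s1, k1one_natcard_K1] at hm
    have : ((D + 7 * T + 8 * ξ + 8 * U : ℤ) : ℂ) = ((24 * m : ℤ) : ℂ) := by
      push_cast
      field_simp at hm
      linear_combination hm
    exact_mod_cast this
  · unfold classInner at hn
    simp only [MonoidHom.one_apply, Units.val_one, map_one, mul_one] at hn
    rw [s2, k1one_natcard_E8] at hn
    have : ((D + 7 * T : ℤ) : ℂ) = ((8 * n : ℤ) : ℂ) := by
      push_cast
      field_simp at hn
      linear_combination hn
    exact_mod_cast this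

/-- PIECE K1ONE: restriction to `K1 = Z2 × A4`, trivial character -/
theorem res_k1_one {ψ : H0 → ℂ} (hψ : IsCharacter H0 ψ) (D T ξ U : ℤ) (hD : ψ 1 = (D : ℂ))
    (hT : ∀ h : H0, orderOf h = 2 → ψ h = (T : ℂ)) (hX : ψ x0 = (ξ : ℂ)) (hU : ψ w0 = (U : ℂ)) :
    ∃ n : ℕ, D + 7 * T + 8 * ξ + 8 * U = 24 * n := by
  obtain ⟨m, n, h1, h2, h3⟩ := k1one_core hψ D T ξ U hD hT hX hU
  exact ⟨m, h1⟩

end Cfsg.Agent.Helper3.J1
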