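import Mathlib
import Cfsg.Agent.Lib.Helper3.M24IdxDefs

/-!
# S1589 piece IDX-C3A: a subgroup `K` of the group of the code whose point stabilizer `K_x` has order
5760 and preserves a set `{a, b, c}` contains the pointwise stabilizer `fix4 x a b c` (of order 960).
-/

set_option autoImplicit false
open Cfsg

namespace Cfsg.Agent.Helper3.M24Idx

open Cfsg.Agent.Helper27 Cfsg.Agent.Helper29 Cfsg.Agent.Helper29.M24
open scoped Pointwise

/-- IDX-C3A -/
theorem fix4_le_of_card (K : Subgroup (Equiv.Perm GolayPt)) (hKM : K ≤ Cfsg.M24)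
    (x a b c : GolayPt) (hxa : x ≠ a) (hxb : x ≠ b) (hxc : x ≠ c) (hab : a ≠ b) (hac : a ≠ c)
    (hbc : b ≠ c) (hc : Nat.card (stabIn K x) = 5760)
    (hstab : ∀ g ∈ K, g x = x → g • ({a, b, c} : Finset GolayPt) = {a, b, c})
    (h960 : Nat.card (fix4 x a b c) = 960) : fix4 x a b c ≤ K := by
  classical
  -- the chain `K_x ≥ K_{x,a} ≥ K_{x,a,b}`
  set Kx := stabIn K x with hKx
  set Kxa := stabIn Kx a with hKxa
  set Kxab := stabIn Kxa b with hKxab
  -- `K_x` preserves `{a,b,c}`
  have hinv : ∀ g ∈ Kx, ∀ p, g p ∈ ({a, b, c} : Finset GolayPt) ↔ p ∈ ({a, b, c} : Finset GolayPt) := by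
    intro g hg
    have h1 := (mem_stabIn K x g).1 hg
    exact (smul_eq_iff_forall _ g).1 (hstab g h1.1 h1.2)
  -- orbit of `a` under `K_x`
  have ho1 : (orbF Kx a).card ≤ 3 := by
    have hsub : orbF Kx a ⊆ ({a, b, c} : Finset GolayPt) := by
      intro p hp
      obtain ⟨g, hg, rfl⟩ := (mem_orbF Kx a p).1 hp
      exact (hinv g hg a).2 (by simp)
    calc (orbF Kx a).card ≤ ({a, b, c} : Finset GolayPt).card := Finset.card_le_card hsub
      _ ≤ 3 := Finset.card_le_three
  -- orbit of `b` under `K_{x,a}`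
  have ho2 : (orbF Kxa b).card ≤ 2 := by
    have hsub : orbF Kxa b ⊆ ({b, c} : Finset GolayPt) := by
      intro p hp
      obtain ⟨g, hg, rfl⟩ := (mem_orbF Kxa b p).1 hp
      have h1 := (mem_stabIn Kx a g).1 hg
      have h2 : g b ∈ ({a, b, c} : Finset GolayPt) := (hinv g h1.1 b).2 (by simp)
      have h3 : g b ≠ a := by
        intro h
        have : g b = g a := by rw [h, h1.2]
        exact hab (g.injective this).symm
      simp only [Finset.mem_insert, Finset.mem_singleton] at h2 ⊢
      rcases h2 with h | h | h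
      · exact absurd h h3
      · exact Or.inl h
      · exact Or.inr h
    calc (orbF Kxa b).card ≤ ({b, c} : Finset GolayPt).card := Finset.card_le_card hsub
      _ ≤ 2 := Finset.card_le_two
  have e1 : Nat.card Kx = (orbF Kx a).card * Nat.card Kxa := card_orbF Kx a
  have e2 : Nat.card Kxa = (orbF Kxa b).card * Nat.card Kxab := card_orbF Kxa b
  have hge : 960 ≤ Nat.card Kxab := by
    rw [hc] at e1
    have h1 : 5760 ≤ 3 * Nat.card Kxa := by
      rw [e1]; exact Nat.mul_le_mul_right _ ho1
    have h2 : Nat.card Kxa ≤ 2 * Nat.card Kxab := by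
      rw [e2]; exact Nat.mul_le_mul_right _ ho2
    omega
  -- `K_{x,a,b} ≤ fix4 x a b c`
  have hle : Kxab ≤ fix4 x a b c := by
    intro g hg
    have h1 := (mem_stabIn Kxa b g).1 hg
    have h2 := (mem_stabIn Kx a g).1 h1.1
    have h3 := (mem_stabIn K x g).1 h2.1
    rw [mem_fix4]
    refine ⟨hKM h3.1, h3.2, h2.2, h1.2, ?_⟩
    have h4 : g c ∈ ({a, b, c} : Finset GolayPt) := (hinv g h2.1 c).2 (by simp)
    simp only [Finset.mem_insert, Finset.mem_singleton] at h4
    rcases h4 with h | h | h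
    · exfalso
      have : g c = g a := by rw [h, h2.2]
      exact hac (g.injective this).symm
    · exfalso
      have : g c = g b := by rw [h, h1.2]
      exact hbc (g.injective this).symm
    · exact h
  have heq : Kxab = fix4 x a b c :=
    Subgroup.eq_of_le_of_card_ge hle (by rw [h960]; exact hge)
  rw [← heq]
  exact fun g hg => (stabIn_le K x) ((stabIn_le Kx a) ((stabIn_le Kxa b) hg))

end Cfsg.Agent.Helper3.M24Idx
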