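import Mathlib

/-!
Helper library for S2271: the fixed point count is not constant on `a^{A_n} b^{A_n}`.
-/

set_option autoImplicit false

namespace Cfsg.Agent.Helper4.ArHz

open Equiv

variable {n : ℕ}

/-- agreement count of two permutations -/
def agr (y x : Perm (Fin n)) : ℕ := (Finset.univ.filter fun i => y i = x i).card

/-- the 3-cycle `a → b → c → a` -/
def c3 (a b c : Fin n) : Perm (Fin n) := Equiv.swap a b * Equiv.swap b c

lemma c3_a {a b c : Fin n} (hab : a ≠ b) (hac : a ≠ c) : c3 a b c a = b := by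
  simp [c3, Equiv.swap_apply_of_ne_of_ne hab hac]

lemma c3_b {a b c : Fin n} (hac : a ≠ c) (hbc : b ≠ c) : c3 a b c b = c := by
  simp [c3, Equiv.swap_apply_of_ne_of_ne hac.symm hbc.symm]

lemma c3_c {a b c : Fin n} : c3 a b c c = a := by
  simp [c3]

lemma c3_ne {a b c i : Fin n} (ha : i ≠ a) (hb : i ≠ b) (hc : i ≠ c) : c3 a b c i = i := by
  simp [c3, Equiv.swap_apply_of_ne_of_ne hb hc, Equiv.swap_apply_of_ne_of_ne ha hb]

lemma c3_inv_a {a b c : Fin n} : (c3 a b c)⁻¹ a = c := by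
  rw [Equiv.Perm.inv_eq_iff_eq]; exact c3_c.symm

lemma c3_inv_b {a b c : Fin n} (hab : a ≠ b) (hac : a ≠ c) : (c3 a b c)⁻¹ b = a := by
  rw [Equiv.Perm.inv_eq_iff_eq]; exact (c3_a hab hac).symm

lemma c3_inv_c {a b c : Fin n} (hac : a ≠ c) (hbc : b ≠ c) : (c3 a b c)⁻¹ c = b := by
  rw [Equiv.Perm.inv_eq_iff_eq]; exact (c3_b hac hbc).symm

lemma c3_inv_ne {a b c i : Fin n} (ha : i ≠ a) (hb : i ≠ b) (hc : i ≠ c) :
    (c3 a b c)⁻¹ i = i := by
  rw [Equiv.Perm.inv_eq_iff_eq]; exact (c3_ne ha hb hc).symm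

lemma c3_mem {a b c : Fin n} (hab : a ≠ b) (hbc : b ≠ c) :
    c3 a b c ∈ alternatingGroup (Fin n) := by
  rw [Equiv.Perm.mem_alternatingGroup]
  simp [c3, Equiv.Perm.sign_swap hab, Equiv.Perm.sign_swap hbc]

/-- The gaining move. -/
lemma e1 (y1 ρ : Perm (Fin n)) {r s v : Fin n} (hsv : s ≠ v) (hsr : s ≠ r) (hvr : v ≠ r)
    (h1 : y1 s = v) (h2 : y1 v = r) (h3 : y1 r ≠ s) (hρ : ρ r = s) (hv : ρ s ≠ v) :
    agr y1 ρ < agr (c3 s v r * y1 * (c3 s v r)⁻¹) ρ := by
  unfold agr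
  apply Finset.card_lt_card
  rw [Finset.ssubset_iff_of_subset]
  · refine ⟨r, Finset.mem_filter.mpr ⟨Finset.mem_univ _, ?_⟩, ?_⟩
    · show c3 s v r (y1 ((c3 s v r)⁻¹ r)) = ρ r
      rw [c3_inv_c hsr hvr, h2, c3_c, hρ]
    · intro hmem
      have := (Finset.mem_filter.mp hmem).2
      rw [hρ] at this; exact h3 this
  · intro i hi
    have hi := (Finset.mem_filter.mp hi).2
    refine Finset.mem_filter.mpr ⟨Finset.mem_univ _, ?_⟩
    show c3 s v r (y1 ((c3 s v r)⁻¹ i)) = ρ i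
    by_cases hir : i = r
    · subst hir; rw [hρ] at hi; exact absurd hi h3
    by_cases his : i = s
    · subst his; rw [h1] at hi; exact absurd hi.symm hv
    by_cases hiv : i = v
    · subst hiv
      rw [c3_inv_b hsv hsr, h1, c3_b hsr hvr, ← hi, h2]
    rw [c3_inv_ne his hiv hir]
    have hy_s : y1 i ≠ s := by
      intro h
      apply hir
      apply ρ.injective
      rw [hρ, ← hi, h]
    have hy_v : y1 i ≠ v := by
      intro h
      apply his
      apply y1.injective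
      rw [h, h1]
    have hy_r : y1 i ≠ r := by
      intro h
      apply hiv
      apply y1.injective
      rw [h, h2]
    rw [c3_ne hy_s hy_v hy_r]
    exact hi

/-- The breaking move. -/
lemma brk (y1 ρ : Perm (Fin n)) {r s z : Fin n} (hrs : r ≠ s) (hrz : r ≠ z) (hsz : s ≠ z)
    (h1 : y1 r = s) (hρ : ρ r = s) (ha : y1 z ≠ r) (hb : ρ s ≠ z)
    (hc : c3 r s z (y1 s) ≠ ρ z)
    (hd : ∀ i, i ≠ r → i ≠ s → i ≠ z → y1 i = z → ρ i ≠ r) :
    agr (c3 r s z * y1 * (c3 r s z)⁻¹) ρ < agr y1 ρ := by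
  unfold agr
  apply Finset.card_lt_card
  have key : c3 r s z (y1 ((c3 r s z)⁻¹ r)) ≠ ρ r := by
    rw [c3_inv_a, hρ]
    intro h
    apply ha
    have : y1 z = (c3 r s z)⁻¹ s := by
      rw [eq_comm, Equiv.Perm.inv_eq_iff_eq]; exact h.symm
    rw [this, c3_inv_b hrs hrz]
  rw [Finset.ssubset_iff_of_subset]
  · refine ⟨r, Finset.mem_filter.mpr ⟨Finset.mem_univ _, ?_⟩, ?_⟩
    · rw [h1, hρ]
    · intro hmem
      exact key (Finset.mem_filter.mp hmem).2
  · intro i hi
    have hi : c3 r s z (y1 ((c3 r s z)⁻¹ i)) = ρ i := (Finset.mem_filter.mp hi).2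
    refine Finset.mem_filter.mpr ⟨Finset.mem_univ _, ?_⟩
    by_cases hir : i = r
    · subst hir; exact absurd hi key
    by_cases his : i = s
    · subst his
      rw [c3_inv_b hrs hrz, h1, c3_b hrz hsz] at hi
      exact absurd hi.symm hb
    by_cases hiz : i = z
    · subst hiz
      rw [c3_inv_c hrz hsz] at hi
      exact absurd hi hc
    rw [c3_inv_ne hir his hiz] at hi
    have hy_r : y1 i ≠ r := by
      intro h
      rw [h, c3_a hrs hrz] at hi
      apply hir
      apply ρ.injective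
      rw [hρ, ← hi]
    have hy_s : y1 i ≠ s := by
      intro h
      apply hir
      apply y1.injective
      rw [h, h1]
    have hy_z : y1 i ≠ z := by
      intro h
      rw [h, c3_c] at hi
      exact hd i hir his hiz h hi.symm
    rw [c3_ne hy_r hy_s hy_z] at hi
    exact hi

end Cfsg.Agent.Helper4.ArHz
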