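import Mathlib
import Cfsg.Agent.Lib.Helper4.ArHz

/-!
Helper library for S2271, part B: even conjugators and the five constructions.
-/

set_option autoImplicit false

namespace Cfsg.Agent.Helper4.ArHz

open Equiv

variable {n : ℕ}

lemma exists_avoid (S : Finset (Fin n)) (h : S.card < n) : ∃ z, z ∉ S := by
  by_contra hcon
  push_neg at hcon
  have : S = Finset.univ := Finset.eq_univ_iff_forall.mpr hcon
  rw [this, Finset.card_univ, Fintype.card_fin] at h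
  exact lt_irrefl _ h

lemma exists_even_map3 (hn : 5 ≤ n) {u1 u2 u3 t1 t2 t3 : Fin n}
    (hu12 : u1 ≠ u2) (hu13 : u1 ≠ u3) (hu23 : u2 ≠ u3)
    (ht12 : t1 ≠ t2) (ht13 : t1 ≠ t3) (ht23 : t2 ≠ t3) :
    ∃ h : Perm (Fin n), h ∈ alternatingGroup (Fin n) ∧ h u1 = t1 ∧ h u2 = t2 ∧ h u3 = t3 := by
  have h0 := alternatingGroup.isMultiplyPretransitive (Fin n)
  have hc : Nat.card (Fin n) = n := by simp
  have h3 : MulAction.IsMultiplyPretransitive (alternatingGroup (Fin n)) (Fin n) 3 :=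
    MulAction.isMultiplyPretransitive_of_le (n := Nat.card (Fin n) - 2) (by omega) (by omega)
  let x : Fin 3 ↪ Fin n := ⟨![u1, u2, u3], by
    intro i j hij
    fin_cases i <;> fin_cases j <;> simp_all⟩
  let y : Fin 3 ↪ Fin n := ⟨![t1, t2, t3], by
    intro i j hij
    fin_cases i <;> fin_cases j <;> simp_all⟩
  obtain ⟨g, hg⟩ := MulAction.exists_smul_eq (alternatingGroup (Fin n)) x y
  refine ⟨g.1, g.2, ?_, ?_, ?_⟩
  · have := DFunLike.congr_fun hg 0
    simp only [Function.Embedding.smul_apply, Subgroup.smul_def, Equiv.Perm.smul_def] at this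
    exact this
  · have := DFunLike.congr_fun hg 1
    simp only [Function.Embedding.smul_apply, Subgroup.smul_def, Equiv.Perm.smul_def] at this
    exact this
  · have := DFunLike.congr_fun hg 2
    simp only [Function.Embedding.smul_apply, Subgroup.smul_def, Equiv.Perm.smul_def] at this
    exact this

lemma exists_even_map2 (hn : 5 ≤ n) {u1 u2 t1 t2 : Fin n}
    (hu12 : u1 ≠ u2) (ht12 : t1 ≠ t2) :
    ∃ h : Perm (Fin n), h ∈ alternatingGroup (Fin n) ∧ h u1 = t1 ∧ h u2 = t2 := by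
  obtain ⟨u3, hu3⟩ := exists_avoid ({u1, u2} : Finset (Fin n))
    (lt_of_le_of_lt Finset.card_le_two (by omega))
  obtain ⟨t3, ht3⟩ := exists_avoid ({t1, t2} : Finset (Fin n))
    (lt_of_le_of_lt Finset.card_le_two (by omega))
  simp only [Finset.mem_insert, Finset.mem_singleton, not_or] at hu3 ht3
  obtain ⟨h, hh, h1, h2, -⟩ := exists_even_map3 hn hu12 (Ne.symm hu3.1) (Ne.symm hu3.2)
    ht12 (Ne.symm ht3.1) (Ne.symm ht3.2)
  exact ⟨h, hh, h1, h2⟩

lemma card_fixedPoints_mul (p q : Perm (Fin n)) :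
    Nat.card (Function.fixedPoints ⇑(p * q)) = agr q p⁻¹ := by
  unfold agr
  have : Nat.card (Function.fixedPoints ⇑(p * q)) = Nat.card {i : Fin n // q i = p⁻¹ i} := by
    apply Nat.card_congr
    exact Equiv.subtypeEquivRight (fun i => by
      show (p * q) i = i ↔ q i = p⁻¹ i
      rw [Equiv.Perm.mul_apply, Equiv.Perm.eq_inv_iff_eq])
  rw [this, Nat.card_eq_fintype_card, Fintype.card_subtype]

lemma card_fixedPoints_mul' (p q : Perm (Fin n)) :
    Nat.card (Function.fixedPoints ⇑(p * q)) = agr p q⁻¹ := by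
  unfold agr
  have : Nat.card (Function.fixedPoints ⇑(p * q)) = Nat.card {j : Fin n // p j = q⁻¹ j} := by
    apply Nat.card_congr
    exact Equiv.subtypeEquiv q (fun i => by
      simp [Function.mem_fixedPoints, Function.IsFixedPt])
  rw [this, Nat.card_eq_fintype_card, Fintype.card_subtype]

/-- The intermediate goal. -/
def Goal (σ ρ : Perm (Fin n)) : Prop :=
  ∃ h₁ h₂ : Perm (Fin n), h₁ ∈ alternatingGroup (Fin n) ∧ h₂ ∈ alternatingGroup (Fin n) ∧
    agr (h₁ * σ * h₁⁻¹) ρ ≠ agr (h₂ * σ * h₂⁻¹) ρ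

lemma conj_apply_map (h σ : Perm (Fin n)) (u : Fin n) : (h * σ * h⁻¹) (h u) = h (σ u) := by
  simp

lemma goal_of_lt {σ ρ h0 m : Perm (Fin n)} (h0m : h0 ∈ alternatingGroup (Fin n))
    (hm : m ∈ alternatingGroup (Fin n))
    (hlt : agr (h0 * σ * h0⁻¹) ρ < agr (m * (h0 * σ * h0⁻¹) * m⁻¹) ρ ∨
      agr (m * (h0 * σ * h0⁻¹) * m⁻¹) ρ < agr (h0 * σ * h0⁻¹) ρ) : Goal σ ρ := by
  refine ⟨h0, m * h0, h0m, Subgroup.mul_mem _ hm h0m, ?_⟩
  have : m * h0 * σ * (m * h0)⁻¹ = m * (h0 * σ * h0⁻¹) * m⁻¹ := by group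
  rw [this]
  rcases hlt with h | h
  · exact ne_of_lt h
  · exact (ne_of_lt h).symm

lemma goal_long (hn : 5 ≤ n) (σ ρ : Perm (Fin n)) {u : Fin n} (h2 : σ (σ u) ≠ u)
    (h3 : σ (σ (σ u)) ≠ u) {r : Fin n} (hr : ρ r ≠ r) : Goal σ ρ := by
  have huv : u ≠ σ u := by
    intro h; apply h2; rw [← h, ← h]
  have hvw : σ u ≠ σ (σ u) := by
    intro h; exact huv (σ.injective h)
  have huw : u ≠ σ (σ u) := Ne.symm h2
  obtain ⟨v', hv'⟩ := exists_avoid ({r, ρ r, ρ (ρ r)} : Finset (Fin n))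
    (lt_of_le_of_lt Finset.card_le_three (by omega))
  simp only [Finset.mem_insert, Finset.mem_singleton, not_or] at hv'
  obtain ⟨hv'r, hv's, hv't⟩ := hv'
  obtain ⟨h0, hh0, e1', e2', e3'⟩ := exists_even_map3 hn huv huw hvw
    (t1 := ρ r) (t2 := v') (t3 := r) (Ne.symm hv's) hr (hv'r)
  have y_s : (h0 * σ * h0⁻¹) (ρ r) = v' := by
    have := conj_apply_map h0 σ u
    rw [e1', e2'] at this; exact this
  have y_v : (h0 * σ * h0⁻¹) v' = r := by
    have := conj_apply_map h0 σ (σ u)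
    rw [e2', e3'] at this; exact this
  have y_r : (h0 * σ * h0⁻¹) r ≠ ρ r := by
    have := conj_apply_map h0 σ (σ (σ u))
    rw [e3'] at this
    rw [this]
    intro h
    rw [← e1'] at h
    exact h3 (h0.injective h)
  have hm : c3 (ρ r) v' r ∈ alternatingGroup (Fin n) := c3_mem (Ne.symm hv's) hv'r
  refine goal_of_lt hh0 hm (Or.inl ?_)
  exact e1 (h0 * σ * h0⁻¹) ρ (Ne.symm hv's) hr hv'r y_s y_v y_r rfl (Ne.symm hv't)

lemma goal_22 (hn : 5 ≤ n) (σ ρ : Perm (Fin n)) {u r : Fin n} (hu : σ u ≠ u)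
    (hu2 : σ (σ u) = u) (hr : ρ r ≠ r) (hr2 : ρ (ρ r) = r) : Goal σ ρ := by
  obtain ⟨z, hz⟩ := exists_avoid ({r, ρ r} : Finset (Fin n))
    (lt_of_le_of_lt Finset.card_le_two (by omega))
  simp only [Finset.mem_insert, Finset.mem_singleton, not_or] at hz
  obtain ⟨hzr, hzs⟩ := hz
  obtain ⟨h0, hh0, e1', e2'⟩ := exists_even_map2 hn (Ne.symm hu) (t1 := r) (t2 := ρ r)
    (Ne.symm hr)
  have y_r : (h0 * σ * h0⁻¹) r = ρ r := by
    have := conj_apply_map h0 σ u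
    rw [e1', e2'] at this; exact this
  have y_s : (h0 * σ * h0⁻¹) (ρ r) = r := by
    have := conj_apply_map h0 σ (σ u)
    rw [e2', hu2, e1'] at this; exact this
  have hm : c3 r (ρ r) z ∈ alternatingGroup (Fin n) := c3_mem (Ne.symm hr) (Ne.symm hzs)
  refine goal_of_lt hh0 hm (Or.inr ?_)
  refine brk (h0 * σ * h0⁻¹) ρ (Ne.symm hr) (Ne.symm hzr) (Ne.symm hzs) y_r rfl ?_ ?_ ?_ ?_
  · intro h
    apply hzs
    apply (h0 * σ * h0⁻¹).injective
    rw [h, y_s]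
  · rw [hr2]; exact Ne.symm hzr
  · rw [y_s, c3_a (Ne.symm hr) (Ne.symm hzr)]
    intro h
    exact hzr (ρ.injective h.symm)
  · intro i hir his hiz hyi h
    apply his
    apply ρ.injective
    rw [h, hr2]

lemma goal_33 (hn : 5 ≤ n) (σ ρ : Perm (Fin n)) {u r : Fin n} (hu : σ u ≠ u)
    (hu3 : σ (σ (σ u)) = u) (hr : ρ r ≠ r) (hr3 : ρ (ρ (ρ r)) = r) : Goal σ ρ := by
  have hu2 : σ (σ u) ≠ u := by
    intro h; rw [h] at hu3; exact hu hu3
  have hr2 : ρ (ρ r) ≠ r := by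
    intro h; rw [h] at hr3; exact hr hr3
  have huv : u ≠ σ u := Ne.symm hu
  have hvw : σ u ≠ σ (σ u) := by
    intro h; exact huv (σ.injective h)
  have huw : u ≠ σ (σ u) := Ne.symm hu2
  have hrs : r ≠ ρ r := Ne.symm hr
  have hst : ρ r ≠ ρ (ρ r) := by
    intro h; exact hrs (ρ.injective h)
  have hrt : r ≠ ρ (ρ r) := Ne.symm hr2
  obtain ⟨z, hz⟩ := exists_avoid ({r, ρ r, ρ (ρ r)} : Finset (Fin n))
    (lt_of_le_of_lt Finset.card_le_three (by omega))
  simp only [Finset.mem_insert, Finset.mem_singleton, not_or] at hz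
  obtain ⟨hzr, hzs, hzt⟩ := hz
  obtain ⟨h0, hh0, e1', e2', e3'⟩ := exists_even_map3 hn huv huw hvw
    (t1 := r) (t2 := ρ r) (t3 := ρ (ρ r)) hrs hrt hst
  have y_r : (h0 * σ * h0⁻¹) r = ρ r := by
    have := conj_apply_map h0 σ u
    rw [e1', e2'] at this; exact this
  have y_s : (h0 * σ * h0⁻¹) (ρ r) = ρ (ρ r) := by
    have := conj_apply_map h0 σ (σ u)
    rw [e2', e3'] at this; exact this
  have y_t : (h0 * σ * h0⁻¹) (ρ (ρ r)) = r := by
    have := conj_apply_map h0 σ (σ (σ u))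
    rw [e3', hu3, e1'] at this; exact this
  have hm : c3 r (ρ r) z ∈ alternatingGroup (Fin n) := c3_mem hrs (Ne.symm hzs)
  refine goal_of_lt hh0 hm (Or.inr ?_)
  refine brk (h0 * σ * h0⁻¹) ρ hrs (Ne.symm hzr) (Ne.symm hzs) y_r rfl ?_ ?_ ?_ ?_
  · intro h
    apply hzt
    apply (h0 * σ * h0⁻¹).injective
    rw [h, y_t]
  · exact Ne.symm hzt
  · rw [y_s, c3_ne (Ne.symm hrt) (Ne.symm hst) (Ne.symm hzt)]
    intro h
    exact hzs (ρ.injective h.symm)
  · intro i hir his hiz hyi h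
    have : i = ρ (ρ r) := by
      apply ρ.injective
      rw [h, hr3]
    rw [this, y_t] at hyi
    exact hzr hyi.symm

lemma goal_32 (hn : 5 ≤ n) (σ ρ : Perm (Fin n)) {u r : Fin n} (hu : σ u ≠ u)
    (hu3 : σ (σ (σ u)) = u) (hr : ρ r ≠ r) (hr2 : ρ (ρ r) = r) : Goal σ ρ := by
  have hu2 : σ (σ u) ≠ u := by
    intro h; rw [h] at hu3; exact hu hu3
  have huv : u ≠ σ u := Ne.symm hu
  have hvw : σ u ≠ σ (σ u) := by
    intro h; exact huv (σ.injective h)
  have huw : u ≠ σ (σ u) := Ne.symm hu2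
  have hrs : r ≠ ρ r := Ne.symm hr
  obtain ⟨h0, hh0, e1', e2'⟩ := exists_even_map2 hn huv (t1 := r) (t2 := ρ r) hrs
  have hwr : h0 (σ (σ u)) ≠ r := by
    intro h; rw [← e1'] at h; exact huw (h0.injective h).symm
  have hws : h0 (σ (σ u)) ≠ ρ r := by
    intro h; rw [← e2'] at h; exact hvw (h0.injective h).symm
  obtain ⟨z, hz⟩ := exists_avoid ({r, ρ r, h0 (σ (σ u)), ρ⁻¹ (h0 (σ (σ u)))} : Finset (Fin n))
    (lt_of_le_of_lt Finset.card_le_four (by omega))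
  simp only [Finset.mem_insert, Finset.mem_singleton, not_or] at hz
  obtain ⟨hzr, hzs, hzw, hzw'⟩ := hz
  have y_r : (h0 * σ * h0⁻¹) r = ρ r := by
    have := conj_apply_map h0 σ u
    rw [e1', e2'] at this; exact this
  have y_s : (h0 * σ * h0⁻¹) (ρ r) = h0 (σ (σ u)) := by
    have := conj_apply_map h0 σ (σ u)
    rw [e2'] at this; exact this
  have y_w : (h0 * σ * h0⁻¹) (h0 (σ (σ u))) = r := by
    rw [conj_apply_map, hu3, e1']
  have hm : c3 r (ρ r) z ∈ alternatingGroup (Fin n) := c3_mem hrs (Ne.symm hzs)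
  refine goal_of_lt hh0 hm (Or.inr ?_)
  refine brk (h0 * σ * h0⁻¹) ρ hrs (Ne.symm hzr) (Ne.symm hzs) y_r rfl ?_ ?_ ?_ ?_
  · intro h
    apply hzw
    apply (h0 * σ * h0⁻¹).injective
    rw [h, y_w]
  · rw [hr2]; exact Ne.symm hzr
  · rw [y_s, c3_ne hwr hws (Ne.symm hzw)]
    intro h
    apply hzw'
    rw [h]; simp
  · intro i hir his hiz hyi h
    apply his
    apply ρ.injective
    rw [h, hr2]

lemma goal_23 (hn : 5 ≤ n) (σ ρ : Perm (Fin n)) {u r : Fin n} (hu : σ u ≠ u)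
    (hu2 : σ (σ u) = u) (hr : ρ r ≠ r) (hr3 : ρ (ρ (ρ r)) = r) : Goal σ ρ := by
  have hr2 : ρ (ρ r) ≠ r := by
    intro h; rw [h] at hr3; exact hr hr3
  have hrs : r ≠ ρ r := Ne.symm hr
  have hst : ρ r ≠ ρ (ρ r) := by
    intro h; exact hrs (ρ.injective h)
  have hrt : r ≠ ρ (ρ r) := Ne.symm hr2
  obtain ⟨h0, hh0, e1', e2'⟩ := exists_even_map2 hn (Ne.symm hu) (t1 := r) (t2 := ρ r) hrs
  obtain ⟨z, hz⟩ := exists_avoid
    ({r, ρ r, ρ (ρ r), (h0 * σ * h0⁻¹) (ρ (ρ r))} : Finset (Fin n))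
    (lt_of_le_of_lt Finset.card_le_four (by omega))
  simp only [Finset.mem_insert, Finset.mem_singleton, not_or] at hz
  obtain ⟨hzr, hzs, hzt, hzy⟩ := hz
  have y_r : (h0 * σ * h0⁻¹) r = ρ r := by
    have := conj_apply_map h0 σ u
    rw [e1', e2'] at this; exact this
  have y_s : (h0 * σ * h0⁻¹) (ρ r) = r := by
    have := conj_apply_map h0 σ (σ u)
    rw [e2', hu2, e1'] at this; exact this
  have hm : c3 r (ρ r) z ∈ alternatingGroup (Fin n) := c3_mem hrs (Ne.symm hzs)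
  refine goal_of_lt hh0 hm (Or.inr ?_)
  refine brk (h0 * σ * h0⁻¹) ρ hrs (Ne.symm hzr) (Ne.symm hzs) y_r rfl ?_ ?_ ?_ ?_
  · intro h
    apply hzs
    apply (h0 * σ * h0⁻¹).injective
    rw [h, y_s]
  · exact Ne.symm hzt
  · rw [y_s, c3_a hrs (Ne.symm hzr)]
    intro h
    exact hzr (ρ.injective h.symm)
  · intro i hir his hiz hyi h
    have : i = ρ (ρ r) := by
      apply ρ.injective
      rw [h, hr3]
    rw [this] at hyi
    exact hzy hyi.symm

end Cfsg.Agent.Helper4.ArHz
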