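import Mathlib
import Cfsg.Prelude.Def_PLocal

/-!
# A normalizer-fixed element of an abelian Sylow subgroup outside a normal subgroup (helper4)
-/

set_option autoImplicit false
set_option linter.unusedSectionVars false
set_option linter.unusedVariables false
set_option linter.style.haveILetI false

namespace Cfsg.Agent.Helper4.AutCent

variable {Γ : Type*} [Group Γ] [Finite Γ] {p : ℕ} [hp : Fact p.Prime]

/-- For an abelian Sylow `p`-subgroup `S`, an element `a ∈ S` and a normal subgroup `G₀` containing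
all commutators `[n, a]`, some element `w ∈ S` fixed by `N(S)` is congruent modulo `G₀` to a power
`a ^ m` with `p ∤ m`. -/
theorem exists_fixed (S : Sylow p Γ) (hSc : ∀ x ∈ (S : Subgroup Γ), ∀ y ∈ (S : Subgroup Γ), x * y = y * x)
    (a : Γ) (ha : a ∈ (S : Subgroup Γ)) (G₀ : Subgroup Γ) [hG₀ : G₀.Normal]
    (hcomm : ∀ n : Γ, n * a * n⁻¹ * a⁻¹ ∈ G₀) :
    ∃ w ∈ (S : Subgroup Γ), ∃ m : ℕ, ¬ p ∣ m ∧
      (∀ n ∈ Subgroup.normalizer ((S : Subgroup Γ) : Set Γ), n * w * n⁻¹ = w) ∧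
      w * (a ^ m)⁻¹ ∈ G₀ := by
  classical
  obtain ⟨Nn, hNn⟩ : ∃ Nn : Subgroup Γ, Nn = Subgroup.normalizer ((S : Subgroup Γ) : Set Γ) :=
    ⟨_, rfl⟩
  have hSN : (S : Subgroup Γ) ≤ Nn := by rw [hNn]; exact Subgroup.le_normalizer
  haveI hS'n : ((S : Subgroup Γ).subgroupOf Nn).Normal := by
    rw [hNn]; exact Subgroup.normal_in_normalizer
  have hcop : (Nat.card ↥((S : Subgroup Γ).subgroupOf Nn)).Coprime
      ((S : Subgroup Γ).subgroupOf Nn).index := by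
    have := Sylow.card_coprime_index (S.subtype hSN)
    rwa [Sylow.coe_subtype] at this
  have hnd : ¬ p ∣ ((S : Subgroup Γ).subgroupOf Nn).index := by
    have := (S.subtype hSN).not_dvd_index
    rwa [Sylow.coe_subtype] at this
  obtain ⟨K, hK⟩ := Subgroup.exists_right_complement'_of_coprime hcop
  haveI : Fintype ↥K := Fintype.ofFinite _
  letI : CommGroup ↥(S : Subgroup Γ) :=
    { (inferInstance : Group ↥(S : Subgroup Γ)) with
      mul_comm := fun x y => Subtype.ext (hSc x x.2 y y.2) }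
  have hnorm : ∀ (n : ↥Nn) (s : Γ), s ∈ (S : Subgroup Γ) →
      (n : Γ) * s * (n : Γ)⁻¹ ∈ (S : Subgroup Γ) := by
    intro n s hs
    have hn : (n : Γ) ∈ Subgroup.normalizer ((S : Subgroup Γ) : Set Γ) := hNn ▸ n.2
    exact (Subgroup.mem_normalizer_iff.mp hn s).mp hs
  -- the conjugates of `a`
  let c : ↥K → ↥(S : Subgroup Γ) := fun k => ⟨((k : ↥Nn) : Γ) * a * ((k : ↥Nn) : Γ)⁻¹, hnorm k a ha⟩
  obtain ⟨w, hw⟩ : ∃ w : ↥(S : Subgroup Γ), w = ∏ k : ↥K, c k := ⟨_, rfl⟩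
  refine ⟨(w : Γ), w.2, Nat.card ↥K, ?_, ?_, ?_⟩
  · have h1 : K.index = Nat.card ↥((S : Subgroup Γ).subgroupOf Nn) := hK.index_eq_card
    have h2 : ((S : Subgroup Γ).subgroupOf Nn).index = Nat.card ↥K :=
      hK.symm.index_eq_card
    rw [← h2]; exact hnd
  · -- invariance
    have hKinv : ∀ k₀ : ↥K, ((k₀ : ↥Nn) : Γ) * (w : Γ) * ((k₀ : ↥Nn) : Γ)⁻¹ = (w : Γ) := by
      intro k₀
      let ψ : ↥(S : Subgroup Γ) →* ↥(S : Subgroup Γ) :=
        { toFun := fun s => ⟨((k₀ : ↥Nn) : Γ) * (s : Γ) * ((k₀ : ↥Nn) : Γ)⁻¹, hnorm k₀ s s.2⟩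
          map_one' := by
            apply Subtype.ext
            show ((k₀ : ↥Nn) : Γ) * ((1 : ↥(S : Subgroup Γ)) : Γ) * ((k₀ : ↥Nn) : Γ)⁻¹ = 1
            rw [Subgroup.coe_one]; group
          map_mul' := by
            intro x y
            apply Subtype.ext
            show ((k₀ : ↥Nn) : Γ) * ((x * y : ↥(S : Subgroup Γ)) : Γ) * ((k₀ : ↥Nn) : Γ)⁻¹ =
              (((k₀ : ↥Nn) : Γ) * (x : Γ) * ((k₀ : ↥Nn) : Γ)⁻¹) *
                (((k₀ : ↥Nn) : Γ) * (y : Γ) * ((k₀ : ↥Nn) : Γ)⁻¹)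
            rw [Subgroup.coe_mul]; group }
      have h1 : ψ w = w := by
        rw [hw, map_prod]
        have h2 : ∀ k : ↥K, ψ (c k) = c (k₀ * k) := by
          intro k
          apply Subtype.ext
          show ((k₀ : ↥Nn) : Γ) * (((k : ↥Nn) : Γ) * a * ((k : ↥Nn) : Γ)⁻¹) *
            ((k₀ : ↥Nn) : Γ)⁻¹ = (((k₀ * k : ↥K) : ↥Nn) : Γ) * a * (((k₀ * k : ↥K) : ↥Nn) : Γ)⁻¹
          rw [Subgroup.coe_mul, Subgroup.coe_mul]; group
        simp_rw [h2]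
        exact Equiv.prod_comp (Equiv.mulLeft k₀) c
      exact congrArg Subtype.val h1
    intro n hn
    have hn' : n ∈ Nn := by rw [hNn]; exact hn
    obtain ⟨⟨s, k⟩, hsk, -⟩ := hK.existsUnique (⟨n, hn'⟩ : ↥Nn)
    have hsk' : ((s : ↥Nn) : Γ) * ((k : ↥Nn) : Γ) = n := by
      have := congrArg Subtype.val hsk
      simpa using this
    have hsS : ((s : ↥Nn) : Γ) ∈ (S : Subgroup Γ) := Subgroup.mem_subgroupOf.mp s.2
    have hk := hKinv ⟨k, k.2⟩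
    rw [← hsk']
    calc ((s : ↥Nn) : Γ) * ((k : ↥Nn) : Γ) * (w : Γ) * (((s : ↥Nn) : Γ) * ((k : ↥Nn) : Γ))⁻¹
        = ((s : ↥Nn) : Γ) * (((k : ↥Nn) : Γ) * (w : Γ) * ((k : ↥Nn) : Γ)⁻¹) * ((s : ↥Nn) : Γ)⁻¹ := by
          group
      _ = ((s : ↥Nn) : Γ) * (w : Γ) * ((s : ↥Nn) : Γ)⁻¹ := by rw [hk]
      _ = (w : Γ) * ((s : ↥Nn) : Γ) * ((s : ↥Nn) : Γ)⁻¹ := by rw [hSc _ hsS _ w.2]
      _ = (w : Γ) := by group
  · -- the class modulo `G₀`
    let u : ↥K → ↥(S : Subgroup Γ) := fun k => c k * (⟨a, ha⟩ : ↥(S : Subgroup Γ))⁻¹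
    have hu : ∀ k, (u k : Γ) ∈ G₀ := by
      intro k
      show ((k : ↥Nn) : Γ) * a * ((k : ↥Nn) : Γ)⁻¹ * a⁻¹ ∈ G₀
      exact hcomm _
    have hc : ∀ k, c k = u k * ⟨a, ha⟩ := by
      intro k
      show c k = c k * (⟨a, ha⟩ : ↥(S : Subgroup Γ))⁻¹ * ⟨a, ha⟩
      group
    have hprod : w = (∏ k : ↥K, u k) * (⟨a, ha⟩ : ↥(S : Subgroup Γ)) ^ (Nat.card ↥K) := by
      rw [hw]
      simp_rw [hc]
      rw [Finset.prod_mul_distrib, Finset.prod_const, Finset.card_univ, Nat.card_eq_fintype_card]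
    have hmem : (∏ k : ↥K, u k) ∈ G₀.subgroupOf (S : Subgroup Γ) :=
      Subgroup.prod_mem _ (fun k _ => Subgroup.mem_subgroupOf.mpr (hu k))
    have h3 : (w : Γ) * (a ^ (Nat.card ↥K))⁻¹ = ((∏ k : ↥K, u k : ↥(S : Subgroup Γ)) : Γ) := by
      rw [hprod, Subgroup.coe_mul, Subgroup.coe_pow]
      show _ * a ^ _ * _ = _
      group
    rw [h3]
    exact Subgroup.mem_subgroupOf.mp hmem

end Cfsg.Agent.Helper4.AutCent
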