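import Mathlib
import Cfsg.Prelude.Def_PLocal
import Cfsg.Agent.Lib.Helper4.AutCentA
import Cfsg.Agent.Lib.Helper7.ZStar3
import Cfsg.Agent.Lib.Helper22.PPrimeCore
import Cfsg.Agent.S3895
import Cfsg.Agent.S1243

/-!
# Automorphisms of `2`-power order centralizing an abelian Sylow `2`-subgroup: abstract form
(helper4)
-/

set_option autoImplicit false
set_option linter.unusedSectionVars false
set_option linter.unusedVariables false
set_option linter.style.haveILetI false

namespace Cfsg.Agent.Helper4.AutCent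

universe u v

variable {G : Type u} [Group G] [Finite G] {Γ : Type v} [Group Γ] [Finite Γ]

/-- abstract form: `Γ = ι(G)⟨a⟩` with `ι(G)` normal, `a` a `2`-element centralizing the image of an
abelian Sylow `2`-subgroup of `G`, `O(G) = 1`, and no nontrivial element of `Γ` centralizing
`ι(G)`: then `a ∈ ι(G)` -/
theorem mem_range_of_centralizes (ι : G →* Γ) (hι : Function.Injective ι) [hn : ι.range.Normal]
    (a : Γ) (ha2 : ∃ j : ℕ, orderOf a = 2 ^ j) (P : Sylow 2 G)
    (hab : ∀ x ∈ (P : Subgroup G), ∀ y ∈ (P : Subgroup G), x * y = y * x)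
    (haP : ∀ x ∈ (P : Subgroup G), a * ι x = ι x * a)
    (htop : ι.range ⊔ Subgroup.zpowers a = ⊤)
    (hO : Cfsg.pPrimeCore 2 G = ⊥)
    (hC : ∀ z : Γ, (∀ g : G, z * ι g = ι g * z) → z = 1) : a ∈ ι.range := by
  haveI : Fact (Nat.Prime 2) := ⟨Nat.prime_two⟩
  by_contra hna
  obtain ⟨j, hj⟩ := ha2
  -- the abelian `2`-subgroup `T = ι(P)⟨a⟩`
  obtain ⟨T, hT⟩ : ∃ T : Subgroup Γ, T = (P : Subgroup G).map ι ⊔ Subgroup.zpowers a := ⟨_, rfl⟩
  have haT : a ∈ T := by rw [hT]; exact le_sup_right (a := (P : Subgroup G).map ι) (Subgroup.mem_zpowers a)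
  have hPT : (P : Subgroup G).map ι ≤ T := by rw [hT]; exact le_sup_left
  have hcentP : ∀ y ∈ Subgroup.zpowers a, ∀ x ∈ (P : Subgroup G).map ι, y * x = x * y := by
    intro y hy x hx
    obtain ⟨x', hx', rfl⟩ := hx
    obtain ⟨k, rfl⟩ := Subgroup.mem_zpowers_iff.mp hy
    have h1 : Commute a (ι x') := haP x' hx'
    exact (h1.zpow_left k)
  have hTc : ∀ x ∈ T, ∀ y ∈ T, x * y = y * x := by
    have key2 : ∀ x : Γ, (∀ y ∈ (P : Subgroup G).map ι, y * x = x * y) →
        (∀ y ∈ Subgroup.zpowers a, y * x = x * y) → ∀ y ∈ T, y * x = x * y := by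
      intro x hA hB y hy
      have hle : T ≤ Subgroup.centralizer ({x} : Set Γ) := by
        rw [hT]
        apply sup_le
        · intro y hy
          exact Subgroup.mem_centralizer_singleton_iff.mpr (hA y hy)
        · intro y hy
          exact Subgroup.mem_centralizer_singleton_iff.mpr (hB y hy)
      exact Subgroup.mem_centralizer_singleton_iff.mp (hle hy)
    have hA : ∀ x ∈ (P : Subgroup G).map ι, ∀ y ∈ T, y * x = x * y := by
      intro x hx
      apply key2
      · intro y hy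
        obtain ⟨x', hx', rfl⟩ := hx
        obtain ⟨y', hy', rfl⟩ := hy
        rw [← map_mul, ← map_mul, hab y' hy' x' hx']
      · intro y hy
        exact hcentP y hy x hx
    have hB : ∀ x ∈ Subgroup.zpowers a, ∀ y ∈ T, y * x = x * y := by
      intro x hx
      apply key2
      · intro y hy
        exact (hcentP x hx y hy).symm
      · intro y hy
        obtain ⟨k, rfl⟩ := Subgroup.mem_zpowers_iff.mp hx
        obtain ⟨l, rfl⟩ := Subgroup.mem_zpowers_iff.mp hy
        exact ((Commute.refl a).zpow_zpow l k)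
    intro x hx y hy
    exact (key2 y (fun u hu => (hA u hu y hy).symm) (fun u hu => (hB u hu y hy).symm) x hx)
  have hT2 : IsPGroup 2 ↥T := by
    rw [hT]
    apply IsPGroup.to_sup_of_normal_right' (P.2.map ι)
    · rw [IsPGroup.iff_orderOf]
      rintro ⟨y, hy⟩
      obtain ⟨k, rfl⟩ := Subgroup.mem_zpowers_iff.mp hy
      have h1 : orderOf (a ^ k) ∣ 2 ^ j := hj ▸ orderOf_dvd_of_pow_eq_one (by
        rw [← zpow_natCast, ← zpow_mul, mul_comm, zpow_mul, zpow_natCast, pow_orderOf_eq_one,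
          one_zpow])
      obtain ⟨i, -, hi⟩ := (Nat.dvd_prime_pow Nat.prime_two).mp h1
      refine ⟨i, ?_⟩
      rw [← hi]
      exact Subgroup.orderOf_mk _ _
    · intro x hx
      rw [Subgroup.mem_normalizer_iff]
      intro y
      constructor
      · intro hy
        have := hcentP y hy x hx
        have e : x * y * x⁻¹ = y := by rw [← this]; group
        rw [e]; exact hy
      · intro hy
        have h1 : x⁻¹ * (x * y * x⁻¹) * x ∈ Subgroup.zpowers a := by
          have h2 := hcentP _ hy x hx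
          have e : x⁻¹ * (x * y * x⁻¹) * x = x * y * x⁻¹ := by
            calc x⁻¹ * (x * y * x⁻¹) * x = x⁻¹ * ((x * y * x⁻¹) * x) := by group
              _ = x⁻¹ * (x * (x * y * x⁻¹)) := by rw [h2]
              _ = x * y * x⁻¹ := by group
          rw [e]; exact hy
        have e2 : x⁻¹ * (x * y * x⁻¹) * x = y := by group
        rwa [e2] at h1
  -- `T` is a Sylow `2`-subgroup
  obtain ⟨S, hTS⟩ := hT2.exists_le_sylow
  have hST : (S : Subgroup Γ) = T := by
    apply le_antisymm _ hTS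
    intro s hs
    have hs' : s ∈ ((ι.range ⊔ Subgroup.zpowers a : Subgroup Γ) : Set Γ) := by
      rw [htop]; exact Set.mem_univ s
    rw [Subgroup.normal_mul] at hs'
    obtain ⟨g, hg, y, hy, rfl⟩ := Set.mem_mul.mp hs'
    have hyS : y ∈ (S : Subgroup Γ) := hTS (hT ▸ le_sup_right (a := (P : Subgroup G).map ι) hy)
    have hgS : g ∈ (S : Subgroup Γ) := by
      have := (S : Subgroup Γ).mul_mem hs ((S : Subgroup Γ).inv_mem hyS)
      rwa [mul_inv_cancel_right] at this
    obtain ⟨g', rfl⟩ := hg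
    -- `(S ⊓ ι(G))` pulled back is a `2`-group containing `P`
    have hQ2 : IsPGroup 2 ↥((S : Subgroup Γ).comap ι) := S.2.comap_of_injective ι hι
    have hPQ : (P : Subgroup G) ≤ (S : Subgroup Γ).comap ι := by
      intro x hx
      exact hTS (hPT ⟨x, hx, rfl⟩)
    have hQP : (S : Subgroup Γ).comap ι = P := P.3 hQ2 hPQ
    have hg'P : g' ∈ (P : Subgroup G) := by rw [← hQP]; exact hgS
    exact T.mul_mem (hPT ⟨g', hg'P, rfl⟩) (hT ▸ le_sup_right (a := (P : Subgroup G).map ι) hy)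
  have hSc : ∀ x ∈ (S : Subgroup Γ), ∀ y ∈ (S : Subgroup Γ), x * y = y * x := by
    rw [hST]; exact hTc
  have haS : a ∈ (S : Subgroup Γ) := by rw [hST]; exact haT
  -- commutators with `a` lie in `ι(G)`
  have hcomm : ∀ n : Γ, n * a * n⁻¹ * a⁻¹ ∈ ι.range := by
    intro n
    have hn' : n ∈ ((ι.range ⊔ Subgroup.zpowers a : Subgroup Γ) : Set Γ) := by
      rw [htop]; exact Set.mem_univ n
    rw [Subgroup.normal_mul] at hn'
    obtain ⟨g, hg, y, hy, rfl⟩ := Set.mem_mul.mp hn'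
    obtain ⟨k, rfl⟩ := Subgroup.mem_zpowers_iff.mp hy
    have e : g * a ^ k * a * (g * a ^ k)⁻¹ * a⁻¹ = g * (a * g⁻¹ * a⁻¹) := by
      have h1 : a ^ k * a * (a ^ k)⁻¹ = a := by
        rw [← zpow_add_one, ← zpow_neg, ← zpow_add]; simp
      calc g * a ^ k * a * (g * a ^ k)⁻¹ * a⁻¹ = g * (a ^ k * a * (a ^ k)⁻¹) * g⁻¹ * a⁻¹ := by group
        _ = g * a * g⁻¹ * a⁻¹ := by rw [h1]
        _ = g * (a * g⁻¹ * a⁻¹) := by group
    rw [e]
    exact ι.range.mul_mem hg (hn.conj_mem _ (ι.range.inv_mem hg) a)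
  obtain ⟨w, hwS, m, hm, hwN, hwm⟩ := exists_fixed S hSc a haS ι.range hcomm
  -- `w ∉ ι(G)`
  have hwn : w ∉ ι.range := by
    intro hw
    have h1 : a ^ m ∈ ι.range := by
      have := ι.range.mul_mem (ι.range.inv_mem hwm) hw
      rwa [mul_inv_rev, inv_inv, inv_mul_cancel_right] at this
    have hcop : Nat.Coprime m (2 ^ j) := by
      apply Nat.Coprime.pow_right
      rw [Nat.coprime_comm, Nat.Prime.coprime_iff_not_dvd Nat.prime_two]
      exact hm
    have h2 : a ^ (Nat.gcd m (2 ^ j) : ℤ) ∈ ι.range := by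
      rw [Nat.gcd_eq_gcd_ab, zpow_add, zpow_mul, zpow_mul]
      apply ι.range.mul_mem
      · apply Subgroup.zpow_mem
        rw [zpow_natCast]; exact h1
      · apply Subgroup.zpow_mem
        rw [zpow_natCast, ← hj, pow_orderOf_eq_one]; exact Subgroup.one_mem _
    rw [hcop] at h2
    simp at h2
    exact hna h2
  have hw1 : w ≠ 1 := fun h => hwn (h ▸ Subgroup.one_mem _)
  -- `w` is weakly closed
  have hWS : Cfsg.IsWeaklyClosed (S : Subgroup Γ) (S : Subgroup Γ) := by
    refine ⟨le_refl _, fun g hg => ?_⟩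
    apply Subgroup.eq_of_le_of_card_ge hg
    rw [Subgroup.card_map_of_injective (MulAut.conj g).injective]
  have hSC : (S : Subgroup Γ) ≤ Subgroup.centralizer ((S : Subgroup Γ) : Set Γ) := by
    intro x hx
    rw [Subgroup.mem_centralizer_iff]
    intro y hy
    exact hSc y hy x hx
  have hwcl : Cfsg.Agent.S3895.WCl (S : Subgroup Γ) w := by
    refine ⟨hwS, fun g hg => ?_⟩
    obtain ⟨h, hh, hhe⟩ := Cfsg.Agent.S1243.result S (S : Subgroup Γ) hWS w g (hSC hwS) (hSC hg)
    rw [← hhe]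
    exact hwN h hh
  -- the involution in `⟨w⟩`
  obtain ⟨i, hi⟩ : ∃ i : ℕ, orderOf w = 2 ^ i := by
    have := S.2
    rw [IsPGroup.iff_orderOf] at this
    obtain ⟨i, hi⟩ := this ⟨w, hwS⟩
    exact ⟨i, by rw [← hi]; exact (Subgroup.orderOf_mk _ _).symm⟩
  have hi0 : i ≠ 0 := by
    intro h0
    rw [h0, pow_zero, orderOf_eq_one_iff] at hi
    exact hw1 hi
  obtain ⟨i', rfl⟩ := Nat.exists_eq_succ_of_ne_zero hi0
  obtain ⟨z, hz⟩ : ∃ z : Γ, z = w ^ (2 ^ i') := ⟨_, rfl⟩
  have hz2 : orderOf z = 2 := by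
    rw [hz]
    have h1 : orderOf (w ^ 2 ^ i') = orderOf w / Nat.gcd (orderOf w) (2 ^ i') :=
      orderOf_pow' w (by positivity)
    rw [h1, hi, Nat.gcd_eq_right (pow_dvd_pow 2 (Nat.le_succ i')), pow_succ,
      Nat.mul_div_cancel_left _ (by positivity)]
  have hzwcl : Cfsg.Agent.S3895.WCl (S : Subgroup Γ) z := by
    rw [hz]; exact Cfsg.Agent.S3895.WCl.pow S hwcl _
  have hiso : Cfsg.IsIsolated z := Cfsg.Agent.S3895.WCl.isIsolated S hzwcl hz2
  obtain ⟨Nz, hNzn, hNzodd, hNz⟩ := Cfsg.Agent.Helper7.ZStar.zstar_exists z hz2 hiso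
  -- `Nz ∩ ι(G)` is trivial
  have hM : Nz.comap ι = ⊥ := by
    rw [eq_bot_iff, ← hO]
    apply Cfsg.Agent.Helper22.le_pPrimeCore 2 _ (hNzn.comap ι)
    rw [Nat.coprime_two_right]
    exact Odd.of_dvd_nat hNzodd (Subgroup.card_comap_dvd_of_injective Nz ι hι)
  have hz1 : z = 1 := by
    apply hC
    intro g
    have h1 := hNz (ι g)
    have h2 : z * ι g * z⁻¹ ∈ ι.range := hn.conj_mem _ ⟨g, rfl⟩ z
    obtain ⟨g₂, hg₂⟩ := h2
    have h3 : z * ι g * z⁻¹ * (ι g)⁻¹ = ι (g₂ * g⁻¹) := by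
      rw [map_mul, map_inv, hg₂]
    rw [h3] at h1
    have h4 : g₂ * g⁻¹ ∈ Nz.comap ι := h1
    rw [hM, Subgroup.mem_bot] at h4
    have h5 : g₂ = g := by
      calc g₂ = g₂ * g⁻¹ * g := by group
        _ = g := by rw [h4, one_mul]
    rw [h5] at hg₂
    calc z * ι g = (z * ι g * z⁻¹) * z := by group
      _ = ι g * z := by rw [← hg₂]
  rw [hz1, orderOf_one] at hz2
  exact absurd hz2 (by norm_num)

end Cfsg.Agent.Helper4.AutCent
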