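import Mathlib

/-!
# S4705 piece V1 (helper23's farm-out): `value_odd`

`f = 0` on `p`-regular elements of odd order outside the centre, from the functional equation
`f g ^ 2 = (p - 2) * f (g * g)` and the norm criterion for the centre.
-/

set_option autoImplicit false
set_option linter.unusedSectionVars false
set_option linter.unusedVariables false

namespace Cfsg.Agent.Helper23.B2

universe u

variable {G : Type u} [Group G] [Fintype G]

namespace V1

/-- squaring does not change an odd order -/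
theorem orderOf_pow_two_pow {g : G} (hodd : Odd (orderOf g)) (j : ℕ) :
    orderOf (g ^ 2 ^ j) = orderOf g := by
  apply Nat.Coprime.orderOf_pow
  apply Nat.Coprime.pow_right
  exact Nat.coprime_two_right.2 hodd

/-- for an element of odd order, some positive iterate of squaring is the identity map on it -/
theorem exists_pow_two_pow_eq {g : G} (hodd : Odd (orderOf g)) :
    ∃ N : ℕ, 0 < N ∧ g ^ 2 ^ N = g := by
  have hpos : 0 < orderOf g := orderOf_pos g
  refine ⟨Nat.totient (orderOf g), Nat.totient_pos.2 hpos, ?_⟩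
  have hcop : Nat.Coprime 2 (orderOf g) := Nat.coprime_two_left.2 hodd
  have h1 : 2 ^ Nat.totient (orderOf g) ≡ 1 [MOD orderOf g] := Nat.ModEq.pow_totient hcop
  have h2 : g ^ 2 ^ Nat.totient (orderOf g) = g ^ 1 := pow_eq_pow_iff_modEq.2 h1
  rw [h2, pow_one]

/-- a nonnegative real fixed by an iterated squaring is `0` or `1` -/
theorem eq_zero_or_one_of_pow {u : ℝ} (hu : 0 ≤ u) {N : ℕ} (hN : 0 < N) (h : u ^ 2 ^ N = u) :
    u = 0 ∨ u = 1 := by
  by_cases h0 : u = 0
  · exact Or.inl h0
  · right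
    have hpos : 0 < u := lt_of_le_of_ne hu (Ne.symm h0)
    have h2 : 2 ≤ 2 ^ N := by
      calc 2 = 2 ^ 1 := (pow_one 2).symm
        _ ≤ 2 ^ N := Nat.pow_le_pow_right (by norm_num) hN
    obtain ⟨k, hk⟩ : ∃ k, 2 ^ N = k + 1 := ⟨2 ^ N - 1, by omega⟩
    have hk1 : 1 ≤ k := by omega
    rw [hk, pow_succ] at h
    have h3 : u ^ k = 1 := by
      have : u ^ k * u = 1 * u := by rw [h, one_mul]
      exact mul_right_cancel₀ h0 this
    exact (pow_eq_one_iff_of_nonneg hu (by omega)).1 h3

end V1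

variable {p : ℕ} [Fact p.Prime]

/-- PIECE V1 (§4): `f = 0` on `p`-regular elements of odd order outside the centre. -/
theorem value_odd (hp : 5 < p) (f : G → ℂ)
    (hFE : ∀ g : G, Odd (orderOf g) → ¬ p ∣ orderOf g → f g ^ 2 = ((p : ℂ) - 2) * f (g * g))
    (hcen : ∀ g : G, ‖f g‖ = (p : ℝ) - 2 → g ∈ Subgroup.center G) {g : G}
    (hodd : Odd (orderOf g)) (hg : ¬ p ∣ orderOf g) (hgZ : g ∉ Subgroup.center G) : f g = 0 := by
  have hc : (0 : ℝ) < (p : ℝ) - 2 := by
    have : (5 : ℝ) < (p : ℝ) := by exact_mod_cast hp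
    linarith
  have hcn : ‖((p : ℂ) - 2)‖ = (p : ℝ) - 2 := by
    have : ((p : ℂ) - 2) = (((p : ℝ) - 2 : ℝ) : ℂ) := by push_cast; ring
    rw [this, Complex.norm_real, Real.norm_of_nonneg hc.le]
  -- the sequence of norms
  set a : ℕ → ℝ := fun j => ‖f (g ^ 2 ^ j)‖ with ha
  have hstep : ∀ j, a j ^ 2 = ((p : ℝ) - 2) * a (j + 1) := by
    intro j
    have ho : orderOf (g ^ 2 ^ j) = orderOf g := V1.orderOf_pow_two_pow hodd j
    have h1 := hFE (g ^ 2 ^ j) (by rw [ho]; exact hodd) (by rw [ho]; exact hg)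
    have h2 : g ^ 2 ^ j * g ^ 2 ^ j = g ^ 2 ^ (j + 1) := by
      rw [← pow_add, pow_succ, mul_two]
    rw [h2] at h1
    have h3 := congrArg (fun z : ℂ => ‖z‖) h1
    simp only [norm_pow, norm_mul, hcn] at h3
    exact h3
  -- closed form
  have hclosed : ∀ j, a j = ((p : ℝ) - 2) * (a 0 / ((p : ℝ) - 2)) ^ 2 ^ j := by
    intro j
    induction j with
    | zero =>
      simp only [pow_zero, pow_one]
      field_simp
    | succ j ih =>
      have h1 := hstep j
      rw [ih] at h1
      have h2 : ((p : ℝ) - 2) * a (j + 1) =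
          ((p : ℝ) - 2) * (((p : ℝ) - 2) * (a 0 / ((p : ℝ) - 2)) ^ 2 ^ (j + 1)) := by
        rw [← h1, pow_succ 2 j, pow_mul]
        ring
      exact mul_left_cancel₀ hc.ne' h2
  obtain ⟨N, hN, hgN⟩ := V1.exists_pow_two_pow_eq hodd
  have haN : a N = a 0 := by
    simp only [ha, pow_zero, pow_one, hgN]
  set u : ℝ := a 0 / ((p : ℝ) - 2) with hu
  have hu0 : 0 ≤ u := div_nonneg (norm_nonneg _) hc.le
  have huN : u ^ 2 ^ N = u := by
    have h1 := hclosed N
    rw [haN] at h1
    have h2 : ((p : ℝ) - 2) * u = ((p : ℝ) - 2) * u ^ 2 ^ N := by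
      rw [← h1, hu]
      field_simp
    exact (mul_left_cancel₀ hc.ne' h2).symm
  have ha0 : a 0 = ‖f g‖ := by simp only [ha, pow_zero, pow_one]
  rcases V1.eq_zero_or_one_of_pow hu0 hN huN with h0 | h1
  · have : a 0 = 0 := by
      rw [hu] at h0
      rcases div_eq_zero_iff.1 h0 with h | h
      · exact h
      · exact absurd h hc.ne'
    rw [ha0] at this
    exact norm_eq_zero.1 this
  · exfalso
    apply hgZ
    apply hcen
    rw [← ha0]
    rw [hu] at h1
    have := (div_eq_one_iff_eq hc.ne').1 h1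
    exact this

end Cfsg.Agent.Helper23.B2
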