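import Mathlib
import Cfsg.Agent.Lib.Helper4.BG1351A
import Cfsg.Agent.Lib.Helper14.BG1366P2
import Cfsg.Agent.Lib.Helper19.BGKPrime
import Cfsg.Agent.Lib.Helper21.BG147aC

/-!
Towards S1351, part B: the polygon count without commutativity of `Z`, and the existence of the
partner `M*` of a maximal subgroup `M` with a nontrivial Hall `κ(M)`-subgroup `K`, WITHOUT assuming
that Hall `κ`-subgroups are cyclic (variants of helper14's `polygon_count` and helper21's
`exists_partner`).
-/

set_option autoImplicit false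

namespace Cfsg.Agent.Helper4.BG1351

open Cfsg Subgroup
open Cfsg.Agent.Helper10 (IsPiNum)
open Cfsg.Agent.Helper16.BG147
open Cfsg.Agent.Helper14.BG1369 (Half St1377 St1433 Zc)
open Cfsg.Agent.Helper21.BG147a (St1350a exists_home_coatom mem_sigma_of_dvd_card_Kst
  sigma_disj_of_le)

variable {G : Type*} [Group G] [Finite G]

section polygon

variable (S : Finset (Subgroup G)) (B : Subgroup G → Subgroup G) (Z : Subgroup G)

/-- `Z` normalises the set of its elements lying in no `(B H)*` -/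
theorem Zc_inv' (hZ : ∀ H ∈ S, B H ⊔ Kst H (B H) = Z)
    (z : G) (hz : z ∈ Z) (t : G) (ht : t ∈ Zc S B Z) : z * t * z⁻¹ ∈ Zc S B Z := by
  obtain ⟨htZ, ht1, htA⟩ := ht
  refine ⟨Z.mul_mem (Z.mul_mem hz htZ) (Z.inv_mem hz), ?_, ?_⟩
  · intro e
    apply ht1
    have : t = z⁻¹ * (z * t * z⁻¹) * z := by group
    rw [this, e]; group
  · intro H hH hmem
    apply htA H hH
    have hzn : z⁻¹ ∈ normalizer ((Kst H (B H) : Subgroup G) : Set G) := by
      apply Cfsg.Agent.Helper14.BG1369.Half.Z_le_normalizer_Kst (H := H) (K := B H)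
      rw [hZ H hH]
      exact Z.inv_mem hz
    have := (mem_normalizer_iff.mp hzn (z * t * z⁻¹)).mp hmem
    have e : z⁻¹ * (z * t * z⁻¹) * z⁻¹⁻¹ = t := by group
    rwa [e] at this

/-- the polygon count, without commutativity of `Z` -/
theorem polygon_count' (h77 : St1377 G) (h33 : St1433 G)
    (hhalf : ∀ H ∈ S, Half H (B H))
    (hZ : ∀ H ∈ S, B H ⊔ Kst H (B H) = Z)
    (hdisj : ∀ H ∈ S, ∀ H' ∈ S, H ≠ H' → ∀ p, p ∈ sigma H → p ∉ sigma H')
    (hcover : ∀ p : ℕ, p.Prime → p ∣ Nat.card Z → ∃ H ∈ S, p ∈ sigma H)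
    (hP1 : ∀ H ∈ S, Nat.card H = Nat.card (B H) * Nat.card (sigmaCore H)) :
    S.card ≤ 1 := by
  classical
  have hper := fun H hH =>
    Cfsg.Agent.Helper14.BG1369.per_H S B Z hhalf hZ h77 hH (hP1 H hH)
  have h1 : Nat.card Z * ∑ H ∈ S, (tildeOf H ((sigmaCore H : Set G) \ {1})).ncard +
      ∑ H ∈ S, Nat.card ↥(Kst H (B H)) * (Nat.card (B H) * H.index) =
      Nat.card G * ∑ H ∈ S, Nat.card ↥(Kst H (B H)) := by
    rw [Finset.mul_sum, Finset.mul_sum, ← Finset.sum_add_distrib]
    apply Finset.sum_congr rfl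
    intro H hH
    rw [(hper H hH).1, mul_comm]
  have h2 : 3 * ∑ H ∈ S, Nat.card ↥(Kst H (B H)) * (Nat.card (B H) * H.index) ≤
      S.card * Nat.card G := by
    rw [Finset.mul_sum, Finset.card_eq_sum_ones, Finset.sum_mul]
    apply Finset.sum_le_sum
    intro H hH
    rw [one_mul]; exact (hper H hH).2
  have h3 : Nat.card Z * Set.ncard (conjUnion (Zc S B Z)) = Nat.card G * Set.ncard (Zc S B Z) :=
    Cfsg.Agent.Helper14.BG1369.card_conjUnion_of_inv Z (Zc S B Z) (Zc_inv' S B Z hZ)
      (Cfsg.Agent.Helper14.BG1369.Zc_TI S B Z hhalf hZ hcover)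
  have h4 : ∑ H ∈ S, (tildeOf H ((sigmaCore H : Set G) \ {1})).ncard +
      (conjUnion (Zc S B Z)).ncard ≤ Nat.card G :=
    Cfsg.Agent.Helper14.BG1369.sum_ncard_add_le S
      (fun H => tildeOf H ((sigmaCore H : Set G) \ {1})) (conjUnion (Zc S B Z))
      (fun H hH H' hH' hne => Set.disjoint_left.mpr
        (Cfsg.Agent.Helper14.BG1369.disj3' S B hhalf hdisj h33 hH hH' hne))
      (fun H hH => Set.disjoint_left.mpr
        (Cfsg.Agent.Helper14.BG1369.disj1' S B Z hhalf hZ hcover hH))
  have h5 := Cfsg.Agent.Helper14.BG1369.card_Z_le S B Z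
  exact Cfsg.Agent.Helper14.BG1369.arith66 _ _ _ _ _ _ _ _ h1 h2 h3 h4 h5 Nat.card_pos

end polygon

/-- `H` is the home of some subgroup of prime order of `K`, with `B ≥ K*` a Hall
`κ(H)`-subgroup of `H` -/
def IsHome (M K H B : Subgroup G) : Prop := ∃ X : Subgroup G, Home M K X H B

open Classical in
/-- the chosen Hall `κ(H)`-subgroup for a member `H` of the family -/
noncomputable def famB (M K H : Subgroup G) : Subgroup G :=
  if H = M then K else if h : ∃ B, IsHome M K H B then Classical.choose h else ⊥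

open Classical in
/-- the family: `M` together with all homes -/
noncomputable def fam (M K : Subgroup G) : Finset (Subgroup G) :=
  (Set.toFinite {H : Subgroup G | H = M ∨ ∃ B, IsHome M K H B}).toFinset

theorem mem_fam {M K H : Subgroup G} : H ∈ fam M K ↔ H = M ∨ ∃ B, IsHome M K H B := by
  unfold fam
  rw [Set.Finite.mem_toFinset]
  rfl

theorem famB_self (M K : Subgroup G) : famB M K M = K := by
  unfold famB
  rw [if_pos rfl]

theorem isHome_famB {M K H : Subgroup G} (hne : H ≠ M) (h : ∃ B, IsHome M K H B) :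
    IsHome M K H (famB M K H) := by
  unfold famB
  rw [if_neg hne, dif_pos h]
  exact Classical.choose_spec h

/-- every prime divisor of `#K` has a home in the family -/
theorem exists_home {M K : Subgroup G} (c : Half M K) (h32 : St1432 G)
    (h78 : St1378b G) {r : ℕ} (hr : r.Prime) (hrd : r ∣ Nat.card K) :
    ∃ X M1 K1 : Subgroup G, Home M K X M1 K1 ∧ Nat.card X = r := by
  haveI := Fact.mk hr
  obtain ⟨x0, hx0⟩ := exists_prime_orderOf_dvd_card' r hrd
  have hXK : zpowers (x0 : G) ≤ K := by rw [zpowers_le]; exact x0.2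
  have hXc : Nat.card (zpowers (x0 : G)) = r := by
    rw [Nat.card_zpowers, Subgroup.orderOf_coe, hx0]
  have hXp : (Nat.card (zpowers (x0 : G))).Prime := by rw [hXc]; exact hr
  obtain ⟨M1, hM1, hN⟩ := exists_home_coatom c hXK hXp
  have pre : Pre M K (zpowers (x0 : G)) M1 := ⟨c, h32, h78, hXK, hXp, hM1, hN⟩
  obtain ⟨K1, hall1, hKsK1⟩ := pre.exists_K1
  exact ⟨_, M1, K1, ⟨pre, hall1, hKsK1⟩, hXc⟩

/-- **Existence of the partner**, from the frozen statements S1430, S1431 (in `Half`), S1432,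
S1378, S1350, S1377, S1433 - cyclicity of Hall `κ`-subgroups is NOT assumed. -/
theorem exists_partner {M K : Subgroup G} (c : Half M K) (h32 : St1432 G)
    (h78 : St1378b G) (h50 : St1350a G) (h77 : St1377 G) (h33 : St1433 G) :
    ∃ Ms : Subgroup G, IsCoatom Ms ∧
      K = sigmaCore Ms ⊓ centralizer ((Kst M K : Subgroup G) : Set G) ∧
      IsPiHallOf (kappa Ms) (Kst M K) Ms := by
  obtain ⟨p, hp, hpK⟩ := Nat.exists_prime_and_dvd (n := Nat.card K)
    (fun e => c.hK1 (Subgroup.card_eq_one.mp e))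
  obtain ⟨X, M1, K1, h0, hXc⟩ := exists_home c h32 h78 hp hpK
  by_cases hK : K ≤ sigmaCore M1
  · exact ⟨M1, h0.pre.hM1, h0.of_K_le hK⟩
  · exfalso
    have hq : ∃ q : ℕ, q.Prime ∧ q ∣ Nat.card K ∧ q ∉ sigma M1 := by
      by_contra hcon
      push Not at hcon
      exact hK (h0.K_le_of_forall hcon)
    obtain ⟨q, hq, hqd, hqσ⟩ := hq
    have hMS : M ∈ fam M K := mem_fam.mpr (Or.inl rfl)
    have hM1S : M1 ∈ fam M K := mem_fam.mpr (Or.inr ⟨K1, X, h0⟩)
    have hmem : ∀ H ∈ fam M K, H ≠ M → ∃ X' : Subgroup G, Home M K X' H (famB M K H) := by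
      intro H hH hne
      rcases mem_fam.mp hH with h | h
      · exact absurd h hne
      · exact isHome_famB hne h
    have hhalf : ∀ H ∈ fam M K, Half H (famB M K H) := by
      intro H hH
      by_cases hne : H = M
      · subst hne
        rw [famB_self]
        exact c
      · obtain ⟨X', hH'⟩ := hmem H hH hne
        exact hH'.half1
    have hZ : ∀ H ∈ fam M K, famB M K H ⊔ Kst H (famB M K H) = K ⊔ Kst M K := by
      intro H hH
      by_cases hne : H = M
      · subst hne
        rw [famB_self]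
      · obtain ⟨X', hH'⟩ := hmem H hH hne
        exact hH'.Z_eq.symm
    have hdisj : ∀ H ∈ fam M K, ∀ H' ∈ fam M K, H ≠ H' → ∀ r, r ∈ sigma H → r ∉ sigma H' := by
      intro H hH H' hH' hne r hr hr'
      by_cases h1 : H = M
      · by_cases h2 : H' = M
        · exact hne (h1.trans h2.symm)
        · obtain ⟨X', hx⟩ := hmem H' hH' h2
          subst h1
          exact hx.pre.sigma_disj1 r hr hr'
      · obtain ⟨X', hx⟩ := hmem H hH h1
        by_cases h2 : H' = M
        · subst h2
          exact hx.pre.sigma_disj1 r hr' hr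
        · obtain ⟨X'', hx'⟩ := hmem H' hH' h2
          exact sigma_disj_of_le hx.half1 h78 hx'.pre.hM1 (Ne.symm hne) hx.X_le_K1s
            hx.pre.X_ne_bot ((hx.pre.hXK.trans le_sup_left).trans hx'.pre.Z_le_M1) r hr hr'
    have hcover : ∀ r : ℕ, r.Prime → r ∣ Nat.card ↥(K ⊔ Kst M K) → ∃ H ∈ fam M K, r ∈ sigma H := by
      intro r hr hrd
      rw [c.card_Z] at hrd
      rcases (Nat.Prime.dvd_mul hr).mp hrd with h | h
      · obtain ⟨X', M', K', hx, hXc'⟩ := exists_home c h32 h78 hr h
        refine ⟨M', mem_fam.mpr (Or.inr ⟨K', X', hx⟩), ?_⟩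
        rw [← hXc']
        exact hx.pre.card_X_mem_sigma1
      · exact ⟨M, hMS, mem_sigma_of_dvd_card_Kst hr h⟩
    have hpσ : p ∈ sigma M1 := by
      rw [← hXc]
      exact h0.pre.card_X_mem_sigma1
    have hP1 : ∀ H ∈ fam M K,
        Nat.card H = Nat.card (famB M K H) * Nat.card ↥(sigmaCore H) := by
      intro H hH
      have hc := hhalf H hH
      have h30 := hc.h30 H hc.hH (famB M K H) hc.hall hc.hK1
      rcases Cfsg.Agent.Helper19.BGKPrime.card_eq_or_prime_of_hall_kappa hc.hG hc.hH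
        (h50 H hc.hH) hc.hall hc.hK1 h30.1 h30.2.1 with h | h
      · exact h
      · exfalso
        by_cases hne : H = M
        · subst hne
          rw [famB_self] at h
          exact h0.not_prime_card_K hq hqd hqσ h
        · obtain ⟨X', hx⟩ := hmem H hH hne
          by_cases h1 : H = M1
          · subst h1
            exact hx.not_prime_card_K1 hq hqd hqσ h
          · exact hx.not_prime_card_K1 hp hpK
              (hdisj M1 hM1S H hH (Ne.symm h1) p hpσ) h
    have hle := polygon_count' (fam M K) (famB M K) (K ⊔ Kst M K) h77 h33 hhalf hZ hdisj hcover hP1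
    have hlt : 1 < (fam M K).card :=
      Finset.one_lt_card.mpr ⟨M, hMS, M1, hM1S, h0.pre.M1_ne.symm⟩
    omega

end Cfsg.Agent.Helper4.BG1351
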