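import Mathlib
import Cfsg.Agent.Lib.Helper4.BG1351B
import Cfsg.Agent.Lib.Helper8.CNSolvable

/-!
S1351 (second half): every Hall `κ(M)`-subgroup of a maximal subgroup `M` of a minimal simple group of
odd order is cyclic.  From the frozen statements S1430, S1431, S1432, S1378, S1350, S1377, S1433, S1429.
-/

set_option autoImplicit false

namespace Cfsg.Agent.Helper4.BG1351

open Cfsg Subgroup
open Cfsg.Agent.Helper10 (IsPiNum)
open Cfsg.Agent.Helper16.BG147
open Cfsg.Agent.Helper14.BG1369 (Half St1377 St1433)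
open Cfsg.Agent.Helper21.BG147a (St1350a mem_sigma_of_dvd_card_Kst sigma_disj_of_le)

universe u

/-- the frozen statement of S1429, for the given group -/
def H1429 (G : Type u) [Group G] [Finite G] : Prop :=
  ∀ (M : Subgroup G) (hM : IsCoatom M) (hP1 : ¬ (∀ q : ℕ, q.Prime → q ∣ Nat.card M → q ∉ Cfsg.sigma M → q ∈ Cfsg.kappa M))
    (p : ℕ) [Fact p.Prime] (hpM : p ∣ Nat.card M) (hp : p ∉ Cfsg.sigma M ∪ Cfsg.kappa M) (S : Sylow p M),
    Nat.card ↥(Subgroup.closure {x : G | x ∈ (S : Subgroup M).map M.subtype ∧ x ^ p = 1}) ≤ p ^ 2 ∧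
      Cfsg.sigmaCore M ⊓ Subgroup.centralizer ((Subgroup.closure {x : G | x ∈ (S : Subgroup M).map M.subtype ∧ x ^ p = 1} : Subgroup G) : Set G) = ⊥ ∧
      Group.IsNilpotent (Cfsg.sigmaCore M)

variable {G : Type u} [Group G] [Finite G]

/-- if every prime divisor of `|H|` lies in `σ(H) ∪ κ(H)` then `|H| = |K| |H_σ|` -/
theorem card_eq_of_forall {H K : Subgroup G} (c : Half H K) (h50 : St1350a G)
    (hall : ∀ q : ℕ, q.Prime → q ∣ Nat.card H → q ∉ sigma H → q ∈ kappa H) :
    Nat.card H = Nat.card K * Nat.card ↥(sigmaCore H) := by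
  have hσ := h50 H c.hH
  have hSM : sigmaCore H ≤ H := hσ.1
  have hMS : H ≤ normalizer (sigmaCore H : Set G) := le_normalizer_sigmaCore H
  have hgen : H ≤ sigmaCore H ⊔ K := by
    have hTM : sigmaCore H ⊔ K ≤ H := sup_le hSM c.K_le
    rw [← Subgroup.relIndex_eq_one]
    rw [Nat.eq_one_iff_not_exists_prime_dvd]
    intro p hp hpd
    have hpH : p ∣ Nat.card H := by
      have h1 : (sigmaCore H ⊔ K).relIndex H ∣ Nat.card H := by
        rw [Subgroup.relIndex]
        exact (Subgroup.index_dvd_card _)
      exact hpd.trans h1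
    by_cases h1 : p ∈ sigma H
    · exact hσ.2.2 p hp h1 (hpd.trans (Subgroup.relIndex_dvd_of_le_left H le_sup_left))
    · exact c.hall.2.2 p hp (hall p hp hpH h1)
        (hpd.trans (Subgroup.relIndex_dvd_of_le_left H le_sup_right))
  have hTM : sigmaCore H ⊔ K = H := le_antisymm (sup_le hSM c.K_le) hgen
  have h1 : Nat.card H ∣ Nat.card (sigmaCore H) * Nat.card K := by
    have h0 := Cfsg.Agent.Helper7.card_sup_dvd_mul_of_le_normalizer (c.K_le.trans hMS)
    rwa [hTM] at h0
  have h2 : Nat.card (sigmaCore H) * Nat.card K ∣ Nat.card H :=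
    Nat.Coprime.mul_dvd_of_dvd_of_dvd c.coprime_K_sigmaCore.symm (Subgroup.card_dvd_of_le hSM)
      (Subgroup.card_dvd_of_le c.K_le)
  rw [Nat.dvd_antisymm h1 h2, mul_comm]

/-- the Sylow subgroups of a Hall `κ(M)`-subgroup are cyclic -/
theorem isCyclic_sylow_of_hall_kappa {M K : Subgroup G} (hK : IsPiHallOf (kappa M) K M)
    (q : ℕ) [Fact q.Prime] (P : Sylow q K) : IsCyclic (P : Subgroup K) := by
  by_cases hq : q ∣ Nat.card K
  · have hqk : q ∈ kappa M := hK.2.1 q Fact.out hq
    let g : K →* M := Subgroup.inclusion hK.1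
    have hg : Function.Injective g := Subgroup.inclusion_injective hK.1
    have hpg : IsPGroup q ((P : Subgroup K).map g) := P.2.map g
    obtain ⟨Q, hQ⟩ := hpg.exists_le_sylow
    haveI : IsCyclic (Q : Subgroup M) := (hqk.2.2.2 Q).1
    let f : (P : Subgroup K) →* (Q : Subgroup M) :=
      (g.comp (P : Subgroup K).subtype).codRestrict (Q : Subgroup M)
        (fun x => hQ (Subgroup.mem_map_of_mem g x.2))
    have hf : Function.Injective f := by
      intro a b hab
      have h1 : g (a : K) = g (b : K) := congrArg (fun t : (Q : Subgroup M) => (t : M)) hab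
      exact Subtype.ext (hg h1)
    exact isCyclic_of_injective f hf
  · have hbot : (P : Subgroup K) = ⊥ := by
      rw [← Subgroup.card_eq_one]
      obtain ⟨n, hn⟩ := IsPGroup.iff_card.mp P.2
      rw [hn]
      cases n with
      | zero => rfl
      | succ n =>
        exfalso
        apply hq
        have h1 : Nat.card (P : Subgroup K) ∣ Nat.card K := Subgroup.card_subgroup_dvd_card _
        rw [hn] at h1
        exact (dvd_pow_self q (Nat.succ_ne_zero n)).trans h1
    rw [hbot]
    infer_instance

/-- **S1351, second half**: Hall `κ(M)`-subgroups are cyclic. -/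
theorem hall_kappa_cyclic (hG : IsMinSimpleOddOrder G) (h30 : St1430 G) (h31 : St1431 G)
    (h32 : St1432 G) (h78 : St1378b G) (h50 : St1350a G) (h77 : St1377 G) (h33 : St1433 G)
    (h29 : H1429 G) (M : Subgroup G) (hM : IsCoatom M) (K : Subgroup G)
    (hK : IsPiHallOf (kappa M) K M) : IsCyclic K := by
  classical
  by_cases hK1 : K = ⊥
  · rw [hK1]; infer_instance
  have c : Half M K := ⟨hG, hM, hK, hK1, h30, h31⟩
  have h30M := h30 M hM K hK hK1
  rcases Cfsg.Agent.Helper19.BGKPrime.card_eq_or_prime_of_hall_kappa hG hM (h50 M hM) hK hK1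
    h30M.1 h30M.2.1 with hcard | hprime
  swap
  · haveI := Fact.mk hprime
    exact isCyclic_of_prime_card rfl
  obtain ⟨Ms, hMs, hKst, hKstH⟩ := exists_partner c h32 h78 h50 h77 h33
  have cs : Half Ms (Kst M K) := ⟨hG, hMs, hKstH, c.Kst_ne_bot, h30, h31⟩
  have hKstK : Kst Ms (Kst M K) = K := hKst.symm
  have hKMs : K ≤ sigmaCore Ms := by
    have : K ≤ Kst Ms (Kst M K) := hKstK.ge
    exact this.trans inf_le_left
  have hne : Ms ≠ M := by
    intro e
    rw [e] at hKMs
    apply hK1
    rw [eq_bot_iff]
    intro k hk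
    have : k ∈ K ⊓ sigmaCore M := Subgroup.mem_inf.mpr ⟨hk, hKMs hk⟩
    rwa [(Subgroup.disjoint_of_coprime_natCard c.coprime_K_sigmaCore).eq_bot] at this
  -- `M*_σ` is nilpotent
  have hnil : Group.IsNilpotent ↥(sigmaCore Ms) := by
    by_cases hall : ∀ q : ℕ, q.Prime → q ∣ Nat.card Ms → q ∉ sigma Ms → q ∈ kappa Ms
    · exfalso
      have hcards := card_eq_of_forall cs h50 hall
      have hd1 : ∀ p, p ∈ sigma M → p ∉ sigma Ms :=
        sigma_disj_of_le c h78 hMs hne le_rfl c.Kst_ne_bot hKstH.1
      let B : Subgroup G → Subgroup G := fun H => if H = M then K else Kst M K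
      have hBM : B M = K := if_pos rfl
      have hBMs : B Ms = Kst M K := if_neg hne
      have hmem : ∀ H ∈ ({M, Ms} : Finset (Subgroup G)), H = M ∨ H = Ms := by
        intro H hH
        simpa using hH
      have hle := polygon_count' ({M, Ms} : Finset (Subgroup G)) B (K ⊔ Kst M K) h77 h33
        (by
          intro H hH
          rcases hmem H hH with rfl | rfl
          · rw [hBM]; exact c
          · rw [hBMs]; exact cs)
        (by
          intro H hH
          rcases hmem H hH with rfl | rfl
          · rw [hBM]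
          · rw [hBMs, hKstK, sup_comm])
        (by
          intro H hH H' hH' hHH' p hp hp'
          rcases hmem H hH with rfl | rfl
          · rcases hmem H' hH' with rfl | rfl
            · exact hHH' rfl
            · exact hd1 p hp hp'
          · rcases hmem H' hH' with rfl | rfl
            · exact hd1 p hp' hp
            · exact hHH' rfl)
        (by
          intro p hp hpd
          rw [c.card_Z] at hpd
          rcases (Nat.Prime.dvd_mul hp).mp hpd with h | h
          · refine ⟨Ms, by simp, ?_⟩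
            exact card_sigmaCore Ms p hp (h.trans (Subgroup.card_dvd_of_le hKMs))
          · exact ⟨M, by simp, mem_sigma_of_dvd_card_Kst hp h⟩)
        (by
          intro H hH
          rcases hmem H hH with rfl | rfl
          · rw [hBM]; exact hcard
          · rw [hBMs]; exact hcards)
      have h2 : ({M, Ms} : Finset (Subgroup G)).card = 2 := Finset.card_pair hne.symm
      omega
    · have hall' := hall
      push Not at hall
      obtain ⟨q, hq, hqd, hqσ, hqκ⟩ := hall
      haveI := Fact.mk hq
      have S : Sylow q Ms := default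
      exact (h29 Ms hMs hall' q hqd (by
        rintro (h | h)
        · exact hqσ h
        · exact hqκ h) S).2.2
  -- `K` is nilpotent with cyclic Sylow subgroups
  haveI := hnil
  haveI hKnil : Group.IsNilpotent K :=
    nilpotent_of_mulEquiv (Subgroup.subgroupOfEquivOfLe hKMs)
  exact Cfsg.Agent.Helper8.CNSolv.isCyclic_of_sylow_cyclic
    (fun q hq P => by haveI := hq; exact isCyclic_sylow_of_hall_kappa hK q P)

end Cfsg.Agent.Helper4.BG1351
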