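import Mathlib
import Cfsg.Agent.Lib.Helper14.BG1369D
import Cfsg.Agent.Lib.Helper4.BG144B
import Cfsg.Agent.Lib.Helper4.BGSigA

/-!
BG Lemma 14.5(b) (S1377): `|\tilde M| = (|M_σ| - 1) |G : M|`, from the frozen statements S1350 (unused
here beyond conjugation transport), S1374, S1375 and S1433.  Part A: identification of the complement
`R` of S1374 with `R(x)`, and independence of `R(x)` of the conjugate of `M` containing `x`.
-/

set_option autoImplicit false

namespace Cfsg.Agent.Helper4.BG1377

open Cfsg Subgroup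
open Cfsg.Agent.Helper16.BG145 (St1350 St1375 supportR_mem)
open Cfsg.Agent.Helper14.BG1369 (St1433 St1377 mem_supportR_of conj_mem_supportR conj_mem_sigmaCore
  isCoatom_map_conj' map_conj_inv_map_conj')
open Cfsg.Agent.Helper4.BG144
open Cfsg.Agent.Helper4.BGSig (le_of_isPiHallOf_normal)

universe u

/-- the frozen statement of S1374, for the given group -/
def H1374 (G : Type u) [Group G] [Finite G] : Prop :=
  ∀ (M : Subgroup G) (_hM : IsCoatom M) (x : G) (_hx : x ∈ Cfsg.sigmaCore M) (_hx1 : x ≠ 1),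
    (Nat.card ↥(M ⊓ Subgroup.centralizer ({x} : Set G))).Coprime ((M ⊓ Subgroup.centralizer ({x} : Set G)).relIndex (Subgroup.centralizer ({x} : Set G))) ∧
      ∃ R : Subgroup G, Subgroup.centralizer ({x} : Set G) ≤ Subgroup.normalizer (R : Set G) ∧ Cfsg.IsComplIn (M ⊓ Subgroup.centralizer ({x} : Set G)) R (Subgroup.centralizer ({x} : Set G)) ∧
        ∀ g : G, x ∈ M.map (MulAut.conj g).toMonoidHom → ∃! r : G, r ∈ R ∧ M.map (MulAut.conj r).toMonoidHom = M.map (MulAut.conj g).toMonoidHom

variable {G : Type u} [Group G] [Finite G]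

/-- two complements of a Hall subgroup `H` of `C`, the second one normal: the first lies in the second -/
theorem complIn_le_of_normal {H R R' C : Subgroup G} (h : IsComplIn H R C) (h' : IsComplIn H R' C)
    (hn' : C ≤ normalizer (R' : Set G)) (hcop : (Nat.card H).Coprime (H.relIndex C)) : R ≤ R' := by
  have hc : Nat.card R = Nat.card R' := by
    rw [← complIn_relIndex_eq h, ← complIn_relIndex_eq h']
  have hidx : R'.relIndex C = Nat.card H := complIn_relIndex_eq' h'
  have hHR : (Nat.card H).Coprime (Nat.card R') := by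
    rw [← complIn_relIndex_eq h']; exact hcop
  have hall : IsPiHallOf {p | p ∣ Nat.card R'} R' C := by
    refine ⟨h'.2.1, fun p _ hpd => hpd, ?_⟩
    intro p hp hpR hpI
    rw [hidx] at hpI
    have := Nat.Coprime.eq_one_of_dvd (Nat.Coprime.coprime_dvd_left hpI hHR) hpR
    exact hp.one_lt.ne' this
  refine le_of_isPiHallOf_normal hall hn' h.2.1 ?_
  intro p _ hpd
  show p ∣ Nat.card R'
  rw [← hc]; exact hpd

/-- the complement `R` of S1374 is `R(x)` -/
theorem eq_supportR (h75 : St1375 G) {M : Subgroup G} (hM : IsCoatom M) {x : G}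
    (hx : x ∈ sigmaCore M) (hx1 : x ≠ 1)
    (hcop : (Nat.card ↥(M ⊓ centralizer ({x} : Set G))).Coprime
      ((M ⊓ centralizer ({x} : Set G)).relIndex (centralizer ({x} : Set G))))
    {R : Subgroup G} (hnR : centralizer ({x} : Set G) ≤ normalizer (R : Set G))
    (hR : IsComplIn (M ⊓ centralizer ({x} : Set G)) R (centralizer ({x} : Set G))) :
    R = supportR M x := by
  by_cases h : centralizer ({x} : Set G) ≤ M
  · have h1 : supportR M x = ⊥ := by
      unfold supportR
      rw [dif_neg]
      intro hh; exact hh.1 h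
    rw [h1]
    have h2 : M ⊓ centralizer ({x} : Set G) = centralizer ({x} : Set G) := inf_eq_right.mpr h
    have h3 := hR.2.2.1
    rw [h2, inf_eq_right.mpr hR.2.1] at h3
    exact h3
  · obtain ⟨N, ⟨hN, hCN⟩, hNuniq, hσF, hnorm, hcompl', -, -⟩ := h75 M hM x hx hx1 h
    have hcond : ¬ centralizer ({x} : Set G) ≤ M ∧
        ∃! L : Subgroup G, IsCoatom L ∧ centralizer ({x} : Set G) ≤ L :=
      ⟨h, N, ⟨hN, hCN⟩, fun L hL => hNuniq L hL.1 hL.2⟩
    have h1 : supportR M x = sigmaCore N ⊓ centralizer ({x} : Set G) := by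
      unfold supportR
      rw [dif_pos hcond]
      have hch : Classical.choose hcond.2.exists = N :=
        hNuniq _ (Classical.choose_spec hcond.2.exists).1 (Classical.choose_spec hcond.2.exists).2
      rw [hch, hσF]
    rw [h1]
    exact le_antisymm (complIn_le_of_normal hR hcompl' hnorm hcop)
      (complIn_le_of_normal hcompl' hR hnR hcop)

/-- S1374 restated with `R(x)` -/
theorem key (h74 : H1374 G) (h75 : St1375 G) {M : Subgroup G} (hM : IsCoatom M) {x : G}
    (hx : x ∈ sigmaCore M) (hx1 : x ≠ 1) :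
    supportR M x ≤ centralizer ({x} : Set G) ∧
      ∀ g : G, x ∈ M.map (MulAut.conj g).toMonoidHom →
        ∃! r : G, r ∈ supportR M x ∧
          M.map (MulAut.conj r).toMonoidHom = M.map (MulAut.conj g).toMonoidHom := by
  obtain ⟨hcop, R, hnR, hR, huniq⟩ := h74 M hM x hx hx1
  have hRe := eq_supportR h75 hM hx hx1 hcop hnR hR
  rw [← hRe]
  exact ⟨hR.2.1, huniq⟩

omit [Finite G] in
theorem conj_eq_of_mem_centralizer {x r : G} (hr : r ∈ centralizer ({x} : Set G)) :
    r * x * r⁻¹ = x := by
  rw [mem_centralizer_singleton_iff] at hr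
  rw [hr]; group

/-- `R(x)` does not depend on the conjugate of `M` containing `x` (one inclusion) -/
theorem supportR_conj_le (h74 : H1374 G) (h75 : St1375 G) {M : Subgroup G} (hM : IsCoatom M) {x : G}
    (hx : x ∈ sigmaCore M) (hx1 : x ≠ 1) {h : G} (hxh : x ∈ M.map (MulAut.conj h).toMonoidHom) :
    supportR M x ≤ supportR (M.map (MulAut.conj h).toMonoidHom) x := by
  obtain ⟨hle, hex⟩ := key h74 h75 hM hx hx1
  obtain ⟨r, ⟨hr, hMr⟩, -⟩ := hex h hxh
  intro s hs
  have hs' : r⁻¹ * s * r ∈ supportR M x :=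
    (supportR M x).mul_mem ((supportR M x).mul_mem ((supportR M x).inv_mem hr) hs) hr
  have h1 := conj_mem_supportR hs' r
  rw [hMr, conj_eq_of_mem_centralizer (hle hr)] at h1
  have e : r * (r⁻¹ * s * r) * r⁻¹ = s := by group
  rwa [e] at h1

/-- an element of `M_σ` lying in a conjugate of `M` lies in the `σ`-core of that conjugate -/
theorem mem_sigmaCore_conj (h74 : H1374 G) (h75 : St1375 G) {M : Subgroup G} (hM : IsCoatom M) {x : G}
    (hx : x ∈ sigmaCore M) (hx1 : x ≠ 1) {h : G} (hxh : x ∈ M.map (MulAut.conj h).toMonoidHom) :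
    x ∈ sigmaCore (M.map (MulAut.conj h).toMonoidHom) := by
  obtain ⟨hle, hex⟩ := key h74 h75 hM hx hx1
  obtain ⟨r, ⟨hr, hMr⟩, -⟩ := hex h hxh
  have h1 := conj_mem_sigmaCore hx r
  rwa [hMr, conj_eq_of_mem_centralizer (hle hr)] at h1

end Cfsg.Agent.Helper4.BG1377
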