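import Mathlib
import Cfsg.Agent.Lib.Helper4.BG1377A

/-!
BG Lemma 14.5(b) (S1377), part B: the counting.  We build a bijection from
`(G / M) × (M_σ - 1)` onto `\tilde M`.
-/

set_option autoImplicit false

namespace Cfsg.Agent.Helper4.BG1377

open Cfsg Subgroup
open Cfsg.Agent.Helper16.BG145 (St1350 St1375 supportR_mem)
open Cfsg.Agent.Helper14.BG1369 (St1433 St1377 mem_supportR_of conj_mem_supportR conj_mem_sigmaCore
  isCoatom_map_conj' map_conj_inv_map_conj')
open Cfsg.Agent.Helper4.BG144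

universe u

variable {G : Type u} [Group G] [Finite G]

open Classical in
/-- a chosen conjugate of `M` whose `σ`-core contains `a` -/
noncomputable def base (M : Subgroup G) (a : G) : G :=
  if h : ∃ g : G, a ∈ sigmaCore (M.map (MulAut.conj g).toMonoidHom) then Classical.choose h else 1

omit [Finite G] in
theorem base_spec {M : Subgroup G} {a g : G}
    (h : a ∈ sigmaCore (M.map (MulAut.conj g).toMonoidHom)) :
    a ∈ sigmaCore (M.map (MulAut.conj (base M a)).toMonoidHom) := by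
  have hex : ∃ g : G, a ∈ sigmaCore (M.map (MulAut.conj g).toMonoidHom) := ⟨g, h⟩
  unfold base
  rw [dif_pos hex]
  exact Classical.choose_spec hex

open Classical in
/-- the element of `R(a)` moving the base conjugate to `M^g` -/
noncomputable def rho (M : Subgroup G) (g a : G) : G :=
  if h : ∃ r : G, r ∈ supportR (M.map (MulAut.conj (base M a)).toMonoidHom) a ∧
      (M.map (MulAut.conj (base M a)).toMonoidHom).map (MulAut.conj r).toMonoidHom =
        M.map (MulAut.conj g).toMonoidHom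
  then Classical.choose h else 1

theorem rho_spec (h74 : H1374 G) (h75 : St1375 G) {M : Subgroup G} (hM : IsCoatom M) {a g : G}
    (ha : a ∈ sigmaCore (M.map (MulAut.conj g).toMonoidHom)) (ha1 : a ≠ 1) :
    rho M g a ∈ supportR (M.map (MulAut.conj (base M a)).toMonoidHom) a ∧
      (M.map (MulAut.conj (base M a)).toMonoidHom).map (MulAut.conj (rho M g a)).toMonoidHom =
        M.map (MulAut.conj g).toMonoidHom ∧
      ∀ r' : G, r' ∈ supportR (M.map (MulAut.conj (base M a)).toMonoidHom) a →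
        (M.map (MulAut.conj (base M a)).toMonoidHom).map (MulAut.conj r').toMonoidHom =
          M.map (MulAut.conj g).toMonoidHom → r' = rho M g a := by
  have hb := base_spec ha
  have hMb := isCoatom_map_conj' hM (base M a)
  obtain ⟨-, hex⟩ := key h74 h75 hMb hb ha1
  have hmem : a ∈ (M.map (MulAut.conj (base M a)).toMonoidHom).map
      (MulAut.conj (g * (base M a)⁻¹)).toMonoidHom := by
    rw [← map_conj_mul]
    have : g * (base M a)⁻¹ * base M a = g := by group
    rw [this]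
    exact sigmaCore_le _ ha
  have hgb : (M.map (MulAut.conj (base M a)).toMonoidHom).map
      (MulAut.conj (g * (base M a)⁻¹)).toMonoidHom = M.map (MulAut.conj g).toMonoidHom := by
    rw [← map_conj_mul]
    have : g * (base M a)⁻¹ * base M a = g := by group
    rw [this]
  obtain ⟨r, ⟨hr, hMr⟩, hru⟩ := hex _ hmem
  rw [hgb] at hMr
  have hex' : ∃ r : G, r ∈ supportR (M.map (MulAut.conj (base M a)).toMonoidHom) a ∧
      (M.map (MulAut.conj (base M a)).toMonoidHom).map (MulAut.conj r).toMonoidHom =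
        M.map (MulAut.conj g).toMonoidHom := ⟨r, hr, hMr⟩
  have hrho : rho M g a = Classical.choose hex' := by
    unfold rho
    rw [dif_pos hex']
  have hsp := Classical.choose_spec hex'
  rw [← hrho] at hsp
  refine ⟨hsp.1, hsp.2, ?_⟩
  intro r' hr' hMr'
  have h1 : r' = r := hru r' ⟨hr', by rw [hgb]; exact hMr'⟩
  have h2 : rho M g a = r := hru _ ⟨hsp.1, by rw [hgb]; exact hsp.2⟩
  rw [h1, h2]

/-- the bijection -/
noncomputable def Phi (M : Subgroup G) (p : (G ⧸ M) × G) : G :=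
  (p.1.out * p.2 * (p.1.out)⁻¹) * rho M p.1.out (p.1.out * p.2 * (p.1.out)⁻¹)

omit [Finite G] in
theorem conj_ne_one {a g : G} (ha : a ≠ 1) : g * a * g⁻¹ ≠ 1 := by
  intro h
  apply ha
  have : a = g⁻¹ * (g * a * g⁻¹) * g := by group
  rw [this, h]; group

theorem Phi_mem (h74 : H1374 G) (h75 : St1375 G) {M : Subgroup G} (hM : IsCoatom M)
    {p : (G ⧸ M) × G} (hp : p.2 ∈ (sigmaCore M : Set G) \ {1}) :
    Phi M p ∈ tildeOf M ((sigmaCore M : Set G) \ {1}) := by
  obtain ⟨hp2, hp1⟩ := hp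
  have hp1' : p.2 ≠ 1 := hp1
  set g := p.1.out with hg
  set a := g * p.2 * g⁻¹ with ha
  have haσ : a ∈ sigmaCore (M.map (MulAut.conj g).toMonoidHom) := conj_mem_sigmaCore hp2 g
  have ha1 : a ≠ 1 := conj_ne_one hp1'
  obtain ⟨hρ, -, -⟩ := rho_spec h74 h75 hM haσ ha1
  have hb := base_spec haσ
  set b := base M a with hbdef
  set ρ := rho M g a with hρdef
  have h1 : b⁻¹ * a * b⁻¹⁻¹ ∈ sigmaCore M := by
    have := conj_mem_sigmaCore hb b⁻¹
    rwa [map_conj_inv_map_conj'] at this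
  have h2 : b⁻¹ * ρ * b⁻¹⁻¹ ∈ supportR M (b⁻¹ * a * b⁻¹⁻¹) := by
    have := conj_mem_supportR hρ b⁻¹
    rwa [map_conj_inv_map_conj'] at this
  refine ⟨b⁻¹ * a * b⁻¹⁻¹, ⟨h1, conj_ne_one ha1⟩, b⁻¹ * ρ * b⁻¹⁻¹, h2, b, ?_⟩
  show a * ρ = _
  group

theorem Phi_injOn (hG : IsMinSimpleOddOrder G) (h74 : H1374 G) (h75 : St1375 G) (h33 : St1433 G)
    {M : Subgroup G} (hM : IsCoatom M) :
    Set.InjOn (Phi M) ((Set.univ : Set (G ⧸ M)) ×ˢ ((sigmaCore M : Set G) \ {1})) := by
  rintro ⟨c, a₀⟩ ⟨-, hp2, hp1⟩ ⟨c', a₀'⟩ ⟨-, hp2', hp1'⟩ hEq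
  have hp1n : a₀ ≠ 1 := hp1
  have hp1n' : a₀' ≠ 1 := hp1'
  simp only at hp2 hp2'
  unfold Phi at hEq
  simp only at hEq
  set g := c.out with hg
  set g' := c'.out with hg'
  set a := g * a₀ * g⁻¹ with ha
  set a' := g' * a₀' * g'⁻¹ with ha'
  have haσ : a ∈ sigmaCore (M.map (MulAut.conj g).toMonoidHom) := conj_mem_sigmaCore hp2 g
  have haσ' : a' ∈ sigmaCore (M.map (MulAut.conj g').toMonoidHom) := conj_mem_sigmaCore hp2' g'
  have ha1 : a ≠ 1 := conj_ne_one hp1n
  have ha1' : a' ≠ 1 := conj_ne_one hp1n'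
  obtain ⟨hρ, hMρ, -⟩ := rho_spec h74 h75 hM haσ ha1
  obtain ⟨hρ', hMρ', -⟩ := rho_spec h74 h75 hM haσ' ha1'
  have hb := base_spec haσ
  have hb' := base_spec haσ'
  have haa : a = a' := by
    by_contra hne
    exact h33 _ _ (isCoatom_map_conj' hM _) (isCoatom_map_conj' hM _) a a' hb hb' ha1 ha1' hne
      _ hρ _ hρ' hEq
  rw [← haa] at hEq hMρ'
  have hρρ : rho M g a = rho M g' a := mul_left_cancel hEq
  rw [← hρρ, hMρ] at hMρ'
  -- `M^g = M^{g'}`
  have hmem : g'⁻¹ * g ∈ M := by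
    have := map_conj_eq_iff.mp hMρ'
    rwa [normalizer_coatom hG hM] at this
  have hcc : c' = c := by
    rw [← QuotientGroup.out_eq' c', ← QuotientGroup.out_eq' c]
    exact QuotientGroup.eq.mpr hmem
  have hgg : g' = g := by rw [hg', hg, hcc]
  have : a₀ = a₀' := by
    have e1 : a₀ = g⁻¹ * a * g := by rw [ha]; group
    have e2 : a₀' = g'⁻¹ * a' * g' := by rw [ha']; group
    rw [e1, e2, haa, hgg]
  rw [this, hcc]

theorem mem_image_Phi (h74 : H1374 G) (h75 : St1375 G)
    {M : Subgroup G} (hM : IsCoatom M) {u : G} (hu : u ∈ tildeOf M ((sigmaCore M : Set G) \ {1})) :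
    u ∈ Phi M '' ((Set.univ : Set (G ⧸ M)) ×ˢ ((sigmaCore M : Set G) \ {1})) := by
  obtain ⟨a₀, ⟨ha₀, ha₀1⟩, r₀, hr₀, y, rfl⟩ := hu
  have ha₀1' : a₀ ≠ 1 := ha₀1
  set a := y * a₀ * y⁻¹ with ha
  set r := y * r₀ * y⁻¹ with hr
  have haσ : a ∈ sigmaCore (M.map (MulAut.conj y).toMonoidHom) := conj_mem_sigmaCore ha₀ y
  have ha1 : a ≠ 1 := conj_ne_one ha₀1'
  have hrR : r ∈ supportR (M.map (MulAut.conj y).toMonoidHom) a := conj_mem_supportR hr₀ y
  have hb := base_spec haσ
  set b := base M a with hbdef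
  have hMy := isCoatom_map_conj' hM y
  have hMb := isCoatom_map_conj' hM b
  -- `r ∈ R_{M^b}(a)`
  have hconj : (M.map (MulAut.conj y).toMonoidHom).map (MulAut.conj (b * y⁻¹)).toMonoidHom =
      M.map (MulAut.conj b).toMonoidHom := by
    rw [← map_conj_mul]
    have : b * y⁻¹ * y = b := by group
    rw [this]
  have hrb : r ∈ supportR (M.map (MulAut.conj b).toMonoidHom) a := by
    have h1 := supportR_conj_le h74 h75 hMy haσ ha1 (h := b * y⁻¹)
      (by rw [hconj]; exact sigmaCore_le _ hb)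
    rw [hconj] at h1
    exact h1 hrR
  obtain ⟨hle, -⟩ := key h74 h75 hMb hb ha1
  have hrc : r ∈ centralizer ({a} : Set G) := hle hrb
  -- the target conjugate `M' = (M^b)^r = M^{r b}`
  set c : G ⧸ M := ((r * b : G) : G ⧸ M) with hc
  set g := c.out with hg
  have hgM : (M.map (MulAut.conj g).toMonoidHom) =
      (M.map (MulAut.conj b).toMonoidHom).map (MulAut.conj r).toMonoidHom := by
    rw [← map_conj_mul]
    obtain ⟨m, hm⟩ := QuotientGroup.mk_out_eq_mul M (r * b)
    have : g = r * b * m := hm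
    rw [this, map_conj_mul, map_conj_of_mem m.2]
  have haσg : a ∈ sigmaCore (M.map (MulAut.conj g).toMonoidHom) := by
    rw [hgM]
    have := conj_mem_sigmaCore hb r
    rwa [conj_eq_of_mem_centralizer hrc] at this
  obtain ⟨-, -, huniq⟩ := rho_spec h74 h75 hM haσg ha1
  have hρ : r = rho M g a := huniq r hrb hgM.symm
  refine ⟨(c, g⁻¹ * a * g), ⟨Set.mem_univ _, ?_, ?_⟩, ?_⟩
  · have := conj_mem_sigmaCore haσg g⁻¹
    rw [map_conj_inv_map_conj'] at this
    simpa using this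
  · have : g⁻¹ * a * g = g⁻¹ * a * g⁻¹⁻¹ := by group
    rw [this]
    exact conj_ne_one ha1
  · unfold Phi
    simp only
    have e : g * (g⁻¹ * a * g) * g⁻¹ = a := by group
    rw [← hg, e, ← hρ, ha, hr]
    group

/-- BG Lemma 14.5(b): the S1377 statement, from the frozen statements S1374, S1375, S1433 -/
theorem card_tilde (hG : IsMinSimpleOddOrder G) (h74 : H1374 G) (h75 : St1375 G) (h33 : St1433 G)
    (M : Subgroup G) (hM : IsCoatom M) :
    Set.ncard (tildeOf M ((sigmaCore M : Set G) \ {1})) =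
      (Nat.card (sigmaCore M) - 1) * M.index := by
  have himg : tildeOf M ((sigmaCore M : Set G) \ {1}) =
      Phi M '' ((Set.univ : Set (G ⧸ M)) ×ˢ ((sigmaCore M : Set G) \ {1})) := by
    apply Set.Subset.antisymm
    · intro u hu; exact mem_image_Phi h74 h75 hM hu
    · rintro u ⟨p, ⟨-, hp⟩, rfl⟩
      exact Phi_mem h74 h75 hM hp
  rw [himg, Set.InjOn.ncard_image (Phi_injOn hG h74 h75 h33 hM), Set.ncard_prod, Set.ncard_univ,
    Set.ncard_sdiff_singleton_of_mem (one_mem (sigmaCore M)), mul_comm]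
  congr 1

end Cfsg.Agent.Helper4.BG1377
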