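import Mathlib
import Cfsg.Agent.Lib.Helper4.BG1379B

/-!
S1379 (partition of `G#`), part C: the three parts of the statement, from the frozen statements
S1350, S1375, S1378, S1425, S1430, S1431, S1432, S1433, S1351 (2nd half), S1366.
-/

set_option autoImplicit false

namespace Cfsg.Agent.Helper4.BG1379

open Cfsg Subgroup
open Cfsg.Agent.Helper10 (IsPiNum)
open Cfsg.Agent.Helper16.BG145 (St1350 St1375 supportR_mem sigma_map_conj
  prime_mem_sigma_of_mem_sigmaCore exists_data)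
open Cfsg.Agent.Helper16.BG147 (coprime_of_isPiNum exists_pi_split St1430 St1431 St1432 St1351b
  St1378b St1366 exists_conj_mem_of_piHall Ctx Kst Zh conjUnion exists_ctx)
open Cfsg.Agent.Helper14.BG1369 (St1433 mem_supportR_of conj_mem_supportR conj_mem_sigmaCore
  isCoatom_map_conj' map_conj_inv_map_conj' centralizer_conj_le_iff)
open Cfsg.Agent.Helper4.BG144

universe u

variable {G : Type u} [Group G] [Finite G]

/-- Part 1: `\tilde M ∩ \tilde N = ∅` for non-conjugate maximal subgroups -/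
theorem part1 (h33 : St1433 G) (h78 : St1378b G) {M N : Subgroup G} (hM : IsCoatom M)
    (hN : IsCoatom N) (hne : ∀ g : G, N ≠ M.map (MulAut.conj g).toMonoidHom) :
    tildeOf M ((sigmaCore M : Set G) \ {1}) ∩ tildeOf N ((sigmaCore N : Set G) \ {1}) = ∅ := by
  rw [Set.eq_empty_iff_forall_notMem]
  rintro u ⟨huM, huN⟩
  obtain ⟨y, a, r, ha, ha1, hr, hu⟩ := exists_of_mem_tilde huM
  obtain ⟨y', b, s, hb, hb1, hs, hu'⟩ := exists_of_mem_tilde huN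
  have hab : a = b := by
    by_contra hne'
    exact h33 _ _ (isCoatom_map_conj' hM y) (isCoatom_map_conj' hN y') a b ha hb ha1 hb1 hne'
      r hr s hs (hu.symm.trans hu')
  have hne1 : orderOf a ≠ 1 := by rw [Ne, orderOf_eq_one_iff]; exact ha1
  obtain ⟨q, hq, hqd⟩ := Nat.exists_prime_and_dvd hne1
  have hqM : q ∈ sigma M := by
    have := prime_mem_sigma_of_mem_sigmaCore ha q hq hqd
    rwa [sigma_map_conj] at this
  have hqN : q ∈ sigma N := by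
    rw [hab] at hqd
    have := prime_mem_sigma_of_mem_sigmaCore hb q hq hqd
    rwa [sigma_map_conj] at this
  obtain ⟨g, hg⟩ := h78 M N hM hN ⟨q, hqM, hqN⟩
  exact hne g hg

/-- the set-up of the covering argument: the `σ(M₀)`-decomposition of `g`, with the `σ(M₀)`-part moved
into the `σ`-core of a conjugate of `M₀` -/
theorem exists_setup (h25 : H1425 G) {M₀ : Subgroup G} (hM₀ : IsCoatom M₀) {g : G} {p : ℕ}
    (hp : p.Prime) (hpg : p ∣ orderOf g) (hpM : p ∈ sigma M₀) :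
    ∃ t x x' : G, g = x * x' ∧ x * x' = x' * x ∧
      x ∈ sigmaCore (M₀.map (MulAut.conj t).toMonoidHom) ∧ x ≠ 1 ∧ x' ∈ zpowers g ∧
      IsPiNum (sigma (M₀.map (MulAut.conj t).toMonoidHom))ᶜ (orderOf x') := by
  obtain ⟨x, x', hg, hcomm, -, hx'g, hxo, hx'o⟩ := exists_pi_decomp (sigma M₀) g
  have hx1 : x ≠ 1 := by
    rintro rfl
    rw [one_mul] at hg
    rw [hg] at hpg
    exact hx'o p hp hpg hpM
  obtain ⟨t, ht⟩ := exists_conj_sigmaCore h25 hM₀ hx1 hxo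
  refine ⟨t, x, x', hg, hcomm, ht, hx1, hx'g, ?_⟩
  rw [sigma_map_conj]; exact hx'o

/-- Part 2: if every `κ(M)` is empty, the sets `\tilde M` cover `G#` -/
theorem part2 (hG : IsMinSimpleOddOrder G) (h50 : St1350 G) (h75 : St1375 G) (h32 : St1432 G)
    (h25 : H1425 G) (h78a : H1378a G)
    (hκ : ∀ M : Subgroup G, IsCoatom M → kappa M = ∅) (g : G) (hg1 : g ≠ 1) :
    ∃ M : Subgroup G, IsCoatom M ∧ g ∈ tildeOf M ((sigmaCore M : Set G) \ {1}) := by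
  have hne1 : orderOf g ≠ 1 := by rw [Ne, orderOf_eq_one_iff]; exact hg1
  obtain ⟨p, hp, hpg⟩ := Nat.exists_prime_and_dvd hne1
  obtain ⟨M₀, hM₀, hpM⟩ := h78a p hp (hpg.trans (orderOf_dvd_natCard g))
  obtain ⟨t, x, x', hg, hcomm, hx, hx1, hx'g, hx'o⟩ := exists_setup h25 hM₀ hp hpg hpM
  have hMt := isCoatom_map_conj' hM₀ t
  rcases cover_aux hG h50 h75 h32 h25 hMt hg hcomm hx hx1 hx'g hx'o with h | ⟨-, hx'1, hκ'⟩
  · exact h
  · exfalso
    have hne' : orderOf x' ≠ 1 := by rw [Ne, orderOf_eq_one_iff]; exact hx'1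
    obtain ⟨q, hq, hqd⟩ := Nat.exists_prime_and_dvd hne'
    have := hκ' q hq hqd
    rw [hκ _ hMt] at this
    exact this

namespace Ctx'

variable {M K Ms : Subgroup G} (c : Ctx M K Ms)
include c

/-- a product `x x'`, `x ∈ M_σ#`, `x'` a non-identity `κ(M)`-element of `C_M(x)`, is `M`-conjugate into
`Ẑ` -/
theorem exists_conj_mem_Zh {x x' : G} (hx : x ∈ sigmaCore M) (hx1 : x ≠ 1) (hx'M : x' ∈ M)
    (hx'1 : x' ≠ 1) (hcomm : x * x' = x' * x)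
    (hκ : ∀ p : ℕ, p.Prime → p ∣ orderOf x' → p ∈ kappa M) :
    ∃ m ∈ M, m * (x * x') * m⁻¹ ∈ Zh M K := by
  have hsol : Group.IsSolvable ↥M :=
    Cfsg.Agent.Helper14.BGTrans.isSolvable_of_ne_top c.hG c.hM.1
  obtain ⟨m, hm, hk⟩ := exists_conj_mem_of_piHall hsol c.hall hx'M hκ
  refine ⟨m, hm, ?_⟩
  have hk1 : m * x' * m⁻¹ ≠ 1 := conj_ne_one' hx'1
  have hx₂ : m * x * m⁻¹ ∈ sigmaCore M := Cfsg.Agent.Helper16.BG147.conj_mem_sigmaCore hm hx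
  have hx₂1 : m * x * m⁻¹ ≠ 1 := conj_ne_one' hx1
  have hcomm₂ : (m * x' * m⁻¹) * (m * x * m⁻¹) = (m * x * m⁻¹) * (m * x' * m⁻¹) := by
    calc (m * x' * m⁻¹) * (m * x * m⁻¹) = m * (x' * x) * m⁻¹ := by group
      _ = m * (x * x') * m⁻¹ := by rw [hcomm]
      _ = (m * x * m⁻¹) * (m * x' * m⁻¹) := by group
  have hx₂K : m * x * m⁻¹ ∈ Kst M K := by
    have h1 := (c.h30 M c.hM K c.hall c.hK1).1 (m * x' * m⁻¹) hk hk1
    have h2 : m * x * m⁻¹ ∈ sigmaCore M ⊓ centralizer ({m * x' * m⁻¹} : Set G) :=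
      Subgroup.mem_inf.mpr ⟨hx₂, mem_centralizer_singleton_of_comm hcomm₂⟩
    rw [h1] at h2
    exact h2
  rw [c.mem_Zh_iff]
  refine ⟨m * x' * m⁻¹, hk, hk1, m * x * m⁻¹, hx₂K, hx₂1, ?_⟩
  calc m * (x * x') * m⁻¹ = (m * x * m⁻¹) * (m * x' * m⁻¹) := by group
    _ = (m * x' * m⁻¹) * (m * x * m⁻¹) := hcomm₂.symm

/-- the covering argument for an element whose `σ`-part lies in the `σ`-core of a conjugate of `M` -/
theorem cover_conj (h50 : St1350 G) (h75 : St1375 G) (h25 : H1425 G) {g x x' g₁ : G}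
    (hg : g = x * x') (hcomm : x * x' = x' * x)
    (hx : x ∈ sigmaCore (M.map (MulAut.conj g₁).toMonoidHom)) (hx1 : x ≠ 1)
    (hx'g : x' ∈ zpowers g)
    (hx'o : IsPiNum (sigma (M.map (MulAut.conj g₁).toMonoidHom))ᶜ (orderOf x')) :
    (∃ N : Subgroup G, IsCoatom N ∧ g ∈ tildeOf N ((sigmaCore N : Set G) \ {1})) ∨
      ∃ y : G, ∃ z ∈ Zh M K, g = y * z * y⁻¹ := by
  -- conjugate everything by `g₁⁻¹`
  set w := g₁⁻¹ with hw
  have hx₂ : w * x * w⁻¹ ∈ sigmaCore M := by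
    have := conj_mem_sigmaCore hx w
    rwa [hw, map_conj_inv_map_conj'] at this
  have hx₂1 : w * x * w⁻¹ ≠ 1 := conj_ne_one' hx1
  have hg₂ : w * g * w⁻¹ = (w * x * w⁻¹) * (w * x' * w⁻¹) := by rw [hg]; group
  have hcomm₂ : (w * x * w⁻¹) * (w * x' * w⁻¹) = (w * x' * w⁻¹) * (w * x * w⁻¹) := by
    calc (w * x * w⁻¹) * (w * x' * w⁻¹) = w * (x * x') * w⁻¹ := by group
      _ = w * (x' * x) * w⁻¹ := by rw [hcomm]
      _ = (w * x' * w⁻¹) * (w * x * w⁻¹) := by group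
  have hx'g₂ : w * x' * w⁻¹ ∈ zpowers (w * g * w⁻¹) := by
    obtain ⟨n, hn⟩ := hx'g
    refine ⟨n, ?_⟩
    show (w * g * w⁻¹) ^ n = w * x' * w⁻¹
    rw [← hn]
    exact conj_zpow
  have hx'o₂ : IsPiNum (sigma M)ᶜ (orderOf (w * x' * w⁻¹)) := by
    rw [orderOf_conj', ← sigma_map_conj M g₁]; exact hx'o
  have hconj : ∀ v : G, g = g₁ * (w * g * w⁻¹) * g₁⁻¹ := by
    intro _; rw [hw]; group
  rcases cover_aux c.hG h50 h75 c.h32 h25 c.hM hg₂ hcomm₂ hx₂ hx₂1 hx'g₂ hx'o₂ with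
    ⟨N, hN, hmem⟩ | ⟨hx'M, hx'1, hκ⟩
  · left
    refine ⟨N, hN, ?_⟩
    rw [hconj 1]
    exact tilde_conj hmem g₁
  · right
    obtain ⟨m, -, hz⟩ := exists_conj_mem_Zh c hx₂ hx₂1 hx'M hx'1 hcomm₂ hκ
    rw [← hg₂] at hz
    refine ⟨g₁ * m⁻¹, _, hz, ?_⟩
    rw [hw]; group

end Ctx'

/-- Part 3, first half -/
theorem part3a (hG : IsMinSimpleOddOrder G) (h50 : St1350 G) (h75 : St1375 G) (h30 : St1430 G)
    (h31 : St1431 G) (h32 : St1432 G) (h51 : St1351b G) (h78a : H1378a G) (h78 : St1378b G)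
    (h66 : St1366 G) (h25 : H1425 G)
    (M K U : Subgroup G) (hM : IsCoatom M) (hKU : IsSigmaDecomposition M K U) (hK1 : K ≠ ⊥)
    (g : G) (hg1 : g ≠ 1) :
    (∃ N : Subgroup G, IsCoatom N ∧ g ∈ tildeOf N ((sigmaCore N : Set G) \ {1})) ∨
      ∃ y : G, ∃ z ∈ Zh M K, g = y * z * y⁻¹ := by
  obtain ⟨Ms, c⟩ := exists_ctx hG h30 h31 h32 h51 h78 h66 M hM K U hKU hK1
  have hne1 : orderOf g ≠ 1 := by rw [Ne, orderOf_eq_one_iff]; exact hg1
  obtain ⟨p, hp, hpg⟩ := Nat.exists_prime_and_dvd hne1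
  obtain ⟨M₀, hM₀, hpM⟩ := h78a p hp (hpg.trans (orderOf_dvd_natCard g))
  obtain ⟨t, x, x', hg, hcomm, hx, hx1, hx'g, hx'o⟩ := exists_setup h25 hM₀ hp hpg hpM
  have hMt := isCoatom_map_conj' hM₀ t
  rcases cover_aux hG h50 h75 h32 h25 hMt hg hcomm hx hx1 hx'g hx'o with h | ⟨-, hx'1, hκ'⟩
  · left; exact h
  · have hne' : orderOf x' ≠ 1 := by rw [Ne, orderOf_eq_one_iff]; exact hx'1
    obtain ⟨q, hq, hqd⟩ := Nat.exists_prime_and_dvd hne'
    have hκne : (kappa (M₀.map (MulAut.conj t).toMonoidHom)).Nonempty := ⟨q, hκ' q hq hqd⟩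
    obtain ⟨g₁, hg₁ | hg₁⟩ := Cfsg.Agent.Helper14.BG1369.part2 c _ hMt hκne
    · rw [hg₁] at hx hx'o
      exact Ctx'.cover_conj c h50 h75 h25 hg hcomm hx hx1 hx'g hx'o
    · rw [hg₁] at hx hx'o
      have := Ctx'.cover_conj c.symm h50 h75 h25 hg hcomm hx hx1 hx'g hx'o
      rwa [Cfsg.Agent.Helper14.BG1369.Zh_symm c] at this

/-- Part 3, second half -/
theorem part3b (h50 : St1350 G) (h75 : St1375 G) (h78 : St1378b G) {M K Ms : Subgroup G}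
    (c : Ctx M K Ms) (N : Subgroup G) (hN : IsCoatom N) (y z : G) (hz : z ∈ Zh M K) :
    y * z * y⁻¹ ∉ tildeOf N ((sigmaCore N : Set G) \ {1}) := by
  intro hmem
  have hmem' := hmem
  obtain ⟨a₀, ⟨ha₀, ha₀1⟩, r₀, hr₀, y₀, hu⟩ := hmem
  have ha₀' : a₀ ∈ sigmaCore N := ha₀
  have ha₀ne : a₀ ≠ 1 := ha₀1
  -- `o(a₀)` divides `o(z)`
  have hdvd : orderOf a₀ ∣ orderOf z := by
    have h1 : orderOf (a₀ * r₀) = orderOf z := by
      rw [← orderOf_conj' y z, hu, orderOf_conj']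
    rw [← h1]
    by_cases hr1 : r₀ = 1
    · rw [hr1, mul_one]
    · obtain ⟨L, d⟩ := exists_data h50 h75 hN ha₀' ha₀ne hr₀ hr1
      rw [d.orderOf_mul]
      exact Dvd.intro _ rfl
  have hne1 : orderOf a₀ ≠ 1 := by rw [Ne, orderOf_eq_one_iff]; exact ha₀ne
  obtain ⟨p, hp, hpd⟩ := Nat.exists_prime_and_dvd hne1
  have hpN : p ∈ sigma N := prime_mem_sigma_of_mem_sigmaCore ha₀' p hp hpd
  have hpz : p ∣ orderOf z := hpd.trans hdvd
  obtain ⟨k, hk, -, k', hk', -, rfl⟩ := c.mem_Zh_iff.mp hz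
  have hcomm : Commute k k' := c.comm_K_Kst k hk k' hk'
  have hpkk : p ∣ orderOf k * orderOf k' := hpz.trans hcomm.orderOf_mul_dvd_mul_orderOf
  have hconjU : y * (k * k') * y⁻¹ ∈ conjUnion (Zh M K) := ⟨y, k * k', hz, rfl⟩
  rcases (Nat.Prime.dvd_mul hp).mp hpkk with hpk | hpk'
  · -- `p ∈ σ(M*)`
    have hpMs : p ∈ sigma Ms := by
      have h1 : orderOf k ∣ Nat.card ↥(sigmaCore Ms) := by
        have := orderOf_dvd_natCard (⟨k, c.K_le_sigmaCore_Ms hk⟩ : ↥(sigmaCore Ms))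
        rwa [Subgroup.orderOf_mk] at this
      exact Cfsg.Agent.Helper16.BG147.card_sigmaCore Ms p hp (hpk.trans h1)
    obtain ⟨t, ht⟩ := h78 Ms N c.hMs hN ⟨p, hpMs, hpN⟩
    rw [ht, tilde_map_conj] at hmem'
    have hconjU' : y * (k * k') * y⁻¹ ∈ conjUnion (Zh Ms (Kst M K)) := by
      rw [Cfsg.Agent.Helper14.BG1369.Zh_symm c]; exact hconjU
    exact Cfsg.Agent.Helper14.BG1369.disj1 c.symm _ hconjU' hmem'
  · have hpM : p ∈ sigma M := by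
      have h1 : orderOf k' ∣ Nat.card ↥(sigmaCore M) := by
        have := orderOf_dvd_natCard (⟨k', c.Kst_le_sigmaCore hk'⟩ : ↥(sigmaCore M))
        rwa [Subgroup.orderOf_mk] at this
      exact Cfsg.Agent.Helper16.BG147.card_sigmaCore M p hp (hpk'.trans h1)
    obtain ⟨t, ht⟩ := h78 M N c.hM hN ⟨p, hpM, hpN⟩
    rw [ht, tilde_map_conj] at hmem'
    exact Cfsg.Agent.Helper14.BG1369.disj1 c _ hconjU hmem'

/-- the S1379 statement, from the frozen statements -/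
theorem partition (hG : IsMinSimpleOddOrder G) (h50 : St1350 G) (h75 : St1375 G) (h30 : St1430 G)
    (h31 : St1431 G) (h32 : St1432 G) (h33 : St1433 G) (h51 : St1351b G) (h78a : H1378a G)
    (h78 : St1378b G) (h66 : St1366 G) (h25 : H1425 G) :
    (∀ M N : Subgroup G, IsCoatom M → IsCoatom N → (∀ g : G, N ≠ M.map (MulAut.conj g).toMonoidHom) → Cfsg.tildeOf M ((Cfsg.sigmaCore M : Set G) \ {1}) ∩ Cfsg.tildeOf N ((Cfsg.sigmaCore N : Set G) \ {1}) = ∅) ∧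
      ((∀ M : Subgroup G, IsCoatom M → Cfsg.kappa M = ∅) →
        ∀ g : G, g ≠ 1 → ∃ M : Subgroup G, IsCoatom M ∧ g ∈ Cfsg.tildeOf M ((Cfsg.sigmaCore M : Set G) \ {1})) ∧
      ∀ (M K U : Subgroup G), IsCoatom M → Cfsg.IsSigmaDecomposition M K U → K ≠ ⊥ →
        (∀ g : G, g ≠ 1 → (∃ N : Subgroup G, IsCoatom N ∧ g ∈ Cfsg.tildeOf N ((Cfsg.sigmaCore N : Set G) \ {1})) ∨
            ∃ y : G, ∃ z ∈ ((↑(K ⊔ (Cfsg.sigmaCore M ⊓ Subgroup.centralizer (K : Set G))) : Set G) \ ((K : Set G) ∪ ↑(Cfsg.sigmaCore M ⊓ Subgroup.centralizer (K : Set G)))), g = y * z * y⁻¹) ∧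
        ∀ N : Subgroup G, IsCoatom N → ∀ y : G, ∀ z ∈ ((↑(K ⊔ (Cfsg.sigmaCore M ⊓ Subgroup.centralizer (K : Set G))) : Set G) \ ((K : Set G) ∪ ↑(Cfsg.sigmaCore M ⊓ Subgroup.centralizer (K : Set G)))), y * z * y⁻¹ ∉ Cfsg.tildeOf N ((Cfsg.sigmaCore N : Set G) \ {1}) := by
  refine ⟨fun M N hM hN hne => part1 h33 h78 hM hN hne,
    fun hκ g hg1 => part2 hG h50 h75 h32 h25 h78a hκ g hg1, ?_⟩
  intro M K U hM hKU hK1
  refine ⟨fun g hg1 => part3a hG h50 h75 h30 h31 h32 h51 h78a h78 h66 h25 M K U hM hKU hK1 g hg1, ?_⟩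
  intro N hN y z hz
  obtain ⟨Ms, c⟩ := exists_ctx hG h30 h31 h32 h51 h78 h66 M hM K U hKU hK1
  exact part3b h50 h75 h78 c N hN y z hz

end Cfsg.Agent.Helper4.BG1379
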