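import Mathlib
import Cfsg.Agent.Lib.Helper4.BG144F

/-!
# Bender--Glauberman Theorem 14.4(b): the statement of S1375 from frozen statements (helper4)
-/

set_option autoImplicit false
set_option linter.style.haveILetI false
set_option linter.unusedSectionVars false

namespace Cfsg.Agent.Helper4.BG144

open Cfsg Subgroup

universe u

variable {G : Type u} [Group G] [Finite G]

/-- an element of `N` of order coprime to `#K'` lies in `U' N_σ` -/
theorem mem_sup_of_coprime {N K' U' : Subgroup G} (hdec : IsSigmaDecomposition N K' U') {x : G}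
    (hxN : x ∈ N) (hco : (orderOf x).Coprime (Nat.card K')) : x ∈ U' ⊔ sigmaCore N := by
  obtain ⟨-, hKhall, ⟨hUN, hKSN, -, hprod⟩, hKU⟩ := hdec
  set H : Subgroup G := U' ⊔ sigmaCore N with hH
  have hHN : H ≤ N := sup_le hUN (sigmaCore_le N)
  have hK'N : K' ≤ N := hKhall.1
  have hNeq : N = H ⊔ K' := by
    apply le_antisymm
    · intro n hn
      obtain ⟨u, hu, m, hm, rfl⟩ := hprod n hn
      refine (H ⊔ K').mul_mem (le_sup_left (a := H) (le_sup_left (a := U') hu)) ?_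
      have : K' ⊔ sigmaCore N ≤ H ⊔ K' :=
        sup_le le_sup_right ((le_sup_right (a := U')).trans le_sup_left)
      exact this hm
    · exact sup_le hHN hK'N
  have hnorm : N ≤ normalizer (H : Set G) := by
    rw [hNeq]
    refine sup_le le_normalizer ?_
    intro k hk
    exact normalizer_inf_le_normalizer_sup U' (sigmaCore N)
      ⟨hKU hk, le_normalizer_sigmaCore N (hK'N hk)⟩
  haveI hHn : (H.subgroupOf N).Normal := (normal_subgroupOf_iff_le_normalizer hHN).mpr hnorm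
  have htop : H.subgroupOf N ⊔ K'.subgroupOf N = ⊤ := by
    rw [← subgroupOf_sup hHN hK'N, ← hNeq, subgroupOf_self]
  have hidx : (H.subgroupOf N).index ∣ Nat.card K' := by
    have h1 : (H.subgroupOf N).relIndex (K'.subgroupOf N ⊔ H.subgroupOf N) =
        (H.subgroupOf N).relIndex (K'.subgroupOf N) := relIndex_sup_right _ _
    rw [sup_comm, htop, relIndex_top_right] at h1
    rw [h1]
    have h2 := relIndex_dvd_card (H.subgroupOf N) (K'.subgroupOf N)
    have h3 : Nat.card ↥(K'.subgroupOf N) = Nat.card K' :=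
      Nat.card_congr (subgroupOfEquivOfLe hK'N).toEquiv
    rwa [h3] at h2
  set xN : ↥N := ⟨x, hxN⟩ with hxN'
  have ho1 : orderOf (QuotientGroup.mk' (H.subgroupOf N) xN) ∣ orderOf x := by
    have := orderOf_map_dvd (QuotientGroup.mk' (H.subgroupOf N)) xN
    have h4 : orderOf xN = orderOf x := by
      rw [← Subgroup.orderOf_coe xN]
    rwa [h4] at this
  have ho2 : orderOf (QuotientGroup.mk' (H.subgroupOf N) xN) ∣ Nat.card K' := by
    have := orderOf_dvd_natCard (QuotientGroup.mk' (H.subgroupOf N) xN)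
    rw [← index_eq_card] at this
    exact this.trans hidx
  have ho3 : orderOf (QuotientGroup.mk' (H.subgroupOf N) xN) = 1 :=
    Nat.eq_one_of_dvd_coprimes hco ho1 ho2
  rw [orderOf_eq_one_iff] at ho3
  have : xN ∈ H.subgroupOf N := (QuotientGroup.eq_one_iff xN).mp ho3
  rwa [mem_subgroupOf] at this

/-- **BG Theorem 14.4(b)**: the statement of S1375. -/
theorem thm_1375 (hG : IsMinSimpleOddOrder G) (h1350 : H1350 G) (h1404 : H1404 G)
    (h1409 : H1409 G) (h1416 : H1416 G) (h1417 : H1417 G) (h1418 : H1418 G) (h1424 : H1424 G)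
    (h1432 : H1432 G) (hσ : HSigma G) (M : Subgroup G) (hM : IsCoatom M) (x : G)
    (hx : x ∈ Cfsg.sigmaCore M) (hx1 : x ≠ 1)
    (hxM : ¬ Subgroup.centralizer ({x} : Set G) ≤ M) :
    ∃ N : Subgroup G, (IsCoatom N ∧ Subgroup.centralizer ({x} : Set G) ≤ N) ∧ (∀ L : Subgroup G, IsCoatom L → Subgroup.centralizer ({x} : Set G) ≤ L → L = N) ∧
        Cfsg.sigmaCore N = Cfsg.fittingHallOf N ∧
        Subgroup.centralizer ({x} : Set G) ≤ Subgroup.normalizer ((Cfsg.sigmaCore N ⊓ Subgroup.centralizer ({x} : Set G) : Subgroup G) : Set G) ∧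
        Cfsg.IsComplIn (M ⊓ Subgroup.centralizer ({x} : Set G)) (Cfsg.sigmaCore N ⊓ Subgroup.centralizer ({x} : Set G)) (Subgroup.centralizer ({x} : Set G)) ∧
        Cfsg.IsComplIn (M ⊓ N) (Cfsg.sigmaCore N) N ∧
        ∀ K' U' : Subgroup G, Cfsg.IsSigmaDecomposition N K' U' → U' ≠ ⊥ ∧ x ∈ Cfsg.sigmaA N U' ∧ x ∉ Cfsg.sigmaCore N := by
  have hxMm : x ∈ M := sigmaCore_le M hx
  rcases main hG h1350 h1404 h1409 h1416 h1417 h1418 h1424 hσ M hM x hx hx1 with
    ⟨hCM, -⟩ | ⟨N, p, hN, hCN, hτ, hpx, hnil, hcompl, -⟩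
  · exact absurd hCM hxM
  have hhall := (h1350 N hN).1
  have hxC : x ∈ centralizer ({x} : Set G) := mem_centralizer_singleton_iff.mpr rfl
  have hxN : x ∈ N := hCN hxC
  have hBM : sigmaCore N ⊓ M = ⊥ := by
    rw [eq_bot_iff]
    rintro z ⟨hzB, hzM⟩
    have : z ∈ (M ⊓ N) ⊓ sigmaCore N := ⟨⟨hzM, sigmaCore_le N hzB⟩, hzB⟩
    rw [hcompl.2.2.1] at this
    exact this
  have hcC := case2_compl hxMm hCN hcompl
  -- a non-identity element of `N_σ` centralizing `x`
  obtain ⟨c, hc, hcM⟩ := SetLike.not_le_iff_exists.mp hxM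
  obtain ⟨a, ha, b, hb, hcab⟩ := hcC.2.2.2 c hc
  have hb1 : b ≠ 1 := by
    rintro rfl
    rw [mul_one] at hcab
    exact hcM (hcab ▸ ha.1)
  have hbx : b * x = x * b := mem_centralizer_singleton_iff.mp hb.2
  have hxnot : x ∉ sigmaCore N := by
    intro h
    have : x ∈ sigmaCore N ⊓ M := ⟨h, hxMm⟩
    rw [hBM, mem_bot] at this
    exact hx1 this
  -- primes of `x` are not in `σ(N)`
  have hσ' : ∀ q : ℕ, q.Prime → q ∣ orderOf x → q ∉ sigma N := by
    intro q hq hqx hqσ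
    have h1 : orderOf x ∣ Nat.card ↥(M ⊓ N) := Subgroup.orderOf_dvd_natCard _ ⟨hxMm, hxN⟩
    have h2 := hhall.2.2 q hq hqσ
    rw [complIn_relIndex_eq' hcompl] at h2
    exact h2 (hqx.trans h1)
  have key := h1432 N hN b hb.1 hb1 x ⟨hxN, mem_centralizer_singleton_iff.mpr hbx.symm⟩ hx1 hσ'
  have hpp : p.Prime := hτ.1
  rcases key with ⟨hκ, -⟩ | ⟨hτ2, -, -, huniq⟩
  · exact absurd (hκ p hpp hpx) (tau2_not_kappa hτ)
  refine ⟨N, ⟨hN, hCN⟩, huniq, sigmaCore_eq_fittingHallOf hG N hN hhall hnil, case2_normal hCN,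
    hcC, hcompl, ?_⟩
  intro K' U' hdec
  have hco : (orderOf x).Coprime (Nat.card K') := by
    refine Nat.coprime_of_dvd ?_
    intro q hq hq1 hq2
    exact tau2_not_kappa (hτ2 q hq hq1) (hdec.hall.2.1 q hq hq2)
  have hxH : x ∈ U' ⊔ sigmaCore N := mem_sup_of_coprime hdec hxN hco
  refine ⟨?_, ⟨⟨hxN, b, hb.1, hb1, hbx.symm⟩, hxH⟩, hxnot⟩
  rintro rfl
  rw [bot_sup_eq] at hxH
  exact hxnot hxH

end Cfsg.Agent.Helper4.BG144
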