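import Mathlib

set_option autoImplicit false

namespace Cfsg.Agent.Helper4

/-- A subgroup is commutative iff its elements pairwise commute. -/
theorem comm_iff {G : Type*} [Group G] (H : Subgroup G) :
    IsMulCommutative H ↔ ∀ a ∈ H, ∀ b ∈ H, a * b = b * a := by
  constructor
  · intro h a ha b hb
    exact setLike_mul_comm ha hb
  · intro h
    refine ⟨⟨?_⟩⟩
    rintro ⟨a, ha⟩ ⟨b, hb⟩
    exact Subtype.ext (h a ha b hb)

/-- In a nilpotent group, normalizers grow relative to any larger subgroup. -/
theorem exists_mem_normalizer_not_mem {S : Type*} [Group S] [Group.IsNilpotent S]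
    {N M : Subgroup S} (hNM : N < M) :
    ∃ x ∈ M, x ∈ Subgroup.normalizer (N : Set S) ∧ x ∉ N := by
  have hnc : NormalizerCondition ↥M := Group.normalizerCondition_of_isNilpotent
  have hlt : N.subgroupOf M < ⊤ := by
    rw [lt_top_iff_ne_top, Ne, Subgroup.subgroupOf_eq_top]
    exact not_le_of_gt hNM
  have h := hnc _ hlt
  obtain ⟨x, hx1, hx2⟩ := SetLike.exists_of_lt h
  refine ⟨x, x.2, ?_, ?_⟩
  · rw [Subgroup.mem_normalizer_iff]
    rw [Subgroup.mem_normalizer_iff] at hx1
    intro h
    constructor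
    · intro hh
      have hhM : h ∈ M := hNM.le hh
      have := (hx1 ⟨h, hhM⟩).1 (by rw [Subgroup.mem_subgroupOf]; exact hh)
      rw [Subgroup.mem_subgroupOf] at this
      simpa using this
    · intro hh
      have hhM : h ∈ M := by
        have h1 : (x : S) * h * (x : S)⁻¹ ∈ M := hNM.le hh
        have h2 : (x : S)⁻¹ * ((x : S) * h * (x : S)⁻¹) * (x : S) ∈ M :=
          M.mul_mem (M.mul_mem (M.inv_mem x.2) h1) x.2
        simpa [mul_assoc] using h2
      have := (hx1 ⟨h, hhM⟩).2 (by rw [Subgroup.mem_subgroupOf]; simpa using hh)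
      rw [Subgroup.mem_subgroupOf] at this
      exact this
  · intro hxN
    exact hx2 (by rw [Subgroup.mem_subgroupOf]; exact hxN)

end Cfsg.Agent.Helper4
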