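import Mathlib
import Cfsg.Prelude.Def_CaseTheorems
import Cfsg.Agent.Lib.Helper4.PPrimeQuot

/-!
# Passing a rank condition on Sylow intersections to the quotient by a normal `p'`-subgroup
(helper4)
-/

set_option autoImplicit false

namespace Cfsg.Agent.Helper4.RankOne

open Cfsg

/-- A rank bound applied to a subgroup of the ambient group lying in `H`. -/
theorem card_le_of_le {G : Type*} [Group G] {p k : ℕ} {H : Subgroup G}
    (h : PRankLE p k ↥H) (A : Subgroup G) (hA : A ≤ H)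
    (hc : ∀ a ∈ A, ∀ b ∈ A, a * b = b * a) (he : ∀ a ∈ A, a ^ p = 1) :
    Nat.card A ≤ p ^ k := by
  have h1 := h (A.subgroupOf H)
    ⟨⟨fun a b => Subtype.ext (Subtype.ext (hc _ a.2 _ b.2))⟩⟩
    (fun a ha => by
      have := he _ (Subgroup.mem_subgroupOf.mp ha)
      exact Subtype.ext this)
  rwa [Nat.card_congr (Subgroup.subgroupOfEquivOfLe hA).toEquiv] at h1

variable {G : Type*} [Group G] [Finite G] {p : ℕ} [Fact p.Prime]

/-- A `p`-subgroup of `G` whose image lies in a Sylow `p`-subgroup `Tb` of `G / K` lies in a Sylow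
`p`-subgroup of `G` with image `Tb`. -/
theorem exists_sylow_ge_map_eq {K : Subgroup G} [K.Normal] (hK : (Nat.card K).Coprime p)
    (A : Subgroup G) (hA : IsPGroup p A) (Tb : Sylow p (G ⧸ K))
    (hATb : A.map (QuotientGroup.mk' K) ≤ Tb) :
    ∃ T : Sylow p G, A ≤ T ∧ (T : Subgroup G).map (QuotientGroup.mk' K) = Tb := by
  set π := QuotientGroup.mk' K with hπ
  set M : Subgroup G := (Tb : Subgroup (G ⧸ K)).comap π with hM
  have hAM : A ≤ M := by
    intro a ha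
    exact hATb (Subgroup.mem_map_of_mem _ ha)
  have hA' : IsPGroup p (A.subgroupOf M) := hA.comap_subtype
  obtain ⟨P, hP⟩ := hA'.exists_le_sylow
  have himg := PQ.map_sylow_comap hK (Tb : Subgroup (G ⧸ K)) Tb.isPGroup' M hM P
  have hP' : IsPGroup p ((P : Subgroup ↥M).map M.subtype) := P.isPGroup'.map _
  obtain ⟨T, hT⟩ := hP'.exists_le_sylow
  refine ⟨T, ?_, ?_⟩
  · intro a ha
    apply hT
    exact ⟨⟨a, hAM ha⟩, hP (Subgroup.mem_subgroupOf.mpr ha), rfl⟩
  · have h1 : (Tb : Subgroup (G ⧸ K)) ≤ (T : Subgroup G).map π := by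
      rw [← himg]
      exact Subgroup.map_mono hT
    exact Tb.is_maximal' (T.isPGroup'.map π) h1

/-- The rank condition on intersections of distinct Sylow `p`-subgroups passes to the quotient by
a normal `p'`-subgroup. -/
theorem quotient_hyp {K : Subgroup G} [K.Normal] (hK : (Nat.card K).Coprime p) (k : ℕ)
    (hI : ∀ S T : Sylow p G, S ≠ T → PRankLE p k ↥((S : Subgroup G) ⊓ (T : Subgroup G))) :
    ∀ S T : Sylow p (G ⧸ K), S ≠ T →
      PRankLE p k ↥((S : Subgroup (G ⧸ K)) ⊓ (T : Subgroup (G ⧸ K))) := by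
  intro Sb Tb hne Ab hAc hAe
  set π := QuotientGroup.mk' K with hπ
  -- the subgroup of the quotient
  set A₁ : Subgroup (G ⧸ K) := Ab.map (Subgroup.subtype _) with hA₁
  have hcard1 : Nat.card A₁ = Nat.card Ab :=
    Subgroup.card_map_of_injective (Subgroup.subtype_injective _)
  have hA₁le : A₁ ≤ (Sb : Subgroup (G ⧸ K)) ⊓ (Tb : Subgroup (G ⧸ K)) :=
    Subgroup.map_subtype_le _
  have hA₁p : IsPGroup p A₁ := Sb.isPGroup'.to_le (hA₁le.trans inf_le_left)
  have hA₁c : ∀ a ∈ A₁, ∀ b ∈ A₁, a * b = b * a := by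
    rintro _ ⟨a, ha, rfl⟩ _ ⟨b, hb, rfl⟩
    have := hAc.is_comm.comm ⟨a, ha⟩ ⟨b, hb⟩
    have h2 := congrArg (fun v : Ab => ((v : ↥((Sb : Subgroup (G ⧸ K)) ⊓ Tb)) : G ⧸ K)) this
    exact h2
  have hA₁e : ∀ a ∈ A₁, a ^ p = 1 := by
    rintro _ ⟨a, ha, rfl⟩
    have := hAe a ha
    have h2 := congrArg (fun v : ↥((Sb : Subgroup (G ⧸ K)) ⊓ Tb) => (v : G ⧸ K)) this
    exact h2
  -- lift to `G`
  obtain ⟨A, hAp, hAmap⟩ := PQ.exists_lift_pSubgroup hK A₁ hA₁p
  have hdisj : A ⊓ K = ⊥ := Cfsg.Agent.Helper7.inf_eq_bot_of_isPGroup_of_coprime hAp hK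
  have hdisj' : K ⊓ A = ⊥ := by rw [inf_comm]; exact hdisj
  have hcard2 : Nat.card A₁ = Nat.card A := by
    rw [← hAmap]
    exact Cfsg.Agent.Helper1.card_map_mk'_of_disjoint K hdisj'
  have hinj : ∀ a ∈ A, π a = 1 → a = 1 := by
    intro a ha h1
    have : a ∈ A ⊓ K := ⟨ha, (QuotientGroup.eq_one_iff a).mp h1⟩
    rwa [hdisj, Subgroup.mem_bot] at this
  have hAc' : ∀ a ∈ A, ∀ b ∈ A, a * b = b * a := by
    intro a ha b hb
    have h1 : π (a * b * (b * a)⁻¹) = 1 := by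
      have h2 := hA₁c (π a) (hAmap ▸ Subgroup.mem_map_of_mem _ ha) (π b)
        (hAmap ▸ Subgroup.mem_map_of_mem _ hb)
      rw [map_mul, map_inv, map_mul, map_mul, h2, mul_inv_cancel]
    have h3 := hinj _ (A.mul_mem (A.mul_mem ha hb) (A.inv_mem (A.mul_mem hb ha))) h1
    exact mul_inv_eq_one.mp h3
  have hAe' : ∀ a ∈ A, a ^ p = 1 := by
    intro a ha
    apply hinj _ (A.pow_mem ha p)
    rw [map_pow]
    exact hA₁e _ (hAmap ▸ Subgroup.mem_map_of_mem _ ha)
  obtain ⟨S, hAS, hSmap⟩ := exists_sylow_ge_map_eq hK A hAp Sb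
    (by rw [hAmap]; exact hA₁le.trans inf_le_left)
  obtain ⟨T, hAT, hTmap⟩ := exists_sylow_ge_map_eq hK A hAp Tb
    (by rw [hAmap]; exact hA₁le.trans inf_le_right)
  have hST : S ≠ T := by
    intro h
    apply hne
    apply Sylow.ext
    rw [← hSmap, ← hTmap, h]
  have := card_le_of_le (hI S T hST) A (le_inf hAS hAT) hAc' hAe'
  rw [← hcard1, hcard2]
  exact this

end Cfsg.Agent.Helper4.RankOne
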