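import Mathlib
import Cfsg.Agent.Lib.Helper4.BinOctA
import Cfsg.Agent.Lib.Helper4.RankOneTransfer
import Cfsg.Agent.Lib.Helper14.Basic
import Cfsg.Agent.Lib.Helper15.UIAut2
import Cfsg.Agent.Lib.Helper16.Solvable2
import Cfsg.Agent.Lib.Helper16.UniqueInvolution

/-!
# Solvable groups with `O(X) = 1` whose Sylow `2`-intersections have rank one (helper4)

If such a group is not `2`-closed then `O_2(X) ≅ Q₈`, `C_X(O_2(X)) ≤ O_2(X)` and `|X| = 48`.
-/

set_option autoImplicit false

namespace Cfsg.Agent.Helper4.BinOct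

open QuaternionGroup Cfsg.Agent.S3742 Cfsg

/-- two commuting involutions generate an elementary abelian subgroup -/
theorem closure_pair_props {G : Type*} [Group G] (z u : G) (hz : z ^ 2 = 1) (hu : u ^ 2 = 1)
    (hzu : z * u = u * z) :
    (∀ a ∈ Subgroup.closure ({z, u} : Set G), ∀ b ∈ Subgroup.closure ({z, u} : Set G),
      a * b = b * a) ∧ ∀ a ∈ Subgroup.closure ({z, u} : Set G), a ^ 2 = 1 := by
  have hcomm : ∀ x ∈ ({z, u} : Set G), ∀ y ∈ ({z, u} : Set G), x * y = y * x := by
    intro x hx y hy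
    rcases hx with rfl | rfl <;> rcases hy with rfl | rfl
    · rfl
    · exact hzu
    · exact hzu.symm
    · rfl
  have hc := Subgroup.isMulCommutative_closure hcomm
  have h1 : ∀ a ∈ Subgroup.closure ({z, u} : Set G), ∀ b ∈ Subgroup.closure ({z, u} : Set G),
      a * b = b * a := fun a ha b hb => setLike_mul_comm ha hb
  refine ⟨h1, ?_⟩
  intro a ha
  induction ha using Subgroup.closure_induction with
  | mem x hx =>
    rcases hx with rfl | rfl
    · exact hz
    · exact hu
  | one => exact one_pow 2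
  | mul x y hx hy ihx ihy =>
    have : Commute x y := h1 x hx y hy
    rw [this.mul_pow, ihx, ihy, one_mul]
  | inv x hx ih => rw [inv_pow, ih, inv_one]

/-- a `2`-subgroup all of whose elementary abelian subgroups have order at most two has at most
one involution -/
theorem uniqueOrderP_of_rank {X : Type*} [Group X] [Finite X] (R : Subgroup X)
    (hR : IsPGroup 2 R)
    (hrank : ∀ A : Subgroup X, A ≤ R → (∀ a ∈ A, ∀ b ∈ A, a * b = b * a) →
      (∀ a ∈ A, a ^ 2 = 1) → Nat.card A ≤ 2) :
    Cfsg.Agent.Helper16.UniqueOrderP 2 ↥R := by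
  have hF : Fact (Nat.Prime 2) := ⟨Nat.prime_two⟩
  intro x y hx hy
  haveI : Nontrivial ↥R := ⟨⟨x, 1, fun h => by rw [h, orderOf_one] at hx; norm_num at hx⟩⟩
  have hcn : Nontrivial (Subgroup.center ↥R) := hR.center_nontrivial
  have hdvd : 2 ∣ Nat.card (Subgroup.center ↥R) := by
    obtain ⟨k, hk⟩ := IsPGroup.iff_card.mp (hR.to_subgroup (Subgroup.center ↥R))
    have h1 : 1 < Nat.card (Subgroup.center ↥R) := Finite.one_lt_card
    rw [hk] at h1 ⊢
    rcases Nat.eq_zero_or_pos k with h0 | h0
    · rw [h0] at h1; norm_num at h1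
    · exact dvd_pow_self 2 h0.ne'
  obtain ⟨z, hz⟩ := exists_prime_orderOf_dvd_card' 2 hdvd
  have hzo : orderOf (((z : ↥R) : X)) = 2 := by
    rw [Subgroup.orderOf_coe, Subgroup.orderOf_coe]; exact hz
  have hz2 : (((z : ↥R) : X)) ^ 2 = 1 := by rw [← hzo]; exact pow_orderOf_eq_one _
  have key : ∀ u : ↥R, orderOf u = 2 → u = (z : ↥R) := by
    intro u hu
    have huo : orderOf ((u : X)) = 2 := by rw [Subgroup.orderOf_coe]; exact hu
    have hu2 : (u : X) ^ 2 = 1 := by rw [← huo]; exact pow_orderOf_eq_one _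
    have hzu : ((z : ↥R) : X) * (u : X) = (u : X) * ((z : ↥R) : X) := by
      have := Subgroup.mem_center_iff.mp z.2 u
      exact (congrArg Subtype.val this).symm
    obtain ⟨hc, he⟩ := closure_pair_props _ _ hz2 hu2 hzu
    set A := Subgroup.closure ({((z : ↥R) : X), (u : X)} : Set X) with hA
    have hAR : A ≤ R := by
      rw [hA, Subgroup.closure_le]
      intro v hv
      rcases hv with rfl | rfl
      · exact (z : ↥R).2
      · exact u.2
    have hcard := hrank A hAR hc he
    have hzA : Subgroup.zpowers (((z : ↥R) : X)) ≤ A := by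
      rw [Subgroup.zpowers_le]
      exact Subgroup.subset_closure (Or.inl rfl)
    have heq : Subgroup.zpowers (((z : ↥R) : X)) = A := by
      apply Subgroup.eq_of_le_of_card_ge hzA
      rw [Nat.card_zpowers, hzo]
      exact hcard
    have huA : (u : X) ∈ A := Subgroup.subset_closure (Or.inr rfl)
    rw [← heq, Subgroup.mem_zpowers_iff] at huA
    obtain ⟨k, hk⟩ := huA
    have h3 : ((z : ↥R) : X) ^ k = ((z : ↥R) : X) ^ (k % 2) := by
      conv_lhs => rw [← Int.mul_ediv_add_emod k 2]
      rw [zpow_add, zpow_mul, zpow_ofNat, hz2, one_zpow, one_mul]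
    rcases Int.emod_two_eq_zero_or_one k with h4 | h4
    · exfalso
      rw [h3, h4, zpow_zero] at hk
      rw [← hk, orderOf_one] at huo
      norm_num at huo
    · rw [h3, h4, zpow_one] at hk
      exact Subtype.ext hk.symm
  rw [key x hx, key y hy]
  exact Subgroup.mem_zpowers _

/-- a finite group with a self-centralizing normal `2`-subgroup without nontrivial automorphisms
of odd order is a `2`-group -/
theorem isPGroup_two_of_odd_aut_trivial {X : Type*} [Group X] [Finite X] (R : Subgroup X)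
    [R.Normal] (hR : IsPGroup 2 R) (hC : Subgroup.centralizer (R : Set X) ≤ R)
    (hodd : ∀ (ψ : MulAut ↥R) (k : ℕ), Odd k → ψ ^ k = 1 → ψ = 1) : IsPGroup 2 X := by
  have hF : Fact (Nat.Prime 2) := ⟨Nat.prime_two⟩
  apply Cfsg.Agent.Helper14.isPGroup_of_pprime_elements_trivial
  intro g hg
  have hk : Odd (orderOf g) := Nat.coprime_two_right.mp hg
  have h1 : (MulAut.conjNormal g : MulAut ↥R) ^ orderOf g = 1 := by
    rw [← map_pow, pow_orderOf_eq_one, map_one]
  have h2 := hodd _ _ hk h1
  have hgC : g ∈ Subgroup.centralizer (R : Set X) := by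
    rw [Subgroup.mem_centralizer_iff]
    intro r hr
    have h3 := congrArg (fun α : MulAut ↥R => ((α ⟨r, hr⟩ : ↥R) : X)) h2
    simp only [MulAut.conjNormal_apply, MulAut.one_apply] at h3
    calc r * g = (g * r * g⁻¹) * g := by rw [h3]
      _ = g * r := by group
  obtain ⟨j, hj⟩ := hR ⟨g, hC hgC⟩
  have h4 : g ^ 2 ^ j = 1 := by
    have := congrArg Subtype.val hj
    simpa using this
  exact Cfsg.Agent.Helper14.eq_one_of_pow_eq_one_of_coprime (pow_orderOf_eq_one g) h4
    (Nat.Coprime.pow_right j hg)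

/-- The structure of a non-`2`-closed solvable group with `O(X) = 1` and Sylow `2`-intersections
of rank one. -/
theorem exists_setting {X : Type*} [Group X] [Finite X] (hs : Group.IsSolvable X)
    (hO : pPrimeCore 2 X = ⊥)
    (hI : ∀ S T : Sylow 2 X, S ≠ T → PRankLE 2 1 ↥((S : Subgroup X) ⊓ (T : Subgroup X)))
    (hn : ¬ ∃ P : Sylow 2 X, (P : Subgroup X).Normal) :
    ∃ (R : Subgroup X) (_ : R.Normal) (_ : ↥R ≃* Q),
      Subgroup.centralizer (R : Set X) ≤ R ∧ Nat.card X = 48 ∧ ∀ P : Sylow 2 X, R ≤ P := by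
  have hF : Fact (Nat.Prime 2) := ⟨Nat.prime_two⟩
  -- two distinct Sylow subgroups
  have hST : ∃ S T : Sylow 2 X, S ≠ T := by
    by_contra hcon
    push_neg at hcon
    haveI : Subsingleton (Sylow 2 X) := ⟨hcon⟩
    obtain ⟨P⟩ : Nonempty (Sylow 2 X) := inferInstance
    exact hn ⟨P, Sylow.normal_of_subsingleton P⟩
  obtain ⟨S, T, hne⟩ := hST
  have hX2 : ¬ IsPGroup 2 X := by
    intro h
    apply hne
    have h1 : IsPGroup 2 (⊤ : Subgroup X) := h.to_subgroup _
    apply Sylow.ext
    rw [← S.is_maximal' h1 le_top, ← T.is_maximal' h1 le_top]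
  set R := pCore 2 X with hRdef
  haveI hRn : R.Normal := Subgroup.sSup_normal _ (fun _ h => h.1)
  have hR2 : IsPGroup 2 R := Cfsg.Agent.Helper14.pCore_isPGroup 2 X
  have hRle : ∀ P : Sylow 2 X, R ≤ P := fun P => Cfsg.Agent.Helper14.pCore_le_sylow P
  have hC : Subgroup.centralizer (R : Set X) ≤ R :=
    Cfsg.Agent.Helper16.centralizer_pCore_le_of_isSolvable 2 hs hO
  have hrank : ∀ A : Subgroup X, A ≤ R → (∀ a ∈ A, ∀ b ∈ A, a * b = b * a) →
      (∀ a ∈ A, a ^ 2 = 1) → Nat.card A ≤ 2 := by
    intro A hA hc he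
    have := RankOne.card_le_of_le (hI S T hne) A (hA.trans (le_inf (hRle S) (hRle T))) hc he
    simpa using this
  have hu := uniqueOrderP_of_rank R hR2 hrank
  have hcyc_case : IsCyclic ↥R → False := by
    intro hcyc
    apply hX2
    apply isPGroup_two_of_odd_aut_trivial R hR2 hC
    intro ψ k hk hψ
    exact Cfsg.Agent.Helper15.UIAut.eq_one_of_isCyclic hR2 ψ hk hψ
  rcases Cfsg.Agent.Helper16.cyclic_or_quaternion_of_uniqueOrderP_two hR2 hu with hcyc | ⟨n, ⟨e⟩⟩
  · exact (hcyc_case hcyc).elim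
  rcases n with _ | _ | n
  · -- `QuaternionGroup 1` is cyclic
    exfalso
    apply hcyc_case
    have e' : ↥R ≃* QuaternionGroup 1 := e
    haveI := QuaternionGroup.quaternionGroup_one_isCyclic
    exact isCyclic_of_surjective e'.symm e'.symm.surjective
  · -- the quaternion group of order `8`
    have e' : ↥R ≃* Q := e
    refine ⟨R, hRn, e', hC, ?_, hRle⟩
    have h2 := card_eq_two_mul R e' hC
    have h3 : Nat.card (kap R e').range ∣ 24 := by
      have : Finite (MulAut Q) := Nat.finite_of_card_ne_zero (by rw [card_mulAut_Q]; norm_num)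
      rw [← card_mulAut_Q]
      exact Subgroup.card_subgroup_dvd_card _
    have hR8 : Nat.card ↥R = 8 := by
      rw [Nat.card_congr e'.toEquiv, Nat.card_eq_fintype_card, QuaternionGroup.card]
    have h8 : 8 ∣ Nat.card X := by
      rw [← hR8]; exact Subgroup.card_subgroup_dvd_card R
    have hn8 : Nat.card X ≠ 8 := by
      intro h
      exact hX2 (IsPGroup.of_card (n := 3) (by rw [h]; norm_num))
    have hn16 : Nat.card X ≠ 16 := by
      intro h
      exact hX2 (IsPGroup.of_card (n := 4) (by rw [h]; norm_num))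
    have hn24 : Nat.card X ≠ 24 := by
      intro h
      obtain ⟨P, hP⟩ := hR2.exists_le_sylow
      obtain ⟨k, hk⟩ := IsPGroup.iff_card.mp P.isPGroup'
      have h4 : Nat.card (P : Subgroup X) ∣ 24 := by
        rw [← h]; exact Subgroup.card_subgroup_dvd_card _
      have h5 : k ≤ 3 := by
        by_contra hcon
        push_neg at hcon
        have : 2 ^ 4 ∣ 24 := (pow_dvd_pow 2 hcon).trans (hk ▸ h4)
        norm_num at this
      have h6 : Nat.card (P : Subgroup X) ≤ Nat.card ↥R := by
        rw [hk, hR8]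
        calc 2 ^ k ≤ 2 ^ 3 := Nat.pow_le_pow_right (by norm_num) h5
          _ = 8 := by norm_num
      have h7 : R = (P : Subgroup X) := Subgroup.eq_of_le_of_card_ge hP h6
      apply hn
      exact ⟨P, h7 ▸ hRn⟩
    have hr : Nat.card (kap R e').range ≤ 24 := Nat.le_of_dvd (by norm_num) h3
    generalize Nat.card (kap R e').range = r at h2 h3 hr
    generalize Nat.card X = N at h2 h8 hn8 hn16 hn24 ⊢
    interval_cases r <;> omega
  · -- larger quaternion groups
    exfalso
    apply hX2
    apply isPGroup_two_of_odd_aut_trivial R hR2 hC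
    intro ψ k hk hψ
    have h1 : (MulAut.congr e ψ) ^ k = 1 := by rw [← map_pow, hψ, map_one]
    have h2 := Cfsg.Agent.Helper15.UIAut.quaternion_aut_eq_one (n := n + 1 + 1) (by omega)
      (MulAut.congr e ψ) hk h1
    exact (MulAut.congr e).injective (h2.trans (map_one _).symm)

end Cfsg.Agent.Helper4.BinOct
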