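import Mathlib
import Cfsg.Agent.Lib.Helper4.BinOctA
import Cfsg.Agent.Lib.Helper16.SL23Recog

/-!
# Generators of a group of order `48` with a self-centralizing normal `Q₈` (helper4)
-/

set_option autoImplicit false

namespace Cfsg.Agent.Helper4.BinOct

open QuaternionGroup Cfsg.Agent.S3742 Cfsg.Agent.Helper16

theorem beta_valid : valid (xa 2 : Q) (a 3) := by decide +kernel

/-- the involutory automorphism `x ↦ y⁻¹`, `y ↦ x⁻¹` -/
noncomputable def betaAut : MulAut Q := autOfPair (xa 2) (a 3) beta_valid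

theorem betaAut_apply (q : Q) : betaAut q = f (xa 2) (a 3) q := rfl

theorem beta_beta : ∀ q : Q, f (xa 2) (a 3) (f (xa 2) (a 3) q) = q := by decide +kernel

theorem beta_alpha : ∀ q : Q,
    f (xa 2) (a 3) (SL23.alphaFun (f (xa 2) (a 3) (SL23.alphaFun q))) = q := by decide +kernel

theorem betaAut_mul_self : betaAut * betaAut = 1 := by
  ext q
  show betaAut (betaAut q) = q
  rw [betaAut_apply, betaAut_apply]
  exact beta_beta q

theorem betaAut_inv : betaAut⁻¹ = betaAut := inv_eq_of_mul_eq_one_right betaAut_mul_self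

theorem betaAut_alpha : betaAut * SL23.alpha * betaAut * SL23.alpha = 1 := by
  ext q
  show betaAut (SL23.alpha (betaAut (SL23.alpha q))) = q
  rw [SL23.alpha_apply, betaAut_apply, SL23.alpha_apply, betaAut_apply]
  exact beta_alpha q

theorem alpha_ne_one : SL23.alpha ≠ 1 := by
  intro h
  have h1 : SL23.alpha (a 1) = a 1 := by rw [h]; rfl
  rw [SL23.alpha_apply] at h1
  revert h1
  decide +kernel

variable {X : Type*} [Group X] [Finite X] (R : Subgroup X) [hRn : R.Normal] (e : ↥R ≃* Q)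

include e in
/-- the generators and relations -/
theorem exists_generators (hC : Subgroup.centralizer (R : Set X) ≤ R)
    (hcard : Nat.card X = 48) :
    ∃ x y c s : X, SL23.Rel x y c ∧ s * x * s⁻¹ = y⁻¹ ∧ s * y * s⁻¹ = x⁻¹ ∧ s * c * s⁻¹ = c⁻¹ ∧
      (s * s = 1 ∨ s * s = x ^ 2) ∧ x ∈ R ∧ y ∈ R := by
  have hsurj := kap_surjective R e hC hcard
  obtain ⟨c₀, hc₀⟩ := hsurj SL23.alpha
  obtain ⟨s, hs⟩ := hsurj betaAut
  have hzc := zz_central R e hC
  have hz2 := zz_mul_self R e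
  have hz1 := zz_ne_one R e
  have hker := mem_ker_kap_iff R e hC
  have hzker : kap R e (zz R e) = 1 := by
    rw [← MonoidHom.mem_ker]; exact (hker _).mpr (Or.inr rfl)
  -- an element of order three
  obtain ⟨c, hc, hc3⟩ : ∃ c : X, kap R e c = SL23.alpha ∧ c ^ 3 = 1 := by
    have h1 : c₀ ^ 3 ∈ (kap R e).ker := by
      rw [MonoidHom.mem_ker, map_pow, hc₀, SL23.alpha_pow_three]
    rcases (hker _).mp h1 with h2 | h2
    · exact ⟨c₀, hc₀, h2⟩
    · refine ⟨c₀ * zz R e, by rw [map_mul, hc₀, hzker, mul_one], ?_⟩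
      have hcomm : Commute c₀ (zz R e) := hzc c₀
      rw [hcomm.mul_pow, h2]
      have : zz R e * zz R e ^ 3 = (zz R e * zz R e) * (zz R e * zz R e) := by
        rw [pow_succ, pow_two]; group
      rw [this, hz2, one_mul]
  have hc1 : c ≠ 1 := by
    intro h
    rw [h, map_one] at hc
    exact alpha_ne_one hc.symm
  have hco : orderOf c = 3 := orderOf_eq_prime hc3 hc1
  set x : X := ((e.symm (a 1) : ↥R) : X) with hx
  set y : X := ((e.symm (xa 0) : ↥R) : X) with hy
  have hsym : ∀ q : Q, ((e.symm q : ↥R) : X)⁻¹ = ((e.symm q⁻¹ : ↥R) : X) := by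
    intro q
    rw [map_inv]; rfl
  have hmul : ∀ q q' : Q, ((e.symm q : ↥R) : X) * ((e.symm q' : ↥R) : X) =
      ((e.symm (q * q') : ↥R) : X) := by
    intro q q'
    rw [map_mul]; rfl
  have hcx : c * x * c⁻¹ = y := by
    rw [hx, ← symm_kap_apply R e c (a 1), hc, SL23.alpha_apply]
    rfl
  have hcy : c * y * c⁻¹ = x * y := by
    rw [hy, ← symm_kap_apply R e c (xa 0), hc, SL23.alpha_apply, hx, hmul]
    rfl
  have hsx : s * x * s⁻¹ = y⁻¹ := by
    rw [hx, ← symm_kap_apply R e s (a 1), hs, betaAut_apply, hy, hsym]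
    rfl
  have hsy : s * y * s⁻¹ = x⁻¹ := by
    rw [hy, ← symm_kap_apply R e s (xa 0), hs, betaAut_apply, hx, hsym]
    rfl
  have hx2 : x ^ 2 = zz R e := by
    rw [pow_two, hx, hmul]
    rfl
  have hrel : SL23.Rel x y c := by
    refine ⟨?_, ?_, ?_, hco, hcx, hcy⟩
    · rw [hx, Subgroup.orderOf_coe, MulEquiv.orderOf_eq, QuaternionGroup.orderOf_a_one]
    · rw [pow_two, pow_two, hx, hy, hmul, hmul]
      rfl
    · rw [hx, hy, hsym, hmul, hmul, hsym]
      rfl
  have hss : s * s = 1 ∨ s * s = x ^ 2 := by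
    rw [hx2]
    apply (hker _).mp
    rw [MonoidHom.mem_ker, map_mul, hs, betaAut_mul_self]
  have hsc : s * c * s⁻¹ = c⁻¹ := by
    have h1 : s * c * s⁻¹ * c ∈ (kap R e).ker := by
      rw [MonoidHom.mem_ker, map_mul, map_mul, map_mul, map_inv, hs, hc, betaAut_inv,
        betaAut_alpha]
    rcases (hker _).mp h1 with h2 | h2
    · exact eq_inv_of_mul_eq_one_left h2
    · exfalso
      apply hz1
      have h3 : s * c * s⁻¹ = zz R e * c⁻¹ := by
        rw [← h2]; group
      have h4 : (s * c * s⁻¹) ^ 3 = 1 := by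
        rw [conj_pow, hc3]; group
      have hcomm : Commute (zz R e) c⁻¹ := (hzc c⁻¹).symm
      rw [h3, hcomm.mul_pow, inv_pow, hc3, inv_one, mul_one] at h4
      calc zz R e = zz R e ^ 3 * ((zz R e * zz R e))⁻¹ := by rw [pow_succ, pow_two]; group
        _ = 1 := by rw [h4, hz2]; group
  exact ⟨x, y, c, s, hrel, hsx, hsy, hsc, hss, (e.symm (a 1)).2, (e.symm (xa 0)).2⟩

end Cfsg.Agent.Helper4.BinOct
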