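import Mathlib

/-!
# Extending a homomorphism over a subgroup of index two (helper4)

Let `H ≤ L` and `s ∈ L` with `L = H ∪ H s`, `s ∉ H`.  A homomorphism `ι : H → L'` together with an
element `s' ∈ L'` which acts on `ι H` as `s` acts on `H` and has `s' ^ 2 = ι (s ^ 2)` extends to a
homomorphism `L → L'` mapping `s` to `s'`.
-/

set_option autoImplicit false

namespace Cfsg.Agent.Helper4.Ext2

variable {L L' : Type*} [Group L] [Group L']

open Classical in
/-- the extended map -/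
noncomputable def extFun (H : Subgroup L) (ι : H →* L') (s : L) (s' : L') (g : L) : L' :=
  if hg : g ∈ H then ι ⟨g, hg⟩
  else if hg' : g * s⁻¹ ∈ H then ι ⟨g * s⁻¹, hg'⟩ * s' else 1

theorem extFun_mem {H : Subgroup L} (ι : H →* L') (s : L) (s' : L') {g : L} (hg : g ∈ H) :
    extFun H ι s s' g = ι ⟨g, hg⟩ := by
  unfold extFun
  rw [dif_pos hg]

theorem extFun_mul_s {H : Subgroup L} (ι : H →* L') (s : L) (s' : L') (hs : s ∉ H) {h : L}
    (hh : h ∈ H) : extFun H ι s s' (h * s) = ι ⟨h, hh⟩ * s' := by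
  unfold extFun
  have h1 : h * s ∉ H := by
    intro hc
    apply hs
    have : s = h⁻¹ * (h * s) := by group
    rw [this]
    exact H.mul_mem (H.inv_mem hh) hc
  have h2 : h * s * s⁻¹ = h := by group
  have h3 : h * s * s⁻¹ ∈ H := by rw [h2]; exact hh
  rw [dif_neg h1, dif_pos h3]
  congr 2
  exact Subtype.ext h2

/-- Extension of a homomorphism over a subgroup of index two. -/
theorem exists_hom (H : Subgroup L) (ι : H →* L') (s : L) (s' : L') (hs : s ∉ H)
    (hcov : ∀ g : L, g ∈ H ∨ g * s⁻¹ ∈ H)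
    (hnorm : ∀ h : L, h ∈ H → s * h * s⁻¹ ∈ H)
    (hconj : ∀ (h : L) (hh : h ∈ H) (hm : s * h * s⁻¹ ∈ H),
      ι ⟨s * h * s⁻¹, hm⟩ = s' * ι ⟨h, hh⟩ * s'⁻¹)
    (hs2 : s * s ∈ H) (hsq : ι ⟨s * s, hs2⟩ = s' * s') :
    ∃ Ψ : L →* L', (∀ (h : L) (hh : h ∈ H), Ψ h = ι ⟨h, hh⟩) ∧ Ψ s = s' := by
  have hι : ∀ (a b : L) (ha : a ∈ H) (hb : b ∈ H), ι ⟨a * b, H.mul_mem ha hb⟩ =
      ι ⟨a, ha⟩ * ι ⟨b, hb⟩ := by
    intro a b ha hb
    rw [← map_mul]
    rfl
  -- every element is `h` or `h * s`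
  have hform : ∀ g : L, g ∈ H ∨ ∃ h : L, h ∈ H ∧ g = h * s := by
    intro g
    rcases hcov g with h | h
    · exact Or.inl h
    · exact Or.inr ⟨g * s⁻¹, h, by group⟩
  have hmul : ∀ g₁ g₂ : L, extFun H ι s s' (g₁ * g₂) = extFun H ι s s' g₁ * extFun H ι s s' g₂ := by
    intro g₁ g₂
    rcases hform g₁ with h1 | ⟨a, ha, rfl⟩ <;> rcases hform g₂ with h2 | ⟨b, hb, rfl⟩
    · rw [extFun_mem ι s s' h1, extFun_mem ι s s' h2, extFun_mem ι s s' (H.mul_mem h1 h2)]
      exact hι _ _ h1 h2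
    · have e1 : g₁ * (b * s) = (g₁ * b) * s := by group
      rw [e1, extFun_mul_s ι s s' hs (H.mul_mem h1 hb), extFun_mul_s ι s s' hs hb,
        extFun_mem ι s s' h1, hι _ _ h1 hb, mul_assoc]
    · have hm := hnorm g₂ h2
      have e1 : a * s * g₂ = (a * (s * g₂ * s⁻¹)) * s := by group
      rw [e1, extFun_mul_s ι s s' hs (H.mul_mem ha hm), extFun_mul_s ι s s' hs ha,
        extFun_mem ι s s' h2, hι _ _ ha hm, hconj g₂ h2 hm]
      group
    · have hm := hnorm b hb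
      have e1 : a * s * (b * s) = a * (s * b * s⁻¹) * (s * s) := by group
      have hmem : a * (s * b * s⁻¹) * (s * s) ∈ H := H.mul_mem (H.mul_mem ha hm) hs2
      rw [e1, extFun_mem ι s s' hmem, extFun_mul_s ι s s' hs ha, extFun_mul_s ι s s' hs hb,
        hι _ _ (H.mul_mem ha hm) hs2, hι _ _ ha hm, hconj b hb hm, hsq]
      group
  refine ⟨MonoidHom.mk' (extFun H ι s s') hmul, ?_, ?_⟩
  · intro h hh
    exact extFun_mem ι s s' hh
  · have h1 : (1 : L) ∈ H := H.one_mem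
    have := extFun_mul_s ι s s' hs h1
    rw [one_mul] at this
    show extFun H ι s s' s = s'
    rw [this]
    have : ι ⟨1, h1⟩ = 1 := map_one ι
    rw [this, one_mul]

/-- The extension is injective when `ι` is injective and `s'` lies outside the image of `ι`. -/
theorem injective_of (H : Subgroup L) (ι : H →* L') (s : L) (s' : L')
    (hcov : ∀ g : L, g ∈ H ∨ g * s⁻¹ ∈ H) (Ψ : L →* L')
    (hΨ : ∀ (h : L) (hh : h ∈ H), Ψ h = ι ⟨h, hh⟩) (hΨs : Ψ s = s')
    (hinj : Function.Injective ι) (hs' : s' ∉ ι.range) : Function.Injective Ψ := by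
  rw [injective_iff_map_eq_one]
  intro g hg
  rcases hcov g with h | h
  · rw [hΨ g h] at hg
    have := hinj (hg.trans (map_one ι).symm)
    exact congrArg Subtype.val this
  · exfalso
    apply hs'
    have e1 : g = (g * s⁻¹) * s := by group
    rw [e1, map_mul, hΨ _ h, hΨs] at hg
    refine ⟨⟨g * s⁻¹, h⟩⁻¹, ?_⟩
    rw [map_inv]
    exact inv_eq_of_mul_eq_one_right hg

end Cfsg.Agent.Helper4.Ext2
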