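import Mathlib
import Cfsg.Agent.Lib.Helper4.Ext2
import Cfsg.Agent.Lib.Helper16.SL23Recog

/-!
# Recognition of `GL(2,3)` (helper4)

A group of order `48` generated by `x, y, c` subject to the relations of `SL(2,3)`
(`Cfsg.Agent.Helper16.SL23.Rel`) and an involution `s` with `s x s⁻¹ = y⁻¹`, `s y s⁻¹ = x⁻¹`,
`s c s⁻¹ = c⁻¹` is isomorphic to `GL(2,3)`.
-/

set_option autoImplicit false

namespace Cfsg.Agent.Helper4.BinOct

open QuaternionGroup Cfsg.Agent.Helper16 Matrix

/-- the reflection -/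
def matS : GL (Fin 2) (ZMod 3) :=
  ⟨!![1, -1; 0, -1], !![1, -1; 0, -1], by decide +kernel, by decide +kernel⟩

theorem matS_mul_self : matS * matS = 1 := by
  apply Units.ext
  show (!![1, -1; 0, -1] * !![1, -1; 0, -1] : Matrix (Fin 2) (Fin 2) (ZMod 3)) = 1
  decide +kernel

theorem matS_inv : matS⁻¹ = matS := inv_eq_of_mul_eq_one_right matS_mul_self

theorem matS_A : matS * SpecialLinearGroup.toGL SL23.matA * matS⁻¹ =
    (SpecialLinearGroup.toGL SL23.matB)⁻¹ := by
  rw [matS_inv, ← map_inv]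
  apply Units.ext
  show (!![1, -1; 0, -1] * (SL23.matA : Matrix (Fin 2) (Fin 2) (ZMod 3)) * !![1, -1; 0, -1] :
    Matrix (Fin 2) (Fin 2) (ZMod 3)) = ((SL23.matB⁻¹ : SpecialLinearGroup (Fin 2) (ZMod 3)) :
      Matrix (Fin 2) (Fin 2) (ZMod 3))
  decide +kernel

theorem matS_B : matS * SpecialLinearGroup.toGL SL23.matB * matS⁻¹ =
    (SpecialLinearGroup.toGL SL23.matA)⁻¹ := by
  rw [matS_inv, ← map_inv]
  apply Units.ext
  show (!![1, -1; 0, -1] * (SL23.matB : Matrix (Fin 2) (Fin 2) (ZMod 3)) * !![1, -1; 0, -1] :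
    Matrix (Fin 2) (Fin 2) (ZMod 3)) = ((SL23.matA⁻¹ : SpecialLinearGroup (Fin 2) (ZMod 3)) :
      Matrix (Fin 2) (Fin 2) (ZMod 3))
  decide +kernel

theorem matS_C : matS * SpecialLinearGroup.toGL SL23.matC * matS⁻¹ =
    (SpecialLinearGroup.toGL SL23.matC)⁻¹ := by
  rw [matS_inv, ← map_inv]
  apply Units.ext
  show (!![1, -1; 0, -1] * (SL23.matC : Matrix (Fin 2) (Fin 2) (ZMod 3)) * !![1, -1; 0, -1] :
    Matrix (Fin 2) (Fin 2) (ZMod 3)) = ((SL23.matC⁻¹ : SpecialLinearGroup (Fin 2) (ZMod 3)) :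
      Matrix (Fin 2) (Fin 2) (ZMod 3))
  decide +kernel

theorem matS_det : Matrix.GeneralLinearGroup.det matS ≠ 1 := by
  intro h
  have h1 := congrArg Units.val h
  rw [Matrix.GeneralLinearGroup.val_det_apply] at h1
  revert h1
  show ¬ (Matrix.det (!![1, -1; 0, -1] : Matrix (Fin 2) (Fin 2) (ZMod 3)) = 1)
  decide +kernel

theorem card_GL23 : Nat.card (GL (Fin 2) (ZMod 3)) = 48 := by
  rw [Matrix.card_GL_field, Fin.prod_univ_two, ZMod.card]
  norm_num

section

variable {X : Type*} [Group X] {x y c s : X} (h : SL23.Rel x y c)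

theorem hom_inl (q : QuaternionGroup 2) : h.hom (SemidirectProduct.inl q) = h.fn q := by
  rw [SL23.Rel.hom, SemidirectProduct.lift_inl]

theorem hom_inr_one : h.hom (SemidirectProduct.inr (Multiplicative.ofAdd 1)) = c := by
  rw [SL23.Rel.hom, SemidirectProduct.lift_inr]
  show c ^ (1 : ZMod 3).val = c
  have : (1 : ZMod 3).val = 1 := rfl
  rw [this, pow_one]

/-- an element inverting `c` lies outside the subgroup `⟨x, y, c⟩` -/
theorem not_mem_range (hsc : s * c * s⁻¹ = c⁻¹) : s ∉ h.hom.range := by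
  rintro ⟨m, hm⟩
  have hct := hom_inr_one h
  have h1 : h.hom (m * SemidirectProduct.inr (Multiplicative.ofAdd 1) * m⁻¹) =
      h.hom (SemidirectProduct.inr (Multiplicative.ofAdd 1))⁻¹ := by
    rw [map_mul, map_mul, map_inv, map_inv, hm, hct, hsc]
  have h2 := h.hom_injective h1
  have h3 := congrArg SemidirectProduct.rightHom h2
  rw [map_mul, map_mul, map_inv, map_inv, SemidirectProduct.rightHom_inr] at h3
  have h4 : Multiplicative.ofAdd (1 : ZMod 3) = (Multiplicative.ofAdd (1 : ZMod 3))⁻¹ := by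
    rw [← h3, mul_comm, inv_mul_cancel_left]
  revert h4
  decide

/-- induction on the model of `SL(2,3)` -/
theorem model_induction (P : SL23.Model → Prop) (h1 : P 1)
    (hmul : ∀ m m', P m → P m' → P (m * m'))
    (hA : P (SemidirectProduct.inl (a 1))) (hB : P (SemidirectProduct.inl (xa 0)))
    (hC : P (SemidirectProduct.inr (Multiplicative.ofAdd 1))) : ∀ m, P m := by
  have hpow : ∀ (m : SL23.Model) (k : ℕ), P m → P (m ^ k) := by
    intro m k hm
    induction k with
    | zero => rw [pow_zero]; exact h1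
    | succ k ih => rw [pow_succ]; exact hmul _ _ ih hm
  have hai : ∀ i : ZMod (2 * 2), P (SemidirectProduct.inl (a i)) := by
    intro i
    have : (SemidirectProduct.inl (a i) : SL23.Model) = (SemidirectProduct.inl (a 1)) ^ i.val := by
      rw [← map_pow, a_one_pow, ZMod.natCast_zmod_val]
    rw [this]
    exact hpow _ _ hA
  intro m
  rw [← SemidirectProduct.inl_left_mul_inr_right m]
  apply hmul
  · rcases m.left with i | i
    · exact hai i
    · have : (xa i : QuaternionGroup 2) = xa 0 * a i := by rw [xa_mul_a, zero_add]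
      rw [this, map_mul]
      exact hmul _ _ hB (hai i)
  · have : m.right = (Multiplicative.ofAdd (1 : ZMod 3)) ^ (Multiplicative.toAdd m.right).val := by
      rw [← ofAdd_nsmul, nsmul_one, ZMod.natCast_zmod_val]
      rfl
    rw [this, map_pow]
    exact hpow _ _ hC

end

section

variable {X : Type*} [Group X] [Finite X] {x y c s : X} (h : SL23.Rel x y c)

theorem index_range (hcard : Nat.card X = 48) : h.hom.range.index = 2 := by
  have h1 := Subgroup.card_mul_index h.hom.range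
  rw [h.card_range, hcard] at h1
  omega

theorem cover (hcard : Nat.card X = 48) (hsc : s * c * s⁻¹ = c⁻¹) (g : X) :
    g ∈ h.hom.range ∨ g * s⁻¹ ∈ h.hom.range := by
  by_cases hg : g ∈ h.hom.range
  · exact Or.inl hg
  · right
    rw [Subgroup.mul_mem_iff_of_index_two (index_range h hcard)]
    constructor
    · intro h1; exact (hg h1).elim
    · intro h1
      exact (not_mem_range h hsc (by simpa using h.hom.range.inv_mem h1)).elim

/-- the embedding of `⟨x, y, c⟩` into `GL(2,3)` -/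
noncomputable def iotaGL : h.hom.range →* GL (Fin 2) (ZMod 3) :=
  (SpecialLinearGroup.toGL.comp SL23.rel_SL23.hom).comp
    (MonoidHom.ofInjective h.hom_injective).symm.toMonoidHom

theorem iotaGL_apply (m : SL23.Model) (hm : h.hom m ∈ h.hom.range) :
    iotaGL h ⟨h.hom m, hm⟩ = SpecialLinearGroup.toGL (SL23.rel_SL23.hom m) := by
  have : (MonoidHom.ofInjective h.hom_injective).symm ⟨h.hom m, hm⟩ = m := by
    rw [MulEquiv.symm_apply_eq]
    exact Subtype.ext rfl
  show SpecialLinearGroup.toGL (SL23.rel_SL23.hom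
    ((MonoidHom.ofInjective h.hom_injective).symm ⟨h.hom m, hm⟩)) = _
  rw [this]

theorem iotaGL_injective : Function.Injective (iotaGL h) := by
  intro u v huv
  have h1 := SL23.rel_SL23.hom_injective (SpecialLinearGroup.toGL_injective huv)
  exact (MonoidHom.ofInjective h.hom_injective).symm.injective h1

theorem conj_compat (hsx : s * x * s⁻¹ = y⁻¹) (hsy : s * y * s⁻¹ = x⁻¹)
    (hsc : s * c * s⁻¹ = c⁻¹) (m : SL23.Model) :
    ∃ m' : SL23.Model, s * h.hom m * s⁻¹ = h.hom m' ∧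
      matS * SpecialLinearGroup.toGL (SL23.rel_SL23.hom m) * matS⁻¹ =
        SpecialLinearGroup.toGL (SL23.rel_SL23.hom m') := by
  revert m
  apply model_induction
  · exact ⟨1, by rw [map_one]; group, by rw [map_one, map_one]; group⟩
  · rintro m₁ m₂ ⟨m₁', h1, h2⟩ ⟨m₂', h3, h4⟩
    refine ⟨m₁' * m₂', ?_, ?_⟩
    · rw [map_mul, map_mul, ← h1, ← h3]; group
    · rw [map_mul, map_mul, map_mul, map_mul, ← h2, ← h4]; group
  · refine ⟨(SemidirectProduct.inl (xa 0))⁻¹, ?_, ?_⟩
    · rw [map_inv, hom_inl, hom_inl, h.fn_a_one, h.fn_xa_zero, hsx]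
    · rw [map_inv, hom_inl, hom_inl, SL23.rel_SL23.fn_a_one, SL23.rel_SL23.fn_xa_zero, map_inv]
      exact matS_A
  · refine ⟨(SemidirectProduct.inl (a 1))⁻¹, ?_, ?_⟩
    · rw [map_inv, hom_inl, hom_inl, h.fn_a_one, h.fn_xa_zero, hsy]
    · rw [map_inv, hom_inl, hom_inl, SL23.rel_SL23.fn_a_one, SL23.rel_SL23.fn_xa_zero, map_inv]
      exact matS_B
  · refine ⟨(SemidirectProduct.inr (Multiplicative.ofAdd 1))⁻¹, ?_, ?_⟩
    · rw [map_inv, hom_inr_one, hsc]
    · rw [map_inv, hom_inr_one, map_inv]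
      exact matS_C

include h in
/-- **Recognition of `GL(2,3)`.** -/
theorem nonempty_mulEquiv_GL23 (hcard : Nat.card X = 48) (hsx : s * x * s⁻¹ = y⁻¹)
    (hsy : s * y * s⁻¹ = x⁻¹) (hsc : s * c * s⁻¹ = c⁻¹) (hss : s * s = 1) :
    Nonempty (X ≃* GL (Fin 2) (ZMod 3)) := by
  have hs := not_mem_range h hsc
  have hcov := cover h hcard hsc
  have hnorm : ∀ g : X, g ∈ h.hom.range → s * g * s⁻¹ ∈ h.hom.range := by
    intro g hg
    obtain ⟨m, hmg⟩ := MonoidHom.mem_range.mp hg
    subst hmg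
    obtain ⟨m', h1, _⟩ := conj_compat h hsx hsy hsc m
    exact MonoidHom.mem_range.mpr ⟨m', h1.symm⟩
  have hconj : ∀ (g : X) (hh : g ∈ h.hom.range) (hm : s * g * s⁻¹ ∈ h.hom.range),
      iotaGL h ⟨s * g * s⁻¹, hm⟩ = matS * iotaGL h ⟨g, hh⟩ * matS⁻¹ := by
    intro g hh hm
    obtain ⟨m, hmg⟩ := MonoidHom.mem_range.mp hh
    subst hmg
    obtain ⟨m', h1, h2⟩ := conj_compat h hsx hsy hsc m
    have hm' : h.hom m' ∈ h.hom.range := MonoidHom.mem_range.mpr ⟨m', rfl⟩
    have h3 : (⟨s * h.hom m * s⁻¹, hm⟩ : h.hom.range) = ⟨h.hom m', hm'⟩ := Subtype.ext h1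
    rw [h3, iotaGL_apply h m' hm', iotaGL_apply h m hh, h2]
  have hs2 : s * s ∈ h.hom.range := by rw [hss]; exact Subgroup.one_mem _
  have hsq : iotaGL h ⟨s * s, hs2⟩ = matS * matS := by
    have h3 : (⟨s * s, hs2⟩ : h.hom.range) = 1 := Subtype.ext hss
    rw [h3, map_one, matS_mul_self]
  obtain ⟨Ψ, hΨ, hΨs⟩ := Ext2.exists_hom h.hom.range (iotaGL h) s matS hs hcov hnorm hconj hs2 hsq
  have hs' : matS ∉ (iotaGL h).range := by
    rintro ⟨⟨g, hg⟩, hu⟩
    obtain ⟨m, hmg⟩ := MonoidHom.mem_range.mp hg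
    subst hmg
    rw [iotaGL_apply h m hg] at hu
    apply matS_det
    rw [← hu]
    exact SpecialLinearGroup.coeToGL_det _
  have hinj := Ext2.injective_of h.hom.range (iotaGL h) s matS hcov Ψ hΨ hΨs (iotaGL_injective h)
    hs'
  have : Finite (GL (Fin 2) (ZMod 3)) := Nat.finite_of_card_ne_zero (by rw [card_GL23]; norm_num)
  have hbij : Function.Bijective Ψ := by
    rw [Nat.bijective_iff_injective_and_card]
    exact ⟨hinj, by rw [hcard, card_GL23]⟩
  exact ⟨MulEquiv.ofBijective Ψ hbij⟩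

end

end Cfsg.Agent.Helper4.BinOct
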