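import Mathlib
import Cfsg.Agent.Lib.Helper4.BinOctC
import Cfsg.Agent.Lib.Helper4.BinOctGL
import Cfsg.Agent.Lib.Helper16.UniqueInvolution

/-!
# The binary octahedral group (helper4)

A group of order `48` generated by `x, y, c` subject to the relations of `SL(2,3)` and an element
`s` with `s ^ 2 = x ^ 2`, `s x s⁻¹ = y⁻¹`, `s y s⁻¹ = x⁻¹`, `s c s⁻¹ = c⁻¹` has a unique
involution, and its Sylow `2`-subgroups are generalized quaternion of order `16`.
-/

set_option autoImplicit false

namespace Cfsg.Agent.Helper4.BinOct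

open QuaternionGroup Cfsg.Agent.S3742 Cfsg.Agent.Helper16

theorem bo_key : ∀ q : Q, q * f (xa 2) (a 3) q * a 2 ≠ 1 ∧
    q * SL23.alphaFun (f (xa 2) (a 3) q) * a 2 ≠ 1 ∧
    q * SL23.alphaFun (SL23.alphaFun (f (xa 2) (a 3) q)) * a 2 ≠ 1 := by
  decide +kernel

theorem zmod3_sq : ∀ k : Multiplicative (ZMod 3), k * k = 1 → k = 1 := by decide

section

variable {X : Type*} [Group X] {x y c s : X} (h : SL23.Rel x y c)

theorem fn_a_two : h.fn (a 2) = x ^ 2 := by
  have : (a 2 : QuaternionGroup 2) = a 1 ^ 2 := by rw [a_one_pow]; rfl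
  rw [this, map_pow, h.fn_a_one]

theorem hom_eq (m : SL23.Model) :
    h.hom m = h.fn m.left * c ^ (Multiplicative.toAdd m.right).val := by
  conv_lhs => rw [← SemidirectProduct.inl_left_mul_inr_right m]
  rw [map_mul, hom_inl, SL23.Rel.hom, SemidirectProduct.lift_inr]
  rfl

/-- conjugation by `s` on the quaternion subgroup -/
theorem conj_fn (hsx : s * x * s⁻¹ = y⁻¹) (hsy : s * y * s⁻¹ = x⁻¹) (q : QuaternionGroup 2) :
    s * h.fn q * s⁻¹ = h.fn (betaAut q) := by
  have hx4 : x ^ 4 = 1 := h.x_pow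
  have key : (MulAut.conj s).toMonoidHom.comp h.fn = h.fn.comp betaAut.toMonoidHom := by
    apply SL23.quaternion_hom_ext
    · show s * h.fn (a 1) * s⁻¹ = h.fn (betaAut (a 1))
      rw [h.fn_a_one, hsx, betaAut_apply]
      show y⁻¹ = h.fn (xa 2)
      show y⁻¹ = y * Cfsg.Agent.Helper3.zmodPow x (2 : ZMod (2 * 2))
      unfold Cfsg.Agent.Helper3.zmodPow
      have h2 : (2 : ZMod (2 * 2)).val = 2 := rfl
      rw [h2, ← h.hy, inv_eq_iff_mul_eq_one, ← pow_succ', ← pow_succ']
      have : y ^ (2 + 1 + 1) = (y ^ 2) ^ 2 := by rw [← pow_mul]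
      rw [this, h.hy, ← pow_mul]
      exact hx4
    · show s * h.fn (xa 0) * s⁻¹ = h.fn (betaAut (xa 0))
      rw [h.fn_xa_zero, hsy, betaAut_apply]
      show x⁻¹ = h.fn (a 3)
      show x⁻¹ = Cfsg.Agent.Helper3.zmodPow x (3 : ZMod (2 * 2))
      unfold Cfsg.Agent.Helper3.zmodPow
      have h2 : (3 : ZMod (2 * 2)).val = 3 := rfl
      rw [h2, inv_eq_iff_mul_eq_one, ← pow_succ']
      exact hx4
  exact DFunLike.congr_fun key q

/-- the square of an element outside `⟨x, y, c⟩` -/
theorem sq_outside (hsx : s * x * s⁻¹ = y⁻¹) (hsy : s * y * s⁻¹ = x⁻¹)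
    (hsc : s * c * s⁻¹ = c⁻¹) (hss : s * s = x ^ 2) (q : QuaternionGroup 2) (j : ℕ) :
    (h.fn q * c ^ j * s) * (h.fn q * c ^ j * s) =
      h.fn (q * (SL23.alpha ^ j) (betaAut q) * a 2) := by
  have h1 : s * c ^ j * s⁻¹ = (c ^ j)⁻¹ := by
    rw [← conj_pow, hsc, inv_pow]
  have h2 : s * (h.fn q * c ^ j) * s⁻¹ = h.fn (betaAut q) * (c ^ j)⁻¹ := by
    rw [← conj_fn h hsx hsy q, ← h1]; group
  rw [map_mul, map_mul, h.fn_alpha_pow, fn_a_two, ← hss]
  calc (h.fn q * c ^ j * s) * (h.fn q * c ^ j * s)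
      = h.fn q * c ^ j * (s * (h.fn q * c ^ j) * s⁻¹) * (s * s) := by group
    _ = h.fn q * (c ^ j * h.fn (betaAut q) * (c ^ j)⁻¹) * (s * s) := by rw [h2]; group

end

section

variable {X : Type*} [Group X] [Finite X] {x y c s : X} (h : SL23.Rel x y c)

include h in
/-- the unique involution -/
theorem involution_unique (hcard : Nat.card X = 48) (hsx : s * x * s⁻¹ = y⁻¹)
    (hsy : s * y * s⁻¹ = x⁻¹) (hsc : s * c * s⁻¹ = c⁻¹) (hss : s * s = x ^ 2) (g : X)
    (hg : g * g = 1) : g = 1 ∨ g = x ^ 2 := by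
  rcases cover h hcard hsc g with hmem | hmem
  · obtain ⟨m, rfl⟩ := MonoidHom.mem_range.mp hmem
    have h1 : m * m = 1 := by
      apply h.hom_injective
      rw [map_mul, hg, map_one]
    have h2 : m.right = 1 := by
      apply zmod3_sq
      have := congrArg SemidirectProduct.right h1
      rwa [SemidirectProduct.mul_right, SemidirectProduct.one_right] at this
    have h3 : m.left * m.left = 1 := by
      have := congrArg SemidirectProduct.left h1
      rwa [SemidirectProduct.mul_left, SemidirectProduct.one_left, h2, map_one,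
        MulAut.one_apply] at this
    rw [hom_eq, h2]
    have h4 : (Multiplicative.toAdd (1 : Multiplicative (ZMod 3))).val = 0 := rfl
    rw [h4, pow_zero, mul_one]
    rcases sq_eq_one _ h3 with h5 | h5
    · left; rw [h5, map_one]
    · right; rw [h5, fn_a_two]
  · exfalso
    obtain ⟨m, hm⟩ := MonoidHom.mem_range.mp hmem
    have hgm : g = h.hom m * s := by rw [hm]; group
    rw [hom_eq] at hgm
    set q := m.left with hq
    set j := (Multiplicative.toAdd m.right).val with hj
    have hj3 : j < 3 := ZMod.val_lt _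
    have h1 := sq_outside h hsx hsy hsc hss q j
    rw [← hgm, hg] at h1
    have h2 : q * (SL23.alpha ^ j) (betaAut q) * a 2 = 1 := by
      apply h.fn_injective
      rw [← h1, map_one]
    obtain ⟨k0, k1, k2⟩ := bo_key q
    interval_cases j
    · apply k0
      rw [← h2, pow_zero, MulAut.one_apply, betaAut_apply]
    · apply k1
      rw [← h2, pow_one, SL23.alpha_apply, betaAut_apply]
    · apply k2
      rw [← h2, pow_two, MulAut.mul_apply, SL23.alpha_apply, SL23.alpha_apply, betaAut_apply]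

include h in
/-- the Sylow `2`-subgroups are generalized quaternion of order `16` -/
theorem sylow_quaternion (hcard : Nat.card X = 48) (hsx : s * x * s⁻¹ = y⁻¹)
    (hsy : s * y * s⁻¹ = x⁻¹) (hsc : s * c * s⁻¹ = c⁻¹) (hss : s * s = x ^ 2)
    (P : Sylow 2 X) (hxP : x ∈ P) (hyP : y ∈ P) :
    Nonempty (↥(P : Subgroup X) ≃* QuaternionGroup 4) := by
  have hF : Fact (Nat.Prime 2) := ⟨Nat.prime_two⟩
  have hinv := involution_unique h hcard hsx hsy hsc hss
  have hu : UniqueOrderP 2 ↥(P : Subgroup X) := by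
    have key : ∀ u : ↥(P : Subgroup X), orderOf u = 2 → (u : X) = x ^ 2 := by
      intro u hu
      have h1 : (u : X) * (u : X) = 1 := by
        have : u ^ 2 = 1 := by
          have h0 := pow_orderOf_eq_one u
          rwa [hu] at h0
        rw [← pow_two]
        exact_mod_cast congrArg Subtype.val this
      rcases hinv _ h1 with h2 | h2
      · exfalso
        have : u = 1 := Subtype.ext h2
        rw [this, orderOf_one] at hu
        norm_num at hu
      · exact h2
    intro u v hu hv
    have : u = v := Subtype.ext ((key u hu).trans (key v hv).symm)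
    rw [this]
    exact Subgroup.mem_zpowers _
  have hP16 : Nat.card (P : Subgroup X) = 16 := by
    obtain ⟨k, hk⟩ := IsPGroup.iff_card.mp P.isPGroup'
    have h1 : 2 ^ 4 ∣ Nat.card (P : Subgroup X) :=
      P.pow_dvd_card_of_pow_dvd_card (by rw [hcard]; norm_num)
    have h2 : Nat.card (P : Subgroup X) ∣ 48 := by
      rw [← hcard]; exact Subgroup.card_subgroup_dvd_card _
    have h3 : k ≤ 4 := by
      by_contra hcon
      push_neg at hcon
      have : 2 ^ 5 ∣ 48 := (pow_dvd_pow 2 hcon).trans (hk ▸ h2)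
      norm_num at this
    have h4 : 4 ≤ k := by
      rw [hk] at h1
      exact (Nat.pow_dvd_pow_iff_le_right (by norm_num)).mp h1
    have : k = 4 := le_antisymm h3 h4
    rw [hk, this]; norm_num
  rcases cyclic_or_quaternion_of_uniqueOrderP_two P.isPGroup' hu with hcyc | ⟨n, ⟨e⟩⟩
  · exfalso
    have hc : IsMulCommutative ↥(P : Subgroup X) := IsCyclic.isMulCommutative
    have h1 := hc.is_comm.comm (⟨y, hyP⟩ : ↥(P : Subgroup X)) ⟨x, hxP⟩
    have h2 : y * x = x * y := congrArg Subtype.val h1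
    have h3 : x = x⁻¹ := by
      rw [← h.hyx, h2]; group
    have h4 : x ^ 2 = 1 := by
      rw [pow_two]
      nth_rewrite 1 [h3]
      exact inv_mul_cancel x
    have h5 := orderOf_dvd_of_pow_eq_one h4
    rw [h.hxo] at h5
    norm_num at h5
  · have hc : Nat.card (QuaternionGroup (2 ^ n)) = 16 := by
      rw [← Nat.card_congr e.toEquiv, hP16]
    rw [Nat.card_eq_fintype_card, QuaternionGroup.card] at hc
    have hn : n = 2 := by
      have h1 : 2 ^ n = 2 ^ 2 := by omega
      exact Nat.pow_right_injective (le_refl 2) h1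
    subst hn
    exact ⟨e⟩

end

end Cfsg.Agent.Helper4.BinOct
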