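import Mathlib
import Cfsg.Prelude.Def_PLocal
import Cfsg.Prelude.Def_Local
import Cfsg.Agent.Lib.Helper4.OffThompson

/-!
# Coprime operators on a `p`-solvable group: transport lemmas (helper4)
-/

set_option autoImplicit false
set_option linter.unusedSectionVars false
set_option linter.unusedVariables false
set_option linter.style.haveILetI false

namespace Cfsg.Agent.Helper4.COP

open scoped commutatorElement Pointwise
open Cfsg

variable {P : Type*} [Group P]

/-- the subgroup generated by the `Ω₁(Z(S))` for the Sylow `p`-subgroups `S` -/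
def ZO (p : ℕ) (P : Type*) [Group P] : Subgroup P :=
  ⨆ S : Sylow p P, Cfsg.omegaOne p
    ((S : Subgroup P) ⊓ Subgroup.centralizer ((S : Subgroup P) : Set P))

theorem ZO_def (p : ℕ) (P : Type*) [Group P] : ZO p P = ⨆ S : Sylow p P, Cfsg.omegaOne p
    ((S : Subgroup P) ⊓ Subgroup.centralizer ((S : Subgroup P) : Set P)) := rfl

theorem map_zOmega_le {p : ℕ} (φ : MulAut P) (S : Sylow p P) :
    (Cfsg.omegaOne p ((S : Subgroup P) ⊓
      Subgroup.centralizer ((S : Subgroup P) : Set P))).map φ.toMonoidHom ≤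
    Cfsg.omegaOne p (((φ • S : Sylow p P) : Subgroup P) ⊓
      Subgroup.centralizer (((φ • S : Sylow p P) : Subgroup P) : Set P)) := by
  unfold Cfsg.omegaOne
  rw [MonoidHom.map_closure, Subgroup.closure_le]
  rintro _ ⟨x, ⟨⟨hxS, hxC⟩, hxp⟩, rfl⟩
  apply Subgroup.subset_closure
  have hmem : ∀ y, y ∈ ((φ • S : Sylow p P) : Subgroup P) ↔ φ⁻¹ y ∈ (S : Subgroup P) := by
    intro y
    rw [Sylow.pointwise_smul_def, Subgroup.mem_pointwise_smul_iff_inv_smul_mem]
    rfl
  refine ⟨⟨?_, ?_⟩, ?_⟩
  · apply (hmem _).mpr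
    show φ⁻¹ (φ x) ∈ (S : Subgroup P)
    rw [MulAut.inv_apply_self]; exact hxS
  · show φ x ∈ Subgroup.centralizer (((φ • S : Sylow p P) : Subgroup P) : Set P)
    rw [Subgroup.mem_centralizer_iff]
    intro y hy
    have hy' := (hmem y).mp hy
    have := Subgroup.mem_centralizer_iff.mp hxC _ hy'
    show y * φ x = φ x * y
    have h2 := congrArg φ this
    rw [map_mul, map_mul, MulAut.apply_inv_self] at h2
    exact h2
  · show (φ x) ^ p = 1
    rw [← map_pow, hxp, map_one]

instance ZO_characteristic (p : ℕ) : (ZO p P).Characteristic := by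
  rw [Subgroup.characteristic_iff_map_le]
  intro φ
  unfold ZO
  rw [Subgroup.map_iSup]
  apply iSup_le
  intro S
  exact (map_zOmega_le φ S).trans
    (le_iSup (fun S : Sylow p P => Cfsg.omegaOne p
      ((S : Subgroup P) ⊓ Subgroup.centralizer ((S : Subgroup P) : Set P))) (φ • S))

variable {Γ : Type*} [Group Γ]

/-- conjugation by an element of the big group, as an automorphism of the normal subgroup -/
theorem exists_conjAut (ι : P →* Γ) (hι : Function.Injective ι) (hN : ι.range.Normal) (g : Γ) :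
    ∃ φ : P ≃* P, ∀ k, ι (φ k) = g * ι k * g⁻¹ := by
  haveI := hN
  refine ⟨(MonoidHom.ofInjective hι).trans
    ((MulAut.conjNormal g : MulAut ι.range).trans (MonoidHom.ofInjective hι).symm), ?_⟩
  intro k
  have h1 : ∀ y : ι.range, ι ((MonoidHom.ofInjective hι).symm y) = (y : Γ) := by
    intro y
    have := MonoidHom.ofInjective_apply hι (x := (MonoidHom.ofInjective hι).symm y)
    rw [MulEquiv.apply_symm_apply] at this
    exact this.symm
  rw [MulEquiv.trans_apply, MulEquiv.trans_apply, h1, MulAut.conjNormal_apply,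
    MonoidHom.ofInjective_apply]

/-- the image of a characteristic subgroup of a normal subgroup is normal -/
theorem map_normal_of_characteristic (ι : P →* Γ) (hι : Function.Injective ι)
    (hN : ι.range.Normal) (C : Subgroup P) [hC : C.Characteristic] : (C.map ι).Normal := by
  constructor
  rintro _ ⟨c, hc, rfl⟩ g
  obtain ⟨φ, hφ⟩ := exists_conjAut ι hι hN g
  rw [← hφ]
  refine ⟨φ c, ?_, rfl⟩
  have := Subgroup.characteristic_iff_map_eq.mp hC φ
  rw [← this]
  exact ⟨c, hc, rfl⟩

theorem map_centralizer_le (ι : P →* Γ) (A : Subgroup P) :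
    (Subgroup.centralizer (A : Set P)).map ι ≤ Subgroup.centralizer ((A.map ι : Subgroup Γ) : Set Γ) := by
  rintro _ ⟨c, hc, rfl⟩
  rw [Subgroup.mem_centralizer_iff]
  rintro _ ⟨a, ha, rfl⟩
  rw [← map_mul, ← map_mul, Subgroup.mem_centralizer_iff.mp hc a ha]

theorem map_inf_centralizer (ι : P →* Γ) (hι : Function.Injective ι) (U B : Subgroup P) :
    U.map ι ⊓ Subgroup.centralizer ((B.map ι : Subgroup Γ) : Set Γ) =
      (U ⊓ Subgroup.centralizer (B : Set P)).map ι := by
  apply le_antisymm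
  · rintro _ ⟨⟨u, hu, rfl⟩, hc⟩
    refine ⟨u, ⟨hu, ?_⟩, rfl⟩
    show u ∈ Subgroup.centralizer (B : Set P)
    rw [Subgroup.mem_centralizer_iff]
    intro b hb
    apply hι
    rw [map_mul, map_mul]
    exact Subgroup.mem_centralizer_iff.mp hc _ ⟨b, hb, rfl⟩
  · rw [Subgroup.map_inf _ _ ι hι]
    exact inf_le_inf_left _ (map_centralizer_le ι B)

/-- best offenders are carried to best offenders by injective homomorphisms -/
theorem isBestOffenderOn_map_injective [Finite P] {p : ℕ} (ι : P →* Γ)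
    (hι : Function.Injective ι) {U A : Subgroup P} (hA : Cfsg.IsBestOffenderOn p U A) :
    Cfsg.IsBestOffenderOn p (U.map ι) (A.map ι) := by
  obtain ⟨h1, h2, h3⟩ := hA
  refine ⟨?_, ?_, ?_⟩
  · intro B hB
    obtain ⟨B₀, hB₀⟩ : ∃ B₀ : Subgroup P, B₀ = B.comap ι := ⟨_, rfl⟩
    have hB₀A : B₀ ≤ A := by
      intro b hb
      rw [hB₀] at hb
      obtain ⟨a, ha, hab⟩ := hB hb
      rwa [← hι hab]
    have hBmap : B₀.map ι = B := by
      rw [hB₀]
      apply Subgroup.map_comap_eq_self
      intro y hy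
      obtain ⟨a, -, rfl⟩ := hB hy
      exact ⟨a, rfl⟩
    rw [← hBmap, map_inf_centralizer ι hι, map_inf_centralizer ι hι,
      Subgroup.card_map_of_injective hι, Subgroup.card_map_of_injective hι,
      Subgroup.card_map_of_injective hι, Subgroup.card_map_of_injective hι]
    exact h1 B₀ hB₀A
  · rw [← Subgroup.map_commutator]
    exact (Subgroup.map_mono h2).trans (map_centralizer_le ι U)
  · rintro _ ⟨a, ha, rfl⟩
    rw [← map_pow]
    exact map_centralizer_le ι U ⟨_, h3 a ha, rfl⟩

theorem isElementaryAbelian_map {p : ℕ} (ι : P →* Γ) {U : Subgroup P}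
    (hU : IsElementaryAbelian p U) : IsElementaryAbelian p (U.map ι) := by
  refine ⟨⟨⟨?_⟩⟩, ?_⟩
  · rintro ⟨_, a, ha, rfl⟩ ⟨_, b, hb, rfl⟩
    apply Subtype.ext
    show ι a * ι b = ι b * ι a
    rw [← map_mul, ← map_mul]
    have := hU.1.is_comm.comm ⟨a, ha⟩ ⟨b, hb⟩
    exact congrArg ι (congrArg Subtype.val this)
  · rintro _ ⟨a, ha, rfl⟩
    rw [← map_pow, hU.2 a ha, map_one]

/-- `C_H(O_{p'}(H)) ≤ O_{p'}(H)` for the image `H` of a normal subgroup under a homomorphism whose
kernel has quotient with trivial `O_p` -/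
theorem selfCent_map_hom [Finite P] {p : ℕ} [hp : Fact p.Prime] {Q : Type*} [Group Q]
    (f : P →* Q) (hsep : IsPSolvable p P) (hOp : pCore p (P ⧸ f.ker) = ⊥)
    (J : Subgroup P) [hJn : J.Normal] :
    Subgroup.centralizer (pPrimeCore p ↥(J.map f) : Set ↥(J.map f)) ≤
      pPrimeCore p ↥(J.map f) := by
  obtain ⟨M, hM⟩ : ∃ M : Subgroup (P ⧸ f.ker), M = J.map (QuotientGroup.mk' f.ker) := ⟨_, rfl⟩
  haveI hMn : M.Normal := by
    rw [hM]
    exact Subgroup.Normal.map hJn _ (QuotientGroup.mk'_surjective _)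
  have h1 : IsPSolvable p ↥M :=
    Helper23.PSolv.isPSolvable_subgroup M (Helper23.PSolv.isPSolvable_quotient _ hsep)
  have h2 : pCore p ↥M = ⊥ := by
    have := Helper23.PSolv.pCore_subgroup_le p M
    rw [hOp, le_bot_iff, Subgroup.map_eq_bot_iff_of_injective _ M.subtype_injective] at this
    exact this
  have h3 := HHD.centralizer_pPrimeCore_le h1 h2
  have hinj : Function.Injective (QuotientGroup.kerLift f) := QuotientGroup.kerLift_injective f
  have hmap : M.map (QuotientGroup.kerLift f) = J.map f := by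
    rw [hM, Subgroup.map_map]
    congr 1
  exact HHD.centralizer_pPrimeCore_le_of_mulEquiv
    ((M.equivMapOfInjective _ hinj).trans (MulEquiv.subgroupCongr hmap)) h3

end Cfsg.Agent.Helper4.COP
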