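import Mathlib
import Cfsg.Prelude.Def_PLocal
import Cfsg.Agent.Lib.Helper4.OffDiag

/-!
# Coprime operators on a group generated by best offenders: the diagonal subgroups (helper4)
-/

set_option autoImplicit false
set_option linter.unusedSectionVars false
set_option linter.unusedVariables false
set_option linter.style.haveILetI false

namespace Cfsg.Agent.Helper4.OG

open scoped commutatorElement
open Cfsg

variable {G : Type*} [Group G]

section core

variable {p : ℕ} [hp : Fact p.Prime] {V H : Subgroup G} [Finite G]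
  (hS : Setting p V H) (hI : Inputs p V H) {q : ℕ} [hq' : Fact q.Prime] {𝔛 : Subgroup G}
  (h𝔛V : 𝔛 ≤ Subgroup.normalizer (V : Set G)) (h𝔛H : 𝔛 ≤ Subgroup.normalizer (H : Set G))
  (h𝔛q : IsPGroup q ↥𝔛) (hq : ¬ q ∣ Nat.card ↥H) {A : Subgroup G} (hA : MinOff p V H A)
include hS hI h𝔛V h𝔛H h𝔛q hq hA

/-- the diagonal map on the plane -/
theorem exists_deltaR : ∃ δ : ↥(PP p V H A) →* G,
    (∀ g, δ g ∈ Subgroup.centralizer (𝔛 : Set G)) ∧
    (∀ g : ↥(PP p V H A), (g : G) ∈ RR p V H A → δ g ∈ V ∧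
      ∃ r ∈ V ⊓ Subgroup.centralizer ((EE p H A : Subgroup G) : Set G), δ g = (g : G) * r) ∧
    (∀ g : ↥(PP p V H A), (g : G) ∈ EE p H A → δ g ∈ H ∧
      ∃ r ∈ FF p V H A, δ g = (g : G) * r) := by
  have hD := dich_PP hS hI h𝔛V h𝔛H h𝔛q hq hA
  refine ⟨DIAG.delta hD, DIAG.delta_mem_centralizer hD, ?_, ?_⟩
  · intro g hg
    have hRV : RR p V H A ≤ V := RR_le hA.1 hS.hHV
    refine ⟨DIAG.delta_mem hD g V ?_, DIAG.delta_eq_mul hD g _ ?_⟩
    · intro x hx
      exact (Subgroup.mem_normalizer_iff.mp (h𝔛V hx) _).mp (hRV hg)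
    · intro x hx hxP
      have hxE := not_centralizes_PP hS hI h𝔛V h𝔛H h𝔛q hq hA hx hxP
      exact moved_RR_le hS hI h𝔛V h𝔛H h𝔛q hq hA hx hxE (conj_mem_cj hg)
  · intro g hg
    refine ⟨DIAG.delta_mem hD g H ?_, DIAG.delta_eq_mul hD g _ ?_⟩
    · intro x hx
      exact (Subgroup.mem_normalizer_iff.mp (h𝔛H hx) _).mp (EE_le hA.1 hg)
    · intro x hx hxP
      have hxE := not_centralizes_PP hS hI h𝔛V h𝔛H h𝔛q hq hA hx hxP
      exact moved_EE_le_FF hS hI h𝔛V h𝔛H h𝔛q hq hA hx hxE (conj_mem_cj hg)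

/-- the diagonal plane and the diagonal `SL(2,p)` -/
theorem exists_diag : ∃ W D : Subgroup G, W ≤ V ∧ D ≤ H ∧
    W ≤ Subgroup.centralizer (𝔛 : Set G) ∧ D ≤ Subgroup.centralizer (𝔛 : Set G) ∧
    Nat.card ↥W = p ^ 2 ∧ D ≤ Subgroup.normalizer (W : Set G) ∧
    D ⊓ Subgroup.centralizer (W : Set G) = ⊥ ∧
    Nonempty (↥D ≃* Matrix.SpecialLinearGroup (Fin 2) (ZMod p)) := by
  obtain ⟨δ, hδc, hδR, hδE⟩ := exists_deltaR hS hI h𝔛V h𝔛H h𝔛q hq hA
  have hRP : RR p V H A ≤ PP p V H A := le_sup_left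
  have hEP : EE p H A ≤ PP p V H A := le_sup_right
  obtain ⟨δR, hδR'⟩ : ∃ δR : ↥(RR p V H A) →* G, δR = δ.comp (Subgroup.inclusion hRP) := ⟨_, rfl⟩
  obtain ⟨δE, hδE'⟩ : ∃ δE : ↥(EE p H A) →* G, δE = δ.comp (Subgroup.inclusion hEP) := ⟨_, rfl⟩
  have hEN : EE p H A ≤ Subgroup.normalizer ((RR p V H A : Subgroup G) : Set G) :=
    (EE_le (p := p) hA.1).trans (H_le_normalizer_RR hS hI hA)
  -- injectivity
  have hinjR : Function.Injective δR := by
    rw [injective_iff_map_eq_one]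
    intro w hw
    rw [hδR'] at hw
    obtain ⟨-, r, hr, hwr⟩ := hδR (Subgroup.inclusion hRP w) w.2
    rw [MonoidHom.comp_apply] at hw
    rw [hw] at hwr
    have h1 : (w : G) = r⁻¹ := by
      have : ((Subgroup.inclusion hRP w : ↥(PP p V H A)) : G) = (w : G) := rfl
      rw [this] at hwr
      exact eq_inv_of_mul_eq_one_left hwr.symm
    have h2 : (w : G) ∈ RR p V H A ⊓
        (V ⊓ Subgroup.centralizer ((EE p H A : Subgroup G) : Set G)) := by
      refine Subgroup.mem_inf.mpr ⟨w.2, ?_⟩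
      rw [h1]; exact Subgroup.inv_mem _ hr
    rw [RR_inf_centralizer hS hI hA, Subgroup.mem_bot] at h2
    exact Subtype.ext h2
  have hinjE : Function.Injective δE := by
    rw [injective_iff_map_eq_one]
    intro e he
    rw [hδE'] at he
    obtain ⟨-, r, hr, her⟩ := hδE (Subgroup.inclusion hEP e) e.2
    rw [MonoidHom.comp_apply] at he
    rw [he] at her
    have h1 : (e : G) = r⁻¹ := by
      have : ((Subgroup.inclusion hEP e : ↥(PP p V H A)) : G) = (e : G) := rfl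
      rw [this] at her
      exact eq_inv_of_mul_eq_one_left her.symm
    have h2 : (e : G) ∈ EE p H A ⊓ FF p V H A := by
      refine Subgroup.mem_inf.mpr ⟨e.2, ?_⟩
      rw [h1]; exact Subgroup.inv_mem _ hr
    rw [EE_inf_FF hS hI hA, Subgroup.mem_bot] at h2
    exact Subtype.ext h2
  -- the conjugation formula
  have hconj : ∀ (e : ↥(EE p H A)) (w : ↥(RR p V H A)),
      δE e * δR w * (δE e)⁻¹ = δR ⟨(e : G) * (w : G) * (e : G)⁻¹,
        (Subgroup.mem_normalizer_iff.mp (hEN e.2) _).mp w.2⟩ := by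
    intro e w
    rw [hδE', hδR', MonoidHom.comp_apply, MonoidHom.comp_apply, MonoidHom.comp_apply,
      ← map_inv, ← map_mul, ← map_mul]
    congr 1
  obtain ⟨φ⟩ := EE_iso hS hI hA
  refine ⟨δR.range, δE.range, ?_, ?_, ?_, ?_, ?_, ?_, ?_, ?_⟩
  · rintro _ ⟨w, rfl⟩
    rw [hδR']
    exact (hδR (Subgroup.inclusion hRP w) w.2).1
  · rintro _ ⟨e, rfl⟩
    rw [hδE']
    exact (hδE (Subgroup.inclusion hEP e) e.2).1
  · rintro _ ⟨w, rfl⟩
    rw [hδR']
    exact hδc _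
  · rintro _ ⟨e, rfl⟩
    rw [hδE']
    exact hδc _
  · rw [← Nat.card_congr (MonoidHom.ofInjective hinjR).toEquiv, RR_card hS hI hA]
  · rintro _ ⟨e, rfl⟩
    rw [Subgroup.mem_normalizer_iff]
    have key : ∀ (e : ↥(EE p H A)) (y : G), y ∈ δR.range → δE e * y * (δE e)⁻¹ ∈ δR.range := by
      rintro e _ ⟨w, rfl⟩
      rw [hconj]
      exact ⟨_, rfl⟩
    intro y
    constructor
    · exact key e y
    · intro hy
      have := key e⁻¹ _ hy
      rw [map_inv] at this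
      have h2 : (δE e)⁻¹ * (δE e * y * (δE e)⁻¹) * (δE e)⁻¹⁻¹ = y := by group
      rwa [h2] at this
  · rw [eq_bot_iff]
    rintro x ⟨⟨e, rfl⟩, hx⟩
    rw [Subgroup.mem_bot]
    have he : (e : G) ∈ EE p H A ⊓
        Subgroup.centralizer ((RR p V H A : Subgroup G) : Set G) := by
      refine Subgroup.mem_inf.mpr ⟨e.2, ?_⟩
      rw [Subgroup.mem_centralizer_iff]
      intro w hw
      have h1 := Subgroup.mem_centralizer_iff.mp hx (δR ⟨w, hw⟩) ⟨_, rfl⟩
      have h2 := hconj e ⟨w, hw⟩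
      have h3 : δE e * δR ⟨w, hw⟩ * (δE e)⁻¹ = δR ⟨w, hw⟩ := by
        rw [← h1]; group
      rw [h3] at h2
      have h4 := congrArg Subtype.val (hinjR h2)
      simp only at h4
      calc w * (e : G) = ((e : G) * w * (e : G)⁻¹) * (e : G) := by rw [← h4]
        _ = (e : G) * w := by group
    rw [EE_faithful hS hI hA, Subgroup.mem_bot] at he
    have : e = 1 := Subtype.ext he
    rw [this, map_one]
  · exact ⟨(MonoidHom.ofInjective hinjE).symm.trans φ⟩

/-- commutators with elements of `E` are commutators with fixed points -/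
theorem comm_eq_comm_fixed {e t : G} (he : e ∈ EE p H A) (ht : t ∈ EE p H A) :
    ∃ d ∈ H ⊓ Subgroup.centralizer (𝔛 : Set G), ⁅d, t⁆ = ⁅e, t⁆ := by
  obtain ⟨δ, hδc, hδR, hδE⟩ := exists_deltaR hS hI h𝔛V h𝔛H h𝔛q hq hA
  have hEP : EE p H A ≤ PP p V H A := le_sup_right
  obtain ⟨hd, r, hr, hdr⟩ := hδE ⟨e, hEP he⟩ he
  refine ⟨δ ⟨e, hEP he⟩, Subgroup.mem_inf.mpr ⟨hd, hδc _⟩, ?_⟩
  rw [hdr]
  have hcomm := EE_comm_FF hS hI hA
  rw [Subgroup.commutator_eq_bot_iff_le_centralizer] at hcomm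
  have h1 : r * t = t * r := (Subgroup.mem_centralizer_iff.mp (hcomm ht) r hr)
  have h2 : r * e = e * r := (Subgroup.mem_centralizer_iff.mp (hcomm he) r hr)
  show ⁅e * r, t⁆ = ⁅e, t⁆
  rw [commutatorElement_def, commutatorElement_def]
  calc e * r * t * (e * r)⁻¹ * t⁻¹ = e * (r * t) * r⁻¹ * e⁻¹ * t⁻¹ := by group
    _ = e * (t * r) * r⁻¹ * e⁻¹ * t⁻¹ := by rw [h1]
    _ = e * t * e⁻¹ * t⁻¹ := by group

/-- `E` is generated by `A` and `[E, A]` -/
theorem EE_le_comm_sup : EE p H A ≤ ⁅EE p H A, A⁆ ⊔ A := by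
  have hAp := mo_isPGroup hS hA
  unfold EE
  apply sup_le _ le_sup_right
  show ⁅XX p H, A⁆ ≤ ⁅EE p H A, A⁆ ⊔ A
  rw [Subgroup.commutator_le]
  intro x hx a ha
  have hxA : cj x A ≤ EE p H A := conj_le_EE hS hI hA ⟨x, hx, rfl⟩
  obtain ⟨h, hh, R, hRp, hRE, hAR, hR⟩ :=
    Cfsg.Agent.Helper16.exists_conj_mem_common_pGroup (EE p H A) A (cj x A) (le_EE A) hxA hAp
      (isPGroup_cj x hAp)
  have hRA : R = A := by
    symm
    apply Subgroup.eq_of_le_of_card_ge hAR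
    rw [mo_card hS hI hA]
    obtain ⟨k, hk⟩ := (IsPGroup.iff_card.mp hRp)
    have hdvd : Nat.card ↥R ∣ p * (p ^ 2 - 1) := by
      rw [← card_EE hS hI hA]; exact Subgroup.card_dvd_of_le hRE
    rw [hk] at hdvd ⊢
    have hk1 : k ≤ 1 := by
      by_contra hk2
      have h2 : p ^ 2 ∣ p ^ k := pow_dvd_pow p (by omega)
      have h3 : p ^ 2 ∣ p * (p ^ 2 - 1) := h2.trans hdvd
      rw [sq] at h3
      have h4 : p ∣ p * p - 1 := Nat.dvd_of_mul_dvd_mul_left hp.1.pos h3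
      have h5 : p ∣ 1 := by
        have h6 : p ∣ p * p := Dvd.intro _ rfl
        have h7 : 1 ≤ p * p := Nat.one_le_iff_ne_zero.mpr (Nat.mul_ne_zero hp.1.ne_zero hp.1.ne_zero)
        have := (Nat.dvd_sub h6 h4)
        rwa [Nat.sub_sub_self h7] at this
      exact hp.1.one_lt.ne' (Nat.dvd_one.mp h5)
    calc p ^ k ≤ p ^ 1 := Nat.pow_le_pow_right hp.1.pos hk1
      _ = p := pow_one p
  have h1 : h * (x * a * x⁻¹) * h⁻¹ ∈ A := by
    rw [← hRA]; exact hR _ (conj_mem_cj ha)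
  have e1 : ⁅x, a⁆ = ⁅h⁻¹, h * (x * a * x⁻¹) * h⁻¹⁆ * (h * (x * a * x⁻¹) * h⁻¹) * a⁻¹ := by
    rw [commutatorElement_def, commutatorElement_def]; group
  rw [e1]
  exact Subgroup.mul_mem _ (Subgroup.mul_mem _
    (Subgroup.mem_sup_left (Subgroup.commutator_mem_commutator (Subgroup.inv_mem _ hh) h1))
    (Subgroup.mem_sup_right h1)) (Subgroup.mem_sup_right (Subgroup.inv_mem _ ha))

omit hA in
/-- generation by fixed points and a subgroup containing conjugates of all minimal offenders -/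
theorem H_le_fixed_sup (T : Subgroup G)
    (hT : ∀ B : Subgroup G, MinOff p V H B → ∃ h ∈ H, cj h B ≤ T) :
    H ≤ (H ⊓ Subgroup.centralizer (𝔛 : Set G)) ⊔ T := by
  apply H_le_of_minoff hS hI
  intro B hB
  obtain ⟨h, hh, hAT⟩ := hT B hB
  have hA : MinOff p V H (cj h B) := MinOff.cj hB hS.hHV hh
  have hE : EE p H (cj h B) = EE p H B := by
    rw [← cj_EE hh]
    have := H_le_normalizer_EE hS hI hB hh
    rw [Subgroup.mem_normalizer_iff_map_conj_eq] at this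
    exact this
  refine (le_EE (p := p) (H := H) B).trans ?_
  rw [← hE]
  refine (EE_le_comm_sup hS hI h𝔛V h𝔛H h𝔛q hq hA).trans ?_
  apply sup_le _ (hAT.trans le_sup_right)
  rw [Subgroup.commutator_le]
  intro e he a ha
  obtain ⟨d, hd, hda⟩ := comm_eq_comm_fixed hS hI h𝔛V h𝔛H h𝔛q hq hA he (le_EE _ ha)
  rw [← hda, commutatorElement_def]
  have h1 : d ∈ (H ⊓ Subgroup.centralizer (𝔛 : Set G)) ⊔ T := Subgroup.mem_sup_left hd
  have h2 : a ∈ (H ⊓ Subgroup.centralizer (𝔛 : Set G)) ⊔ T := Subgroup.mem_sup_right (hAT ha)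
  exact Subgroup.mul_mem _ (Subgroup.mul_mem _ (Subgroup.mul_mem _ h1 h2) (Subgroup.inv_mem _ h1))
    (Subgroup.inv_mem _ h2)

end core

end Cfsg.Agent.Helper4.OG
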