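import Mathlib
import Cfsg.Prelude.Def_PLocal
import Cfsg.Prelude.Def_Local
import Cfsg.Agent.Lib.Helper4.CoprimeOp1
import Cfsg.Agent.Lib.Helper4.OffDiag2
import Cfsg.Agent.Lib.Helper1.Coprime
import Cfsg.Agent.S0600
import Cfsg.Agent.S0601
import Cfsg.Agent.S0608

/-!
# Coprime operators on a `p`-solvable group: the setting in the holomorph (helper4)
-/

set_option autoImplicit false
set_option linter.unusedSectionVars false
set_option linter.unusedVariables false
set_option linter.style.haveILetI false

namespace Cfsg.Agent.Helper4.COP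

open scoped commutatorElement Pointwise
open Cfsg
open Cfsg.Agent.Helper4.HOL (Hol psi VV)

variable {P Γ : Type*} [Group P] [Group Γ] [Finite P] [Finite Γ] {p : ℕ} [hp : Fact p.Prime]
  (ι : P →* Γ) (hι : Function.Injective ι)
  (V : Subgroup Γ) [hVn : V.Normal] (hV : V = (ZO p P).map ι)

theorem map_psi_comp (K : Subgroup P) :
    K.map ((psi V).comp ι) = (K.map ι).map (psi V) := (Subgroup.map_map K (psi V) ι).symm

include hι hV in
theorem ker_psi_comp :
    ((psi V).comp ι).ker = Subgroup.centralizer ((ZO p P : Subgroup P) : Set P) := by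
  ext k
  rw [MonoidHom.mem_ker, MonoidHom.comp_apply, HOL.psi_eq_one_iff, Subgroup.mem_centralizer_iff,
    Subgroup.mem_centralizer_iff]
  constructor
  · intro h z hz
    apply hι
    rw [map_mul, map_mul]
    apply h
    rw [hV]
    exact ⟨z, hz, rfl⟩
  · intro h v hv
    rw [hV] at hv
    obtain ⟨z, hz, rfl⟩ := hv
    rw [← map_mul, ← map_mul, h z hz]

include hι hV in
/-- the standing hypotheses for the image of the Thompson subgroup -/
theorem setting (hsep : IsPSolvable p P) (hVe : IsElementaryAbelian p (ZO p P))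
    (hOp : pCore p (P ⧸ Subgroup.centralizer ((ZO p P : Subgroup P) : Set P)) = ⊥)
    (hJ : ¬ thompsonSubgroup p P ≤ Subgroup.centralizer ((ZO p P : Subgroup P) : Set P)) :
    OG.Setting p (VV V) ((thompsonSubgroup p P).map ((psi V).comp ι)) := by
  haveI hJc : (thompsonSubgroup p P).Characteristic := (Cfsg.Agent.S0602.result (p := p)).1
  haveI hJn : (thompsonSubgroup p P).Normal := inferInstance
  have hker := ker_psi_comp ι hι V hV
  have hVVe : IsElementaryAbelian p V := by
    rw [hV]; exact isElementaryAbelian_map ι hVe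
  refine ⟨HOL.VV_elementary V hVVe, ?_, ?_, ?_, ?_, ?_⟩
  · rw [map_psi_comp]; exact HOL.map_psi_le_normalizer V _
  · rw [map_psi_comp]; exact HOL.map_psi_inf_centralizer V _
  · apply selfCent_map_hom _ hsep _ _
    exact HHD.pCore_eq_bot_of_mulEquiv (QuotientGroup.quotientMulEquivOfEq hker.symm) hOp
  · apply le_antisymm
    · rw [Subgroup.map_le_iff_le_comap]
      unfold thompsonSubgroup
      apply sSup_le
      intro A hA
      rw [← Subgroup.map_le_iff_le_comap]
      have hAJ : A ≤ thompsonSubgroup p P := le_sSup hA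
      refine le_iSup (fun A' : {A' : Subgroup (Hol V) //
          A' ≤ (thompsonSubgroup p P).map ((psi V).comp ι) ∧ IsBestOffenderOn p (VV V) A'} =>
          (A' : Subgroup (Hol V)))
        ⟨A.map ((psi V).comp ι), Subgroup.map_mono hAJ, ?_⟩
      rw [map_psi_comp]
      apply HOL.isBestOffenderOn_map V
      rw [hV]
      exact isBestOffenderOn_map_injective ι hι (Cfsg.Agent.S0606.result (ZO p P) hVe A hA)
    · apply iSup_le
      rintro ⟨A', hA'H, -⟩
      exact hA'H
  · intro h
    apply hJ
    rw [← hker]
    intro x hx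
    have : ((psi V).comp ι) x ∈ (thompsonSubgroup p P).map ((psi V).comp ι) := ⟨x, hx, rfl⟩
    rw [h, Subgroup.mem_bot] at this
    exact this

/-- the facts about `ZO` in a `p`-solvable group with trivial `p'`-core -/
theorem zo_facts (hsep : IsPSolvable p P) (hO : pPrimeCore p P = ⊥) :
    IsElementaryAbelian p (ZO p P) ∧
    pCore p (P ⧸ Subgroup.centralizer ((ZO p P : Subgroup P) : Set P)) = ⊥ ∧
    (IsThompsonFactorizable p P ↔
      thompsonSubgroup p P ≤ Subgroup.centralizer ((ZO p P : Subgroup P) : Set P)) := by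
  have hc := Cfsg.Agent.Helper23.PSolv.centralizer_pCore_le hsep hO
  obtain ⟨hVn, hVe, -⟩ := Cfsg.Agent.S0601.result (p := p) hc
  have hgen : (ZO p P) = ⨆ S : Sylow p P, (ZO p P) ⊓
        Subgroup.centralizer ((S : Subgroup P) : Set P) := by
    apply le_antisymm
    · apply iSup_le
      intro S
      refine le_trans (le_inf (le_iSup (fun S : Sylow p P => Cfsg.omegaOne p ((S : Subgroup P) ⊓
        Subgroup.centralizer ((S : Subgroup P) : Set P))) S) ?_)
        (le_iSup (fun S : Sylow p P => (ZO p P) ⊓
        Subgroup.centralizer ((S : Subgroup P) : Set P)) S)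
      unfold Cfsg.omegaOne
      rw [Subgroup.closure_le]
      intro x hx
      exact hx.1.2
    · exact iSup_le (fun S => inf_le_left)
  exact ⟨hVe, Cfsg.Agent.S0600.result (ZO p P) hVe hgen, Cfsg.Agent.S0608.result hO⟩

end Cfsg.Agent.Helper4.COP
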