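import Mathlib
import Cfsg.Prelude.Def_Transfer
import Cfsg.Prelude.Def_Solvable
import Cfsg.Agent.Lib.Helper4.OffBasic
import Cfsg.Agent.Lib.Helper1.RelSubnormal
import Cfsg.Agent.Lib.Helper9.PCoreSub

/-!
# Pairs of subnormal subgroups acting irreducibly on their commutator modules (helper4)

Kurzweil--Stellmacher 9.3.3: two subnormal subgroups `E₁, E₂` of a faithful group `E` on an
elementary abelian `V` with `O_p(E) = 1`, irreducible on incomparable `[V, E_i]`, `|E_i| > 2`,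
commute, and `[V, E₁] ∩ [V, E₂] = 1`.
-/

set_option autoImplicit false
set_option linter.unusedSectionVars false
set_option linter.unusedVariables false

namespace Cfsg.Agent.Helper4.SNP

open scoped commutatorElement Pointwise
open Cfsg.Agent.Helper4.OG

variable {G : Type*} [Group G]

/-! ## Normalizer bookkeeping -/

theorem mem_normalizer_iff_cj {x : G} {V : Subgroup G} :
    x ∈ Subgroup.normalizer (V : Set G) ↔ cj x V = V :=
  Subgroup.mem_normalizer_iff_map_conj_eq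

theorem cj_le_normalizer {x : G} {A U : Subgroup G} (h : A ≤ Subgroup.normalizer (U : Set G)) :
    cj x A ≤ Subgroup.normalizer ((cj x U : Subgroup G) : Set G) := by
  intro y hy
  rw [mem_normalizer_iff_cj]
  have hy' := mem_cj.mp hy
  have h1 := mem_normalizer_iff_cj.mp (h hy')
  have e : y * x = x * (x⁻¹ * y * x) := by group
  calc cj y (cj x U) = cj (y * x) U := cj_cj _ _ _
    _ = cj (x * (x⁻¹ * y * x)) U := by rw [e]
    _ = cj x (cj (x⁻¹ * y * x) U) := (cj_cj _ _ _).symm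
    _ = cj x U := by rw [h1]

theorem mem_normalizer_commutator {y : G} {A B : Subgroup G}
    (hA : y ∈ Subgroup.normalizer (A : Set G)) (hB : y ∈ Subgroup.normalizer (B : Set G)) :
    y ∈ Subgroup.normalizer ((⁅A, B⁆ : Subgroup G) : Set G) := by
  rw [mem_normalizer_iff_cj] at *
  rw [cj_commutator, hA, hB]

theorem mem_normalizer_centralizer {y : G} {A : Subgroup G}
    (hA : y ∈ Subgroup.normalizer (A : Set G)) :
    y ∈ Subgroup.normalizer ((Subgroup.centralizer (A : Set G) : Subgroup G) : Set G) := by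
  rw [mem_normalizer_iff_cj] at *
  rw [cj_centralizer, hA]

theorem mem_normalizer_inf {y : G} {A B : Subgroup G}
    (hA : y ∈ Subgroup.normalizer (A : Set G)) (hB : y ∈ Subgroup.normalizer (B : Set G)) :
    y ∈ Subgroup.normalizer ((A ⊓ B : Subgroup G) : Set G) := by
  rw [mem_normalizer_iff_cj] at *
  rw [cj_inf, hA, hB]

theorem le_normalizer_of_forall_conj_mem {E A : Subgroup G}
    (h : ∀ g ∈ E, ∀ a ∈ A, g * a * g⁻¹ ∈ A) : E ≤ Subgroup.normalizer (A : Set G) := by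
  intro g hg
  rw [Subgroup.mem_normalizer_iff]
  intro a
  constructor
  · exact h g hg a
  · intro ha
    have := h g⁻¹ (E.inv_mem hg) _ ha
    have e : g⁻¹ * (g * a * g⁻¹) * g⁻¹⁻¹ = a := by group
    rwa [e] at this

theorem conj_mem_of_mem_normalizer {x v : G} {V : Subgroup G}
    (hx : x ∈ Subgroup.normalizer (V : Set G)) (hv : v ∈ V) : x * v * x⁻¹ ∈ V :=
  (Subgroup.mem_normalizer_iff.mp hx v).mp hv

theorem comm_mem_of_mem_normalizer {x v : G} {V : Subgroup G}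
    (hx : x ∈ Subgroup.normalizer (V : Set G)) (hv : v ∈ V) : ⁅x, v⁆ ∈ V := by
  rw [commutatorElement_def]
  exact V.mul_mem (conj_mem_of_mem_normalizer hx hv) (V.inv_mem hv)

theorem comm_mem_of_mem_normalizer' {x v : G} {V : Subgroup G}
    (hx : x ∈ Subgroup.normalizer (V : Set G)) (hv : v ∈ V) : ⁅v, x⁆ ∈ V := by
  rw [← commutatorElement_inv]
  exact V.inv_mem (comm_mem_of_mem_normalizer hx hv)

/-! ## Quadratic action forces a `p`-group -/

theorem pow_mem_centralizer_of_quadratic {p : ℕ} {V : Subgroup G}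
    (hV : Cfsg.IsElementaryAbelian p V) {x : G} (hx : x ∈ Subgroup.normalizer (V : Set G))
    (hq : ∀ v ∈ V, x * ⁅x, v⁆ = ⁅x, v⁆ * x) : x ^ p ∈ Subgroup.centralizer (V : Set G) := by
  rw [Subgroup.mem_centralizer_iff]
  intro v hv
  have hwV : ⁅x, v⁆ ∈ V := comm_mem_of_mem_normalizer hx hv
  have key : ∀ k : ℕ, x ^ k * v = ⁅x, v⁆ ^ k * v * x ^ k := by
    intro k
    induction k with
    | zero => simp
    | succ k ih =>
      have hc : x * ⁅x, v⁆ ^ k = ⁅x, v⁆ ^ k * x := (Commute.pow_right (hq v hv) k).eq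
      calc x ^ (k + 1) * v = x * (x ^ k * v) := by rw [pow_succ']; group
        _ = x * (⁅x, v⁆ ^ k * v * x ^ k) := by rw [ih]
        _ = (x * ⁅x, v⁆ ^ k) * v * x ^ k := by group
        _ = ⁅x, v⁆ ^ k * x * v * x ^ k := by rw [hc]
        _ = ⁅x, v⁆ ^ k * (x * v * x⁻¹ * v⁻¹) * v * (x * x ^ k) := by group
        _ = ⁅x, v⁆ ^ (k + 1) * v * x ^ (k + 1) := by
          rw [← commutatorElement_def, ← pow_succ, ← pow_succ']
  have h1 := key p
  rw [hV.2 _ hwV, one_mul] at h1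
  exact h1.symm

theorem isPGroup_of_quadratic {p : ℕ} {V Q : Subgroup G}
    (hV : Cfsg.IsElementaryAbelian p V) (hQ : Q ≤ Subgroup.normalizer (V : Set G))
    (hf : Q ⊓ Subgroup.centralizer (V : Set G) = ⊥) (hq : ⁅⁅V, Q⁆, Q⁆ = ⊥) : IsPGroup p ↥Q := by
  rintro ⟨x, hx⟩
  refine ⟨1, ?_⟩
  have h1 : x ^ p ∈ Subgroup.centralizer (V : Set G) := by
    apply pow_mem_centralizer_of_quadratic hV (hQ hx)
    intro v hv
    have h2 : ⁅x, v⁆ ∈ ⁅V, Q⁆ := by
      rw [Subgroup.commutator_comm]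
      exact Subgroup.commutator_mem_commutator hx hv
    have h3 : ⁅⁅x, v⁆, x⁆ ∈ ⁅⁅V, Q⁆, Q⁆ := Subgroup.commutator_mem_commutator h2 hx
    rw [hq, Subgroup.mem_bot, commutatorElement_eq_one_iff_mul_comm] at h3
    exact h3.symm
  have h4 : x ^ p ∈ Q ⊓ Subgroup.centralizer (V : Set G) := ⟨Q.pow_mem hx p, h1⟩
  rw [hf, Subgroup.mem_bot] at h4
  apply Subtype.ext
  simpa using h4

/-! ## No nontrivial subnormal `p`-subgroups -/

/-- `E` has no nontrivial subnormal `p`-subgroup -/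
def NoSnP (p : ℕ) (E : Subgroup G) : Prop :=
  ∀ Q : Subgroup G, Q ≤ E → (Q.subgroupOf E).IsSubnormal → IsPGroup p ↥Q → Q = ⊥

theorem noSnP_of_pCore [Finite G] {p : ℕ} {E : Subgroup G} (h : Cfsg.pCore p ↥E = ⊥) :
    NoSnP p E := by
  intro Q hQE hs hp
  have h1 : Q.subgroupOf E ≤ Cfsg.pCore p ↥E :=
    Cfsg.Agent.Helper9.subnormal_pGroup_le_pCore p _ hs hp.comap_subtype
  rw [h, le_bot_iff, Subgroup.subgroupOf_eq_bot, disjoint_iff, inf_eq_left.mpr hQE] at h1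
  exact h1

theorem NoSnP.mono {p : ℕ} {E X : Subgroup G} (h : NoSnP p E) (hXE : X ≤ E)
    (hs : (X.subgroupOf E).IsSubnormal) : NoSnP p X := by
  intro Q hQX hQs hp
  exact h Q (hQX.trans hXE) (Cfsg.Agent.Helper1.sn_trans hQX hXE hQs hs) hp

theorem NoSnP.normal {p : ℕ} {E Q : Subgroup G} (h : NoSnP p E) (hQE : Q ≤ E)
    (hn : E ≤ Subgroup.normalizer (Q : Set G)) (hp : IsPGroup p ↥Q) : Q = ⊥ :=
  h Q hQE (Cfsg.Agent.Helper1.sn_of_le_normalizer hQE hn) hp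

/-! ## The stability group -/

/-- elements of `N(V)` acting trivially on `V` modulo `N` -/
def trivMod (V N : Subgroup G) : Subgroup G where
  carrier := {g | g ∈ Subgroup.normalizer (V : Set G) ∧ ∀ v ∈ V, ⁅v, g⁆ ∈ N}
  one_mem' := by
    refine ⟨Subgroup.one_mem _, fun v _ => ?_⟩
    rw [commutatorElement_one_right]; exact N.one_mem
  mul_mem' := by
    rintro g h ⟨hg, hg'⟩ ⟨hh, hh'⟩
    refine ⟨Subgroup.mul_mem _ hg hh, fun v hv => ?_⟩
    have e : ⁅v, g * h⁆ = ⁅v, g⁆ * (⁅v, h⁆ * ⁅(⁅v, h⁆)⁻¹, g⁆) := by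
      simp only [commutatorElement_def]; group
    rw [e]
    exact N.mul_mem (hg' v hv) (N.mul_mem (hh' v hv)
      (hg' _ (V.inv_mem (comm_mem_of_mem_normalizer' hh hv))))
  inv_mem' := by
    rintro g ⟨hg, hg'⟩
    refine ⟨Subgroup.inv_mem _ hg, fun v hv => ?_⟩
    have hv' : g⁻¹ * v * g ∈ V := by
      have := conj_mem_of_mem_normalizer (Subgroup.inv_mem _ hg) hv
      simpa using this
    have e : ⁅v, g⁻¹⁆ = (⁅g⁻¹ * v * g, g⁆)⁻¹ := by
      simp only [commutatorElement_def]; group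
    rw [e]
    exact N.inv_mem (hg' _ hv')

theorem mem_trivMod {V N : Subgroup G} {g : G} :
    g ∈ trivMod V N ↔ g ∈ Subgroup.normalizer (V : Set G) ∧ ∀ v ∈ V, ⁅v, g⁆ ∈ N := Iff.rfl

theorem le_normalizer_trivMod {V N E : Subgroup G} (hEV : E ≤ Subgroup.normalizer (V : Set G))
    (hEN : E ≤ Subgroup.normalizer (N : Set G)) :
    E ≤ Subgroup.normalizer ((trivMod V N : Subgroup G) : Set G) := by
  apply le_normalizer_of_forall_conj_mem
  rintro g hg x ⟨hx, hx'⟩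
  refine ⟨Subgroup.mul_mem _ (Subgroup.mul_mem _ (hEV hg) hx) (Subgroup.inv_mem _ (hEV hg)), ?_⟩
  intro v hv
  have hv' : g⁻¹ * v * g ∈ V := by
    have := conj_mem_of_mem_normalizer (Subgroup.inv_mem _ (hEV hg)) hv
    simpa using this
  have e : ⁅v, g * x * g⁻¹⁆ = g * ⁅g⁻¹ * v * g, x⁆ * g⁻¹ := by
    simp only [commutatorElement_def]; group
  rw [e]
  exact conj_mem_of_mem_normalizer (hEN hg) (hx' _ hv')


/-! ## One subnormal subgroup irreducible on its commutator module -/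

/-- `F` is subnormal in the faithful group `E` (with no subnormal `p`-subgroups) on `V`, acts
irreducibly on `[V, F]`, and `|F| > 2`. -/
structure Half (p : ℕ) (V E F : Subgroup G) : Prop where
  hV : Cfsg.IsElementaryAbelian p V
  hEV : E ≤ Subgroup.normalizer (V : Set G)
  hf : E ⊓ Subgroup.centralizer (V : Set G) = ⊥
  hFE : F ≤ E
  hs : (F.subgroupOf E).IsSubnormal
  hOp : NoSnP p E
  hirr : ∀ U : Subgroup G, U ≤ ⁅V, F⁆ → F ≤ Subgroup.normalizer (U : Set G) →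
    U = ⊥ ∨ U = ⁅V, F⁆
  hc : 2 < Nat.card ↥F

namespace Half

variable {p : ℕ} {V E F : Subgroup G} (h : Half p V E F)
include h

theorem hFV : F ≤ Subgroup.normalizer (V : Set G) := h.hFE.trans h.hEV

theorem comm_le : ⁅V, F⁆ ≤ V := commutator_le_left_of_normalizer h.hFV

theorem norm_comm : F ≤ Subgroup.normalizer ((⁅V, F⁆ : Subgroup G) : Set G) :=
  fun x hx => mem_normalizer_commutator (h.hFV hx) (Subgroup.le_normalizer hx)

theorem noSnP : NoSnP p F := h.hOp.mono h.hFE h.hs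

theorem hfF : F ⊓ Subgroup.centralizer (V : Set G) = ⊥ := by
  rw [eq_bot_iff, ← h.hf]; exact inf_le_inf_right _ h.hFE

/-- `F` acts faithfully on `[V, F]` -/
theorem faithful : F ⊓ Subgroup.centralizer ((⁅V, F⁆ : Subgroup G) : Set G) = ⊥ := by
  set Q := F ⊓ Subgroup.centralizer ((⁅V, F⁆ : Subgroup G) : Set G) with hQ
  have hQF : Q ≤ F := inf_le_left
  have hn : F ≤ Subgroup.normalizer (Q : Set G) := fun x hx =>
    mem_normalizer_inf (Subgroup.le_normalizer hx) (mem_normalizer_centralizer (h.norm_comm hx))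
  have hp : IsPGroup p ↥Q := by
    apply isPGroup_of_quadratic h.hV (hQF.trans h.hFV)
    · rw [eq_bot_iff, ← h.hf]
      exact inf_le_inf_right _ (hQF.trans h.hFE)
    · rw [eq_bot_iff]
      calc ⁅⁅V, Q⁆, Q⁆ ≤ ⁅⁅V, F⁆, Subgroup.centralizer ((⁅V, F⁆ : Subgroup G) : Set G)⁆ :=
            Subgroup.commutator_mono (Subgroup.commutator_mono le_rfl hQF) inf_le_right
        _ = ⊥ := by
          rw [Subgroup.commutator_comm, Subgroup.commutator_eq_bot_iff_le_centralizer]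
  exact h.noSnP.normal hQF hn hp

/-- `F` has no nontrivial fixed points on `[V, F]` -/
theorem fixed : ⁅V, F⁆ ⊓ Subgroup.centralizer (F : Set G) = ⊥ := by
  have hn : F ≤ Subgroup.normalizer ((⁅V, F⁆ ⊓ Subgroup.centralizer (F : Set G) : Subgroup G) : Set G) :=
    fun x hx => mem_normalizer_inf (h.norm_comm hx)
      (mem_normalizer_centralizer (Subgroup.le_normalizer hx))
  rcases h.hirr _ inf_le_left hn with h1 | h1
  · exact h1
  · exfalso
    have h2 : ⁅V, F⁆ ≤ Subgroup.centralizer (F : Set G) := by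
      rw [← h1]; exact inf_le_right
    have hp : IsPGroup p ↥F := by
      apply isPGroup_of_quadratic h.hV h.hFV h.hfF
      rw [Subgroup.commutator_eq_bot_iff_le_centralizer]; exact h2
    have h3 : F = ⊥ := h.noSnP.normal le_rfl Subgroup.le_normalizer hp
    have := h.hc
    rw [h3] at this
    simp at this

theorem conjugate {g : G} (hg : g ∈ E) : Half p V E (OG.cj g F) where
  hV := h.hV
  hEV := h.hEV
  hf := h.hf
  hFE := by
    have := cj_mono g h.hFE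
    rwa [cj_eq_self_of_mem hg] at this
  hs := by
    have h1 := Cfsg.Agent.Helper1.sn_conj g h.hs
    have h2 : MulAut.conj g • E = E := Subgroup.conj_smul_eq_self_of_mem hg
    rw [h2] at h1
    exact h1
  hOp := h.hOp
  hirr := by
    intro U hU hn
    have hgV : OG.cj g V = V := cj_eq_self_of_mem_normalizer (h.hEV hg)
    have e1 : ⁅V, OG.cj g F⁆ = OG.cj g ⁅V, F⁆ := by rw [cj_commutator, hgV]
    rw [e1] at hU ⊢
    have hU' : OG.cj g⁻¹ U ≤ ⁅V, F⁆ := by rw [cj_le_iff, inv_inv]; exact hU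
    have hn' : F ≤ Subgroup.normalizer ((OG.cj g⁻¹ U : Subgroup G) : Set G) := by
      have := cj_le_normalizer (x := g⁻¹) hn
      rwa [cj_inv_cj] at this
    rcases h.hirr _ hU' hn' with h1 | h1
    · left; rwa [cj_eq_bot_iff] at h1
    · right
      rw [← h1, cj_cj_inv]
  hc := by rw [card_cj]; exact h.hc

end Half


/-! ## The pair -/

structure SPair (p : ℕ) (V E E₁ E₂ : Subgroup G) : Prop where
  h₁ : Half p V E E₁
  h₂ : Half p V E E₂
  hgen : E = E₁ ⊔ E₂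
  h12 : ¬ ⁅V, E₁⁆ ≤ ⁅V, E₂⁆
  h21 : ¬ ⁅V, E₂⁆ ≤ ⁅V, E₁⁆

theorem SPair.symm {p : ℕ} {V E E₁ E₂ : Subgroup G} (h : SPair p V E E₁ E₂) :
    SPair p V E E₂ E₁ :=
  ⟨h.h₂, h.h₁, by rw [sup_comm]; exact h.hgen, h.h21, h.h12⟩

/-- the invariant case -/
theorem SPair.of_invariant {p : ℕ} {V E E₁ E₂ : Subgroup G} (h : SPair p V E E₁ E₂)
    (hinv : E₂ ≤ Subgroup.normalizer ((⁅V, E₁⁆ : Subgroup G) : Set G)) :
    ⁅E₁, E₂⁆ = ⊥ ∧ E₁ ⊓ E₂ = ⊥ ∧ ⁅V, E₁⁆ ⊓ ⁅V, E₂⁆ = ⊥ := by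
  have hEn : E ≤ Subgroup.normalizer ((⁅V, E₁⁆ : Subgroup G) : Set G) := by
    rw [h.hgen]; exact sup_le h.h₁.norm_comm hinv
  have hV12 : ⁅V, E₁⁆ ⊓ ⁅V, E₂⁆ = ⊥ := by
    have hn : E₂ ≤ Subgroup.normalizer ((⁅V, E₁⁆ ⊓ ⁅V, E₂⁆ : Subgroup G) : Set G) :=
      fun x hx => mem_normalizer_inf (hinv hx) (h.h₂.norm_comm hx)
    rcases h.h₂.hirr _ inf_le_right hn with h1 | h1
    · exact h1
    · exact absurd (by rw [← h1]; exact inf_le_left) h.h21
  have hcent : ⁅⁅V, E₁⁆, E₂⁆ = ⊥ := by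
    rw [eq_bot_iff, ← hV12]
    exact le_inf (commutator_le_left_of_normalizer hinv)
      (Subgroup.commutator_mono h.h₁.comm_le le_rfl)
  have hE12 : E₁ ⊓ E₂ = ⊥ := by
    rw [eq_bot_iff]
    rintro x ⟨hx1, hx2⟩
    have hxC : x ∈ Subgroup.centralizer (V : Set G) := by
      rw [Subgroup.mem_centralizer_iff]
      intro v hv
      have h1 : ⁅v, x⁆ ∈ ⁅V, E₁⁆ ⊓ ⁅V, E₂⁆ :=
        ⟨Subgroup.commutator_mem_commutator hv hx1, Subgroup.commutator_mem_commutator hv hx2⟩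
      rw [hV12, Subgroup.mem_bot, commutatorElement_eq_one_iff_mul_comm] at h1
      exact h1
    have : x ∈ E ⊓ Subgroup.centralizer (V : Set G) := ⟨h.h₁.hFE hx1, hxC⟩
    rwa [h.h₁.hf] at this
  refine ⟨?_, hE12, hV12⟩
  set D := E ⊓ trivMod V ⁅V, E₁⁆ with hD
  set C := E ⊓ Subgroup.centralizer ((⁅V, E₁⁆ : Subgroup G) : Set G) with hC
  have hnD : E ≤ Subgroup.normalizer (D : Set G) := fun x hx =>
    mem_normalizer_inf (Subgroup.le_normalizer hx) (le_normalizer_trivMod h.h₁.hEV hEn hx)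
  have hnC : E ≤ Subgroup.normalizer (C : Set G) := fun x hx =>
    mem_normalizer_inf (Subgroup.le_normalizer hx) (mem_normalizer_centralizer (hEn hx))
  have hE1D : E₁ ≤ D := le_inf h.h₁.hFE
    (fun x hx => ⟨h.h₁.hFV hx, fun v hv => Subgroup.commutator_mem_commutator hv hx⟩)
  have hE2C : E₂ ≤ C := le_inf h.h₂.hFE (by
    rw [← Subgroup.commutator_eq_bot_iff_le_centralizer, Subgroup.commutator_comm]; exact hcent)
  have hDE : D ⊓ C ≤ E := inf_le_left.trans inf_le_left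
  have hQ : D ⊓ C = ⊥ := by
    apply h.h₁.hOp.normal hDE (fun x hx => mem_normalizer_inf (hnD hx) (hnC hx))
    apply isPGroup_of_quadratic h.h₁.hV (hDE.trans h.h₁.hEV)
    · rw [eq_bot_iff, ← h.h₁.hf]; exact inf_le_inf_right _ hDE
    · rw [eq_bot_iff]
      have h1 : ⁅V, D ⊓ C⁆ ≤ ⁅V, E₁⁆ := by
        rw [Subgroup.commutator_le]
        intro v hv x hx
        exact hx.1.2.2 v hv
      calc ⁅⁅V, D ⊓ C⁆, D ⊓ C⁆
          ≤ ⁅⁅V, E₁⁆, Subgroup.centralizer ((⁅V, E₁⁆ : Subgroup G) : Set G)⁆ :=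
            Subgroup.commutator_mono h1 (inf_le_right.trans inf_le_right)
        _ = ⊥ := by
          rw [Subgroup.commutator_comm, Subgroup.commutator_eq_bot_iff_le_centralizer]
  rw [eq_bot_iff, ← hQ]
  refine le_inf ?_ ?_
  · exact (Subgroup.commutator_mono hE1D hE2C).trans
      (commutator_le_left_of_normalizer ((inf_le_left : C ≤ E).trans hnD))
  · rw [Subgroup.commutator_comm]
    exact (Subgroup.commutator_mono hE2C hE1D).trans
      (commutator_le_left_of_normalizer ((inf_le_left : D ≤ E).trans hnC))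

/-- the inductive step for a conjugate pair -/
theorem Half.conj_pair [Finite G] {p : ℕ} {V E F : Subgroup G} (h : Half p V E F) (hlt : F < E)
    (IH : ∀ E' E₁' E₂' : Subgroup G, Nat.card ↥E' < Nat.card ↥E → SPair p V E' E₁' E₂' →
      ⁅E₁', E₂'⁆ = ⊥ ∧ E₁' ⊓ E₂' = ⊥ ∧ ⁅V, E₁'⁆ ⊓ ⁅V, E₂'⁆ = ⊥)
    {g : G} (hg : g ∈ E) (hne : cj g ⁅V, F⁆ ≠ ⁅V, F⁆) :
    ⁅V, F⁆ ⊓ cj g ⁅V, F⁆ = ⊥ ∧
      cj g F ≤ Subgroup.centralizer ((⁅V, F⁆ : Subgroup G) : Set G) ∧
      F ≤ Subgroup.centralizer ((cj g ⁅V, F⁆ : Subgroup G) : Set G) := by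
  obtain ⟨L, hFL, hLE, hEL⟩ := Cfsg.Agent.Helper1.sn_lt_normal hlt h.hs
  have hgV : cj g V = V := cj_eq_self_of_mem_normalizer (h.hEV hg)
  have e1 : ⁅V, cj g F⁆ = cj g ⁅V, F⁆ := by rw [cj_commutator, hgV]
  have hF'L : cj g F ≤ L := by
    have := cj_mono g hFL
    rwa [cj_eq_self_of_mem_normalizer (hEL hg)] at this
  have hE'L : F ⊔ cj g F ≤ L := sup_le hFL hF'L
  have hE'E : F ⊔ cj g F ≤ E := hE'L.trans hLE.le
  have hcard : Nat.card ↥(F ⊔ cj g F) < Nat.card ↥E :=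
    Cfsg.Agent.Helper1.card_lt_of_lt (lt_of_le_of_lt hE'L hLE)
  have h' := h.conjugate hg
  have hsn : ((F ⊔ cj g F).subgroupOf E).IsSubnormal :=
    Cfsg.Agent.Helper1.sn_sup h.hFE h'.hFE h.hs h'.hs
  have hOp' : NoSnP p (F ⊔ cj g F) := h.hOp.mono hE'E hsn
  have hf' : (F ⊔ cj g F) ⊓ Subgroup.centralizer (V : Set G) = ⊥ := by
    rw [eq_bot_iff, ← h.hf]; exact inf_le_inf_right _ hE'E
  have hA : Half p V (F ⊔ cj g F) F :=
    ⟨h.hV, hE'E.trans h.hEV, hf', le_sup_left, Cfsg.Agent.Helper1.sn_mono hE'E h.hs, hOp',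
      h.hirr, h.hc⟩
  have hB : Half p V (F ⊔ cj g F) (cj g F) :=
    ⟨h.hV, hE'E.trans h.hEV, hf', le_sup_right, Cfsg.Agent.Helper1.sn_mono hE'E h'.hs, hOp',
      h'.hirr, h'.hc⟩
  have hcardV : Nat.card ↥(cj g ⁅V, F⁆) = Nat.card ↥(⁅V, F⁆) := card_cj _ _
  have hP : SPair p V (F ⊔ cj g F) F (cj g F) := by
    refine ⟨hA, hB, rfl, ?_, ?_⟩
    · rw [e1]; intro hle
      exact hne (Subgroup.eq_of_le_of_card_ge hle (by rw [hcardV])).symm
    · rw [e1]; intro hle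
      exact hne (Subgroup.eq_of_le_of_card_ge hle (by rw [hcardV]))
  obtain ⟨c1, c2, c3⟩ := IH _ F (cj g F) hcard hP
  rw [e1] at c3
  have hFc : F ≤ Subgroup.centralizer ((cj g F : Subgroup G) : Set G) :=
    Subgroup.commutator_eq_bot_iff_le_centralizer.mp c1
  have hFc' : cj g F ≤ Subgroup.centralizer (F : Set G) := by
    rw [← Subgroup.commutator_eq_bot_iff_le_centralizer, Subgroup.commutator_comm]; exact c1
  refine ⟨c3, ?_, ?_⟩
  · rw [← Subgroup.commutator_eq_bot_iff_le_centralizer, Subgroup.commutator_comm, eq_bot_iff,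
      ← c3]
    refine le_inf ?_ ?_
    · apply commutator_le_left_of_normalizer
      intro y hy
      exact mem_normalizer_commutator (hB.hFV hy)
        (Subgroup.centralizer_le_normalizer _ (hFc' hy))
    · rw [← e1]; exact Subgroup.commutator_mono h.comm_le le_rfl
  · rw [← Subgroup.commutator_eq_bot_iff_le_centralizer, Subgroup.commutator_comm, eq_bot_iff,
      ← c3]
    refine le_inf ?_ ?_
    · exact Subgroup.commutator_mono (by rw [← e1]; exact hB.comm_le) le_rfl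
    · rw [← e1]
      apply commutator_le_left_of_normalizer
      intro y hy
      exact mem_normalizer_commutator (hA.hFV hy)
        (Subgroup.centralizer_le_normalizer _ (hFc hy))


/-! ## The commutator map `v ↦ [x, v]` -/

theorem comm_injective {x : G} {A B : Subgroup G} (hAB : ∀ v ∈ A, ⁅x, v⁆ ∈ B)
    (hinj : A ⊓ cj x A = ⊥) :
    Function.Injective (fun v : ↥A => (⟨⁅x, (v : G)⁆, hAB v v.2⟩ : ↥B)) := by
  rintro ⟨u, hu⟩ ⟨v, hv⟩ huv
  have h1 : ⁅x, u⁆ = ⁅x, v⁆ := congrArg Subtype.val huv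
  rw [commutatorElement_def, commutatorElement_def] at h1
  have h2 : x * (v⁻¹ * u) * x⁻¹ = v⁻¹ * u := by
    calc x * (v⁻¹ * u) * x⁻¹ = (x * v * x⁻¹)⁻¹ * (x * u * x⁻¹ * u⁻¹) * u := by group
      _ = (x * v * x⁻¹)⁻¹ * (x * v * x⁻¹ * v⁻¹) * u := by rw [h1]
      _ = v⁻¹ * u := by group
  have hw : v⁻¹ * u ∈ A := A.mul_mem (A.inv_mem hv) hu
  have h3 : v⁻¹ * u ∈ A ⊓ cj x A := by
    refine ⟨hw, ?_⟩
    rw [← h2]
    exact conj_mem_cj hw
  rw [hinj, Subgroup.mem_bot] at h3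
  apply Subtype.ext
  show u = v
  calc u = v * (v⁻¹ * u) := by group
    _ = v := by rw [h3, mul_one]

theorem card_le_of_comm [Finite G] {x : G} {A B : Subgroup G} (hAB : ∀ v ∈ A, ⁅x, v⁆ ∈ B)
    (hinj : A ⊓ cj x A = ⊥) : Nat.card ↥A ≤ Nat.card ↥B :=
  Nat.card_le_card_of_injective _ (comm_injective hAB hinj)

theorem comm_surjective [Finite G] {x : G} {A B : Subgroup G} (hAB : ∀ v ∈ A, ⁅x, v⁆ ∈ B)
    (hinj : A ⊓ cj x A = ⊥) (hcard : Nat.card ↥B ≤ Nat.card ↥A) :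
    ∀ w ∈ B, ∃ v ∈ A, ⁅x, v⁆ = w := by
  intro w hw
  have hb := (comm_injective hAB hinj).bijective_of_nat_card_le hcard
  obtain ⟨⟨v, hv⟩, hvw⟩ := hb.2 ⟨w, hw⟩
  exact ⟨v, hv, congrArg Subtype.val hvw⟩

/-- the non-invariant case is contradictory -/
theorem SPair.noninvariant_false [Finite G] {p : ℕ} {V E E₁ E₂ : Subgroup G}
    (h : SPair p V E E₁ E₂)
    (IH : ∀ E' E₁' E₂' : Subgroup G, Nat.card ↥E' < Nat.card ↥E → SPair p V E' E₁' E₂' →
      ⁅E₁', E₂'⁆ = ⊥ ∧ E₁' ⊓ E₂' = ⊥ ∧ ⁅V, E₁'⁆ ⊓ ⁅V, E₂'⁆ = ⊥)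
    (hn₁ : ¬ E₂ ≤ Subgroup.normalizer ((⁅V, E₁⁆ : Subgroup G) : Set G))
    (hn₂ : ¬ E₁ ≤ Subgroup.normalizer ((⁅V, E₂⁆ : Subgroup G) : Set G)) : False := by
  have hlt₁ : E₁ < E := by
    refine lt_of_le_of_ne h.h₁.hFE ?_
    intro heq
    apply h.h21
    apply Subgroup.commutator_mono le_rfl
    rw [heq]; exact h.h₂.hFE
  have hlt₂ : E₂ < E := by
    refine lt_of_le_of_ne h.h₂.hFE ?_
    intro heq
    apply h.h12
    apply Subgroup.commutator_mono le_rfl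
    rw [heq]; exact h.h₁.hFE
  obtain ⟨g, hg2, hgn⟩ := SetLike.not_le_iff_exists.mp hn₁
  obtain ⟨e, he1, hen⟩ := SetLike.not_le_iff_exists.mp hn₂
  have hgne : cj g ⁅V, E₁⁆ ≠ ⁅V, E₁⁆ := fun hh => hgn (mem_normalizer_iff_cj.mpr hh)
  have hene : cj e ⁅V, E₂⁆ ≠ ⁅V, E₂⁆ := fun hh => hen (mem_normalizer_iff_cj.mpr hh)
  obtain ⟨a1, a2, a3⟩ := h.h₁.conj_pair hlt₁ IH (h.h₂.hFE hg2) hgne
  have F2 : ∀ y ∈ E₁, cj y ⁅V, E₂⁆ ≠ ⁅V, E₂⁆ → ⁅V, E₂⁆ ⊓ cj y ⁅V, E₂⁆ = ⊥ ∧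
      E₂ ≤ Subgroup.centralizer ((cj y ⁅V, E₂⁆ : Subgroup G) : Set G) := by
    intro y hy hne
    obtain ⟨b1, b2, b3⟩ := h.h₂.conj_pair hlt₂ IH (h.h₁.hFE hy) hne
    exact ⟨b1, b3⟩
  obtain ⟨e1, e2⟩ := F2 e he1 hene
  -- the commutator maps
  have hmap₁ : ∀ y ∈ E₁, ∀ v ∈ ⁅V, E₂⁆, ⁅y, v⁆ ∈ ⁅V, E₁⁆ := by
    intro y hy v hv
    rw [Subgroup.commutator_comm]
    exact Subgroup.commutator_mem_commutator hy (h.h₂.comm_le hv)
  have hmap₂ : ∀ v ∈ ⁅V, E₁⁆, ⁅g, v⁆ ∈ ⁅V, E₂⁆ := by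
    intro v hv
    rw [Subgroup.commutator_comm]
    exact Subgroup.commutator_mem_commutator hg2 (h.h₁.comm_le hv)
  have hcard21 : Nat.card ↥(⁅V, E₂⁆) ≤ Nat.card ↥(⁅V, E₁⁆) := card_le_of_comm (hmap₁ e he1) e1
  have hcard12 : Nat.card ↥(⁅V, E₁⁆) ≤ Nat.card ↥(⁅V, E₂⁆) := card_le_of_comm hmap₂ a1
  have hsurj : ∀ w ∈ ⁅V, E₁⁆, ∃ v ∈ ⁅V, E₂⁆, ⁅e, v⁆ = w :=
    comm_surjective (hmap₁ e he1) e1 hcard12
  -- `V₁ ∩ V₂ = 1`
  have hV12 : ⁅V, E₁⁆ ⊓ ⁅V, E₂⁆ = ⊥ := by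
    rw [eq_bot_iff]
    rintro w ⟨hw1, hw2⟩
    obtain ⟨v, hv, hvw⟩ := hsurj w hw1
    have h1 : e * v * e⁻¹ = w * v := by rw [← hvw, commutatorElement_def]; group
    have h2 : e * v * e⁻¹ ∈ ⁅V, E₂⁆ ⊓ cj e ⁅V, E₂⁆ := by
      refine ⟨?_, conj_mem_cj hv⟩
      rw [h1]; exact Subgroup.mul_mem _ hw2 hv
    rw [e1, Subgroup.mem_bot] at h2
    have h3 : v = 1 := by
      calc v = e⁻¹ * (e * v * e⁻¹) * e := by group
        _ = 1 := by rw [h2]; group
    rw [Subgroup.mem_bot, ← hvw, h3, commutatorElement_one_right]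
  -- the orbit of `V₂` under `E₁` has at most two members
  have horb : ∀ y ∈ E₁, cj y ⁅V, E₂⁆ = ⁅V, E₂⁆ ∨ cj y ⁅V, E₂⁆ = cj e ⁅V, E₂⁆ := by
    intro y hy
    by_contra hcon
    rw [not_or] at hcon
    obtain ⟨hy1, hy2⟩ := hcon
    obtain ⟨y1, y2⟩ := F2 y hy hy1
    have hconj : ∀ v ∈ ⁅V, E₂⁆, y * v * y⁻¹ = e * v * e⁻¹ := by
      intro v hv
      obtain ⟨w, hw, hwv⟩ := hsurj _ (hmap₁ y hy v hv)
      rw [commutatorElement_def, commutatorElement_def] at hwv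
      have hr : w⁻¹ * v = (e * w * e⁻¹)⁻¹ * (y * v * y⁻¹) := by
        calc w⁻¹ * v = (e * w * e⁻¹)⁻¹ * (e * w * e⁻¹ * w⁻¹) * v := by group
          _ = (e * w * e⁻¹)⁻¹ * (y * v * y⁻¹ * v⁻¹) * v := by rw [hwv]
          _ = (e * w * e⁻¹)⁻¹ * (y * v * y⁻¹) := by group
      have hrc : w⁻¹ * v ∈ Subgroup.centralizer (E₂ : Set G) := by
        rw [Subgroup.mem_centralizer_iff]
        intro z hz
        have hz1 := Subgroup.mem_centralizer_iff.mp (e2 hz) _ (conj_mem_cj (x := e) hw)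
        have hz2 := Subgroup.mem_centralizer_iff.mp (y2 hz) _ (conj_mem_cj (x := y) hv)
        have hz1' : z * (e * w * e⁻¹)⁻¹ = (e * w * e⁻¹)⁻¹ * z := by
          calc z * (e * w * e⁻¹)⁻¹ = (e * w * e⁻¹)⁻¹ * ((e * w * e⁻¹) * z) * (e * w * e⁻¹)⁻¹ := by
                group
            _ = (e * w * e⁻¹)⁻¹ * (z * (e * w * e⁻¹)) * (e * w * e⁻¹)⁻¹ := by rw [hz1]
            _ = (e * w * e⁻¹)⁻¹ * z := by group
        rw [hr]
        calc z * ((e * w * e⁻¹)⁻¹ * (y * v * y⁻¹))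
            = (z * (e * w * e⁻¹)⁻¹) * (y * v * y⁻¹) := by group
          _ = (e * w * e⁻¹)⁻¹ * (z * (y * v * y⁻¹)) := by rw [hz1']; group
          _ = (e * w * e⁻¹)⁻¹ * ((y * v * y⁻¹) * z) := by rw [← hz2]
          _ = (e * w * e⁻¹)⁻¹ * (y * v * y⁻¹) * z := by group
      have hr1 : w⁻¹ * v ∈ ⁅V, E₂⁆ ⊓ Subgroup.centralizer (E₂ : Set G) :=
        ⟨Subgroup.mul_mem _ (Subgroup.inv_mem _ hw) hv, hrc⟩
      rw [h.h₂.fixed, Subgroup.mem_bot] at hr1
      have hwv' : w = v := by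
        calc w = w * (w⁻¹ * v) := by rw [hr1, mul_one]
          _ = v := by group
      rw [hwv'] at hwv
      calc y * v * y⁻¹ = (y * v * y⁻¹ * v⁻¹) * v := by group
        _ = (e * v * e⁻¹ * v⁻¹) * v := by rw [hwv]
        _ = e * v * e⁻¹ := by group
    apply hy2
    apply Subgroup.eq_of_le_of_card_ge
    · intro z hz
      have hz' := mem_cj.mp hz
      have := hconj _ hz'
      have e3 : z = y * (y⁻¹ * z * y) * y⁻¹ := by group
      rw [e3, this]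
      exact conj_mem_cj hz'
    · rw [card_cj, card_cj]
  -- the stabilizer of `V₂` in `E₁` is trivial
  have heV₁ : cj e ⁅V, E₁⁆ = ⁅V, E₁⁆ := cj_eq_self_of_mem_normalizer (h.h₁.norm_comm he1)
  have heV : cj e V = V := cj_eq_self_of_mem_normalizer (h.h₁.hFV he1)
  have hstab : ∀ x ∈ E₁, x ∈ Subgroup.normalizer ((⁅V, E₂⁆ : Subgroup G) : Set G) → x = 1 := by
    intro x hx hxn
    have c1 : ∀ v ∈ ⁅V, E₂⁆, x * v = v * x := by
      intro v hv
      have h1 : ⁅x, v⁆ ∈ ⁅V, E₁⁆ ⊓ ⁅V, E₂⁆ := ⟨hmap₁ x hx v hv, comm_mem_of_mem_normalizer hxn hv⟩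
      rw [hV12, Subgroup.mem_bot, commutatorElement_eq_one_iff_mul_comm] at h1
      exact h1
    have hxn' : x ∈ Subgroup.normalizer ((cj e ⁅V, E₂⁆ : Subgroup G) : Set G) := by
      rw [mem_normalizer_iff_cj]
      rcases horb (x * e) (E₁.mul_mem hx he1) with h1 | h1
      · exfalso
        rw [← cj_cj] at h1
        apply hene
        have h2 := congrArg (cj x⁻¹) h1
        rw [cj_inv_cj] at h2
        rw [h2]
        exact cj_eq_self_of_mem_normalizer (Subgroup.inv_mem _ hxn)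
      · rw [← cj_cj] at h1
        exact h1
    have c2 : ∀ u ∈ cj e ⁅V, E₂⁆, x * u = u * x := by
      intro u hu
      have huV : u ∈ V := by
        have := cj_mono e h.h₂.comm_le hu
        rwa [heV] at this
      have h1 : ⁅x, u⁆ ∈ cj e (⁅V, E₁⁆ ⊓ ⁅V, E₂⁆) := by
        rw [cj_inf, heV₁]
        refine ⟨?_, comm_mem_of_mem_normalizer hxn' hu⟩
        rw [Subgroup.commutator_comm]
        exact Subgroup.commutator_mem_commutator hx huV
      rw [hV12, cj_bot, Subgroup.mem_bot, commutatorElement_eq_one_iff_mul_comm] at h1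
      exact h1
    have c3 : x ∈ E₁ ⊓ Subgroup.centralizer ((⁅V, E₁⁆ : Subgroup G) : Set G) := by
      refine Subgroup.mem_inf.mpr ⟨hx, ?_⟩
      rw [Subgroup.mem_centralizer_iff]
      intro w hw
      obtain ⟨v, hv, hvw⟩ := hsurj w hw
      rw [← hvw, commutatorElement_def]
      have k1 := c2 _ (conj_mem_cj (x := e) hv)
      have k2 := c1 v hv
      have k2' : v⁻¹ * x = x * v⁻¹ := by
        calc v⁻¹ * x = v⁻¹ * (x * v) * v⁻¹ := by group
          _ = v⁻¹ * (v * x) * v⁻¹ := by rw [k2]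
          _ = x * v⁻¹ := by group
      calc e * v * e⁻¹ * v⁻¹ * x = e * v * e⁻¹ * (v⁻¹ * x) := by group
        _ = (e * v * e⁻¹ * x) * v⁻¹ := by rw [k2']; group
        _ = x * (e * v * e⁻¹) * v⁻¹ := by rw [← k1]
        _ = x * (e * v * e⁻¹ * v⁻¹) := by group
    rw [h.h₁.faithful, Subgroup.mem_bot] at c3
    exact c3
  -- `E₁ ⊆ {1, e}`
  have hall : ∀ y ∈ E₁, y = 1 ∨ y = e := by
    intro y hy
    rcases horb y hy with h1 | h1
    · left
      exact hstab y hy (mem_normalizer_iff_cj.mpr h1)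
    · right
      have h2 : e⁻¹ * y = 1 := by
        apply hstab _ (E₁.mul_mem (E₁.inv_mem he1) hy)
        rw [mem_normalizer_iff_cj, ← cj_cj, h1, cj_inv_cj]
      calc y = e * (e⁻¹ * y) := by group
        _ = e := by rw [h2, mul_one]
  have hcard : Nat.card ↥E₁ ≤ Nat.card Bool := by
    classical
    apply Nat.card_le_card_of_injective (fun y : ↥E₁ => decide ((y : G) = 1))
    rintro ⟨y, hy⟩ ⟨z, hz⟩ hyz
    simp only [decide_eq_decide] at hyz
    apply Subtype.ext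
    show y = z
    rcases hall y hy with h1 | h1
    · rw [h1, hyz.mp h1]
    · rcases hall z hz with h2 | h2
      · rw [h2, hyz.mpr h2]
      · rw [h1, h2]
  have := h.h₁.hc
  have hb : Nat.card Bool = 2 := by rw [Nat.card_eq_fintype_card, Fintype.card_bool]
  rw [hb] at hcard
  omega

/-- **Kurzweil--Stellmacher 9.3.3** -/
theorem spair_main [Finite G] {p : ℕ} {V : Subgroup G} :
    ∀ (n : ℕ) (E E₁ E₂ : Subgroup G), Nat.card ↥E = n → SPair p V E E₁ E₂ →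
      ⁅E₁, E₂⁆ = ⊥ ∧ E₁ ⊓ E₂ = ⊥ ∧ ⁅V, E₁⁆ ⊓ ⁅V, E₂⁆ = ⊥ := by
  intro n
  induction n using Nat.strong_induction_on with
  | _ n ih =>
  intro E E₁ E₂ hn h
  have IH : ∀ E' E₁' E₂' : Subgroup G, Nat.card ↥E' < Nat.card ↥E → SPair p V E' E₁' E₂' →
      ⁅E₁', E₂'⁆ = ⊥ ∧ E₁' ⊓ E₂' = ⊥ ∧ ⁅V, E₁'⁆ ⊓ ⁅V, E₂'⁆ = ⊥ :=
    fun E' E₁' E₂' hlt h' => ih _ (hn ▸ hlt) E' E₁' E₂' rfl h'
  by_cases hinv₂ : E₂ ≤ Subgroup.normalizer ((⁅V, E₁⁆ : Subgroup G) : Set G)
  · exact h.of_invariant hinv₂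
  by_cases hinv₁ : E₁ ≤ Subgroup.normalizer ((⁅V, E₂⁆ : Subgroup G) : Set G)
  · obtain ⟨c1, c2, c3⟩ := h.symm.of_invariant hinv₁
    exact ⟨by rw [Subgroup.commutator_comm]; exact c1, by rw [inf_comm]; exact c2,
      by rw [inf_comm]; exact c3⟩
  · exact (h.noninvariant_false IH hinv₂ hinv₁).elim

end Cfsg.Agent.Helper4.SNP
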