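import Mathlib
import Cfsg.Prelude.Def_PLocal
import Cfsg.Prelude.Def_Local
import Cfsg.Agent.Lib.Helper4.CoprimeOp2
import Cfsg.Agent.Lib.Helper4.SubnPair
import Cfsg.Agent.Lib.Helper16.SylowNormal

/-!
# Coprime operators on a `p`-solvable group with trivial `p'`-core: fixed points (helper4)
-/

set_option autoImplicit false
set_option linter.unusedSectionVars false
set_option linter.unusedVariables false
set_option linter.style.haveILetI false

namespace Cfsg.Agent.Helper4.COP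

open scoped commutatorElement Pointwise
open Cfsg
open Cfsg.Agent.Helper4.HOL (Hol psi VV)

variable {P Γ : Type*} [Group P] [Group Γ] [Finite P] [Finite Γ] {p : ℕ} [hp : Fact p.Prime]
  (ι : P →* Γ) (hι : Function.Injective ι) (hN : ι.range.Normal)
  (V : Subgroup Γ) [hVn : V.Normal] (hV : V = (ZO p P).map ι)
  (X : Subgroup Γ) {q : ℕ} [hq' : Fact q.Prime] (hXq : IsPGroup q ↥X) (hq : ¬ q ∣ Nat.card P)

include hι hN in
/-- the operator group normalizes the image of a characteristic subgroup -/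
theorem map_psi_le_normalizer_map (J : Subgroup P) [hJ : J.Characteristic] :
    X.map (psi V) ≤ Subgroup.normalizer ((J.map ((psi V).comp ι) : Subgroup (Hol V)) :
      Set (Hol V)) := by
  apply SNP.le_normalizer_of_forall_conj_mem
  rintro _ ⟨x, hx, rfl⟩ _ ⟨j, hj, rfl⟩
  obtain ⟨φ, hφ⟩ := exists_conjAut ι hι hN x
  refine ⟨φ j, ?_, ?_⟩
  · have := Subgroup.characteristic_iff_map_eq.mp hJ φ
    rw [← this]
    exact ⟨j, hj, rfl⟩
  · rw [MonoidHom.comp_apply, MonoidHom.comp_apply, hφ, map_mul, map_mul, map_inv]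

include hq in
theorem not_dvd_card_map (J : Subgroup P) :
    ¬ q ∣ Nat.card ↥(J.map ((psi V).comp ι)) := by
  intro h
  exact hq ((h.trans (Subgroup.card_map_dvd J _)).trans (Subgroup.card_subgroup_dvd_card J))

include hι hN hXq hq in
/-- fixed points of the operator group in the image lift to fixed points -/
theorem lift_fixed (j : P)
    (hj : psi V (ι j) ∈ Subgroup.centralizer ((X.map (psi V) : Subgroup (Hol V)) : Set (Hol V))) :
    ∃ k : P, ι k ∈ Subgroup.centralizer (X : Set Γ) ∧ psi V (ι k) = psi V (ι j) := by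
  haveI := hN
  obtain ⟨C₀, hC₀⟩ : ∃ C₀ : Subgroup Γ, C₀ = ι.range ⊓ (psi V).ker := ⟨_, rfl⟩
  haveI hC₀n : C₀.Normal := by rw [hC₀]; infer_instance
  have hXC₀ : X ≤ Subgroup.normalizer (C₀ : Set Γ) := by
    rw [Subgroup.normalizer_eq_top]; exact le_top
  have hcop : (Nat.card ↥X).Coprime (Nat.card ↥C₀) := by
    obtain ⟨n, hn⟩ := IsPGroup.iff_card.mp hXq
    rw [hn]
    apply Nat.Coprime.pow_left
    rw [Nat.Prime.coprime_iff_not_dvd hq'.1]
    intro h
    apply hq
    have h1 : Nat.card ↥C₀ ∣ Nat.card ↥ι.range := by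
      rw [hC₀]; exact Subgroup.card_dvd_of_le inf_le_left
    have h2 : Nat.card ↥ι.range = Nat.card P :=
      (Nat.card_congr (MonoidHom.ofInjective hι).toEquiv).symm
    rw [h2] at h1
    exact h.trans h1
  haveI : Group.IsNilpotent ↥X := hXq.isNilpotent
  have hsolv : Group.IsSolvable ↥X := inferInstance
  obtain ⟨c, hc, hcj⟩ := Cfsg.Agent.Helper1.exists_centralizer_mem_coset C₀ X hXC₀ hcop
    (Or.inl hsolv) (ι j) (by
      intro a ha
      rw [hC₀]
      refine Subgroup.mem_inf.mpr ⟨?_, ?_⟩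
      · have h1 : a * ι j * a⁻¹ ∈ ι.range := hN.conj_mem _ ⟨j, rfl⟩ a
        have h2 : (ι j)⁻¹ ∈ ι.range := Subgroup.inv_mem _ ⟨j, rfl⟩
        have := Subgroup.mul_mem _ h2 h1
        have e : (ι j)⁻¹ * a * ι j * a⁻¹ = (ι j)⁻¹ * (a * ι j * a⁻¹) := by group
        rw [e]; exact this
      · rw [MonoidHom.mem_ker, map_mul, map_mul, map_mul, map_inv, map_inv]
        have h1 := Subgroup.mem_centralizer_iff.mp hj (psi V a) ⟨a, ha, rfl⟩
        rw [mul_assoc ((psi V (ι j))⁻¹), h1]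
        group)
  rw [hC₀] at hcj
  obtain ⟨⟨k', hk'⟩, hker⟩ := hcj
  have hcr : c ∈ ι.range := by
    have : c = ι j * ((ι j)⁻¹ * c) := by group
    rw [this]
    exact Subgroup.mul_mem _ ⟨j, rfl⟩ ⟨k', hk'⟩
  obtain ⟨k, rfl⟩ := hcr
  refine ⟨k, hc, ?_⟩
  have hker' : psi V ((ι j)⁻¹ * ι k) = 1 := hker
  rw [map_mul, map_inv] at hker'
  exact (inv_mul_eq_one.mp hker').symm

end Cfsg.Agent.Helper4.COP
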