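import Mathlib
import Cfsg.Prelude.Def_PLocal
import Cfsg.Prelude.Def_Local
import Cfsg.Agent.Lib.Helper4.CoprimeOp3

/-!
# Coprime operators on a `p`-solvable group with trivial `p'`-core: `SL(2,p)` in the fixed points
(helper4)
-/

set_option autoImplicit false
set_option linter.unusedSectionVars false
set_option linter.unusedVariables false
set_option linter.style.haveILetI false

namespace Cfsg.Agent.Helper4.COP

open scoped commutatorElement Pointwise
open Cfsg
open Cfsg.Agent.Helper4.HOL (Hol psi VV)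

variable {P Γ : Type*} [Group P] [Group Γ] [Finite P] [Finite Γ] {p : ℕ} [hp : Fact p.Prime]
  (ι : P →* Γ) (hι : Function.Injective ι) (hN : ι.range.Normal)
  (X : Subgroup Γ) {q : ℕ} [hq' : Fact q.Prime] (hXq : IsPGroup q ↥X) (hq : ¬ q ∣ Nat.card P)

include hι hN hXq hq in
/-- K–S 9.3.9 in abstract form -/
theorem exists_sl2_fixed (hsep : IsPSolvable p P) (hO : pPrimeCore p P = ⊥)
    (hnf : ¬ IsThompsonFactorizable p P) :
    (p = 2 ∨ p = 3) ∧ ∃ W D : Subgroup Γ,
      W ≤ ι.range ⊓ Subgroup.centralizer (X : Set Γ) ∧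
      D ≤ ι.range ⊓ Subgroup.centralizer (X : Set Γ) ∧
      IsElementaryAbelian p W ∧ Nat.card ↥W = p ^ 2 ∧
      D ≤ Subgroup.normalizer (W : Set Γ) ∧
      ∃ f : ↥D →* Matrix.SpecialLinearGroup (Fin 2) (ZMod p), Function.Surjective f ∧
        f.ker = (Subgroup.centralizer (W : Set Γ)).subgroupOf D := by
  obtain ⟨V, hV⟩ : ∃ V : Subgroup Γ, V = (ZO p P).map ι := ⟨_, rfl⟩
  haveI hVn : V.Normal := by
    rw [hV]; exact map_normal_of_characteristic ι hι hN (ZO p P)
  obtain ⟨hVe, hOp, hfac⟩ := zo_facts (p := p) hsep hO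
  have hJ : ¬ thompsonSubgroup p P ≤ Subgroup.centralizer ((ZO p P : Subgroup P) : Set P) :=
    fun h => hnf (hfac.mpr h)
  have hS := setting ι hι V hV hsep hVe hOp hJ
  have hI := OG.inputs_of_setting hS
  obtain ⟨A, hA⟩ := OG.exists_minoff hS hI
  haveI hJc : (thompsonSubgroup p P).Characteristic := (Cfsg.Agent.S0602.result (p := p)).1
  have h𝔛V := HOL.map_psi_le_normalizer V X
  have h𝔛H := map_psi_le_normalizer_map ι hι hN V X (thompsonSubgroup p P)
  have h𝔛q : IsPGroup q ↥(X.map (psi V)) := hXq.map (psi V)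
  have hqH := not_dvd_card_map ι V hq (thompsonSubgroup p P)
  obtain ⟨W', D', hW'V, hD'H, hW'c, hD'c, hW'card, hD'N, hD'f, ⟨φ⟩⟩ :=
    OG.exists_diag hS hI h𝔛V h𝔛H h𝔛q hqH hA
  refine ⟨OG.EE_p hS hI hA, ?_⟩
  have hVe' : IsElementaryAbelian p V := by
    rw [hV]; exact isElementaryAbelian_map ι hVe
  have hVr : V ≤ ι.range := by
    rw [hV]; rintro _ ⟨z, -, rfl⟩; exact ⟨z, rfl⟩
  obtain ⟨W₀, hW₀⟩ : ∃ W₀ : Subgroup ↥V, W₀ = W'.comap (SemidirectProduct.inl : ↥V →* Hol V) :=
    ⟨_, rfl⟩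
  obtain ⟨W, hW⟩ : ∃ W : Subgroup Γ, W = W₀.map V.subtype := ⟨_, rfl⟩
  obtain ⟨D, hD⟩ : ∃ D : Subgroup Γ, D = ι.range ⊓ Subgroup.centralizer (X : Set Γ) ⊓
      D'.comap (psi V) := ⟨_, rfl⟩
  have hWV : W ≤ V := by rw [hW]; exact Subgroup.map_subtype_le _
  have hmemW : ∀ v : ↥V, (v : Γ) ∈ W ↔ (SemidirectProduct.inl v : Hol V) ∈ W' := by
    intro v
    rw [hW, hW₀]
    constructor
    · rintro ⟨v', hv', hvv⟩
      have : v' = v := Subtype.ext hvv
      rw [← this]; exact hv'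
    · intro h
      exact ⟨v, h, rfl⟩
  have hWX : W ≤ Subgroup.centralizer (X : Set Γ) := by
    intro w hw
    have hwV := hWV hw
    rw [Subgroup.mem_centralizer_iff]
    intro x hx
    have h1 := (hmemW ⟨w, hwV⟩).mp hw
    have h2 := Subgroup.mem_centralizer_iff.mp (hW'c h1) (psi V x) ⟨x, hx, rfl⟩
    exact (HOL.inl_comm_psi_iff V x ⟨w, hwV⟩).mp h2
  have hDN : D ≤ Subgroup.normalizer (W : Set Γ) := by
    apply SNP.le_normalizer_of_forall_conj_mem
    intro d hd w hw
    have hwV := hWV hw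
    have h1 := (hmemW ⟨w, hwV⟩).mp hw
    have hd' : psi V d ∈ D' := by rw [hD] at hd; exact hd.2
    have h2 := (Subgroup.mem_normalizer_iff.mp (hD'N hd') _).mp h1
    rw [HOL.psi_conj] at h2
    have h3 := (hmemW _).mpr h2
    rwa [MulAut.conjNormal_apply] at h3
  have hcardW : Nat.card ↥W = p ^ 2 := by
    rw [hW, Subgroup.card_map_of_injective V.subtype_injective, ← hW'card]
    have h1 : W₀.map (SemidirectProduct.inl : ↥V →* Hol V) = W' := by
      rw [hW₀]
      apply Subgroup.map_comap_eq_self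
      exact hW'V
    rw [← h1, Subgroup.card_map_of_injective SemidirectProduct.inl_injective]
  -- the homomorphism onto the diagonal `SL(2,p)`
  obtain ⟨f, hf⟩ : ∃ f : ↥D →* ↥D', ∀ d : ↥D, ((f d : ↥D') : Hol V) = psi V (d : Γ) := by
    have hDD' : D ≤ D'.comap (psi V) := by rw [hD]; exact inf_le_right
    exact ⟨((psi V).comp D.subtype).codRestrict D' (fun d => hDD' d.2), fun d => rfl⟩
  have hfsurj : Function.Surjective f := by
    rintro ⟨d', hd'⟩
    obtain ⟨j, hj, rfl⟩ := hD'H hd'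
    obtain ⟨k, hk1, hk2⟩ := lift_fixed ι hι hN V X hXq hq j (hD'c hd')
    have hkD : ι k ∈ D := by
      rw [hD]
      refine Subgroup.mem_inf.mpr ⟨Subgroup.mem_inf.mpr ⟨⟨k, rfl⟩, hk1⟩, ?_⟩
      show psi V (ι k) ∈ D'
      rw [hk2]; exact hd'
    refine ⟨⟨ι k, hkD⟩, ?_⟩
    apply Subtype.ext
    rw [hf]
    exact hk2
  have hfker : f.ker = (Subgroup.centralizer (W : Set Γ)).subgroupOf D := by
    ext d
    rw [MonoidHom.mem_ker, Subgroup.mem_subgroupOf]
    constructor
    · intro h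
      have h1 : psi V (d : Γ) = 1 := by
        rw [← hf, h]; rfl
      rw [HOL.psi_eq_one_iff] at h1
      exact Subgroup.centralizer_le hWV h1
    · intro h
      have h1 : psi V (d : Γ) ∈ D' ⊓ Subgroup.centralizer (W' : Set (Hol V)) := by
        refine Subgroup.mem_inf.mpr ⟨?_, ?_⟩
        · rw [← hf]; exact (f d).2
        · rw [Subgroup.mem_centralizer_iff]
          intro y hy
          obtain ⟨v, rfl⟩ := hW'V hy
          have hvW := (hmemW v).mpr hy
          have h2 := Subgroup.mem_centralizer_iff.mp h (v : Γ) hvW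
          exact ((HOL.inl_comm_psi_iff V (d : Γ) v).mpr h2.symm).symm
      rw [hD'f, Subgroup.mem_bot] at h1
      apply Subtype.ext
      rw [hf, h1]; rfl
  refine ⟨W, D, le_inf (hWV.trans hVr) hWX, ?_, Helper3.isElementaryAbelian_mono hWV hVe', hcardW,
    hDN, φ.toMonoidHom.comp f, ?_, ?_⟩
  · rw [hD]; exact inf_le_left
  · exact φ.surjective.comp hfsurj
  · rw [← hfker]
    ext d
    rw [MonoidHom.mem_ker, MonoidHom.mem_ker, MonoidHom.comp_apply]
    constructor
    · intro h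
      apply φ.injective
      rw [map_one]
      exact h
    · intro h
      rw [h]; exact map_one _

end Cfsg.Agent.Helper4.COP
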