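import Mathlib
import Cfsg.Prelude.Def_PLocal
import Cfsg.Prelude.Def_Local
import Cfsg.Agent.Lib.Helper4.CoprimeOp4

/-!
# Coprime operators: the concrete situation `K, X ≤ G` with `X ≤ N_G(K)` (helper4)
-/

set_option autoImplicit false
set_option linter.unusedSectionVars false
set_option linter.unusedVariables false
set_option linter.style.haveILetI false

namespace Cfsg.Agent.Helper4.COP

open scoped commutatorElement Pointwise
open Cfsg

variable {G : Type*} [Group G] (K X : Subgroup G)

/-- the inclusion of `K` into `K ⊔ X` -/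
def incl : ↥K →* ↥(K ⊔ X) := Subgroup.inclusion (le_sup_left : K ≤ K ⊔ X)

theorem incl_injective : Function.Injective (incl K X) :=
  Subgroup.inclusion_injective _

theorem coe_incl (k : ↥K) : ((incl K X k : ↥(K ⊔ X)) : G) = (k : G) := rfl

theorem mem_range_incl (y : ↥(K ⊔ X)) : y ∈ (incl K X).range ↔ (y : G) ∈ K := by
  constructor
  · rintro ⟨k, rfl⟩
    exact k.2
  · intro h
    exact ⟨⟨(y : G), h⟩, rfl⟩

theorem incl_range_normal (hXK : X ≤ Subgroup.normalizer (K : Set G)) :
    (incl K X).range.Normal := by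
  constructor
  intro n hn g
  rw [mem_range_incl] at hn ⊢
  have hg : (g : G) ∈ Subgroup.normalizer (K : Set G) :=
    (sup_le Subgroup.le_normalizer hXK) g.2
  exact (Subgroup.mem_normalizer_iff.mp hg _).mp hn

theorem isPGroup_of_isElementaryAbelian {q : ℕ} (hX : Cfsg.IsElementaryAbelian q X) :
    IsPGroup q ↥(X.subgroupOf (K ⊔ X)) := by
  intro x
  refine ⟨1, ?_⟩
  rw [pow_one]
  apply Subtype.ext
  apply Subtype.ext
  have := hX.2 (x : ↥(K ⊔ X)) x.2
  simpa using this

theorem mem_centralizer_subgroupOf (y : ↥(K ⊔ X)) :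
    y ∈ Subgroup.centralizer ((X.subgroupOf (K ⊔ X) : Subgroup ↥(K ⊔ X)) : Set ↥(K ⊔ X)) ↔
      (y : G) ∈ Subgroup.centralizer (X : Set G) := by
  rw [Subgroup.mem_centralizer_iff, Subgroup.mem_centralizer_iff]
  constructor
  · intro h x hx
    have := h ⟨x, Subgroup.mem_sup_right hx⟩ (by
      show (⟨x, Subgroup.mem_sup_right hx⟩ : ↥(K ⊔ X)) ∈ X.subgroupOf (K ⊔ X)
      rw [Subgroup.mem_subgroupOf]; exact hx)
    exact congrArg Subtype.val this
  · intro h x hx
    apply Subtype.ext
    exact h (x : G) (Subgroup.mem_subgroupOf.mp hx)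

end Cfsg.Agent.Helper4.COP
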