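import Mathlib
import Cfsg.Prelude.Def_PLocal
import Cfsg.Prelude.Def_Local
import Cfsg.Agent.Lib.Helper4.CoprimeOp3
import Cfsg.Agent.Lib.Helper16.Basic

/-!
# Coprime operators on a `p`-solvable group with trivial `p'`-core: generation (helper4)
-/

set_option autoImplicit false
set_option linter.unusedSectionVars false
set_option linter.unusedVariables false
set_option linter.style.haveILetI false

namespace Cfsg.Agent.Helper4.COP

open scoped commutatorElement Pointwise
open Cfsg
open Cfsg.Agent.Helper4.HOL (Hol psi VV)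

variable {P Γ : Type*} [Group P] [Group Γ] [Finite P] [Finite Γ] {p : ℕ} [hp : Fact p.Prime]
  (ι : P →* Γ) (hι : Function.Injective ι) (hN : ι.range.Normal)
  (X : Subgroup Γ) {q : ℕ} [hq' : Fact q.Prime] (hXq : IsPGroup q ↥X) (hq : ¬ q ∣ Nat.card P)

/-- every `p`-subgroup of the image of a normal subgroup `J` is conjugate in the image into the
image of a given Sylow `p`-subgroup -/
theorem exists_conj_le_map_sylow {Q : Type*} [Group Q] (f : P →* Q) (J : Subgroup P)
    [hJ : J.Normal] (S : Sylow p P) (B : Subgroup Q) (hBJ : B ≤ J.map f) (hB : IsPGroup p ↥B) :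
    ∃ h ∈ J.map f, OG.cj h B ≤ (S : Subgroup P).map f := by
  haveI : Finite ↥(J.map f) := Finite.of_surjective _ (f.subgroupMap_surjective J)
  obtain ⟨TH, hTH⟩ : ∃ TH : Sylow p ↥(J.map f), (TH : Subgroup ↥(J.map f)) =
      ((S : Subgroup P).subgroupOf J).map (f.subgroupMap J) :=
    ⟨(Cfsg.Agent.Helper16.sylowInfNormal S J).mapSurjective (f.subgroupMap_surjective J), by
      rw [Sylow.coe_mapSurjective, Cfsg.Agent.Helper16.coe_sylowInfNormal]⟩
  have hBp : IsPGroup p ↥(B.subgroupOf (J.map f)) := hB.comap_subtype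
  obtain ⟨k, hk⟩ := Cfsg.Agent.Helper16.exists_conj_le_sylow hBp TH
  refine ⟨(k : Q), k.2, ?_⟩
  intro y hy
  rw [OG.mem_cj] at hy
  have hbH : (k : Q)⁻¹ * y * (k : Q) ∈ J.map f := hBJ hy
  have h1 := hk ⟨_, hbH⟩ (by rw [Subgroup.mem_subgroupOf]; exact hy)
  rw [hTH] at h1
  obtain ⟨s, hs, hs'⟩ := h1
  have hs : (s : P) ∈ (S : Subgroup P) := Subgroup.mem_subgroupOf.mp hs
  refine ⟨(s : P), hs, ?_⟩
  have h2 := congrArg Subtype.val hs'
  have h3 : ((f.subgroupMap J s : ↥(J.map f)) : Q) = f (s : P) := rfl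
  rw [h3] at h2
  rw [h2]
  show (k : Q) * ((k : Q)⁻¹ * y * (k : Q)) * (k : Q)⁻¹ = y
  group

include hι hN hXq hq in
/-- K–S 9.3.10 in abstract form -/
theorem generation (hsep : IsPSolvable p P) (hO : pPrimeCore p P = ⊥) (S : Sylow p P) :
    Subgroup.normalizer (thompsonSubgroupOf p (S : Subgroup P) : Set P) ⊔
      Subgroup.centralizer (omegaOne p ((S : Subgroup P) ⊓
        Subgroup.centralizer ((S : Subgroup P) : Set P)) : Set P) ⊔
      (Subgroup.centralizer (X : Set Γ)).comap ι = ⊤ := by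
  by_cases hfacT : IsThompsonFactorizable p P
  · rw [eq_top_iff]
    intro g _
    obtain ⟨x, hx, c, hc, n, hn, rfl⟩ := hfacT S g
    rw [hO, Subgroup.mem_bot] at hx
    rw [hx, one_mul]
    exact Subgroup.mem_sup_left (Subgroup.mul_mem _ (Subgroup.mem_sup_right hc)
      (Subgroup.mem_sup_left hn))
  obtain ⟨V, hV⟩ : ∃ V : Subgroup Γ, V = (ZO p P).map ι := ⟨_, rfl⟩
  haveI hVn : V.Normal := by
    rw [hV]; exact map_normal_of_characteristic ι hι hN (ZO p P)
  obtain ⟨hVe, hOp, hfac⟩ := zo_facts (p := p) hsep hO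
  have hJ : ¬ thompsonSubgroup p P ≤ Subgroup.centralizer ((ZO p P : Subgroup P) : Set P) :=
    fun h => hfacT (hfac.mpr h)
  have hS := setting ι hι V hV hsep hVe hOp hJ
  have hI := OG.inputs_of_setting hS
  haveI hJc : (thompsonSubgroup p P).Characteristic := (Cfsg.Agent.S0602.result (p := p)).1
  haveI hJn : (thompsonSubgroup p P).Normal := inferInstance
  have h𝔛V := HOL.map_psi_le_normalizer V X
  have h𝔛H := map_psi_le_normalizer_map ι hι hN V X (thompsonSubgroup p P)
  have h𝔛q : IsPGroup q ↥(X.map (psi V)) := hXq.map (psi V)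
  have hqH := not_dvd_card_map ι V hq (thompsonSubgroup p P)
  have hker := ker_psi_comp ι hι V hV
  -- generation in the holomorph
  have hgen := OG.H_le_fixed_sup hS hI h𝔛V h𝔛H h𝔛q hqH ((S : Subgroup P).map ((psi V).comp ι))
    (fun B hB => exists_conj_le_map_sylow ((psi V).comp ι) (thompsonSubgroup p P) S B hB.1
      (OG.mo_isPGroup hS hB))
  -- pull back
  obtain ⟨M₀, hM₀⟩ : ∃ M₀ : Subgroup P, M₀ = (Subgroup.centralizer (X : Set Γ)).comap ι ⊔
      (S : Subgroup P) ⊔ ((psi V).comp ι).ker := ⟨_, rfl⟩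
  have hfix : (thompsonSubgroup p P).map ((psi V).comp ι) ⊓
      Subgroup.centralizer ((X.map (psi V) : Subgroup (Hol V)) : Set (Hol V)) ≤
      ((Subgroup.centralizer (X : Set Γ)).comap ι).map ((psi V).comp ι) := by
    rintro _ ⟨⟨j, hj, rfl⟩, hc⟩
    obtain ⟨k, hk1, hk2⟩ := lift_fixed ι hι hN V X hXq hq j hc
    exact ⟨k, hk1, hk2⟩
  have hJM : thompsonSubgroup p P ≤ M₀ := by
    intro j hj
    have h1 : ((psi V).comp ι) j ∈ M₀.map ((psi V).comp ι) := by
      have h2 : ((psi V).comp ι) j ∈ (thompsonSubgroup p P).map ((psi V).comp ι) := ⟨j, hj, rfl⟩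
      refine (sup_le (hfix.trans (Subgroup.map_mono ?_)) (Subgroup.map_mono ?_)) (hgen h2)
      · rw [hM₀]; exact le_sup_left.trans le_sup_left
      · rw [hM₀]; exact le_sup_right.trans le_sup_left
    have h3 : j ∈ (M₀.map ((psi V).comp ι)).comap ((psi V).comp ι) := h1
    rw [Subgroup.comap_map_eq] at h3
    have h4 : M₀ ⊔ ((psi V).comp ι).ker = M₀ := by
      rw [sup_eq_left, hM₀]; exact le_sup_right
    rwa [h4] at h3
  have hM₀le : M₀ ≤ Subgroup.normalizer (thompsonSubgroupOf p (S : Subgroup P) : Set P) ⊔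
      Subgroup.centralizer (omegaOne p ((S : Subgroup P) ⊓
        Subgroup.centralizer ((S : Subgroup P) : Set P)) : Set P) ⊔
      (Subgroup.centralizer (X : Set Γ)).comap ι := by
    rw [hM₀]
    apply sup_le (sup_le le_sup_right _) _
    · refine le_trans ?_ (le_sup_left.trans le_sup_left)
      apply SNP.le_normalizer_of_forall_conj_mem
      rintro g hg _ ⟨j, hj, rfl⟩
      have hch : (thompsonSubgroup p ↥(S : Subgroup P)).Characteristic :=
        Cfsg.Agent.Helper3.thompsonSubgroup_characteristic p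
      have hn : (thompsonSubgroup p ↥(S : Subgroup P)).Normal := inferInstance
      exact ⟨⟨g, hg⟩ * j * ⟨g, hg⟩⁻¹, hn.conj_mem j hj ⟨g, hg⟩, rfl⟩
    · refine le_trans ?_ (le_sup_right.trans le_sup_left)
      rw [hker]
      apply Subgroup.centralizer_le
      exact le_iSup (fun S : Sylow p P => Cfsg.omegaOne p ((S : Subgroup P) ⊓
        Subgroup.centralizer ((S : Subgroup P) : Set P))) S
  -- Frattini
  have hfr := Cfsg.Agent.Helper16.normalizer_inf_sup_eq_top S (thompsonSubgroup p P)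
  have hNle := Cfsg.Agent.S0608.normalizer_inf_le S
  rw [eq_top_iff, ← hfr]
  apply sup_le
  · exact hNle.trans (le_sup_left.trans le_sup_left)
  · exact hJM.trans hM₀le

end Cfsg.Agent.Helper4.COP
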