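import Mathlib

/-!
# S4291 piece U1 (for helper19): normal subgroups of `A₄, S₄, A₅, S₅` with cyclic Sylow
2-subgroups are trivial
-/

set_option autoImplicit false

namespace Cfsg.Agent.Helper4.FC5U

/-- In a finite group with cyclic Sylow `2`-subgroups two commuting involutions are equal. -/
theorem eq_of_commute_invol {M : Type*} [Group M] [Finite M] (h : ∀ P : Sylow 2 M, IsCyclic P)
    {d d' : M} (hd : d * d = 1) (hd' : d' * d' = 1) (h1 : d ≠ 1) (h1' : d' ≠ 1)
    (hc : d * d' = d' * d) : d = d' := by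
  classical
  by_contra hne
  have : Fact (Nat.Prime 2) := ⟨Nat.prime_two⟩
  set K : Subgroup M := Subgroup.closure {d, d'} with hK
  have hdK : d ∈ K := Subgroup.subset_closure (by simp)
  have hdK' : d' ∈ K := Subgroup.subset_closure (by simp)
  have hKcomm : IsMulCommutative K := by
    apply Subgroup.isMulCommutative_closure
    intro x hx y hy
    rcases hx with rfl | hx <;> rcases hy with rfl | hy
    · rfl
    · rw [Set.mem_singleton_iff] at hy; subst hy; exact hc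
    · rw [Set.mem_singleton_iff] at hx; subst hx; exact hc.symm
    · rw [Set.mem_singleton_iff] at hx hy; subst hx; subst hy; rfl
  have hKc : ∀ a ∈ K, ∀ b ∈ K, a * b = b * a := by
    intro a ha b hb
    have := hKcomm.is_comm.comm (⟨a, ha⟩ : K) ⟨b, hb⟩
    exact congrArg Subtype.val this
  have hKsq : ∀ a ∈ K, a * a = 1 := by
    intro a ha
    induction ha using Subgroup.closure_induction with
    | mem x hx =>
      rcases hx with rfl | hx
      · exact hd
      · rw [Set.mem_singleton_iff] at hx; subst hx; exact hd'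
    | one => exact one_mul 1
    | mul x y hx hy ihx ihy =>
      calc x * y * (x * y) = x * (y * x) * y := by group
        _ = x * (x * y) * y := by rw [hKc y hy x hx]
        _ = (x * x) * (y * y) := by group
        _ = 1 := by rw [ihx, ihy, one_mul]
    | inv x hx ih =>
      calc x⁻¹ * x⁻¹ = (x * x)⁻¹ := by group
        _ = 1 := by rw [ih, inv_one]
  have hKp : IsPGroup 2 K := by
    intro g
    refine ⟨1, ?_⟩
    apply Subtype.ext
    rw [pow_one, pow_two, Subgroup.coe_mul, Subgroup.coe_one]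
    exact hKsq g g.2
  obtain ⟨P, hP⟩ := hKp.exists_le_sylow
  have hcyc := h P
  have hdP : d ∈ (P : Subgroup M) := hP hdK
  have hdP' : d' ∈ (P : Subgroup M) := hP hdK'
  have := Fintype.ofFinite (P : Subgroup M)
  have hle := IsCyclic.card_pow_eq_one_le (α := (P : Subgroup M)) (n := 2) (by norm_num)
  have hsub : ({1, ⟨d, hdP⟩, ⟨d', hdP'⟩} : Finset (P : Subgroup M)) ⊆
      Finset.univ.filter (fun a : (P : Subgroup M) => a ^ 2 = 1) := by
    intro x hx
    simp only [Finset.mem_insert, Finset.mem_singleton] at hx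
    simp only [Finset.mem_filter, Finset.mem_univ, true_and]
    rcases hx with rfl | rfl | rfl
    · exact one_pow 2
    · apply Subtype.ext; rw [pow_two]; exact hd
    · apply Subtype.ext; rw [pow_two]; exact hd'
  have hcard : ({1, ⟨d, hdP⟩, ⟨d', hdP'⟩} : Finset (P : Subgroup M)).card = 3 := by
    rw [Finset.card_insert_of_notMem, Finset.card_insert_of_notMem, Finset.card_singleton]
    · simp only [Finset.mem_singleton]
      intro h; exact hne (congrArg Subtype.val h)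
    · simp only [Finset.mem_insert, Finset.mem_singleton, not_or]
      exact ⟨fun h => h1 (congrArg Subtype.val h).symm, fun h => h1' (congrArg Subtype.val h).symm⟩
  have := Finset.card_le_card hsub
  omega

set_option maxRecDepth 100000 in
/-- the recipe in `S₄` (even conjugators for even `g`) -/
theorem recipe_s4 : ∀ g : Equiv.Perm (Fin 4), g ≠ 1 →
    ∃ a b : Equiv.Perm (Fin 4),
      (Equiv.Perm.sign g = 1 → Equiv.Perm.sign a = 1 ∧ Equiv.Perm.sign b = 1) ∧
      g⁻¹ * (b * g * b⁻¹) ≠ 1 ∧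
      (g⁻¹ * (b * g * b⁻¹)) * (g⁻¹ * (b * g * b⁻¹)) = 1 ∧
      a * (g⁻¹ * (b * g * b⁻¹)) * a⁻¹ ≠ g⁻¹ * (b * g * b⁻¹) ∧
      (g⁻¹ * (b * g * b⁻¹)) * (a * (g⁻¹ * (b * g * b⁻¹)) * a⁻¹) =
        (a * (g⁻¹ * (b * g * b⁻¹)) * a⁻¹) * (g⁻¹ * (b * g * b⁻¹)) := by
  decide +kernel

/-- conjugates of involutions -/
theorem conj_invol {T : Type*} [Group T] {a d : T} (hd : d * d = 1) :
    (a * d * a⁻¹) * (a * d * a⁻¹) = 1 := by
  calc (a * d * a⁻¹) * (a * d * a⁻¹) = a * (d * d) * a⁻¹ := by group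
    _ = 1 := by rw [hd, mul_one, mul_inv_cancel]

theorem conj_ne_one {T : Type*} [Group T] {a d : T} (hd : d ≠ 1) : a * d * a⁻¹ ≠ 1 := by
  intro h
  apply hd
  calc d = a⁻¹ * (a * d * a⁻¹) * a := by group
    _ = 1 := by rw [h, mul_one, inv_mul_cancel]

/-- **U1** for `S₄` -/
theorem normal_cyc_s4 (M : Subgroup (Equiv.Perm (Fin 4))) [hM : M.Normal]
    (h : ∀ P : Sylow 2 M, IsCyclic P) : M = ⊥ := by
  by_contra hne
  obtain ⟨g, hg1⟩ := (Subgroup.ne_bot_iff_exists_ne_one).mp hne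
  have hg0 : (g : Equiv.Perm (Fin 4)) ≠ 1 := fun e => hg1 (Subtype.ext e)
  obtain ⟨a, b, -, h1, h2, h3, h4⟩ := recipe_s4 (g : Equiv.Perm (Fin 4)) hg0
  set d : Equiv.Perm (Fin 4) := (g : Equiv.Perm (Fin 4))⁻¹ * (b * g * b⁻¹) with hd
  have hdM : d ∈ M := M.mul_mem (M.inv_mem g.2) (hM.conj_mem _ g.2 b)
  have hdM' : a * d * a⁻¹ ∈ M := hM.conj_mem _ hdM a
  have := eq_of_commute_invol (M := M) h (d := ⟨d, hdM⟩) (d' := ⟨a * d * a⁻¹, hdM'⟩)
    (Subtype.ext h2) (Subtype.ext (conj_invol h2)) (fun e => h1 (congrArg Subtype.val e))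
    (fun e => conj_ne_one h1 (congrArg Subtype.val e)) (Subtype.ext h4)
  exact h3 (congrArg Subtype.val this).symm

/-- **U1** for `A₄` -/
theorem normal_cyc_a4 (M : Subgroup (alternatingGroup (Fin 4))) [hM : M.Normal]
    (h : ∀ P : Sylow 2 M, IsCyclic P) : M = ⊥ := by
  by_contra hne
  obtain ⟨g, hg1⟩ := (Subgroup.ne_bot_iff_exists_ne_one).mp hne
  have hg0 : ((g : alternatingGroup (Fin 4)) : Equiv.Perm (Fin 4)) ≠ 1 :=
    fun e => hg1 (Subtype.ext (Subtype.ext e))
  have hsg : Equiv.Perm.sign ((g : alternatingGroup (Fin 4)) : Equiv.Perm (Fin 4)) = 1 :=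
    Equiv.Perm.mem_alternatingGroup.mp (g : alternatingGroup (Fin 4)).2
  obtain ⟨a, b, hab, h1, h2, h3, h4⟩ :=
    recipe_s4 ((g : alternatingGroup (Fin 4)) : Equiv.Perm (Fin 4)) hg0
  obtain ⟨ha, hb⟩ := hab hsg
  set A : alternatingGroup (Fin 4) := ⟨a, Equiv.Perm.mem_alternatingGroup.mpr ha⟩ with hA
  set B : alternatingGroup (Fin 4) := ⟨b, Equiv.Perm.mem_alternatingGroup.mpr hb⟩ with hB
  set d : alternatingGroup (Fin 4) := (g : alternatingGroup (Fin 4))⁻¹ * (B * g * B⁻¹) with hd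
  have hdM : d ∈ M := M.mul_mem (M.inv_mem g.2) (hM.conj_mem _ g.2 B)
  have hdM' : A * d * A⁻¹ ∈ M := hM.conj_mem _ hdM A
  have e1 : d ≠ 1 := fun e => h1 (congrArg Subtype.val e)
  have e2 : d * d = 1 := Subtype.ext h2
  have e3 : A * d * A⁻¹ ≠ d := fun e => h3 (congrArg Subtype.val e)
  have e4 : d * (A * d * A⁻¹) = (A * d * A⁻¹) * d := Subtype.ext h4
  have := eq_of_commute_invol (M := M) h (d := ⟨d, hdM⟩) (d' := ⟨A * d * A⁻¹, hdM'⟩)
    (Subtype.ext e2) (Subtype.ext (conj_invol e2)) (fun e => e1 (congrArg Subtype.val e))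
    (fun e => conj_ne_one e1 (congrArg Subtype.val e)) (Subtype.ext e4)
  exact e3 (congrArg Subtype.val this).symm

/-- two commuting involutions of `A₅` -/
def inv5a : alternatingGroup (Fin 5) :=
  ⟨Equiv.swap 0 1 * Equiv.swap 2 3, by rw [Equiv.Perm.mem_alternatingGroup]; decide⟩

def inv5b : alternatingGroup (Fin 5) :=
  ⟨Equiv.swap 0 2 * Equiv.swap 1 3, by rw [Equiv.Perm.mem_alternatingGroup]; decide⟩

theorem inv5_facts : inv5a * inv5a = 1 ∧ inv5b * inv5b = 1 ∧ inv5a ≠ 1 ∧ inv5b ≠ 1 ∧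
    inv5a * inv5b = inv5b * inv5a ∧ inv5a ≠ inv5b := by
  refine ⟨Subtype.ext ?_, Subtype.ext ?_, fun e => ?_, fun e => ?_, Subtype.ext ?_, fun e => ?_⟩
  · show (Equiv.swap (0 : Fin 5) 1 * Equiv.swap 2 3) * (Equiv.swap 0 1 * Equiv.swap 2 3) = 1
    decide
  · show (Equiv.swap (0 : Fin 5) 2 * Equiv.swap 1 3) * (Equiv.swap 0 2 * Equiv.swap 1 3) = 1
    decide
  · have : (Equiv.swap (0 : Fin 5) 1 * Equiv.swap 2 3) = 1 := congrArg Subtype.val e
    revert this; decide
  · have : (Equiv.swap (0 : Fin 5) 2 * Equiv.swap 1 3) = 1 := congrArg Subtype.val e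
    revert this; decide
  · show (Equiv.swap (0 : Fin 5) 1 * Equiv.swap 2 3) * (Equiv.swap 0 2 * Equiv.swap 1 3) =
      (Equiv.swap 0 2 * Equiv.swap 1 3) * (Equiv.swap 0 1 * Equiv.swap 2 3)
    decide
  · have : (Equiv.swap (0 : Fin 5) 1 * Equiv.swap 2 3) = (Equiv.swap 0 2 * Equiv.swap 1 3) :=
      congrArg Subtype.val e
    revert this; decide

/-- **U1** for `A₅` -/
theorem normal_cyc_a5 (M : Subgroup (alternatingGroup (Fin 5))) [hM : M.Normal]
    (h : ∀ P : Sylow 2 M, IsCyclic P) : M = ⊥ := by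
  rcases alternatingGroup.normal_subgroup_eq_bot_or_eq_top (α := Fin 5) (by simp) (N := M)
    with h0 | h0
  · exact h0
  · exfalso
    obtain ⟨f1, f2, f3, f4, f5, f6⟩ := inv5_facts
    have ha : inv5a ∈ M := by rw [h0]; exact Subgroup.mem_top _
    have hb : inv5b ∈ M := by rw [h0]; exact Subgroup.mem_top _
    have := eq_of_commute_invol (M := M) h (d := ⟨inv5a, ha⟩) (d' := ⟨inv5b, hb⟩)
      (Subtype.ext f1) (Subtype.ext f2) (fun e => f3 (congrArg Subtype.val e))
      (fun e => f4 (congrArg Subtype.val e)) (Subtype.ext f5)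
    exact f6 (congrArg Subtype.val this)

/-- **U1** for `S₅` -/
theorem normal_cyc_s5 (M : Subgroup (Equiv.Perm (Fin 5))) [hM : M.Normal]
    (h : ∀ P : Sylow 2 M, IsCyclic P) : M = ⊥ := by
  by_contra hne
  have hnt : Nontrivial M := (Subgroup.nontrivial_iff_ne_bot M).mpr hne
  have hle := Equiv.Perm.alternatingGroup_le_of_normal (α := Fin 5) (by simp) (N := M) hnt
  obtain ⟨f1, f2, f3, f4, f5, f6⟩ := inv5_facts
  have ha : (inv5a : Equiv.Perm (Fin 5)) ∈ M := hle inv5a.2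
  have hb : (inv5b : Equiv.Perm (Fin 5)) ∈ M := hle inv5b.2
  have g1 : (inv5a : Equiv.Perm (Fin 5)) * (inv5a : Equiv.Perm (Fin 5)) = 1 :=
    congrArg Subtype.val f1
  have g2 : (inv5b : Equiv.Perm (Fin 5)) * (inv5b : Equiv.Perm (Fin 5)) = 1 :=
    congrArg Subtype.val f2
  have g3 : (inv5a : Equiv.Perm (Fin 5)) ≠ 1 := fun e => f3 (Subtype.ext e)
  have g4 : (inv5b : Equiv.Perm (Fin 5)) ≠ 1 := fun e => f4 (Subtype.ext e)
  have g5 : (inv5a : Equiv.Perm (Fin 5)) * (inv5b : Equiv.Perm (Fin 5)) =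
      (inv5b : Equiv.Perm (Fin 5)) * (inv5a : Equiv.Perm (Fin 5)) := congrArg Subtype.val f5
  have g6 : (inv5a : Equiv.Perm (Fin 5)) ≠ (inv5b : Equiv.Perm (Fin 5)) :=
    fun e => f6 (Subtype.ext e)
  have := eq_of_commute_invol (M := M) h (d := ⟨inv5a, ha⟩) (d' := ⟨inv5b, hb⟩)
    (Subtype.ext g1) (Subtype.ext g2) (fun e => g3 (congrArg Subtype.val e))
    (fun e => g4 (congrArg Subtype.val e)) (Subtype.ext g5)
  have this' : (inv5a : Equiv.Perm (Fin 5)) = (inv5b : Equiv.Perm (Fin 5)) :=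
    congrArg (fun x : M => (x : Equiv.Perm (Fin 5))) this
  exact g6 this'

end Cfsg.Agent.Helper4.FC5U
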