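import Mathlib
import Cfsg.Agent.Lib.Helper19.FC5Defs
import Cfsg.Agent.Lib.Helper5.FCQuot

/-!
# S4291 piece U2 (for helper19): a normal subgroup containing all squares of a group whose
Sylow `2`-subgroups are cyclic or generalized quaternion has index at most `4`
-/

set_option autoImplicit false

namespace Cfsg.Agent.Helper4.FC5U

open Cfsg Cfsg.Agent.Helper5 Cfsg.Agent.Helper16

/-- powers of an involution -/
theorem pow_invol {Q : Type*} [Group Q] {u : Q} (hu : u * u = 1) (k : ℕ) : u ^ k = 1 ∨ u ^ k = u := by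
  induction k with
  | zero => left; exact pow_zero u
  | succ k ih =>
    rcases ih with h | h
    · right; rw [pow_succ, h, one_mul]
    · left; rw [pow_succ, h, hu]

theorem zpow_invol {Q : Type*} [Group Q] {u : Q} (hu : u * u = 1) (k : ℤ) : u ^ k = 1 ∨ u ^ k = u := by
  have hinv : u⁻¹ = u := inv_eq_of_mul_eq_one_left hu
  cases k with
  | ofNat k => rw [Int.ofNat_eq_natCast, zpow_natCast]; exact pow_invol hu k
  | negSucc k =>
    rw [zpow_negSucc]
    rcases pow_invol hu (k + 1) with h | h
    · left; rw [h, inv_one]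
    · right; rw [h, hinv]

/-- a group all of whose elements are `1, u, v, v * u` has at most four elements -/
theorem card_le_four_of_forall {Q : Type*} [Group Q] [Finite Q] (u v : Q)
    (h : ∀ q : Q, q = 1 ∨ q = u ∨ q = v ∨ q = v * u) : Nat.card Q ≤ 4 := by
  classical
  have := Fintype.ofFinite Q
  rw [Nat.card_eq_fintype_card, ← Finset.card_univ]
  have hsub : (Finset.univ : Finset Q) ⊆ {1, u, v, v * u} := by
    intro q _
    simp only [Finset.mem_insert, Finset.mem_singleton]
    exact h q
  exact (Finset.card_le_card hsub).trans Finset.card_le_four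

/-- **U2** -/
theorem index_le_four {G : Type*} [Group G] [Finite G] (hF : FCFacts G) (M : Subgroup G)
    [M.Normal] (hexp : ∀ g : G, g * g ∈ M) : M.index ≤ 4 := by
  classical
  have : Fact (Nat.Prime 2) := ⟨Nat.prime_two⟩
  rw [Subgroup.index_eq_card]
  -- the quotient has exponent two
  have hsq : ∀ q : G ⧸ M, q * q = 1 := by
    intro q
    obtain ⟨g, rfl⟩ := QuotientGroup.mk_surjective q
    rw [← QuotientGroup.mk_mul, QuotientGroup.eq_one_iff]
    exact hexp g
  have hQ2 : IsPGroup 2 (G ⧸ M) := by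
    intro q
    exact ⟨1, by rw [pow_one, pow_two]; exact hsq q⟩
  -- every element of the quotient comes from a Sylow `2`-subgroup
  let T : Sylow 2 G := default
  have hsurj := QuotientGroup.mk'_surjective M
  have htop : ((T.mapSurjective hsurj : Sylow 2 (G ⧸ M)) : Subgroup (G ⧸ M)) = ⊤ := by
    have := (T.mapSurjective hsurj).is_maximal' (Q := ⊤)
      (hQ2.to_subgroup ⊤) le_top
    exact this.symm
  have hT : ∀ q : G ⧸ M, ∃ t : T, (QuotientGroup.mk' M) (t : G) = q := by
    intro q
    have hq : q ∈ ((T.mapSurjective hsurj : Sylow 2 (G ⧸ M)) : Subgroup (G ⧸ M)) := by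
      rw [htop]; exact Subgroup.mem_top q
    rw [Sylow.coe_mapSurjective] at hq
    obtain ⟨t, ht, rfl⟩ := hq
    exact ⟨⟨t, ht⟩, rfl⟩
  let ψ : T →* G ⧸ M := (QuotientGroup.mk' M).comp (T : Subgroup G).subtype
  have hψ : ∀ q : G ⧸ M, ∃ t : T, ψ t = q := hT
  rcases (hF.subgroup T).cyclic_or_quaternion T.2 with hc | ⟨n, ⟨e⟩⟩
  · obtain ⟨t0, ht0⟩ := hc.exists_generator
    apply card_le_four_of_forall (ψ t0) 1
    intro q
    obtain ⟨t, rfl⟩ := hψ q
    obtain ⟨k, rfl⟩ := Subgroup.mem_zpowers_iff.mp (ht0 t)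
    rw [map_zpow]
    rcases zpow_invol (hsq (ψ t0)) k with h | h
    · exact Or.inl h
    · exact Or.inr (Or.inl h)
  · have hne : NeZero (2 * 2 ^ n) := ⟨by positivity⟩
    let φ : QuaternionGroup (2 ^ n) →* G ⧸ M := ψ.comp e.symm.toMonoidHom
    have hφ : ∀ q : G ⧸ M, ∃ x : QuaternionGroup (2 ^ n), φ x = q := by
      intro q
      obtain ⟨t, rfl⟩ := hψ q
      exact ⟨e t, by simp [φ]⟩
    set u : G ⧸ M := φ (QuaternionGroup.a 1) with hu
    set v : G ⧸ M := φ (QuaternionGroup.xa 0) with hv
    have ha : ∀ i : ZMod (2 * 2 ^ n), φ (QuaternionGroup.a i) = 1 ∨ φ (QuaternionGroup.a i) = u := by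
      intro i
      have h1 : (QuaternionGroup.a i : QuaternionGroup (2 ^ n)) = QuaternionGroup.a 1 ^ i.val := by
        rw [QuaternionGroup.a_one_pow, ZMod.natCast_zmod_val]
      rw [h1, map_pow]
      exact pow_invol (hsq u) _
    apply card_le_four_of_forall u v
    intro q
    obtain ⟨x, rfl⟩ := hφ q
    cases x with
    | a i =>
      rcases ha i with h | h
      · exact Or.inl h
      · exact Or.inr (Or.inl h)
    | xa i =>
      have h1 : (QuaternionGroup.xa i : QuaternionGroup (2 ^ n)) =
          QuaternionGroup.xa 0 * QuaternionGroup.a i := by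
        rw [QuaternionGroup.xa_mul_a, zero_add]
      rw [h1, map_mul]
      rcases ha i with h | h
      · right; right; left; rw [h, mul_one]
      · right; right; right; rw [h]

end Cfsg.Agent.Helper4.FC5U
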