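import Mathlib
import Cfsg.Prelude.Def_Solvable
import Cfsg.Agent.Lib.Helper21.GAG39Defs
import Cfsg.Agent.Lib.Helper21.BaerSuzuki

/-!
# S4839 piece G39-DIHA: a pair of involutions whose product does not have `2`-power order
-/

set_option autoImplicit false
set_option linter.unusedSectionVars false
set_option linter.unusedVariables false

namespace Cfsg.Agent.Helper21.GAG39

open Cfsg
open scoped Pointwise

/-- an involution inverts, by conjugation, the powers of its product with another involution -/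
theorem gag39_diha_conj_zpow {Q : Type*} [Group Q] (a b : Q) (ha : a * a = 1) (hb : b * b = 1)
    (m : ℤ) : a * (a * b) ^ m * a⁻¹ = (a * b) ^ (-m) := by
  have hainv : a⁻¹ = a := inv_eq_of_mul_eq_one_left ha
  have hbinv : b⁻¹ = b := inv_eq_of_mul_eq_one_left hb
  have h1 : a * (a * b) * a⁻¹ = (a * b)⁻¹ := by
    rw [mul_inv_rev, hainv, hbinv, ← mul_assoc, ha, one_mul]
  rw [← conj_zpow, h1, inv_zpow, zpow_neg]

/-- the elements of the group generated by two involutions -/
theorem gag39_diha_shape {Q : Type*} [Group Q] (a b : Q) (ha : a * a = 1) (hb : b * b = 1) :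
    ∀ g ∈ Subgroup.closure ({a, b} : Set Q),
      (∃ n : ℤ, g = (a * b) ^ n) ∨ (∃ n : ℤ, g = (a * b) ^ n * a) := by
  have hainv : a⁻¹ = a := inv_eq_of_mul_eq_one_left ha
  have hbinv : b⁻¹ = b := inv_eq_of_mul_eq_one_left hb
  have hconj := gag39_diha_conj_zpow a b ha hb
  -- `a c^m = c^(-m) a`
  have hswap : ∀ m : ℤ, a * (a * b) ^ m = (a * b) ^ (-m) * a := by
    intro m
    have := hconj m
    calc a * (a * b) ^ m = (a * (a * b) ^ m * a⁻¹) * a := by group
      _ = (a * b) ^ (-m) * a := by rw [this]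
  intro g hg
  induction hg using Subgroup.closure_induction with
  | mem x hx =>
    rcases hx with rfl | hx
    · right
      exact ⟨0, by simp⟩
    · rw [Set.mem_singleton_iff] at hx
      subst hx
      right
      refine ⟨-1, ?_⟩
      rw [zpow_neg, zpow_one, mul_inv_rev, hainv, hbinv, mul_assoc, ha, mul_one]
  | one => exact Or.inl ⟨0, by simp⟩
  | mul x y _ _ hx hy =>
    rcases hx with ⟨n, rfl⟩ | ⟨n, rfl⟩ <;> rcases hy with ⟨m, rfl⟩ | ⟨m, rfl⟩
    · exact Or.inl ⟨n + m, by rw [zpow_add]⟩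
    · exact Or.inr ⟨n + m, by rw [zpow_add, mul_assoc]⟩
    · right
      refine ⟨n - m, ?_⟩
      rw [mul_assoc, hswap m, ← mul_assoc, ← zpow_add, sub_eq_add_neg]
    · left
      refine ⟨n - m, ?_⟩
      calc (a * b) ^ n * a * ((a * b) ^ m * a)
          = (a * b) ^ n * (a * (a * b) ^ m) * a := by group
        _ = (a * b) ^ n * ((a * b) ^ (-m) * a) * a := by rw [hswap m]
        _ = (a * b) ^ n * (a * b) ^ (-m) * (a * a) := by group
        _ = (a * b) ^ (n - m) := by rw [ha, mul_one, ← zpow_add, sub_eq_add_neg]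
  | inv x _ hx =>
    rcases hx with ⟨n, rfl⟩ | ⟨n, rfl⟩
    · exact Or.inl ⟨-n, by rw [zpow_neg]⟩
    · right
      refine ⟨n, ?_⟩
      rw [mul_inv_rev, hainv, ← zpow_neg, hswap (-n), neg_neg]

/-- two involutions whose product has `2`-power order generate a `2`-group -/
theorem gag39_diha_isPGroup {Q : Type*} [Group Q] (a b : Q) (ha : a * a = 1) (hb : b * b = 1)
    (k : ℕ) (hk : (a * b) ^ (2 ^ k) = 1) : IsPGroup 2 ↥(Subgroup.closure ({a, b} : Set Q)) := by
  have hainv : a⁻¹ = a := inv_eq_of_mul_eq_one_left ha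
  intro g
  rcases gag39_diha_shape a b ha hb g.1 g.2 with ⟨n, hn⟩ | ⟨n, hn⟩
  · refine ⟨k, ?_⟩
    apply Subtype.ext
    rw [Subgroup.coe_pow, hn, Subgroup.coe_one, ← zpow_natCast, ← zpow_mul, mul_comm, zpow_mul,
      zpow_natCast, hk, one_zpow]
  · refine ⟨1, ?_⟩
    apply Subtype.ext
    rw [Subgroup.coe_pow, hn, Subgroup.coe_one, pow_one, pow_two]
    have hconj := gag39_diha_conj_zpow a b ha hb n
    calc (a * b) ^ n * a * ((a * b) ^ n * a)
        = (a * b) ^ n * (a * (a * b) ^ n * a⁻¹) * (a * a) := by group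
      _ = 1 := by rw [hconj, ha, mul_one, ← zpow_add, add_neg_cancel, zpow_zero]

/-- PIECE G39-DIHA [L0, uses Baer–Suzuki `Cfsg.Agent.Helper21.baer_suzuki`]. -/
theorem exists_bad_pair {Q : Type*} [Group Q] [Finite Q] (hcore : pCore 2 Q = ⊥)
    (heven : 2 ∣ Nat.card Q) :
    ∃ a b : Q, orderOf a = 2 ∧ orderOf b = 2 ∧ ¬ ∃ k : ℕ, orderOf (a * b) = 2 ^ k := by
  by_contra hcon
  have hall : ∀ a b : Q, orderOf a = 2 → orderOf b = 2 → ∃ k : ℕ, orderOf (a * b) = 2 ^ k := by
    intro a b ha hb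
    by_contra h
    exact hcon ⟨a, b, ha, hb, h⟩
  have : Fact (Nat.Prime 2) := ⟨Nat.prime_two⟩
  obtain ⟨t, ht⟩ := exists_prime_orderOf_dvd_card' (G := Q) 2 heven
  have htt : t * t = 1 := by
    have := pow_orderOf_eq_one t
    rw [ht, pow_two] at this
    exact this
  have hX : ∀ g : Q, IsPGroup 2 ↥(Subgroup.zpowers t ⊔
      (Subgroup.zpowers t).map (MulAut.conj g).toMonoidHom) := by
    intro g
    have hg2 : orderOf (g * t * g⁻¹) = 2 := by
      have h1 := (MulAut.conj g).orderOf_eq t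
      rw [MulAut.conj_apply] at h1
      rw [h1, ht]
    have hgg : (g * t * g⁻¹) * (g * t * g⁻¹) = 1 := by
      have : (g * t * g⁻¹) * (g * t * g⁻¹) = g * (t * t) * g⁻¹ := by group
      rw [this, htt, mul_one, mul_inv_cancel]
    obtain ⟨k, hk⟩ := hall t (g * t * g⁻¹) ht hg2
    have hk' : (t * (g * t * g⁻¹)) ^ (2 ^ k) = 1 := by
      rw [← hk]
      exact pow_orderOf_eq_one _
    have hP := gag39_diha_isPGroup t (g * t * g⁻¹) htt hgg k hk'
    apply hP.to_le
    apply sup_le
    · rw [Subgroup.zpowers_le]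
      exact Subgroup.subset_closure (Set.mem_insert _ _)
    · rw [Subgroup.map_le_iff_le_comap, Subgroup.zpowers_le, Subgroup.mem_comap]
      show (MulAut.conj g) t ∈ _
      rw [MulAut.conj_apply]
      exact Subgroup.subset_closure (Set.mem_insert_of_mem _ rfl)
  obtain ⟨N, hNn, hNp, hXN⟩ := Cfsg.Agent.Helper21.baer_suzuki (p := 2) (Subgroup.zpowers t) hX
  have hNle : N ≤ pCore 2 Q := by
    unfold pCore
    exact le_sSup ⟨hNn, hNp⟩
  rw [hcore] at hNle
  have htN : t ∈ N := hXN (Subgroup.mem_zpowers t)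
  have ht1 : t = 1 := by
    have := hNle htN
    rwa [Subgroup.mem_bot] at this
  rw [ht1, orderOf_one] at ht
  omega

end Cfsg.Agent.Helper21.GAG39
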