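import Mathlib

set_option autoImplicit false

namespace Cfsg.Agent.Helper4.GL2

/-! Nat-coded 2 × 2 matrices over `ZMod p`, for kernel-friendly `decide` computations. -/

def ua (p c : ℕ) : ℕ := c / (p * p * p) % p
def ub (p c : ℕ) : ℕ := c / (p * p) % p
def uc (p c : ℕ) : ℕ := c / p % p
def ud (p c : ℕ) : ℕ := c % p
def pack (p a b c d : ℕ) : ℕ := ((a * p + b) * p + c) * p + d

theorem ud_pack {p a b c d : ℕ} (hd : d < p) : ud p (pack p a b c d) = d := by
  unfold ud pack
  rw [Nat.add_comm, Nat.add_mul_mod_self_right, Nat.mod_eq_of_lt hd]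

theorem uc_pack {p a b c d : ℕ} (hc : c < p) (hd : d < p) : uc p (pack p a b c d) = c := by
  unfold uc pack
  have hp : 0 < p := by omega
  rw [Nat.add_comm, Nat.add_mul_div_right _ _ hp, Nat.div_eq_of_lt hd, Nat.zero_add,
    Nat.add_comm, Nat.add_mul_mod_self_right, Nat.mod_eq_of_lt hc]

theorem ub_pack {p a b c d : ℕ} (hb : b < p) (hc : c < p) (hd : d < p) :
    ub p (pack p a b c d) = b := by
  unfold ub pack
  have hp : 0 < p := by omega
  rw [← Nat.div_div_eq_div_mul]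
  rw [Nat.add_comm, Nat.add_mul_div_right _ _ hp, Nat.div_eq_of_lt hd, Nat.zero_add,
    Nat.add_comm, Nat.add_mul_div_right _ _ hp, Nat.div_eq_of_lt hc, Nat.zero_add,
    Nat.add_comm, Nat.add_mul_mod_self_right, Nat.mod_eq_of_lt hb]

theorem ua_pack {p a b c d : ℕ} (ha : a < p) (hb : b < p) (hc : c < p) (hd : d < p) :
    ua p (pack p a b c d) = a := by
  unfold ua pack
  have hp : 0 < p := by omega
  rw [← Nat.div_div_eq_div_mul, ← Nat.div_div_eq_div_mul]
  rw [Nat.add_comm, Nat.add_mul_div_right _ _ hp, Nat.div_eq_of_lt hd, Nat.zero_add,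
    Nat.add_comm, Nat.add_mul_div_right _ _ hp, Nat.div_eq_of_lt hc, Nat.zero_add,
    Nat.add_comm, Nat.add_mul_div_right _ _ hp, Nat.div_eq_of_lt hb, Nat.zero_add,
    Nat.mod_eq_of_lt ha]

theorem pack_unpack {p c : ℕ} (hp : 0 < p) (hc : c < p * p * p * p) :
    pack p (ua p c) (ub p c) (uc p c) (ud p c) = c := by
  unfold pack ua ub uc ud
  have h1 : c / (p * p * p) < p := by
    rw [Nat.div_lt_iff_lt_mul (by positivity)]
    calc c < p * p * p * p := hc
      _ = p * (p * p * p) := by ring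
  rw [Nat.mod_eq_of_lt h1]
  have e1 : c / (p * p * p) * p + c / (p * p) % p = c / (p * p) := by
    have : c / (p * p * p) = c / (p * p) / p := by rw [Nat.div_div_eq_div_mul]
    rw [this, Nat.mul_comm]
    exact Nat.div_add_mod _ _
  rw [e1]
  have e2 : c / (p * p) * p + c / p % p = c / p := by
    have : c / (p * p) = c / p / p := by rw [Nat.div_div_eq_div_mul]
    rw [this, Nat.mul_comm]
    exact Nat.div_add_mod _ _
  rw [e2, Nat.mul_comm]
  exact Nat.div_add_mod _ _

/-- decode a code to a matrix -/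
def dec (p c : ℕ) : Matrix (Fin 2) (Fin 2) (ZMod p) :=
  !![(ua p c : ZMod p), (ub p c : ZMod p); (uc p c : ZMod p), (ud p c : ZMod p)]

/-- multiplication on codes -/
def mulC (p x y : ℕ) : ℕ :=
  pack p ((ua p x * ua p y + ub p x * uc p y) % p) ((ua p x * ub p y + ub p x * ud p y) % p)
    ((uc p x * ua p y + ud p x * uc p y) % p) ((uc p x * ub p y + ud p x * ud p y) % p)

theorem dec_mulC (p : ℕ) [NeZero p] (x y : ℕ) : dec p (mulC p x y) = dec p x * dec p y := by
  have hp : 0 < p := Nat.pos_of_ne_zero (NeZero.ne p)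
  have m : ∀ n : ℕ, n % p < p := fun n => Nat.mod_lt _ hp
  unfold mulC dec
  rw [ua_pack (m _) (m _) (m _) (m _), ub_pack (m _) (m _) (m _), uc_pack (m _) (m _), ud_pack (m _)]
  ext i j
  fin_cases i <;> fin_cases j <;>
    simp [Matrix.mul_apply, Fin.sum_univ_two, ZMod.natCast_mod]

theorem ua_lt (p c : ℕ) [NeZero p] : ua p c < p := Nat.mod_lt _ (Nat.pos_of_ne_zero (NeZero.ne p))
theorem ub_lt (p c : ℕ) [NeZero p] : ub p c < p := Nat.mod_lt _ (Nat.pos_of_ne_zero (NeZero.ne p))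
theorem uc_lt (p c : ℕ) [NeZero p] : uc p c < p := Nat.mod_lt _ (Nat.pos_of_ne_zero (NeZero.ne p))
theorem ud_lt (p c : ℕ) [NeZero p] : ud p c < p := Nat.mod_lt _ (Nat.pos_of_ne_zero (NeZero.ne p))

theorem natCast_inj_of_lt {p a b : ℕ} [NeZero p] (ha : a < p) (hb : b < p)
    (h : (a : ZMod p) = (b : ZMod p)) : a = b := by
  have := congrArg ZMod.val h
  rwa [ZMod.val_natCast, ZMod.val_natCast, Nat.mod_eq_of_lt ha, Nat.mod_eq_of_lt hb] at this

theorem dec_inj {p x y : ℕ} [NeZero p] (hx : x < p * p * p * p) (hy : y < p * p * p * p)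
    (h : dec p x = dec p y) : x = y := by
  have hp : 0 < p := Nat.pos_of_ne_zero (NeZero.ne p)
  have h00 := congrFun (congrFun h 0) 0
  have h01 := congrFun (congrFun h 0) 1
  have h10 := congrFun (congrFun h 1) 0
  have h11 := congrFun (congrFun h 1) 1
  simp only [dec, Matrix.of_apply, Matrix.cons_val', Matrix.cons_val_zero, Matrix.cons_val_one,
    Matrix.cons_val_fin_one] at h00 h01 h10 h11
  have e1 := natCast_inj_of_lt (ua_lt p x) (ua_lt p y) h00
  have e2 := natCast_inj_of_lt (ub_lt p x) (ub_lt p y) h01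
  have e3 := natCast_inj_of_lt (uc_lt p x) (uc_lt p y) h10
  have e4 := natCast_inj_of_lt (ud_lt p x) (ud_lt p y) h11
  rw [← pack_unpack hp hx, ← pack_unpack hp hy, e1, e2, e3, e4]

end Cfsg.Agent.Helper4.GL2

namespace Cfsg.Agent.Helper4.GL2

/-- code of the identity matrix -/
def idC (p : ℕ) : ℕ := pack p 1 0 0 1

theorem dec_idC (p : ℕ) [Fact p.Prime] : dec p (idC p) = 1 := by
  have hp : 1 < p := (Fact.out : p.Prime).one_lt
  have : NeZero p := ⟨by omega⟩
  unfold idC dec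
  rw [ua_pack hp (by omega) (by omega) hp, ub_pack (by omega) (by omega) hp,
    uc_pack (by omega) hp, ud_pack hp]
  ext i j
  fin_cases i <;> fin_cases j <;> simp

/-- Bool check: the list is a walk in the Cayley graph: each element is the identity, or `g * y`
for a generator `g` and some later element `y` of the list. -/
def constructible (p : ℕ) (gens : List ℕ) : List ℕ → Bool
  | [] => true
  | x :: rest =>
    (x == idC p || gens.any (fun g => rest.any (fun y => mulC p g y == x))) &&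
      constructible p gens rest

theorem mem_closure_of_constructible (p : ℕ) [Fact p.Prime] (gens : List ℕ) :
    ∀ L : List ℕ, constructible p gens L = true → ∀ x ∈ L,
      dec p x ∈ Submonoid.closure {m : Matrix (Fin 2) (Fin 2) (ZMod p) | ∃ c ∈ gens, dec p c = m}
  | [], _, x, hx => by simp at hx
  | y :: rest, h, x, hx => by
    have : NeZero p := ⟨(Fact.out : p.Prime).ne_zero⟩
    simp only [constructible, Bool.and_eq_true, Bool.or_eq_true, beq_iff_eq, List.any_eq_true] at h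
    obtain ⟨h1, h2⟩ := h
    have ih := mem_closure_of_constructible p gens rest h2
    rcases List.mem_cons.1 hx with rfl | hx'
    · rcases h1 with h1 | ⟨g, hg, z, hz, hgz⟩
      · rw [h1, dec_idC]
        exact Submonoid.one_mem _
      · rw [← hgz, dec_mulC]
        exact Submonoid.mul_mem _ (Submonoid.subset_closure ⟨g, hg, rfl⟩) (ih z hz)
    · exact ih x hx'

/-- Part A: identification of the closure with the decoded list. -/
theorem closure_eq_list (p : ℕ) [Fact p.Prime] (gens L : List ℕ)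
    (hid : idC p ∈ L)
    (hclosed : ∀ g ∈ gens, ∀ x ∈ L, mulC p g x ∈ L)
    (hcons : constructible p gens L = true)
    (S : Set (Matrix.GeneralLinearGroup (Fin 2) (ZMod p)))
    (hS1 : ∀ g ∈ S, ∃ c ∈ gens, dec p c = (g : Matrix (Fin 2) (Fin 2) (ZMod p)))
    (hS2 : ∀ c ∈ gens, ∃ g ∈ S, (g : Matrix (Fin 2) (Fin 2) (ZMod p)) = dec p c) :
    (∀ h ∈ Subgroup.closure S, ∃ x ∈ L, dec p x = (h : Matrix (Fin 2) (Fin 2) (ZMod p))) ∧
    (∀ x ∈ L, ∃ h ∈ Subgroup.closure S, (h : Matrix (Fin 2) (Fin 2) (ZMod p)) = dec p x) := by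
  have : NeZero p := ⟨(Fact.out : p.Prime).ne_zero⟩
  constructor
  · have key : ∀ h ∈ Submonoid.closure S,
        ∃ x ∈ L, dec p x = (h : Matrix (Fin 2) (Fin 2) (ZMod p)) := by
      intro h hh'
      induction hh' using Submonoid.closure_induction_left with
      | one => exact ⟨idC p, hid, by rw [dec_idC]; rfl⟩
      | mul_left g hg y _ ih =>
        obtain ⟨x, hx, hxy⟩ := ih
        obtain ⟨c, hc, hcg⟩ := hS1 g hg
        refine ⟨mulC p c x, hclosed c hc x hx, ?_⟩
        rw [dec_mulC, hcg, hxy]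
        rfl
    intro h hh
    have hh' : h ∈ (Subgroup.closure S).toSubmonoid := hh
    rw [Subgroup.closure_toSubmonoid_of_finite] at hh'
    exact key h hh'
  · have key : ∀ m ∈ Submonoid.closure {m : Matrix (Fin 2) (Fin 2) (ZMod p) | ∃ c ∈ gens, dec p c = m},
        ∃ h ∈ Subgroup.closure S, (h : Matrix (Fin 2) (Fin 2) (ZMod p)) = m := by
      intro m hm
      induction hm using Submonoid.closure_induction_left with
      | one => exact ⟨1, Subgroup.one_mem _, rfl⟩
      | mul_left g hg y _ ih =>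
        obtain ⟨h, hh, hhy⟩ := ih
        obtain ⟨c, hc, hcg⟩ := hg
        obtain ⟨g', hg', hg'c⟩ := hS2 c hc
        refine ⟨g' * h, Subgroup.mul_mem _ (Subgroup.subset_closure hg') hh, ?_⟩
        rw [Units.val_mul, hg'c, hcg, hhy]
    intro x hx
    exact key _ (mem_closure_of_constructible p gens L hcons x hx)

end Cfsg.Agent.Helper4.GL2

namespace Cfsg.Agent.Helper4.GL2

open Matrix

/-- Part A': cardinality of the closure. -/
theorem card_closure (p : ℕ) [Fact p.Prime] (gens L : List ℕ)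
    (hid : idC p ∈ L)
    (hclosed : ∀ g ∈ gens, ∀ x ∈ L, mulC p g x ∈ L)
    (hcons : constructible p gens L = true)
    (hred : ∀ x ∈ L, x < p * p * p * p) (hnodup : L.Nodup)
    (S : Set (Matrix.GeneralLinearGroup (Fin 2) (ZMod p)))
    (hS1 : ∀ g ∈ S, ∃ c ∈ gens, dec p c = (g : Matrix (Fin 2) (Fin 2) (ZMod p)))
    (hS2 : ∀ c ∈ gens, ∃ g ∈ S, (g : Matrix (Fin 2) (Fin 2) (ZMod p)) = dec p c) :
    Nat.card (Subgroup.closure S) = L.length := by
  have : NeZero p := ⟨(Fact.out : p.Prime).ne_zero⟩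
  obtain ⟨F1, F2⟩ := closure_eq_list p gens L hid hclosed hcons S hS1 hS2
  choose f hf1 hf2 using F1
  let φ : ↥(Subgroup.closure S) → {x // x ∈ L} := fun h => ⟨f h.1 h.2, hf1 h.1 h.2⟩
  have hinj : Function.Injective φ := by
    intro h h' hh
    have h1 : f h.1 h.2 = f h'.1 h'.2 := congrArg Subtype.val hh
    have h2 := hf2 h.1 h.2
    rw [h1, hf2 h'.1 h'.2] at h2
    exact Subtype.ext (Units.ext h2.symm)
  have hsurj : Function.Surjective φ := by
    rintro ⟨x, hx⟩
    obtain ⟨h, hh, hhx⟩ := F2 x hx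
    refine ⟨⟨h, hh⟩, Subtype.ext ?_⟩
    change f h hh = x
    apply dec_inj (hred _ (hf1 h hh)) (hred _ hx)
    rw [hf2 h hh, hhx]
  rw [Nat.card_congr (Equiv.ofBijective φ ⟨hinj, hsurj⟩), ← Nat.card_congr (hnodup.getEquiv L)]
  simp

/-- Part B: a subgroup of `GL₂(ZMod p)` of order `p² - 1` in which only the identity fixes the first
basis vector is regular on the non-zero vectors. -/
theorem regular_of_stab (p : ℕ) [Fact p.Prime]
    (H : Subgroup (Matrix.GeneralLinearGroup (Fin 2) (ZMod p)))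
    (hcard : Nat.card H = p ^ 2 - 1)
    (hstab : ∀ h ∈ H, (h : Matrix (Fin 2) (Fin 2) (ZMod p)) *ᵥ ![1, 0] = ![1, 0] → h = 1) :
    ∀ v w : Fin 2 → ZMod p, v ≠ 0 → w ≠ 0 →
      ∃! h : H, ((h : Matrix.GeneralLinearGroup (Fin 2) (ZMod p)) : Matrix (Fin 2) (Fin 2) (ZMod p)) *ᵥ v = w := by
  have hp : 1 < p := (Fact.out : p.Prime).one_lt
  have : NeZero p := ⟨by omega⟩
  have he1 : (![1, 0] : Fin 2 → ZMod p) ≠ 0 := by
    intro h
    have := congrFun h 0
    simp at this
  have hne : ∀ h : H, ((h : Matrix.GeneralLinearGroup (Fin 2) (ZMod p)) : Matrix (Fin 2) (Fin 2) (ZMod p)) *ᵥ ![1, 0] ≠ 0 := by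
    intro h h0
    apply he1
    have h1 : (((h⁻¹ : H) : Matrix.GeneralLinearGroup (Fin 2) (ZMod p)) : Matrix (Fin 2) (Fin 2) (ZMod p)) *ᵥ
        (((h : Matrix.GeneralLinearGroup (Fin 2) (ZMod p)) : Matrix (Fin 2) (Fin 2) (ZMod p)) *ᵥ ![1, 0]) = 0 := by
      rw [h0, Matrix.mulVec_zero]
    rw [Matrix.mulVec_mulVec, ← Units.val_mul, ← Subgroup.coe_mul, inv_mul_cancel] at h1
    simpa using h1
  let φ : H → {v : Fin 2 → ZMod p // v ≠ 0} := fun h => ⟨_, hne h⟩
  have hinj : Function.Injective φ := by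
    intro h k hk
    have h1 : ((h : Matrix.GeneralLinearGroup (Fin 2) (ZMod p)) : Matrix (Fin 2) (Fin 2) (ZMod p)) *ᵥ ![1, 0] =
        ((k : Matrix.GeneralLinearGroup (Fin 2) (ZMod p)) : Matrix (Fin 2) (Fin 2) (ZMod p)) *ᵥ ![1, 0] :=
      congrArg Subtype.val hk
    have h2 : (((k⁻¹ * h : H) : Matrix.GeneralLinearGroup (Fin 2) (ZMod p)) : Matrix (Fin 2) (Fin 2) (ZMod p)) *ᵥ ![1, 0]
        = ![1, 0] := by
      rw [Subgroup.coe_mul, Units.val_mul, ← Matrix.mulVec_mulVec, h1, Matrix.mulVec_mulVec,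
        ← Units.val_mul, ← Subgroup.coe_mul, inv_mul_cancel]
      simp
    have h3 := hstab _ (k⁻¹ * h).2 h2
    have h4 : k⁻¹ * h = 1 := Subtype.ext h3
    calc h = k * (k⁻¹ * h) := by group
      _ = k := by rw [h4, mul_one]
  have hcardX : Nat.card {v : Fin 2 → ZMod p // v ≠ 0} = p ^ 2 - 1 := by
    rw [Nat.card_eq_fintype_card, Fintype.card_subtype_compl, Fintype.card_subtype_eq]
    simp [ZMod.card]
  have hfin : Finite H := by
    apply Nat.finite_of_card_ne_zero
    rw [hcard]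
    have : 2 ^ 2 ≤ p ^ 2 := Nat.pow_le_pow_left hp 2
    omega
  have hbij : Function.Bijective φ :=
    hinj.bijective_of_nat_card_le (by rw [hcardX, hcard])
  intro v w hv hw
  obtain ⟨g, hg⟩ := hbij.2 ⟨v, hv⟩
  obtain ⟨k, hk⟩ := hbij.2 ⟨w, hw⟩
  have hg' : ((g : Matrix.GeneralLinearGroup (Fin 2) (ZMod p)) : Matrix (Fin 2) (Fin 2) (ZMod p)) *ᵥ ![1, 0] = v :=
    congrArg Subtype.val hg
  have hk' : ((k : Matrix.GeneralLinearGroup (Fin 2) (ZMod p)) : Matrix (Fin 2) (Fin 2) (ZMod p)) *ᵥ ![1, 0] = w :=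
    congrArg Subtype.val hk
  refine ⟨k * g⁻¹, ?_, ?_⟩
  · change (((k * g⁻¹ : H) : Matrix.GeneralLinearGroup (Fin 2) (ZMod p)) : Matrix (Fin 2) (Fin 2) (ZMod p)) *ᵥ v = w
    rw [← hg', Matrix.mulVec_mulVec, ← Units.val_mul, ← Subgroup.coe_mul, inv_mul_cancel_right, hk']
  · intro h hh
    have hh' : ((h : Matrix.GeneralLinearGroup (Fin 2) (ZMod p)) : Matrix (Fin 2) (Fin 2) (ZMod p)) *ᵥ v = w := hh
    have : φ (h * g) = φ k := by
      apply Subtype.ext
      change (((h * g : H) : Matrix.GeneralLinearGroup (Fin 2) (ZMod p)) : Matrix (Fin 2) (Fin 2) (ZMod p)) *ᵥ ![1, 0] =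
        ((k : Matrix.GeneralLinearGroup (Fin 2) (ZMod p)) : Matrix (Fin 2) (Fin 2) (ZMod p)) *ᵥ ![1, 0]
      rw [Subgroup.coe_mul, Units.val_mul, ← Matrix.mulVec_mulVec, hg', hh', hk']
    have := hinj this
    rw [← this]
    group

end Cfsg.Agent.Helper4.GL2

namespace Cfsg.Agent.Helper4.GL2

open Matrix

/-- The combined statement: order of the closure and regularity on the non-zero vectors. -/
theorem main (p : ℕ) [Fact p.Prime] (gens L : List ℕ)
    (hid : idC p ∈ L)
    (hclosed : ∀ g ∈ gens, ∀ x ∈ L, mulC p g x ∈ L)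
    (hcons : constructible p gens L = true)
    (hred : ∀ x ∈ L, x < p * p * p * p) (hnodup : L.Nodup)
    (hlen : L.length = p ^ 2 - 1)
    (hreg : ∀ x ∈ L, ua p x = 1 → uc p x = 0 → x = idC p)
    (S : Set (Matrix.GeneralLinearGroup (Fin 2) (ZMod p)))
    (hS1 : ∀ g ∈ S, ∃ c ∈ gens, dec p c = (g : Matrix (Fin 2) (Fin 2) (ZMod p)))
    (hS2 : ∀ c ∈ gens, ∃ g ∈ S, (g : Matrix (Fin 2) (Fin 2) (ZMod p)) = dec p c) :
    Nat.card (Subgroup.closure S) = p ^ 2 - 1 ∧
    ∀ v w : Fin 2 → ZMod p, v ≠ 0 → w ≠ 0 →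
      ∃! h : Subgroup.closure S,
        ((h : Matrix.GeneralLinearGroup (Fin 2) (ZMod p)) : Matrix (Fin 2) (Fin 2) (ZMod p)) *ᵥ v = w := by
  have hp : 1 < p := (Fact.out : p.Prime).one_lt
  have : NeZero p := ⟨by omega⟩
  have hcard : Nat.card (Subgroup.closure S) = p ^ 2 - 1 := by
    rw [card_closure p gens L hid hclosed hcons hred hnodup S hS1 hS2, hlen]
  refine ⟨hcard, regular_of_stab p _ hcard ?_⟩
  intro h hh hfix
  obtain ⟨x, hx, hxh⟩ := (closure_eq_list p gens L hid hclosed hcons S hS1 hS2).1 h hh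
  rw [← hxh] at hfix
  have h0 := congrFun hfix 0
  have h1 := congrFun hfix 1
  simp [dec, Matrix.mulVec, dotProduct, Fin.sum_univ_two] at h0 h1
  have e0 : ua p x = 1 := by
    apply natCast_inj_of_lt (ua_lt p x) hp
    simpa using h0
  have e1 : uc p x = 0 := by
    apply natCast_inj_of_lt (uc_lt p x) (by omega)
    simpa using h1
  have hx1 := hreg x hx e0 e1
  apply Units.ext
  rw [← hxh, hx1, dec_idC]
  rfl

end Cfsg.Agent.Helper4.GL2
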