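import Mathlib
import Cfsg.Agent.Lib.Helper4.GL2Regular

set_option autoImplicit false

namespace Cfsg.Agent.Helper4.GL2

open Matrix

/-- the submonoid generated by the decoded generator codes -/
def genMonoid (p : ℕ) (gens : List ℕ) : Submonoid (Matrix (Fin 2) (Fin 2) (ZMod p)) :=
  Submonoid.closure {m : Matrix (Fin 2) (Fin 2) (ZMod p) | ∃ c ∈ gens, dec p c = m}

/-- Bool check: the list ends with the identity and each element is `g * (next element)` for
some step `g`. -/
def chainOK (p : ℕ) (steps : List ℕ) : List ℕ → Bool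
  | [] => true
  | x :: rest =>
    (match rest with
      | [] => x == idC p
      | y :: _ => steps.any (fun g => mulC p g y == x)) && chainOK p steps rest

theorem mem_of_chainOK (p : ℕ) [Fact p.Prime] (gens steps : List ℕ)
    (hsteps : ∀ s ∈ steps, dec p s ∈ genMonoid p gens) :
    ∀ L : List ℕ, chainOK p steps L = true → ∀ x ∈ L, dec p x ∈ genMonoid p gens
  | [], _, x, hx => by simp at hx
  | [y], h, x, hx => by
    simp only [chainOK, Bool.and_eq_true, beq_iff_eq] at h
    rw [List.mem_singleton] at hx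
    rw [hx, h.1, dec_idC]
    exact Submonoid.one_mem _
  | y :: z :: rest, h, x, hx => by
    have : NeZero p := ⟨(Fact.out : p.Prime).ne_zero⟩
    simp only [chainOK, Bool.and_eq_true, List.any_eq_true, beq_iff_eq] at h
    obtain ⟨⟨g, hg, hgz⟩, h2⟩ := h
    have h2' : chainOK p steps (z :: rest) = true := by
      simp only [chainOK, Bool.and_eq_true]
      exact h2
    have ih := mem_of_chainOK p gens steps hsteps (z :: rest) h2'
    rcases List.mem_cons.1 hx with rfl | hx'
    · rw [← hgz, dec_mulC]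
      exact Submonoid.mul_mem _ (hsteps g hg) (ih z (List.mem_cons_self))
    · exact ih x hx'

theorem mem_genMonoid_of_constructible (p : ℕ) [Fact p.Prime] (gens L : List ℕ)
    (h : constructible p gens L = true) : ∀ x ∈ L, dec p x ∈ genMonoid p gens :=
  mem_closure_of_constructible p gens L h

/-- Part A, with an abstract membership certificate. -/
theorem closure_eq_list' (p : ℕ) [Fact p.Prime] (gens L : List ℕ)
    (hid : idC p ∈ L)
    (hclosed : ∀ g ∈ gens, ∀ x ∈ L, mulC p g x ∈ L)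
    (hmem : ∀ x ∈ L, dec p x ∈ genMonoid p gens)
    (S : Set (Matrix.GeneralLinearGroup (Fin 2) (ZMod p)))
    (hS1 : ∀ g ∈ S, ∃ c ∈ gens, dec p c = (g : Matrix (Fin 2) (Fin 2) (ZMod p)))
    (hS2 : ∀ c ∈ gens, ∃ g ∈ S, (g : Matrix (Fin 2) (Fin 2) (ZMod p)) = dec p c) :
    (∀ h ∈ Subgroup.closure S, ∃ x ∈ L, dec p x = (h : Matrix (Fin 2) (Fin 2) (ZMod p))) ∧
    (∀ x ∈ L, ∃ h ∈ Subgroup.closure S, (h : Matrix (Fin 2) (Fin 2) (ZMod p)) = dec p x) := by
  have : NeZero p := ⟨(Fact.out : p.Prime).ne_zero⟩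
  constructor
  · have key : ∀ h ∈ Submonoid.closure S,
        ∃ x ∈ L, dec p x = (h : Matrix (Fin 2) (Fin 2) (ZMod p)) := by
      intro h hh'
      induction hh' using Submonoid.closure_induction_left with
      | one => exact ⟨idC p, hid, by rw [dec_idC]; rfl⟩
      | mul_left g hg y _ ih =>
        obtain ⟨x, hx, hxy⟩ := ih
        obtain ⟨c, hc, hcg⟩ := hS1 g hg
        refine ⟨mulC p c x, hclosed c hc x hx, ?_⟩
        rw [dec_mulC, hcg, hxy]
        rfl
    intro h hh
    have hh' : h ∈ (Subgroup.closure S).toSubmonoid := hh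
    rw [Subgroup.closure_toSubmonoid_of_finite] at hh'
    exact key h hh'
  · have key : ∀ m ∈ genMonoid p gens,
        ∃ h ∈ Subgroup.closure S, (h : Matrix (Fin 2) (Fin 2) (ZMod p)) = m := by
      intro m hm
      unfold genMonoid at hm
      induction hm using Submonoid.closure_induction_left with
      | one => exact ⟨1, Subgroup.one_mem _, rfl⟩
      | mul_left g hg y _ ih =>
        obtain ⟨h, hh, hhy⟩ := ih
        obtain ⟨c, hc, hcg⟩ := hg
        obtain ⟨g', hg', hg'c⟩ := hS2 c hc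
        refine ⟨g' * h, Subgroup.mul_mem _ (Subgroup.subset_closure hg') hh, ?_⟩
        rw [Units.val_mul, hg'c, hcg, hhy]
    intro x hx
    exact key _ (hmem x hx)

/-- Part A': cardinality of the closure. -/
theorem card_closure' (p : ℕ) [Fact p.Prime] (gens L : List ℕ)
    (hid : idC p ∈ L)
    (hclosed : ∀ g ∈ gens, ∀ x ∈ L, mulC p g x ∈ L)
    (hmem : ∀ x ∈ L, dec p x ∈ genMonoid p gens)
    (hred : ∀ x ∈ L, x < p * p * p * p) (hnodup : L.Nodup)
    (S : Set (Matrix.GeneralLinearGroup (Fin 2) (ZMod p)))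
    (hS1 : ∀ g ∈ S, ∃ c ∈ gens, dec p c = (g : Matrix (Fin 2) (Fin 2) (ZMod p)))
    (hS2 : ∀ c ∈ gens, ∃ g ∈ S, (g : Matrix (Fin 2) (Fin 2) (ZMod p)) = dec p c) :
    Nat.card (Subgroup.closure S) = L.length := by
  have : NeZero p := ⟨(Fact.out : p.Prime).ne_zero⟩
  obtain ⟨F1, F2⟩ := closure_eq_list' p gens L hid hclosed hmem S hS1 hS2
  choose f hf1 hf2 using F1
  let φ : ↥(Subgroup.closure S) → {x // x ∈ L} := fun h => ⟨f h.1 h.2, hf1 h.1 h.2⟩
  have hinj : Function.Injective φ := by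
    intro h h' hh
    have h1 : f h.1 h.2 = f h'.1 h'.2 := congrArg Subtype.val hh
    have h2 := hf2 h.1 h.2
    rw [h1, hf2 h'.1 h'.2] at h2
    exact Subtype.ext (Units.ext h2.symm)
  have hsurj : Function.Surjective φ := by
    rintro ⟨x, hx⟩
    obtain ⟨h, hh, hhx⟩ := F2 x hx
    refine ⟨⟨h, hh⟩, Subtype.ext ?_⟩
    change f h hh = x
    apply dec_inj (hred _ (hf1 h hh)) (hred _ hx)
    rw [hf2 h hh, hhx]
  rw [Nat.card_congr (Equiv.ofBijective φ ⟨hinj, hsurj⟩), ← Nat.card_congr (hnodup.getEquiv L)]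
  simp

/-- Bool-valued duplicate-freeness check. -/
def nodupB : List ℕ → Bool
  | [] => true
  | x :: r => !(r.elem x) && nodupB r

theorem nodup_of_nodupB : ∀ L : List ℕ, nodupB L = true → L.Nodup
  | [], _ => List.nodup_nil
  | x :: r, h => by
    simp only [nodupB, Bool.and_eq_true, Bool.not_eq_true', List.elem_eq_mem, decide_eq_false_iff_not] at h
    exact List.nodup_cons.2 ⟨h.1, nodup_of_nodupB r h.2⟩

/-- Bool-valued closure check. -/
def closedB (p : ℕ) (gens L : List ℕ) : Bool :=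
  gens.all fun g => L.all fun x => L.elem (mulC p g x)

/-- Bool-valued reducedness check. -/
def redB (p : ℕ) (L : List ℕ) : Bool := L.all fun x => decide (x < p * p * p * p)

/-- Bool-valued check that only the identity fixes the first basis vector. -/
def regB (p : ℕ) (L : List ℕ) : Bool :=
  L.all fun x => (!(ua p x == 1 && uc p x == 0)) || x == idC p

/-- The combined statement with Bool-valued certificates. -/
theorem main' (p : ℕ) [Fact p.Prime] (gens L : List ℕ)
    (hid : L.elem (idC p) = true)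
    (hclosed : closedB p gens L = true)
    (hmem : ∀ x ∈ L, dec p x ∈ genMonoid p gens)
    (hred : redB p L = true) (hnodup : nodupB L = true)
    (hlen : L.length = p ^ 2 - 1)
    (hreg : regB p L = true)
    (S : Set (Matrix.GeneralLinearGroup (Fin 2) (ZMod p)))
    (hS1 : ∀ g ∈ S, ∃ c ∈ gens, dec p c = (g : Matrix (Fin 2) (Fin 2) (ZMod p)))
    (hS2 : ∀ c ∈ gens, ∃ g ∈ S, (g : Matrix (Fin 2) (Fin 2) (ZMod p)) = dec p c) :
    Nat.card (Subgroup.closure S) = p ^ 2 - 1 ∧
    ∀ v w : Fin 2 → ZMod p, v ≠ 0 → w ≠ 0 →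
      ∃! h : Subgroup.closure S,
        ((h : Matrix.GeneralLinearGroup (Fin 2) (ZMod p)) : Matrix (Fin 2) (Fin 2) (ZMod p)) *ᵥ v = w := by
  have hp : 1 < p := (Fact.out : p.Prime).one_lt
  have : NeZero p := ⟨by omega⟩
  have hid' : idC p ∈ L := by simpa using hid
  have hclosed' : ∀ g ∈ gens, ∀ x ∈ L, mulC p g x ∈ L := by
    simpa [closedB] using hclosed
  have hred' : ∀ x ∈ L, x < p * p * p * p := by
    simpa [redB] using hred
  have hnodup' := nodup_of_nodupB L hnodup
  have hreg' : ∀ x ∈ L, ua p x = 1 → uc p x = 0 → x = idC p := by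
    intro x hx h1 h2
    have := (List.all_eq_true.1 hreg) x hx
    simpa [h1, h2] using this
  have hcard : Nat.card (Subgroup.closure S) = p ^ 2 - 1 := by
    rw [card_closure' p gens L hid' hclosed' hmem hred' hnodup' S hS1 hS2, hlen]
  refine ⟨hcard, regular_of_stab p _ hcard ?_⟩
  intro h hh hfix
  obtain ⟨x, hx, hxh⟩ := (closure_eq_list' p gens L hid' hclosed' hmem S hS1 hS2).1 h hh
  rw [← hxh] at hfix
  have h0 := congrFun hfix 0
  have h1 := congrFun hfix 1
  simp [dec, Matrix.mulVec, dotProduct, Fin.sum_univ_two] at h0 h1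
  have e0 : ua p x = 1 := by
    apply natCast_inj_of_lt (ua_lt p x) hp
    simpa using h0
  have e1 : uc p x = 0 := by
    apply natCast_inj_of_lt (uc_lt p x) (by omega)
    simpa using h1
  have hx1 := hreg' x hx e0 e1
  apply Units.ext
  rw [← hxh, hx1, dec_idC]
  rfl

end Cfsg.Agent.Helper4.GL2

namespace Cfsg.Agent.Helper4.GL2

open Matrix

/-- Part B': a subgroup of `GL₂(ZMod p)` of order at least `p² - 1` in which only the identity fixes
the first basis vector has order `p² - 1` and is regular on the non-zero vectors. -/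
theorem regular_of_stab' (p : ℕ) [Fact p.Prime]
    (H : Subgroup (Matrix.GeneralLinearGroup (Fin 2) (ZMod p)))
    (hcard : p ^ 2 - 1 ≤ Nat.card H)
    (hstab : ∀ h ∈ H, (h : Matrix (Fin 2) (Fin 2) (ZMod p)) *ᵥ ![1, 0] = ![1, 0] → h = 1) :
    Nat.card H = p ^ 2 - 1 ∧ ∀ v w : Fin 2 → ZMod p, v ≠ 0 → w ≠ 0 →
      ∃! h : H, ((h : Matrix.GeneralLinearGroup (Fin 2) (ZMod p)) : Matrix (Fin 2) (Fin 2) (ZMod p)) *ᵥ v = w := by
  have hp : 1 < p := (Fact.out : p.Prime).one_lt
  have : NeZero p := ⟨by omega⟩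
  have he1 : (![1, 0] : Fin 2 → ZMod p) ≠ 0 := by
    intro h
    have := congrFun h 0
    simp at this
  have hne : ∀ h : H, ((h : Matrix.GeneralLinearGroup (Fin 2) (ZMod p)) : Matrix (Fin 2) (Fin 2) (ZMod p)) *ᵥ ![1, 0] ≠ 0 := by
    intro h h0
    apply he1
    have h1 : (((h⁻¹ : H) : Matrix.GeneralLinearGroup (Fin 2) (ZMod p)) : Matrix (Fin 2) (Fin 2) (ZMod p)) *ᵥ
        (((h : Matrix.GeneralLinearGroup (Fin 2) (ZMod p)) : Matrix (Fin 2) (Fin 2) (ZMod p)) *ᵥ ![1, 0]) = 0 := by
      rw [h0, Matrix.mulVec_zero]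
    rw [Matrix.mulVec_mulVec, ← Units.val_mul, ← Subgroup.coe_mul, inv_mul_cancel] at h1
    simpa using h1
  let φ : H → {v : Fin 2 → ZMod p // v ≠ 0} := fun h => ⟨_, hne h⟩
  have hinj : Function.Injective φ := by
    intro h k hk
    have h1 : ((h : Matrix.GeneralLinearGroup (Fin 2) (ZMod p)) : Matrix (Fin 2) (Fin 2) (ZMod p)) *ᵥ ![1, 0] =
        ((k : Matrix.GeneralLinearGroup (Fin 2) (ZMod p)) : Matrix (Fin 2) (Fin 2) (ZMod p)) *ᵥ ![1, 0] :=
      congrArg Subtype.val hk
    have h2 : (((k⁻¹ * h : H) : Matrix.GeneralLinearGroup (Fin 2) (ZMod p)) : Matrix (Fin 2) (Fin 2) (ZMod p)) *ᵥ ![1, 0]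
        = ![1, 0] := by
      rw [Subgroup.coe_mul, Units.val_mul, ← Matrix.mulVec_mulVec, h1, Matrix.mulVec_mulVec,
        ← Units.val_mul, ← Subgroup.coe_mul, inv_mul_cancel]
      simp
    have h3 := hstab _ (k⁻¹ * h).2 h2
    have h4 : k⁻¹ * h = 1 := Subtype.ext h3
    calc h = k * (k⁻¹ * h) := by group
      _ = k := by rw [h4, mul_one]
  have hcardX : Nat.card {v : Fin 2 → ZMod p // v ≠ 0} = p ^ 2 - 1 := by
    rw [Nat.card_eq_fintype_card, Fintype.card_subtype_compl, Fintype.card_subtype_eq]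
    simp [ZMod.card]
  have hbij : Function.Bijective φ :=
    hinj.bijective_of_nat_card_le (by rw [hcardX]; exact hcard)
  have hcard' : Nat.card H = p ^ 2 - 1 := by
    rw [← hcardX]
    exact Nat.card_congr (Equiv.ofBijective φ hbij)
  exact ⟨hcard', regular_of_stab p H hcard' hstab⟩

end Cfsg.Agent.Helper4.GL2
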