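import Mathlib
import Cfsg.Agent.Lib.Helper8.GRDefs

/-!
# S3085 piece GR-WWW (helper4 for helper8), core: an independent commuting triple of elements of square `z`,
from the statements of the pieces NONAB, CENTXS, CENTCARD, ORD4 (taken as hypotheses).
-/

set_option autoImplicit false
set_option linter.unusedVariables false

namespace Cfsg.Agent.Helper8.GR

open Cfsg.Agent.Helper8.XS

/-- an element commuting with `a` and `b` commutes with `a`, `b` and `a * b` -/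
theorem www_comm {Q : Type*} [Group Q] {a b x w : Q} (hxa : a * x = x * a) (hxb : b * x = x * b)
    (hw : w = a ∨ w = b ∨ w = a * b) : w * x = x * w := by
  rcases hw with rfl | rfl | rfl
  · exact hxa
  · exact hxb
  · rw [mul_assoc, hxb, ← mul_assoc, hxa, mul_assoc]

/-- membership in the centralizer of a pair -/
theorem www_mem_cent {Q : Type*} [Group Q] {a b x : Q} (C : Subgroup Q)
    (hx : x ∈ C ⊓ Subgroup.centralizer ({a, b} : Set Q)) : x ∈ C ∧ a * x = x * a ∧ b * x = x * b := by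
  have h1 : x ∈ C := (Subgroup.mem_inf.1 hx).1
  have h2 : x ∈ Subgroup.centralizer ({a, b} : Set Q) := (Subgroup.mem_inf.1 hx).2
  rw [Subgroup.mem_centralizer_iff] at h2
  exact ⟨h1, h2 a (by simp), h2 b (by simp)⟩

theorem www_core {Q : Type*} [Group Q] [Finite Q] {z : Q} (h : XQ z) (hcard : 128 ≤ Nat.card Q)
    (hnonab : ∀ C : Subgroup Q, XSp C z → 8 ≤ Nat.card C → ∃ a ∈ C, ∃ b ∈ C, a * b ≠ b * a)
    (hcentxs : ∀ C : Subgroup Q, XSp C z → ∀ a b : Q, a ∈ C → b ∈ C → a * b ≠ b * a →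
      XSp (C ⊓ Subgroup.centralizer ({a, b} : Set Q)) z)
    (hcentcard : ∀ C : Subgroup Q, XSp C z → ∀ a b : Q, a ∈ C → b ∈ C → a * b ≠ b * a →
      Nat.card C ≤ 4 * Nat.card ↥(C ⊓ Subgroup.centralizer ({a, b} : Set Q)))
    (hord4 : ∀ a b : Q, a * b ≠ b * a →
      ∃ w f : Q, (w = a ∨ w = b ∨ w = a * b) ∧ (f = a ∨ f = b) ∧ w * w = z ∧ f * w ≠ w * f) :
    ∃ w₁ w₂ w₃ : Q, Trip z w₁ w₂ w₃ := by
  have h0 : XSp (⊤ : Subgroup Q) z := xq_top h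
  have c0 : 128 ≤ Nat.card (⊤ : Subgroup Q) := by rw [Subgroup.card_top]; exact hcard
  obtain ⟨a₁, ha₁, b₁, hb₁, hab₁⟩ := hnonab ⊤ h0 (by omega)
  have h1 := hcentxs ⊤ h0 a₁ b₁ ha₁ hb₁ hab₁
  have c1 := hcentcard ⊤ h0 a₁ b₁ ha₁ hb₁ hab₁
  obtain ⟨C₁, hC₁⟩ : ∃ C₁ : Subgroup Q, C₁ = ⊤ ⊓ Subgroup.centralizer ({a₁, b₁} : Set Q) := ⟨_, rfl⟩
  rw [← hC₁] at h1 c1
  obtain ⟨a₂, ha₂, b₂, hb₂, hab₂⟩ := hnonab C₁ h1 (by omega)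
  have h2 := hcentxs C₁ h1 a₂ b₂ ha₂ hb₂ hab₂
  have c2 := hcentcard C₁ h1 a₂ b₂ ha₂ hb₂ hab₂
  obtain ⟨C₂, hC₂⟩ : ∃ C₂ : Subgroup Q, C₂ = C₁ ⊓ Subgroup.centralizer ({a₂, b₂} : Set Q) := ⟨_, rfl⟩
  rw [← hC₂] at h2 c2
  obtain ⟨a₃, ha₃, b₃, hb₃, hab₃⟩ := hnonab C₂ h2 (by omega)
  -- commutation facts
  have m1 : ∀ x ∈ C₁, a₁ * x = x * a₁ ∧ b₁ * x = x * b₁ := by
    intro x hx
    rw [hC₁] at hx
    exact (www_mem_cent ⊤ hx).2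
  have m2 : ∀ x ∈ C₂, x ∈ C₁ ∧ a₂ * x = x * a₂ ∧ b₂ * x = x * b₂ := by
    intro x hx
    rw [hC₂] at hx
    exact www_mem_cent C₁ hx
  obtain ⟨w₁, f₁, hw₁, hf₁, s1, n1⟩ := hord4 a₁ b₁ hab₁
  obtain ⟨w₂, f₂, hw₂, hf₂, s2, n2⟩ := hord4 a₂ b₂ hab₂
  obtain ⟨w₃, f₃, hw₃, hf₃, s3, n3⟩ := hord4 a₃ b₃ hab₃
  have hw₂C : w₂ ∈ C₁ := by
    rcases hw₂ with rfl | rfl | rfl
    · exact ha₂
    · exact hb₂
    · exact C₁.mul_mem ha₂ hb₂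
  have hf₂C : f₂ ∈ C₁ := by
    rcases hf₂ with rfl | rfl
    · exact ha₂
    · exact hb₂
  have hw₃C : w₃ ∈ C₂ := by
    rcases hw₃ with rfl | rfl | rfl
    · exact ha₃
    · exact hb₃
    · exact C₂.mul_mem ha₃ hb₃
  have hf₃C : f₃ ∈ C₂ := by
    rcases hf₃ with rfl | rfl
    · exact ha₃
    · exact hb₃
  have hf₁' : f₁ = a₁ ∨ f₁ = b₁ ∨ f₁ = a₁ * b₁ := by
    rcases hf₁ with e | e
    · exact Or.inl e
    · exact Or.inr (Or.inl e)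
  have hf₂' : f₂ = a₂ ∨ f₂ = b₂ ∨ f₂ = a₂ * b₂ := by
    rcases hf₂ with e | e
    · exact Or.inl e
    · exact Or.inr (Or.inl e)
  -- x ∈ C₁ commutes with w₁, f₁
  have k1 : ∀ x ∈ C₁, w₁ * x = x * w₁ ∧ f₁ * x = x * f₁ := fun x hx =>
    ⟨www_comm (m1 x hx).1 (m1 x hx).2 hw₁, www_comm (m1 x hx).1 (m1 x hx).2 hf₁'⟩
  have k2 : ∀ x ∈ C₂, w₂ * x = x * w₂ ∧ f₂ * x = x * f₂ := fun x hx =>
    ⟨www_comm (m2 x hx).2.1 (m2 x hx).2.2 hw₂, www_comm (m2 x hx).2.1 (m2 x hx).2.2 hf₂'⟩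
  have hw₃C1 : w₃ ∈ C₁ := (m2 w₃ hw₃C).1
  have hf₃C1 : f₃ ∈ C₁ := (m2 f₃ hf₃C).1
  refine ⟨w₁, w₂, w₃, ⟨s1, s2, s3, (k1 w₂ hw₂C).1, (k1 w₃ hw₃C1).1, (k2 w₃ hw₃C).1,
    ⟨f₁, n1, (k1 w₂ hw₂C).2, (k1 w₃ hw₃C1).2⟩,
    ⟨f₂, ((k1 f₂ hf₂C).1).symm, n2, (k2 w₃ hw₃C).2⟩,
    ⟨f₃, ((k1 f₃ hf₃C1).1).symm, ((k2 f₃ hf₃C).1).symm, n3⟩⟩⟩

end Cfsg.Agent.Helper8.GR
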