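import Mathlib
import Cfsg.Agent.Lib.Helper4.GRWWWCore
import Cfsg.Agent.Lib.Helper23.GRNONAB
import Cfsg.Agent.Lib.Helper1.GRCENTXS
import Cfsg.Agent.Lib.Helper25.GRCENTCARD
import Cfsg.Agent.Lib.Helper19.GRORD4

/-!
# S3085 piece GR-WWW (helper4 for helper8): an independent commuting triple exists.
-/

set_option autoImplicit false
set_option linter.unusedVariables false

namespace Cfsg.Agent.Helper8.GR

open Cfsg.Agent.Helper8.XS

/-- PIECE GR-WWW (assembly of NONAB, CENTXS, CENTCARD, ORD4) : an independent triple exists -/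
theorem www {Q : Type*} [Group Q] [Finite Q] {z : Q} (h : XQ z) (hcard : 128 ≤ Nat.card Q) :
    ∃ w₁ w₂ w₃ : Q, Trip z w₁ w₂ w₃ :=
  www_core h hcard (fun C hC hc => nonab C hC hc)
    (fun C hC a b ha hb hab => centxs C hC a b ha hb hab)
    (fun C hC a b ha hb hab => centcard C hC a b ha hb hab)
    (fun a b hab => ord4 h a b hab)

end Cfsg.Agent.Helper8.GR
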