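import Mathlib
import Cfsg.Prelude.Def_PLocal
import Cfsg.Agent.Lib.Helper4.OffBasic
import Cfsg.Agent.Lib.Helper14.Basic
import Cfsg.Agent.Lib.Helper14.Normalize
import Cfsg.Agent.Lib.Helper14.Kieler

/-!
# General lemmas for the solvable Thompson factorization with `S₃`-factors (helper4)
-/

set_option autoImplicit false
set_option linter.unusedSectionVars false
set_option linter.unusedVariables false
set_option linter.style.haveILetI false

namespace Cfsg.Agent.Helper4.GlaubSolv

open scoped commutatorElement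
open Cfsg.Agent.Helper4.OG

variable {G : Type*} [Group G]

/-- the core of the centralizer of a set is the centralizer of its normal closure -/
theorem normalCore_centralizer (Z : Set G) :
    (Subgroup.centralizer Z).normalCore =
      Subgroup.centralizer ((Subgroup.normalClosure Z : Subgroup G) : Set G) := by
  apply le_antisymm
  · intro x hx
    have hle : Subgroup.normalClosure Z ≤ Subgroup.centralizer ({x} : Set G) := by
      unfold Subgroup.normalClosure
      rw [Subgroup.closure_le]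
      intro s hs
      obtain ⟨b, hb, hconj⟩ := Group.mem_conjugatesOfSet_iff.mp hs
      obtain ⟨c, hc⟩ := isConj_iff.mp hconj
      rw [SetLike.mem_coe, Subgroup.mem_centralizer_singleton_iff]
      have h1 : c⁻¹ * x * c⁻¹⁻¹ ∈ Subgroup.centralizer Z := hx c⁻¹
      have h2 := Subgroup.mem_centralizer_iff.mp h1 b hb
      rw [← hc]
      calc c * b * c⁻¹ * x = c * (b * (c⁻¹ * x * c⁻¹⁻¹)) * c⁻¹ := by group
        _ = c * ((c⁻¹ * x * c⁻¹⁻¹) * b) * c⁻¹ := by rw [h2]
        _ = x * (c * b * c⁻¹) := by group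
    rw [Subgroup.mem_centralizer_iff]
    intro h hh
    have := hle hh
    rw [Subgroup.mem_centralizer_singleton_iff] at this
    exact this
  · rw [Subgroup.normal_le_normalCore]
    exact Subgroup.centralizer_le Subgroup.subset_normalClosure

/-- the normal closure as the join of the conjugates -/
theorem normalClosure_eq_iSup (J : Subgroup G) :
    Subgroup.normalClosure (J : Set G) = ⨆ g : G, cj g J := by
  apply le_antisymm
  · haveI : (⨆ g : G, cj g J).Normal := by
      constructor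
      intro n hn g
      have h1 : g * n * g⁻¹ ∈ cj g (⨆ g : G, cj g J) := conj_mem_cj hn
      have h2 : cj g (⨆ g' : G, cj g' J) ≤ ⨆ g' : G, cj g' J := by
        show Subgroup.map _ _ ≤ _
        rw [Subgroup.map_iSup]
        apply iSup_le
        intro g'
        show cj g (cj g' J) ≤ _
        rw [cj_cj]
        exact le_iSup (fun g' : G => cj g' J) (g * g')
      exact h2 h1
    apply Subgroup.normalClosure_le_normal
    have : J ≤ ⨆ g : G, cj g J := by
      have := le_iSup (fun g : G => cj g J) 1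
      rwa [cj_one] at this
    exact this
  · apply iSup_le
    intro g
    rintro _ ⟨x, hx, rfl⟩
    exact (Subgroup.normalClosure_normal).conj_mem _ (Subgroup.subset_normalClosure hx) g

/-- `O_p(G/C_G(V)) = 1` when `V` is the normal closure of a set centralized by a Sylow
`p`-subgroup -/
theorem pCore_quotient_eq_bot [Finite G] {p : ℕ} [Fact p.Prime] (V : Subgroup G) [V.Normal]
    (Z : Set G) (hVZ : V = Subgroup.normalClosure Z) (T : Sylow p G)
    (hTZ : (T : Subgroup G) ≤ Subgroup.centralizer Z) :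
    Cfsg.pCore p (G ⧸ Subgroup.centralizer (V : Set G)) = ⊥ := by
  obtain ⟨C, hC⟩ : ∃ C : Subgroup G, C = Subgroup.centralizer (V : Set G) := ⟨_, rfl⟩
  unfold Cfsg.pCore
  rw [eq_bot_iff]
  apply sSup_le
  rintro N ⟨hNn, hNp⟩
  have := hNn
  let f : G →* G ⧸ Subgroup.centralizer (V : Set G) :=
    QuotientGroup.mk' (Subgroup.centralizer (V : Set G))
  have hf : Function.Surjective f := QuotientGroup.mk'_surjective _
  obtain ⟨D, hD⟩ : ∃ D : Subgroup G, D = N.comap f := ⟨_, rfl⟩
  haveI hDn : D.Normal := by rw [hD]; exact Subgroup.Normal.comap hNn f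
  have hDT : D ≤ (T : Subgroup G) ⊔ Subgroup.centralizer (V : Set G) := by
    have h1 : N ≤ ((T.mapSurjective hf : Sylow p (G ⧸ Subgroup.centralizer (V : Set G))) :
        Subgroup (G ⧸ Subgroup.centralizer (V : Set G))) :=
      hNp.le_sylow_of_normal _
    rw [Sylow.coe_mapSurjective] at h1
    have h2 := Subgroup.comap_mono (f := f) h1
    rw [Subgroup.comap_map_eq, QuotientGroup.ker_mk'] at h2
    rw [hD]
    exact h2
  have hDZ : D ≤ Subgroup.centralizer Z := by
    refine hDT.trans (sup_le hTZ ?_)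
    rw [hVZ]
    exact Subgroup.centralizer_le Subgroup.subset_normalClosure
  have hDC : D ≤ Subgroup.centralizer (V : Set G) := by
    rw [hVZ, ← normalCore_centralizer, Subgroup.normal_le_normalCore]
    exact hDZ
  have hN : N = D.map f := by
    rw [hD, Subgroup.map_comap_eq_self_of_surjective hf]
  rw [hN]
  have h3 := Subgroup.map_mono (f := f) hDC
  have hCbot : (Subgroup.centralizer (V : Set G)).map f = ⊥ := by
    rw [eq_bot_iff]
    rintro _ ⟨c, hc, rfl⟩
    rw [Subgroup.mem_bot]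
    exact (QuotientGroup.eq_one_iff c).mpr hc
  rwa [hCbot] at h3

/-- an element of odd order normalizing an abelian `2`-group and centralizing its elements of
order at most two centralizes it -/
theorem conj_eq_of_centralizes_omega {V : Subgroup G} (hVc : ∀ a ∈ V, ∀ b ∈ V, a * b = b * a)
    {y : G} (hyV : ∀ v ∈ V, y * v * y⁻¹ ∈ V) {m : ℕ} (hm : Odd m) (hym : y ^ m = 1)
    (hyΩ : ∀ w ∈ V, w ^ 2 = 1 → y * w * y⁻¹ = w) :
    ∀ (j : ℕ) (v : G), v ∈ V → v ^ (2 ^ j) = 1 → y * v * y⁻¹ = v := by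
  intro j
  induction j with
  | zero =>
    intro v hv h
    rw [pow_zero, pow_one] at h
    rw [h]; group
  | succ j ih =>
    intro v hv h
    have hv2 : (v ^ 2) ^ (2 ^ j) = 1 := by
      rw [← pow_mul, ← pow_succ']; exact h
    have h1 := ih (v ^ 2) (V.pow_mem hv 2) hv2
    obtain ⟨w, hw⟩ : ∃ w : G, w = v⁻¹ * (y * v * y⁻¹) := ⟨_, rfl⟩
    have hwV : w ∈ V := by rw [hw]; exact V.mul_mem (V.inv_mem hv) (hyV v hv)
    have hw2 : w ^ 2 = 1 := by
      have hc := hVc v⁻¹ (V.inv_mem hv) (y * v * y⁻¹) (hyV v hv)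
      calc w ^ 2 = v⁻¹ * (y * v * y⁻¹) * (v⁻¹ * (y * v * y⁻¹)) := by rw [hw, pow_two]
        _ = v⁻¹ * ((y * v * y⁻¹) * v⁻¹) * (y * v * y⁻¹) := by group
        _ = v⁻¹ * (v⁻¹ * (y * v * y⁻¹)) * (y * v * y⁻¹) := by rw [hc]
        _ = (v ^ 2)⁻¹ * (y * v ^ 2 * y⁻¹) := by rw [pow_two]; group
        _ = 1 := by rw [h1]; group
    have hyw := hyΩ w hwV hw2
    have hyv : y * v * y⁻¹ = v * w := by rw [hw]; group
    have hpow : ∀ i : ℕ, y ^ i * v * (y ^ i)⁻¹ = v * w ^ i := by
      intro i
      induction i with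
      | zero => simp
      | succ i ihi =>
        calc y ^ (i + 1) * v * (y ^ (i + 1))⁻¹ = y * (y ^ i * v * (y ^ i)⁻¹) * y⁻¹ := by
              rw [pow_succ']; group
          _ = y * (v * w ^ i) * y⁻¹ := by rw [ihi]
          _ = (y * v * y⁻¹) * (y * w * y⁻¹) ^ i := by rw [conj_pow]; group
          _ = (v * w) * w ^ i := by rw [hyw, hyv]
          _ = v * w ^ (i + 1) := by rw [pow_succ']; group
    have h2 := hpow m
    rw [hym] at h2
    have h3 : w ^ m = 1 := by
      have h4 : v * 1 = v * w ^ m := by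
        rw [← h2]; group
      exact (mul_left_cancel h4).symm
    obtain ⟨k, rfl⟩ := hm
    have h5 : w = 1 := by
      rw [pow_succ, pow_mul, hw2, one_pow, one_mul] at h3
      exact h3
    rw [hyv, h5, mul_one]

/-- `C(Ω₁(V)) = C(V)` for a normal abelian `2`-subgroup `V` with `O_2(G/C(V)) = 1` -/
theorem centralizer_omegaOne_eq [Finite G] (V : Subgroup G) [V.Normal]
    (hVc : ∀ a ∈ V, ∀ b ∈ V, a * b = b * a) (hV2 : IsPGroup 2 V)
    (hO : Cfsg.pCore 2 (G ⧸ Subgroup.centralizer (V : Set G)) = ⊥) :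
    Subgroup.centralizer ((Cfsg.omegaOne 2 V : Subgroup G) : Set G) =
      Subgroup.centralizer (V : Set G) := by
  have hΩV : Cfsg.omegaOne 2 V ≤ V := by
    unfold Cfsg.omegaOne
    rw [Subgroup.closure_le]
    intro x hx
    exact hx.1
  apply le_antisymm _ (Subgroup.centralizer_le (SetLike.coe_subset_coe.mpr hΩV))
  haveI hΩn : (Cfsg.omegaOne 2 V).Normal := by
    rw [← Subgroup.normalizer_eq_top_iff, eq_top_iff]
    apply Cfsg.Agent.Helper14.le_normalizer_omegaOne
    rw [Subgroup.normalizer_eq_top]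
  let f : G →* G ⧸ Subgroup.centralizer (V : Set G) :=
    QuotientGroup.mk' (Subgroup.centralizer (V : Set G))
  have hf : Function.Surjective f := QuotientGroup.mk'_surjective _
  obtain ⟨N, hN⟩ : ∃ N : Subgroup (G ⧸ Subgroup.centralizer (V : Set G)),
      N = (Subgroup.centralizer ((Cfsg.omegaOne 2 V : Subgroup G) : Set G)).map f := ⟨_, rfl⟩
  have hNn : N.Normal := by
    rw [hN]
    exact Subgroup.Normal.map inferInstance f hf
  have hNp : IsPGroup 2 N := by
    rintro ⟨_, hx'⟩
    rw [hN] at hx'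
    obtain ⟨x, hx, rfl⟩ := hx'
    obtain ⟨k, m, hm, hkm⟩ := Nat.exists_eq_two_pow_mul_odd (orderOf_pos x).ne'
    refine ⟨k, ?_⟩
    apply Subtype.ext
    show (f x) ^ (2 ^ k) = 1
    rw [← map_pow]
    apply (QuotientGroup.eq_one_iff _).mpr
    have hym : (x ^ (2 ^ k)) ^ m = 1 := by
      rw [← pow_mul, ← hkm, pow_orderOf_eq_one]
    have hyΩ : ∀ w ∈ V, w ^ 2 = 1 → x ^ (2 ^ k) * w * (x ^ (2 ^ k))⁻¹ = w := by
      intro w hw hw2
      have hwΩ : w ∈ Cfsg.omegaOne 2 V := Subgroup.subset_closure ⟨hw, hw2⟩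
      have h1 : x ^ (2 ^ k) ∈
          Subgroup.centralizer ((Cfsg.omegaOne 2 V : Subgroup G) : Set G) :=
        Subgroup.pow_mem _ hx _
      have h2 := Subgroup.mem_centralizer_iff.mp h1 w hwΩ
      rw [← h2]; group
    rw [Subgroup.mem_centralizer_iff]
    intro v hv
    obtain ⟨j, hj⟩ := hV2 ⟨v, hv⟩
    have hj' : v ^ (2 ^ j) = 1 := by
      have := congrArg Subtype.val hj
      simpa using this
    have h3 := conj_eq_of_centralizes_omega hVc
      (fun v hv => (inferInstance : V.Normal).conj_mem v hv _) hm hym hyΩ j v hv hj'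
    calc v * x ^ (2 ^ k) = (x ^ (2 ^ k) * v * (x ^ (2 ^ k))⁻¹) * x ^ (2 ^ k) := by rw [h3]
      _ = x ^ (2 ^ k) * v := by group
  have hNbot : N = ⊥ := by
    rw [eq_bot_iff, ← hO]
    exact Cfsg.Agent.Helper14.le_pCore hNn hNp
  intro x hx
  have h1 : f x ∈ N := by rw [hN]; exact ⟨x, hx, rfl⟩
  rw [hNbot, Subgroup.mem_bot] at h1
  exact (QuotientGroup.eq_one_iff x).mp h1

end Cfsg.Agent.Helper4.GlaubSolv
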