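import Mathlib
import Cfsg.Prelude.Def_PLocal
import Cfsg.Agent.Lib.Helper4.OffInputs
import Cfsg.Agent.Lib.Helper4.OffT
import Cfsg.Agent.Lib.Helper27.Timmesfeld
import Cfsg.Agent.Lib.Helper22.PPrimeCore
import Cfsg.Agent.Lib.Helper3.Thompson
import Cfsg.Agent.S0663

/-!
# Weak best offenders in a faithful 2-solvable-type setting are best offenders (helper4)

An abelian `2`-subgroup `A` of a group `H` acting faithfully on an elementary abelian `2`-group
`V`, maximizing `|B| |C_V(B)|` among its subgroups `B`, acts on `V` as an elementary abelian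
group, provided the subgroup generated by the best offenders of `H` satisfies
`C(O_{2'}) ≤ O_{2'}`.
-/

set_option autoImplicit false
set_option linter.unusedSectionVars false
set_option linter.unusedVariables false
set_option linter.style.haveILetI false

namespace Cfsg.Agent.Helper4.WeakOff

open scoped commutatorElement
open Cfsg.Agent.Helper4.OG

variable {G : Type*} [Group G]

/-- `A` maximizes `|B| |C_V(B)|` among its subgroups -/
def WeakBest (V A : Subgroup G) : Prop :=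
  ∀ B : Subgroup G, B ≤ A →
    Nat.card B * Nat.card ↥(V ⊓ Subgroup.centralizer (B : Set G)) ≤
      Nat.card A * Nat.card ↥(V ⊓ Subgroup.centralizer (A : Set G))

/-- an element acting quadratically on an elementary abelian `2`-group squares into the
centralizer -/
theorem sq_mem_centralizer_of_quadratic {V : Subgroup G} (hV : Cfsg.IsElementaryAbelian 2 V)
    {a : G} (haV : a ∈ Subgroup.normalizer (V : Set G))
    (hq : ∀ v ∈ V, a * (a * v * a⁻¹ * v⁻¹) * a⁻¹ = a * v * a⁻¹ * v⁻¹) :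
    a ^ 2 ∈ Subgroup.centralizer (V : Set G) := by
  rw [Subgroup.mem_centralizer_iff]
  intro v hv
  have hav : a * v * a⁻¹ ∈ V := (Subgroup.mem_normalizer_iff.mp haV v).mp hv
  have hcV : a * v * a⁻¹ * v⁻¹ ∈ V := V.mul_mem hav (V.inv_mem hv)
  have hc2 : (a * v * a⁻¹ * v⁻¹) ^ 2 = 1 := hV.2 _ hcV
  have h1 : a ^ 2 * v * (a ^ 2)⁻¹ =
      (a * (a * v * a⁻¹ * v⁻¹) * a⁻¹) * (a * v * a⁻¹ * v⁻¹) * v := by
    rw [pow_two]; group
  rw [hq v hv, ← pow_two, hc2, one_mul] at h1
  calc v * a ^ 2 = (a ^ 2 * v * (a ^ 2)⁻¹) * a ^ 2 := by rw [h1]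
    _ = a ^ 2 * v := by group

section tim

variable [Finite G] {V A : Subgroup G}

/-- Timmesfeld replacement for weak best offenders -/
theorem timmesfeld_weak (h : Helper27.TimHyp V A) :
    WeakBest V (A ⊓ Subgroup.centralizer ((⁅V, A⁆ : Subgroup G) : Set G)) ∧
    Nat.card ↥(A ⊓ Subgroup.centralizer ((⁅V, A⁆ : Subgroup G) : Set G)) *
      Nat.card ↥(V ⊓ Subgroup.centralizer
        ((A ⊓ Subgroup.centralizer ((⁅V, A⁆ : Subgroup G) : Set G) : Subgroup G) : Set G)) =
      Nat.card A * Nat.card ↥(V ⊓ Subgroup.centralizer (A : Set G)) ∧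
    V ⊓ Subgroup.centralizer
        ((A ⊓ Subgroup.centralizer ((⁅V, A⁆ : Subgroup G) : Set G) : Subgroup G) : Set G) =
      ⁅V, A⁆ ⊔ (V ⊓ Subgroup.centralizer (A : Set G)) := by
  obtain ⟨X, hX⟩ : ∃ X : Subgroup G, X = ⁅V, A⁆ := ⟨_, rfl⟩
  obtain ⟨M, hM⟩ : ∃ M : Subgroup G, M = A ⊓ Subgroup.centralizer (X : Set G) := ⟨_, rfl⟩
  obtain ⟨C, hC⟩ : ∃ C : Subgroup G, C = V ⊓ Subgroup.centralizer (A : Set G) := ⟨_, rfl⟩
  rw [← hX, ← hM, ← hC]
  have hgood : Nat.card A * Nat.card C ≤ Nat.card M * Nat.card (X ⊔ C : Subgroup G) := by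
    have := h.good_commutator (le_refl V)
    unfold Helper27.Good Helper27.cv at this
    rw [hM, hX, hC]
    exact this
  have hXV : X ≤ V := by
    rw [hX]
    exact Subgroup.le_normalizer_iff_commutator_le_left.mp h.norm
  have hMA : M ≤ A := by rw [hM]; exact inf_le_left
  have hle : X ⊔ C ≤ V ⊓ Subgroup.centralizer (M : Set G) := by
    apply sup_le
    · apply le_inf hXV
      rw [Subgroup.le_centralizer_iff, hM]
      exact inf_le_right
    · rw [hC]
      exact le_inf inf_le_left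
        (inf_le_right.trans (Subgroup.centralizer_le (SetLike.coe_subset_coe.mpr hMA)))
  have hb0 : Nat.card M * Nat.card ↥(V ⊓ Subgroup.centralizer (M : Set G)) ≤
      Nat.card A * Nat.card C := by
    have := h.best M hMA
    unfold Helper27.cv at this
    rw [hC]
    exact this
  have hMpos : 0 < Nat.card M := Nat.card_pos
  have hcard : Nat.card (V ⊓ Subgroup.centralizer (M : Set G) : Subgroup G) ≤
      Nat.card (X ⊔ C : Subgroup G) :=
    Nat.le_of_mul_le_mul_left (hb0.trans hgood) hMpos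
  have heq : V ⊓ Subgroup.centralizer (M : Set G) = X ⊔ C :=
    (Subgroup.eq_of_le_of_card_ge hle hcard).symm
  have hfeq : Nat.card M * Nat.card ↥(V ⊓ Subgroup.centralizer (M : Set G)) =
      Nat.card A * Nat.card C := by
    apply le_antisymm hb0
    rw [heq]
    exact hgood
  refine ⟨?_, hfeq, heq⟩
  intro B hB
  rw [hfeq]
  have := h.best B (hB.trans hMA)
  unfold Helper27.cv at this
  rw [hC]
  exact this

/-- the replacement still acts nontrivially -/
theorem timmesfeld_weak_ne_bot {p : ℕ} [Fact p.Prime] (h : Helper27.TimHyp V A)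
    (hVp : IsPGroup p V) (hAp : IsPGroup p A) (hVA : ⁅V, A⁆ ≠ ⊥) :
    ⁅V, A ⊓ Subgroup.centralizer ((⁅V, A⁆ : Subgroup G) : Set G)⁆ ≠ ⊥ := by
  intro hbot
  obtain ⟨-, -, heq⟩ := timmesfeld_weak h
  obtain ⟨X, hX⟩ : ∃ X : Subgroup G, X = ⁅V, A⁆ := ⟨_, rfl⟩
  rw [← hX] at hbot heq hVA
  have hVcent : V ≤ Subgroup.centralizer
      ((A ⊓ Subgroup.centralizer (X : Set G) : Subgroup G) : Set G) :=
    Subgroup.commutator_eq_bot_iff_le_centralizer.mp hbot
  have hVeq : V = X ⊔ (V ⊓ Subgroup.centralizer (A : Set G)) := by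
    rw [← heq]
    exact (inf_of_le_left hVcent).symm
  have hXV : X ≤ V := by
    rw [hX]
    exact Subgroup.le_normalizer_iff_commutator_le_left.mp h.norm
  -- `A` normalizes `X`
  have hAX : A ≤ Subgroup.normalizer (X : Set G) := by
    intro a ha
    rw [Subgroup.mem_normalizer_iff_map_conj_eq]
    show cj a X = X
    rw [hX, cj_commutator, cj_eq_self_of_mem_normalizer (h.norm ha),
      cj_eq_self_of_mem_normalizer (Subgroup.le_normalizer ha)]
  have hXX : X ≤ ⁅X, A⁆ := by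
    conv_lhs => rw [hX]
    rw [Subgroup.commutator_le]
    intro v hv a ha
    rw [hVeq] at hv
    obtain ⟨x, hx, c, hc, rfl⟩ :=
      (mem_sup_of_le_comm h.comm hXV inf_le_left).mp hv
    have hca : a * c = c * a := (Subgroup.mem_centralizer_iff.mp hc.2 a ha)
    have e : ⁅x * c, a⁆ = ⁅x, a⁆ := by
      rw [commutatorElement_def, commutatorElement_def]
      calc x * c * a * (x * c)⁻¹ * a⁻¹ = x * (c * a) * c⁻¹ * x⁻¹ * a⁻¹ := by group
        _ = x * (a * c) * c⁻¹ * x⁻¹ * a⁻¹ := by rw [hca]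
        _ = x * a * x⁻¹ * a⁻¹ := by group
    rw [e]
    exact Subgroup.commutator_mem_commutator hx ha
  have hXp : IsPGroup p X := hVp.to_le hXV
  exact (Cfsg.Agent.S0663.commutator_lt_of_inv hXp hAp hAX hVA).not_ge hXX

end tim


section aux

/-- in a subgroup of order 2, every element is 1 or the given nontrivial element -/
theorem eq_one_or_eq_of_card_two {U : Subgroup G} (hU : Nat.card U = 2) {u x : G} (hu : u ∈ U)
    (hu1 : u ≠ 1) (hx : x ∈ U) : x = 1 ∨ x = u := by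
  haveI : Fact (Nat.Prime 2) := ⟨Nat.prime_two⟩
  have h1 : (⟨x, hx⟩ : ↥U) ∈ Subgroup.zpowers (⟨u, hu⟩ : ↥U) :=
    mem_zpowers_of_prime_card hU (by intro h; apply hu1; exact congrArg Subtype.val h)
  obtain ⟨k, hk⟩ := Subgroup.mem_zpowers_iff.mp h1
  have h2 : u ^ k = x := by
    have := congrArg Subtype.val hk
    simpa using this
  have hu2 : u ^ (2 : ℤ) = 1 := by
    have : (⟨u, hu⟩ : ↥U) ^ Nat.card ↥U = 1 := pow_card_eq_one'
    rw [hU] at this
    have := congrArg Subtype.val this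
    simpa using this
  rcases Int.emod_two_eq_zero_or_one k with hk0 | hk1
  · left
    have : k = 2 * (k / 2) := by omega
    rw [← h2, this, zpow_mul, hu2, one_zpow]
  · right
    have : k = 2 * (k / 2) + 1 := by omega
    rw [← h2, this, zpow_add, zpow_mul, hu2, one_zpow, one_mul, zpow_one]

/-- the two cosets of a subgroup of index two -/
theorem mem_or_inv_mul_mem [Finite G] {U R : Subgroup G} (hUR : U ≤ R)
    (hcard : Nat.card R = 2 * Nat.card U) {v r : G} (hv : v ∈ R) (hvU : v ∉ U) (hr : r ∈ R) :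
    r ∈ U ∨ v⁻¹ * r ∈ U := by
  by_cases hrU : r ∈ U
  · exact Or.inl hrU
  right
  have hidx : (U.subgroupOf R).index = 2 := by
    have h1 := Subgroup.card_mul_index (U.subgroupOf R)
    have h2 : Nat.card ↥(U.subgroupOf R) = Nat.card U :=
      Nat.card_congr (Subgroup.subgroupOfEquivOfLe hUR).toEquiv
    rw [h2, hcard, mul_comm] at h1
    have hpos : 0 < Nat.card U := Nat.card_pos
    exact Nat.eq_of_mul_eq_mul_right hpos h1
  have key := Subgroup.mul_mem_iff_of_index_two hidx (a := (⟨v⁻¹, R.inv_mem hv⟩ : ↥R))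
    (b := ⟨r, hr⟩)
  have h3 : (⟨v⁻¹, R.inv_mem hv⟩ : ↥R) * ⟨r, hr⟩ ∈ U.subgroupOf R := by
    rw [key]
    constructor
    · intro h
      exfalso
      apply hvU
      have h' : v⁻¹ ∈ U := h
      simpa using U.inv_mem h'
    · intro h
      exact absurd h hrU
  exact h3

/-- `O_{p'}(H)` is normalized by the normalizer of `H` -/
theorem cj_XX_of_mem_normalizer [Finite G] {p : ℕ} [Fact p.Prime] {H : Subgroup G} {a : G}
    (ha : a ∈ Subgroup.normalizer (H : Set G)) : cj a (XX p H) = XX p H := by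
  have key : ∀ g ∈ Subgroup.normalizer (H : Set G), cj g (XX p H) ≤ XX p H := by
    intro g hg y hy
    rw [mem_cj, mem_XX] at hy
    obtain ⟨hy1, hy2⟩ := hy
    rw [mem_XX]
    obtain ⟨e, he⟩ : ∃ e : MulAut ↥H, e = Subgroup.normalizerMonoidHom H ⟨g, hg⟩ := ⟨_, rfl⟩
    have h1 := Cfsg.Agent.Helper22.pPrimeCore_map_equiv (G := ↥H) p e
    have h2 : e ⟨g⁻¹ * y * g, hy1⟩ ∈ Cfsg.pPrimeCore p ↥H := by
      rw [← h1]
      exact ⟨_, hy2, rfl⟩
    have h3 : ((e ⟨g⁻¹ * y * g, hy1⟩ : ↥H) : G) = y := by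
      rw [he]
      show g * (g⁻¹ * y * g) * g⁻¹ = y
      group
    have hyH : y ∈ H := by
      rw [← h3]
      exact (e _).2
    refine ⟨hyH, ?_⟩
    have h4 : (⟨y, hyH⟩ : ↥H) = e ⟨g⁻¹ * y * g, hy1⟩ := Subtype.ext h3.symm
    rw [h4]
    exact h2
  apply le_antisymm (key a ha)
  have := key a⁻¹ (Subgroup.inv_mem _ ha)
  rwa [cj_le_iff, inv_inv] at this

end aux


section main

variable [Finite G] {V H : Subgroup G}

/-- the subgroup generated by the best offenders inside `H` -/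
def offSup (V H : Subgroup G) : Subgroup G :=
  ⨆ A : {A : Subgroup G // A ≤ H ∧ Cfsg.IsBestOffenderOn 2 V A}, (A : Subgroup G)

theorem offSup_le : offSup V H ≤ H := iSup_le fun A => A.2.1

theorem le_offSup {A : Subgroup G} (hAH : A ≤ H) (hA : Cfsg.IsBestOffenderOn 2 V A) :
    A ≤ offSup V H :=
  le_iSup (fun A : {A : Subgroup G // A ≤ H ∧ Cfsg.IsBestOffenderOn 2 V A} => (A : Subgroup G))
    ⟨A, hAH, hA⟩

theorem cj_offSup (hHV : H ≤ Subgroup.normalizer (V : Set G)) {h : G} (hh : h ∈ H) :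
    cj h (offSup V H) = offSup V H := by
  have key : ∀ g ∈ H, cj g (offSup V H) ≤ offSup V H := by
    intro g hg
    show Subgroup.map _ (⨆ A : {A : Subgroup G // A ≤ H ∧ Cfsg.IsBestOffenderOn 2 V A},
      (A : Subgroup G)) ≤ _
    rw [Subgroup.map_iSup]
    apply iSup_le
    rintro ⟨A, hAH, hA⟩
    apply le_offSup (V := V) (H := H) _ (isBestOffenderOn_cj hA (hHV hg))
    show cj g A ≤ H
    rw [cj_le_iff, cj_eq_self_of_mem (H.inv_mem hg)]
    exact hAH
  apply le_antisymm (key h hh)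
  have := key h⁻¹ (H.inv_mem hh)
  rwa [cj_le_iff, inv_inv] at this

theorem setting_offSup (hV : Cfsg.IsElementaryAbelian 2 V)
    (hHV : H ≤ Subgroup.normalizer (V : Set G))
    (hf : H ⊓ Subgroup.centralizer (V : Set G) = ⊥)
    (hS1 : Subgroup.centralizer (Cfsg.pPrimeCore 2 ↥(offSup V H) : Set ↥(offSup V H)) ≤
      Cfsg.pPrimeCore 2 ↥(offSup V H))
    (hne : offSup V H ≠ ⊥) : Setting 2 V (offSup V H) := by
  refine ⟨hV, offSup_le.trans hHV, ?_, hS1, ?_, hne⟩
  · rw [eq_bot_iff, ← hf]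
    exact inf_le_inf_right _ offSup_le
  · apply le_antisymm
    · show (⨆ A : {A : Subgroup G // A ≤ H ∧ Cfsg.IsBestOffenderOn 2 V A}, (A : Subgroup G)) ≤ _
      apply iSup_le
      rintro ⟨A, hAH, hA⟩
      exact le_iSup (fun A' : {A' : Subgroup G // A' ≤ offSup V H ∧
        Cfsg.IsBestOffenderOn 2 V A'} => (A' : Subgroup G)) ⟨A, le_offSup hAH hA, hA⟩
    · exact iSup_le fun A => A.2.1

/-- the main induction -/
theorem sq_mem_of_weakBest (hV : Cfsg.IsElementaryAbelian 2 V)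
    (hHV : H ≤ Subgroup.normalizer (V : Set G))
    (hf : H ⊓ Subgroup.centralizer (V : Set G) = ⊥)
    (hS1 : Subgroup.centralizer (Cfsg.pPrimeCore 2 ↥(offSup V H) : Set ↥(offSup V H)) ≤
      Cfsg.pPrimeCore 2 ↥(offSup V H)) :
    ∀ (n : ℕ) (A : Subgroup G), Nat.card A = n → A ≤ H → IsPGroup 2 A →
      (∀ a ∈ A, ∀ b ∈ A, a * b = b * a) → WeakBest V A →
      ∀ a ∈ A, a ^ 2 ∈ Subgroup.centralizer (V : Set G) := by
  haveI : Fact (Nat.Prime 2) := ⟨Nat.prime_two⟩
  intro n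
  induction n using Nat.strong_induction_on with
  | _ n ih =>
  intro A hn hAH hA2 hAc hAw
  by_cases hVA : ⁅V, A⁆ = ⊥
  · intro a ha
    have hle : A ≤ Subgroup.centralizer (V : Set G) := by
      rw [Subgroup.commutator_comm] at hVA
      exact Subgroup.commutator_eq_bot_iff_le_centralizer.mp hVA
    exact Subgroup.pow_mem _ (hle ha) 2
  have hcomm : ∀ x ∈ V, ∀ y ∈ V, x * y = y * x := fun x hx y hy =>
    Helper3.IsElementaryAbelian.commute hV hx hy
  have hAV : A ≤ Subgroup.normalizer (V : Set G) := hAH.trans hHV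
  have hAA : ⁅A, A⁆ = ⊥ := by
    rw [Subgroup.commutator_eq_bot_iff_le_centralizer]
    intro a ha
    rw [Subgroup.mem_centralizer_iff]
    intro b hb
    exact hAc b hb a ha
  have hab : ⁅A, A⁆ ≤ Subgroup.centralizer (V : Set G) := by
    rw [hAA]; exact bot_le
  have hT : Helper27.TimHyp V A := ⟨hcomm, hAV, hab, hAw⟩
  obtain ⟨hMw, hMf, hMc⟩ := timmesfeld_weak hT
  have hMne := timmesfeld_weak_ne_bot hT (Helper3.IsElementaryAbelian.isPGroup hV) hA2 hVA
  obtain ⟨M, hM⟩ : ∃ M : Subgroup G,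
      M = A ⊓ Subgroup.centralizer ((⁅V, A⁆ : Subgroup G) : Set G) := ⟨_, rfl⟩
  rw [← hM] at hMw hMf hMc hMne
  have hMA : M ≤ A := by rw [hM]; exact inf_le_left
  have hMbo : Cfsg.IsBestOffenderOn 2 V M := by
    refine ⟨hMw, (Subgroup.commutator_mono hMA hMA).trans hab, ?_⟩
    intro a ha
    apply sq_mem_centralizer_of_quadratic hV (hAV (hMA ha))
    intro v hv
    have hc : a * v * a⁻¹ * v⁻¹ ∈ ⁅V, A⁆ := by
      rw [Subgroup.commutator_comm]
      have := Subgroup.commutator_mem_commutator (hMA ha) hv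
      rwa [commutatorElement_def] at this
    have ha' : a ∈ Subgroup.centralizer ((⁅V, A⁆ : Subgroup G) : Set G) := by
      rw [hM] at ha; exact ha.2
    have h1 := Subgroup.mem_centralizer_iff.mp ha' _ hc
    calc a * (a * v * a⁻¹ * v⁻¹) * a⁻¹ = ((a * v * a⁻¹ * v⁻¹) * a) * a⁻¹ := by rw [h1]
      _ = a * v * a⁻¹ * v⁻¹ := by group
  obtain ⟨H₀, hH₀⟩ : ∃ H₀ : Subgroup G, H₀ = offSup V H := ⟨_, rfl⟩
  have hMH₀ : M ≤ H₀ := by
    rw [hH₀]; exact le_offSup (hMA.trans hAH) hMbo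
  have hH₀ne : offSup V H ≠ ⊥ := by
    intro h
    apply hMne
    have : M = ⊥ := by
      rw [eq_bot_iff, ← h, ← hH₀]; exact hMH₀
    rw [this]
    exact Subgroup.commutator_bot_right V
  have hS : Setting 2 V H₀ := by
    rw [hH₀]; exact setting_offSup hV hHV hf hS1 hH₀ne
  have hI : Inputs 2 V H₀ := inputs_of_setting hS
  -- a minimal offender inside `M`
  obtain ⟨B, hBM, hB⟩ : ∃ B : Subgroup G, B ≤ M ∧ MinOff 2 V H₀ B := by
    have hSne : ({B : Subgroup G | B ≤ M ∧ Cfsg.IsBestOffenderOn 2 V B ∧ ⁅V, B⁆ ≠ ⊥}).Nonempty :=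
      ⟨M, le_rfl, hMbo, hMne⟩
    obtain ⟨B, hBS, hBmin⟩ := WellFounded.has_min
      (measure (fun B : Subgroup G => Nat.card B)).wf _ hSne
    refine ⟨B, hBS.1, hBS.1.trans hMH₀, hBS.2.1, hBS.2.2, ?_⟩
    intro B' hB'B hB'bo hB'ne
    have h1 : ¬ Nat.card B' < Nat.card B := hBmin B' ⟨hB'B.trans hBS.1, hB'bo, hB'ne⟩
    exact Subgroup.eq_of_le_of_card_ge hB'B (not_lt.mp h1)
  have hBA : B ≤ A := hBM.trans hMA
  have hcB : Nat.card B = 2 := mo_card hS hI hB
  have hcU : Nat.card ↥(⁅V, B⁆) = 2 := mo_card_comm hS hI hB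
  have hcR : Nat.card ↥(RR 2 V H₀ B) = 2 ^ 2 := RR_card hS hI hB
  have hUR : ⁅V, B⁆ ≤ RR 2 V H₀ B := Subgroup.commutator_mono le_rfl (le_EE B)
  have hRV : RR 2 V H₀ B ≤ V := RR_le hB.1 hS.hHV
  have hEf := EE_faithful hS hI hB
  obtain ⟨t, htB, ht1⟩ := exists_ne_one_of_prime_card hcB
  have ht2 : t ^ 2 = 1 := mo_pow hS hB htB
  obtain ⟨u, huU, hu1⟩ := exists_ne_one_of_prime_card hcU
  have htA : t ∈ A := hBA htB
  have hnH₀ : ∀ a ∈ A, a ∈ Subgroup.normalizer (H₀ : Set G) := by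
    intro a ha
    rw [Subgroup.mem_normalizer_iff_map_conj_eq, hH₀]
    exact cj_offSup hHV (hAH ha)
  have hcjB : ∀ a ∈ A, cj a B = B := by
    intro a ha
    apply cj_eq_self_of_mem_centralizer
    rw [Subgroup.mem_centralizer_iff]
    intro b hb
    exact hAc b (hBA hb) a ha
  have hcjV : ∀ a ∈ A, cj a V = V := fun a ha => cj_eq_self_of_mem_normalizer (hAV ha)
  have hcjE : ∀ a ∈ A, cj a (EE 2 H₀ B) = EE 2 H₀ B := by
    intro a ha
    unfold EE
    rw [cj_sup, cj_commutator, cj_XX_of_mem_normalizer (hnH₀ a ha), hcjB a ha]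
  have hcjR : ∀ a ∈ A, cj a (RR 2 V H₀ B) = RR 2 V H₀ B := by
    intro a ha
    unfold RR
    rw [cj_commutator, hcjV a ha, hcjE a ha]
  have hcjU : ∀ a ∈ A, cj a ⁅V, B⁆ = ⁅V, B⁆ := by
    intro a ha
    rw [cj_commutator, hcjV a ha, hcjB a ha]
  have hfixu : ∀ a ∈ A, a * u * a⁻¹ = u := by
    intro a ha
    have h1 : a * u * a⁻¹ ∈ ⁅V, B⁆ := by
      have := conj_mem_cj (x := a) huU
      rwa [hcjU a ha] at this
    rcases eq_one_or_eq_of_card_two hcU huU hu1 h1 with h | h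
    · exfalso
      apply hu1
      have e : u = a⁻¹ * (a * u * a⁻¹) * a := by group
      rw [e, h]; group
    · exact h
  obtain ⟨v₀, hv₀R, hv₀U⟩ : ∃ v₀ ∈ RR 2 V H₀ B, v₀ ∉ ⁅V, B⁆ := by
    by_contra hcon
    push Not at hcon
    have h1 : RR 2 V H₀ B ≤ ⁅V, B⁆ := hcon
    have h2 := Subgroup.card_le_of_le h1
    rw [hcR, hcU] at h2
    omega
  have hc42 : Nat.card ↥(RR 2 V H₀ B) = 2 * Nat.card ↥(⁅V, B⁆) := by rw [hcR, hcU]; norm_num
  have hdich : ∀ g : G, cj g (RR 2 V H₀ B) = RR 2 V H₀ B → cj g ⁅V, B⁆ = ⁅V, B⁆ →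
      g * v₀ * g⁻¹ = v₀ ∨ g * v₀ * g⁻¹ = v₀ * u := by
    intro g hgR hgU
    have h1 : g * v₀ * g⁻¹ ∈ RR 2 V H₀ B := by
      have := conj_mem_cj (x := g) hv₀R
      rwa [hgR] at this
    have h2 : g * v₀ * g⁻¹ ∉ ⁅V, B⁆ := by
      intro h
      apply hv₀U
      have h3 : g * v₀ * g⁻¹ ∈ cj g ⁅V, B⁆ := by rw [hgU]; exact h
      have h4 := mem_cj.mp h3
      have e : g⁻¹ * (g * v₀ * g⁻¹) * g = v₀ := by group
      rwa [e] at h4
    rcases mem_or_inv_mul_mem hUR hc42 hv₀R hv₀U h1 with h | h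
    · exact absurd h h2
    · rcases eq_one_or_eq_of_card_two hcU huU hu1 h with h' | h'
      · left
        exact (inv_mul_eq_one.mp h').symm
      · right
        rw [← h']; group
  have hcentR : ∀ g : G, g * u * g⁻¹ = u → g * v₀ * g⁻¹ = v₀ →
      g ∈ Subgroup.centralizer ((RR 2 V H₀ B : Subgroup G) : Set G) := by
    intro g hgu hgv
    rw [Subgroup.mem_centralizer_iff]
    intro r hr
    have key : g * r * g⁻¹ = r := by
      rcases mem_or_inv_mul_mem hUR hc42 hv₀R hv₀U hr with h | h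
      · rcases eq_one_or_eq_of_card_two hcU huU hu1 h with h' | h'
        · rw [h']; group
        · rw [h']; exact hgu
      · rcases eq_one_or_eq_of_card_two hcU huU hu1 h with h' | h'
        · have e : r = v₀ := (inv_mul_eq_one.mp h').symm
          rw [e]; exact hgv
        · have e : r = v₀ * u := by rw [← h']; group
          rw [e]
          calc g * (v₀ * u) * g⁻¹ = (g * v₀ * g⁻¹) * (g * u * g⁻¹) := by group
            _ = v₀ * u := by rw [hgv, hgu]
    calc r * g = (g * r * g⁻¹) * g := by rw [key]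
      _ = g * r := by group
  have htR : t ∉ Subgroup.centralizer ((RR 2 V H₀ B : Subgroup G) : Set G) := by
    intro h
    have h1 : t ∈ EE 2 H₀ B ⊓ Subgroup.centralizer ((RR 2 V H₀ B : Subgroup G) : Set G) :=
      ⟨le_EE B htB, h⟩
    rw [hEf, Subgroup.mem_bot] at h1
    exact ht1 h1
  have htv : t * v₀ * t⁻¹ = v₀ * u := by
    rcases hdich t (hcjR t htA) (hcjU t htA) with h | h
    · exact absurd (hcentR t (hfixu t htA) h) htR
    · exact h
  obtain ⟨A₁, hA₁⟩ : ∃ A₁ : Subgroup G,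
      A₁ = A ⊓ Subgroup.centralizer ((RR 2 V H₀ B : Subgroup G) : Set G) := ⟨_, rfl⟩
  have huV : u ∈ V := hRV (hUR huU)
  have hu2 : u * u = 1 := by
    have := hV.2 u huV
    rwa [pow_two] at this
  have hsplit : ∀ a ∈ A, a ∈ A₁ ∨ t * a ∈ A₁ := by
    intro a ha
    rcases hdich a (hcjR a ha) (hcjU a ha) with h | h
    · left
      rw [hA₁]
      exact ⟨ha, hcentR a (hfixu a ha) h⟩
    · right
      rw [hA₁]
      refine ⟨A.mul_mem htA ha, hcentR _ ?_ ?_⟩
      · calc t * a * u * (t * a)⁻¹ = t * (a * u * a⁻¹) * t⁻¹ := by group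
          _ = u := by rw [hfixu a ha, hfixu t htA]
      · calc t * a * v₀ * (t * a)⁻¹ = t * (a * v₀ * a⁻¹) * t⁻¹ := by group
          _ = t * (v₀ * u) * t⁻¹ := by rw [h]
          _ = (t * v₀ * t⁻¹) * (t * u * t⁻¹) := by group
          _ = v₀ * u * u := by rw [htv, hfixu t htA]
          _ = v₀ := by rw [mul_assoc, hu2, mul_one]
  have htA₁ : t ∉ A₁ := by
    rw [hA₁]; exact fun h => htR h.2
  have hA₁A : A₁ ≤ A := by rw [hA₁]; exact inf_le_left
  have hlt : Nat.card A₁ < Nat.card A := by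
    apply lt_of_le_of_ne (Subgroup.card_le_of_le hA₁A)
    intro h
    apply htA₁
    have := Subgroup.eq_of_le_of_card_ge hA₁A h.ge
    rw [this]; exact htA
  -- the key count
  have hF : ∀ B₁ : Subgroup G, B₁ ≤ A₁ →
      Nat.card ↥(B₁ ⊔ B) * Nat.card ↥(V ⊓ Subgroup.centralizer ((B₁ ⊔ B : Subgroup G) : Set G)) =
        Nat.card B₁ * Nat.card ↥(V ⊓ Subgroup.centralizer (B₁ : Set G)) := by
    intro B₁ hB₁
    have hB₁A : B₁ ≤ A := hB₁.trans hA₁A
    have hF1 : Nat.card ↥(B₁ ⊔ B) = Nat.card B₁ * 2 := by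
      rw [← hcB]
      apply card_sup_eq_mul
      · refine le_trans ?_ (Subgroup.centralizer_le_normalizer _)
        intro b hb
        rw [Subgroup.mem_centralizer_iff]
        intro x hx
        exact hAc x (hB₁A hx) b (hBA hb)
      · rw [eq_bot_iff]
        rintro x ⟨hx1, hx2⟩
        rcases eq_one_or_eq_of_card_two hcB htB ht1 hx2 with h | h
        · exact h
        · exfalso
          apply htA₁
          rw [← h]; exact hB₁ hx1
    obtain ⟨W, hW⟩ : ∃ W : Subgroup G, W = V ⊓ Subgroup.centralizer (B₁ : Set G) := ⟨_, rfl⟩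
    obtain ⟨K, hK⟩ : ∃ K : Subgroup G,
        K = V ⊓ Subgroup.centralizer ((B₁ ⊔ B : Subgroup G) : Set G) := ⟨_, rfl⟩
    have hKW : K ≤ W := by
      rw [hK, hW]
      exact inf_le_inf_left _ (Subgroup.centralizer_le (SetLike.coe_subset_coe.mpr le_sup_left))
    have htV : t ∈ Subgroup.normalizer (V : Set G) := hAV htA
    let φ : ↥W →* ↥(⁅V, B⁆) :=
      { toFun := fun w => ⟨t * (w : G) * t⁻¹ * (w : G)⁻¹,
          mo_conj_mem htB (hW.le w.2).1⟩
        map_one' := by
          apply Subtype.ext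
          show t * ((1 : ↥W) : G) * t⁻¹ * ((1 : ↥W) : G)⁻¹ = 1
          rw [Subgroup.coe_one]; group
        map_mul' := by
          intro a b
          apply Subtype.ext
          show t * ((a * b : ↥W) : G) * t⁻¹ * ((a * b : ↥W) : G)⁻¹
            = (t * (a : G) * t⁻¹ * (a : G)⁻¹) * (t * (b : G) * t⁻¹ * (b : G)⁻¹)
          rw [Subgroup.coe_mul]
          have haV : (a : G) ∈ V := (hW.le a.2).1
          have hbV : (b : G) ∈ V := (hW.le b.2).1
          exact comm_map_mul hS htV haV hbV }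
    have hv₀W : v₀ ∈ W := by
      rw [hW]
      refine Subgroup.mem_inf.mpr ⟨hRV hv₀R, ?_⟩
      rw [Subgroup.mem_centralizer_iff]
      intro b hb
      have hb' : b ∈ Subgroup.centralizer ((RR 2 V H₀ B : Subgroup G) : Set G) := by
        have := hB₁ hb
        rw [hA₁] at this
        exact this.2
      exact (Subgroup.mem_centralizer_iff.mp hb' v₀ hv₀R).symm
    have hφv : ((φ ⟨v₀, hv₀W⟩ : ↥(⁅V, B⁆)) : G) = u := by
      show t * v₀ * t⁻¹ * v₀⁻¹ = u
      rw [htv, hcomm v₀ (hRV hv₀R) u huV]; group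
    haveI : Fact (Nat.card ↥(⁅V, B⁆)).Prime := ⟨by rw [hcU]; exact Nat.prime_two⟩
    have hrange : φ.range = ⊤ := by
      rcases φ.range.eq_bot_or_eq_top_of_prime_card with h | h
      · exfalso
        have h1 : φ ⟨v₀, hv₀W⟩ ∈ φ.range := ⟨_, rfl⟩
        rw [h, Subgroup.mem_bot] at h1
        apply hu1
        rw [← hφv, h1]; rfl
      · exact h
    have hker : φ.ker = K.subgroupOf W := by
      ext w
      rw [MonoidHom.mem_ker, Subgroup.mem_subgroupOf, hK, Helper27.centralizer_sup]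
      have hwW : (w : G) ∈ V ⊓ Subgroup.centralizer (B₁ : Set G) := hW.le w.2
      constructor
      · intro h
        have h1 : t * (w : G) * t⁻¹ * (w : G)⁻¹ = 1 := congrArg Subtype.val h
        have h2 : t * (w : G) = (w : G) * t := by
          calc t * (w : G) = (t * (w : G) * t⁻¹ * (w : G)⁻¹) * ((w : G) * t) := by group
            _ = (w : G) * t := by rw [h1, one_mul]
        refine Subgroup.mem_inf.mpr ⟨hwW.1, Subgroup.mem_inf.mpr ⟨hwW.2, ?_⟩⟩
        rw [Subgroup.mem_centralizer_iff]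
        intro b hb
        rcases eq_one_or_eq_of_card_two hcB htB ht1 hb with h' | h'
        · rw [h']; group
        · rw [h']; exact h2
      · rintro ⟨-, -, h3⟩
        have h2 : t * (w : G) = (w : G) * t := Subgroup.mem_centralizer_iff.mp h3 t htB
        apply Subtype.ext
        show t * (w : G) * t⁻¹ * (w : G)⁻¹ = 1
        rw [h2]; group
    have h1 : Nat.card ↥φ.ker * φ.ker.index = Nat.card ↥W := Subgroup.card_mul_index _
    rw [Subgroup.index_ker, hrange, Subgroup.card_top, hcU, hker] at h1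
    have h2 : Nat.card ↥(K.subgroupOf W) = Nat.card K :=
      Nat.card_congr (Subgroup.subgroupOfEquivOfLe hKW).toEquiv
    rw [h2] at h1
    rw [← hK, ← hW, hF1, ← h1]
    ring
  have hsup : A₁ ⊔ B = A := by
    apply le_antisymm (sup_le hA₁A hBA)
    intro a ha
    rcases hsplit a ha with h | h
    · exact Subgroup.mem_sup_left h
    · have e : a = t⁻¹ * (t * a) := by group
      rw [e]
      exact Subgroup.mul_mem _ (Subgroup.mem_sup_right (B.inv_mem htB)) (Subgroup.mem_sup_left h)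
  have hA₁w : WeakBest V A₁ := by
    intro B₁ hB₁
    rw [← hF B₁ hB₁, ← hF A₁ le_rfl, hsup]
    exact hAw _ (sup_le (hB₁.trans hA₁A) hBA)
  have hIH := ih (Nat.card A₁) (hn ▸ hlt) A₁ rfl (hA₁A.trans hAH) (hA2.to_le hA₁A)
    (fun a ha b hb => hAc a (hA₁A ha) b (hA₁A hb)) hA₁w
  intro a ha
  rcases hsplit a ha with h | h
  · exact hIH a h
  · have h1 := hIH _ h
    have e : (t * a) ^ 2 = a ^ 2 := by
      have hta : t * a = a * t := hAc t htA a ha
      calc (t * a) ^ 2 = t * (a * t) * a := by rw [pow_two]; group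
        _ = t * (t * a) * a := by rw [hta]
        _ = t ^ 2 * a ^ 2 := by rw [pow_two, pow_two]; group
        _ = a ^ 2 := by rw [ht2, one_mul]
    rwa [e] at h1

/-- weak best offenders are best offenders -/
theorem isBestOffenderOn_of_weakBest (hV : Cfsg.IsElementaryAbelian 2 V)
    (hHV : H ≤ Subgroup.normalizer (V : Set G))
    (hf : H ⊓ Subgroup.centralizer (V : Set G) = ⊥)
    (hS1 : Subgroup.centralizer (Cfsg.pPrimeCore 2 ↥(offSup V H) : Set ↥(offSup V H)) ≤
      Cfsg.pPrimeCore 2 ↥(offSup V H))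
    {A : Subgroup G} (hAH : A ≤ H) (hA2 : IsPGroup 2 A)
    (hAc : ∀ a ∈ A, ∀ b ∈ A, a * b = b * a) (hAw : WeakBest V A) :
    Cfsg.IsBestOffenderOn 2 V A := by
  refine ⟨hAw, ?_, sq_mem_of_weakBest hV hHV hf hS1 _ A rfl hAH hA2 hAc hAw⟩
  have hAA : ⁅A, A⁆ = ⊥ := by
    rw [Subgroup.commutator_eq_bot_iff_le_centralizer]
    intro a ha
    rw [Subgroup.mem_centralizer_iff]
    intro b hb
    exact hAc b hb a ha
  rw [hAA]; exact bot_le

end main

end Cfsg.Agent.Helper4.WeakOff
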