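import Mathlib
import Cfsg.Prelude.Def_PLocal
import Cfsg.Agent.Lib.Helper4.WeakOff
import Cfsg.Agent.Lib.Helper4.OffHol
import Cfsg.Agent.Lib.Helper4.GlaubSolvA

/-!
# Abelian subgroups of largest order as weak best offenders (helper4)
-/

set_option autoImplicit false
set_option linter.unusedSectionVars false
set_option linter.unusedVariables false
set_option linter.style.haveILetI false

namespace Cfsg.Agent.Helper4.GlaubSolv

open scoped commutatorElement
open Cfsg.Agent.Helper4.OG Cfsg.Agent.Helper4.HOL Cfsg.Agent.Helper4.WeakOff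

variable {G : Type*} [Group G]

/-- an abelian subgroup of largest order of `S` is a weak best offender on every abelian
subgroup of `S` -/
theorem weakBest_of_maxAbelian [Finite G] {S V : Subgroup G} (hVS : V ≤ S)
    (hVc : ∀ a ∈ V, ∀ b ∈ V, a * b = b * a)
    (A' : Subgroup ↥S) (hA' : A' ∈ Cfsg.maxAbelianSubgroups ↥S) :
    WeakBest V (A'.map S.subtype) := by
  obtain ⟨A, hA⟩ : ∃ A : Subgroup G, A = A'.map S.subtype := ⟨_, rfl⟩
  rw [← hA]
  have hAS : A ≤ S := by rw [hA]; exact Subgroup.map_subtype_le _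
  have hAc : ∀ a ∈ A, ∀ b ∈ A, a * b = b * a := by
    intro a ha b hb
    rw [hA] at ha hb
    obtain ⟨a', ha', rfl⟩ := ha
    obtain ⟨b', hb', rfl⟩ := hb
    have := hA'.1.is_comm.comm ⟨a', ha'⟩ ⟨b', hb'⟩
    have h2 : a' * b' = b' * a' := congrArg Subtype.val this
    rw [← map_mul, ← map_mul, h2]
  have hcardA : Nat.card A = Nat.card A' := by
    rw [hA]
    exact Subgroup.card_map_of_injective S.subtype_injective
  intro B hB
  obtain ⟨K, hK⟩ : ∃ K : Subgroup G, K = V ⊓ Subgroup.centralizer (B : Set G) := ⟨_, rfl⟩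
  rw [← hK]
  have hBK : B ≤ Subgroup.centralizer (K : Set G) := by
    rw [Subgroup.le_centralizer_iff, hK]
    exact inf_le_right
  have hBB : B ≤ Subgroup.centralizer (B : Set G) := by
    intro b hb
    rw [Subgroup.mem_centralizer_iff]
    intro b' hb'
    exact hAc b' (hB hb') b (hB hb)
  have hKB : K ≤ Subgroup.centralizer (B : Set G) := by rw [hK]; exact inf_le_right
  have hKK : K ≤ Subgroup.centralizer (K : Set G) := by
    intro k hk
    rw [Subgroup.mem_centralizer_iff]
    intro k' hk'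
    rw [hK] at hk hk'
    exact hVc k' hk'.1 k hk.1
  have e1 := Helper27.card_sup_mul_card_inf B K
    (hBK.trans (Subgroup.centralizer_le_normalizer _))
  -- `B ⊔ K` is abelian and lies in `S`
  have hDS : B ⊔ K ≤ S := sup_le (hB.trans hAS) (by rw [hK]; exact inf_le_left.trans hVS)
  have hDc : B ⊔ K ≤ Subgroup.centralizer ((B ⊔ K : Subgroup G) : Set G) := by
    rw [Helper27.centralizer_sup]
    exact sup_le (le_inf hBB hBK) (le_inf hKB hKK)
  have hDcomm : IsMulCommutative ↥((B ⊔ K).subgroupOf S) := by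
    constructor
    constructor
    rintro ⟨x, hx⟩ ⟨y, hy⟩
    apply Subtype.ext
    apply Subtype.ext
    show (x : G) * (y : G) = (y : G) * (x : G)
    have hx' : (x : G) ∈ B ⊔ K := hx
    have hy' : (y : G) ∈ B ⊔ K := hy
    exact (Subgroup.mem_centralizer_iff.mp (hDc hx') _ hy').symm
  have h2 : Nat.card ↥((B ⊔ K).subgroupOf S) ≤ Nat.card A' := hA'.2 _ hDcomm
  have h3 : Nat.card ↥((B ⊔ K).subgroupOf S) = Nat.card ↥(B ⊔ K) :=
    Nat.card_congr (Subgroup.subgroupOfEquivOfLe hDS).toEquiv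
  rw [h3, ← hcardA] at h2
  have h4 : B ⊓ K ≤ V ⊓ Subgroup.centralizer (A : Set G) := by
    intro x hx
    rw [hK] at hx
    refine Subgroup.mem_inf.mpr ⟨hx.2.1, ?_⟩
    rw [Subgroup.mem_centralizer_iff]
    intro a ha
    exact hAc a ha x (hB hx.1)
  have h5 := Subgroup.card_le_of_le h4
  calc Nat.card B * Nat.card K = Nat.card ↥(B ⊔ K) * Nat.card ↥(B ⊓ K) := e1.symm
    _ ≤ Nat.card A * Nat.card ↥(V ⊓ Subgroup.centralizer (A : Set G)) := Nat.mul_le_mul h2 h5

/-- conjugates of weak best offenders -/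
theorem weakBest_cj {V A : Subgroup G} (h1 : WeakBest V A) {x : G}
    (hx : x ∈ Subgroup.normalizer (V : Set G)) : WeakBest V (cj x A) := by
  have hV : cj x V = V := cj_eq_self_of_mem_normalizer hx
  have hcard : ∀ B : Subgroup G,
      Nat.card ↥(V ⊓ Subgroup.centralizer ((cj x B : Subgroup G) : Set G))
      = Nat.card ↥(V ⊓ Subgroup.centralizer (B : Set G)) := by
    intro B
    rw [← cj_centralizer]
    nth_rewrite 1 [← hV]
    rw [← cj_inf, card_cj]
  intro B hB
  have hB' : cj x⁻¹ B ≤ A := by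
    rw [cj_le_iff, inv_inv]; exact hB
  have := h1 _ hB'
  rw [← hcard (cj x⁻¹ B), cj_cj_inv, card_cj] at this
  rw [hcard A, card_cj]
  exact this

/-- weak best offenders are carried to weak best offenders in the holomorph -/
theorem weakBest_map [Finite G] (V : Subgroup G) [V.Normal] {A : Subgroup G}
    (h1 : WeakBest V A) : WeakBest (VV V) (A.map (psi V)) := by
  intro B' hB'
  obtain ⟨B, hB⟩ : ∃ B : Subgroup G, B = A ⊓ B'.comap (psi V) := ⟨_, rfl⟩
  have hBA : B ≤ A := by rw [hB]; exact inf_le_left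
  have hBmap : B.map (psi V) = B' := by
    apply le_antisymm
    · rintro x ⟨b, hb, rfl⟩
      rw [hB] at hb
      exact hb.2
    · intro x hx
      obtain ⟨a, ha, rfl⟩ := hB' hx
      refine ⟨a, ?_, rfl⟩
      rw [hB]
      exact ⟨ha, hx⟩
  have hBC : B ⊓ Subgroup.centralizer (V : Set G) = A ⊓ Subgroup.centralizer (V : Set G) := by
    apply le_antisymm (inf_le_inf_right _ hBA)
    rw [hB]
    apply le_inf (le_inf inf_le_left _) inf_le_right
    intro x hx
    rw [Subgroup.mem_comap, (psi_eq_one_iff V x).mpr hx.2]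
    exact Subgroup.one_mem _
  have e1 := card_map_psi V B
  have e2 := card_map_psi V A
  have e3 := card_centralizer_map V B
  have e4 := card_centralizer_map V A
  rw [hBmap] at e1 e3
  rw [hBC] at e1
  have h5 := h1 B hBA
  rw [← e1, ← e2, ← e3, ← e4] at h5
  have hpos : 0 < Nat.card ↥(A ⊓ Subgroup.centralizer (V : Set G)) := Nat.card_pos
  have h6 : (Nat.card ↥B' * Nat.card ↥(VV V ⊓ Subgroup.centralizer ((B' : Subgroup (Hol V)) :
      Set (Hol V)))) * Nat.card ↥(A ⊓ Subgroup.centralizer (V : Set G)) ≤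
      (Nat.card ↥(A.map (psi V)) * Nat.card ↥(VV V ⊓ Subgroup.centralizer
        ((A.map (psi V) : Subgroup (Hol V)) : Set (Hol V)))) *
        Nat.card ↥(A ⊓ Subgroup.centralizer (V : Set G)) := by
    calc _ = Nat.card ↥B' * Nat.card ↥(A ⊓ Subgroup.centralizer (V : Set G)) *
          Nat.card ↥(VV V ⊓ Subgroup.centralizer ((B' : Subgroup (Hol V)) : Set (Hol V))) := by
          ring
      _ ≤ _ := h5
      _ = _ := by ring
  exact Nat.le_of_mul_le_mul_right h6 hpos

end Cfsg.Agent.Helper4.GlaubSolv
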