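import Mathlib
import Cfsg.Prelude.Def_PLocal
import Cfsg.Agent.Lib.Helper4.GlaubSolvB
import Cfsg.Agent.Lib.Helper4.ZJAbelian
import Cfsg.Agent.Lib.Helper14.SylowNormal

/-!
# The Frattini part of the solvable Thompson factorization (helper4)
-/

set_option autoImplicit false
set_option linter.unusedSectionVars false
set_option linter.unusedVariables false
set_option linter.style.haveILetI false

namespace Cfsg.Agent.Helper4.GlaubSolv

open scoped commutatorElement
open Cfsg.Agent.Helper4.OG Cfsg.Agent.Helper4.ZJ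

variable {X : Type*} [Group X] [Finite X]

/-- the normalizer of `T ∩ Y` normalizes `J(T)` when `J(T) ≤ Y` -/
theorem normalizer_inf_le_normalizer_J (T Y : Subgroup X)
    (hJY : Cfsg.thompsonSubgroupAOf T ≤ Y) :
    Subgroup.normalizer ((T ⊓ Y : Subgroup X) : Set X) ≤
      Subgroup.normalizer ((Cfsg.thompsonSubgroupAOf T : Subgroup X) : Set X) := by
  have key : ∀ n ∈ Subgroup.normalizer ((T ⊓ Y : Subgroup X) : Set X),
      cj n (Cfsg.thompsonSubgroupAOf T) ≤ Cfsg.thompsonSubgroupAOf T := by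
    intro n hn
    have h1 : cj n (Cfsg.thompsonSubgroupAOf T) = Cfsg.thompsonSubgroupAOf (cj n T) :=
      (thompsonSubgroupAOf_map (MulAut.conj n) T).symm
    rw [h1]
    apply thompsonSubgroupAOf_le
    intro A hA
    apply le_thompsonSubgroupAOf
    obtain ⟨hA1, hA2, hA3⟩ := mem_famA.1 hA
    have hAJ : A ≤ Cfsg.thompsonSubgroupAOf (cj n T) := le_thompsonSubgroupAOf hA
    have hAT : A ≤ T := by
      rw [← h1] at hAJ
      calc A ≤ cj n (Cfsg.thompsonSubgroupAOf T) := hAJ
        _ ≤ cj n (T ⊓ Y) := cj_mono n (le_inf (thompsonSubgroupAOf_le_self T) hJY)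
        _ = T ⊓ Y := cj_eq_self_of_mem_normalizer hn
        _ ≤ T := inf_le_left
    refine mem_famA.2 ⟨hAT, hA2, ?_⟩
    intro A' hA'T hA'c
    have h2 : cj n A' ≤ cj n T := cj_mono n hA'T
    have h3 := hA3 (cj n A') h2 (Subgroup.map_isMulCommutative A' _)
    rwa [card_cj] at h3
  intro n hn
  rw [Subgroup.mem_normalizer_iff_map_conj_eq]
  apply le_antisymm (key n hn)
  have := key n⁻¹ (Subgroup.inv_mem _ hn)
  rwa [cj_le_iff, inv_inv] at this

/-- the Frattini factorization `X = Y N_X(J(T))` for the normal closure `Y` of `J(T)` -/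
theorem normalClosure_sup_normalizer_J (T : Sylow 2 X) :
    Subgroup.normalClosure ((Cfsg.thompsonSubgroupAOf (T : Subgroup X) : Subgroup X) : Set X) ⊔
      Subgroup.normalizer ((Cfsg.thompsonSubgroupAOf (T : Subgroup X) : Subgroup X) : Set X)
      = ⊤ := by
  haveI : Fact (Nat.Prime 2) := ⟨Nat.prime_two⟩
  obtain ⟨Y, hY⟩ : ∃ Y : Subgroup X, Y = Subgroup.normalClosure
      ((Cfsg.thompsonSubgroupAOf (T : Subgroup X) : Subgroup X) : Set X) := ⟨_, rfl⟩
  rw [← hY]
  have hYn : Y.Normal := by rw [hY]; exact Subgroup.normalClosure_normal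
  have hJY : Cfsg.thompsonSubgroupAOf (T : Subgroup X) ≤ Y := by
    rw [hY]; exact Subgroup.le_normalClosure
  have h1 := Cfsg.Agent.Helper14.frattini_normal hYn
    (Cfsg.Agent.Helper14.isSylowOf_inf_normal T hYn)
  rw [eq_top_iff, ← h1, sup_comm]
  exact sup_le_sup_left (normalizer_inf_le_normalizer_J _ _ hJY) _

end Cfsg.Agent.Helper4.GlaubSolv
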