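import Mathlib
import Cfsg.Prelude.Def_PLocal
import Cfsg.Agent.Lib.Helper4.GlaubSolvC
import Cfsg.Agent.Lib.Helper4.OffThompson
import Cfsg.Agent.S0617
import Cfsg.Agent.S0250

/-!
# The `S₃`-product part of the solvable Thompson factorization (helper4)
-/

set_option autoImplicit false
set_option linter.unusedSectionVars false
set_option linter.unusedVariables false
set_option linter.style.haveILetI false

namespace Cfsg.Agent.Helper4.GlaubSolv

open scoped commutatorElement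
open Cfsg.Agent.Helper4.OG Cfsg.Agent.Helper4.HOL Cfsg.Agent.Helper4.WeakOff

/-- an internal direct product of finitely many copies of `M` -/
theorem exists_mulEquiv_pi {G : Type*} [Group G] {ι : Type*} [Finite ι] {M : Type*} [Group M]
    (H : ι → Subgroup G) (K : Subgroup G)
    (hnorm : ∀ i, K ≤ Subgroup.normalizer ((H i : Subgroup G) : Set G))
    (hind : iSupIndep H) (hsup : (⨆ i, H i) = K) (hiso : ∀ i, Nonempty (↥(H i) ≃* M)) :
    Nonempty (↥K ≃* (Fin (Nat.card ι) → M)) := by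
  classical
  haveI := Fintype.ofFinite ι
  have hle : ∀ i, H i ≤ K := fun i => hsup ▸ le_iSup H i
  have hcomm : Pairwise fun i j : ι => ∀ x y : G, x ∈ H i → y ∈ H j → Commute x y := by
    intro i j hij x y hx hy
    have hd : Disjoint (H i) (H j) := hind.pairwiseDisjoint hij
    have h1 : x * y * x⁻¹ * y⁻¹ ∈ H i := by
      have := (Subgroup.mem_normalizer_iff.mp (hnorm i (hle j hy)) x⁻¹).mp ((H i).inv_mem hx)
      have h2 := (H i).mul_mem hx this
      have e : x * (y * x⁻¹ * y⁻¹) = x * y * x⁻¹ * y⁻¹ := by group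
      rwa [e] at h2
    have h2 : x * y * x⁻¹ * y⁻¹ ∈ H j := by
      have := (Subgroup.mem_normalizer_iff.mp (hnorm j (hle i hx)) y).mp hy
      exact (H j).mul_mem this ((H j).inv_mem hy)
    have h3 : x * y * x⁻¹ * y⁻¹ = 1 := Subgroup.disjoint_def.mp hd h1 h2
    show x * y = y * x
    calc x * y = (x * y * x⁻¹ * y⁻¹) * (y * x) := by group
      _ = y * x := by rw [h3, one_mul]
  have hinj : Function.Injective (Subgroup.noncommPiCoprod hcomm) :=
    Subgroup.injective_noncommPiCoprod_of_iSupIndep hind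
  have hrange : (Subgroup.noncommPiCoprod hcomm).range = K := by
    rw [Subgroup.noncommPiCoprod_range, hsup]
  have e1 : (∀ i, ↥(H i)) ≃* ↥K :=
    (MonoidHom.ofInjective hinj).trans (MulEquiv.subgroupCongr hrange)
  have e2 : (∀ i, ↥(H i)) ≃* (ι → M) := MulEquiv.piCongrRight (fun i => (hiso i).some)
  have e3 : (ι → M) ≃* (Fin (Nat.card ι) → M) :=
    MulEquiv.arrowCongr (Finite.equivFin ι) (MulEquiv.refl M)
  exact ⟨e1.symm.trans (e2.trans e3)⟩

/-- transport of the self-centralizing condition along an equality of subgroups -/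
theorem selfCent_congr {G : Type*} [Group G] {p : ℕ} {K K' : Subgroup G} (h : K = K')
    (hK : Subgroup.centralizer (Cfsg.pPrimeCore p ↥K : Set ↥K) ≤ Cfsg.pPrimeCore p ↥K) :
    Subgroup.centralizer (Cfsg.pPrimeCore p ↥K' : Set ↥K') ≤ Cfsg.pPrimeCore p ↥K' := by
  subst h; exact hK

section main

variable {X : Type*} [Group X] [Finite X]

/-- abstract form: a normal subgroup generated by a conjugation-closed family of abelian
`2`-subgroups that are weak best offenders on a normal elementary abelian `2`-subgroup `Ve` with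
`O_2(X / C(Ve)) = 1` either centralizes `Ve` or induces a direct product of copies of `S₃` -/
theorem s3_product (Ve : Subgroup X) [hVen : Ve.Normal] (hsep : IsPSolvable 2 X)
    (hVe : Cfsg.IsElementaryAbelian 2 Ve)
    (hO : Cfsg.pCore 2 (X ⧸ Subgroup.centralizer (Ve : Set X)) = ⊥)
    (F : Set (Subgroup X)) (hF2 : ∀ A ∈ F, IsPGroup 2 A)
    (hFc : ∀ A ∈ F, ∀ a ∈ A, ∀ b ∈ A, a * b = b * a) (hFw : ∀ A ∈ F, WeakBest Ve A)
    (Y : Subgroup X) [hYn : Y.Normal] (hY : Y = sSup F) :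
    Y ≤ Subgroup.centralizer (Ve : Set X) ∨ ∃ n : ℕ, 1 ≤ n ∧
      Nonempty (↥Y ⧸ (Subgroup.centralizer (Ve : Set X)).subgroupOf Y ≃*
        (Fin n → Equiv.Perm (Fin 3))) := by
  haveI : Fact (Nat.Prime 2) := ⟨Nat.prime_two⟩
  obtain ⟨H, hH⟩ : ∃ H : Subgroup (Hol Ve), H = (⊤ : Subgroup X).map (psi Ve) := ⟨_, rfl⟩
  have hV' : Cfsg.IsElementaryAbelian 2 (VV Ve) := VV_elementary Ve hVe
  have hHV : H ≤ Subgroup.normalizer ((VV Ve : Subgroup (Hol Ve)) : Set (Hol Ve)) := by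
    rw [hH]; exact map_psi_le_normalizer Ve ⊤
  have hf : H ⊓ Subgroup.centralizer ((VV Ve : Subgroup (Hol Ve)) : Set (Hol Ve)) = ⊥ := by
    rw [hH]; exact map_psi_inf_centralizer Ve ⊤
  have hpsiH : ∀ g : X, psi Ve g ∈ H := by
    intro g; rw [hH]; exact ⟨g, Subgroup.mem_top g, rfl⟩
  -- the self-centralizing condition for the subgroup generated by the best offenders
  obtain ⟨J₀, hJ₀⟩ : ∃ J₀ : Subgroup X, J₀ = (offSup (VV Ve) H).comap (psi Ve) := ⟨_, rfl⟩
  haveI hJ₀n : J₀.Normal := by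
    constructor
    intro n hn g
    rw [hJ₀, Subgroup.mem_comap] at hn ⊢
    rw [map_mul, map_mul, map_inv]
    have h1 : psi Ve g * psi Ve n * (psi Ve g)⁻¹ ∈ cj (psi Ve g) (offSup (VV Ve) H) :=
      conj_mem_cj hn
    rwa [cj_offSup hHV (hpsiH g)] at h1
  have hJ₀map : J₀.map (psi Ve) = offSup (VV Ve) H := by
    rw [hJ₀, Subgroup.map_comap_eq, inf_eq_right]
    refine (offSup_le (V := VV Ve) (H := H)).trans ?_
    rw [hH]
    rintro _ ⟨g, -, rfl⟩
    exact ⟨g, rfl⟩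
  have hS1 : Subgroup.centralizer (Cfsg.pPrimeCore 2 ↥(offSup (VV Ve) H) :
      Set ↥(offSup (VV Ve) H)) ≤ Cfsg.pPrimeCore 2 ↥(offSup (VV Ve) H) :=
    selfCent_congr hJ₀map (selfCent_map Ve hsep hO J₀)
  -- members of the family are best offenders
  have hbest : ∀ A ∈ F, Cfsg.IsBestOffenderOn 2 (VV Ve) (A.map (psi Ve)) := by
    intro A hA
    apply isBestOffenderOn_of_weakBest hV' hHV hf hS1
    · rw [hH]; exact Subgroup.map_mono le_top
    · exact (hF2 A hA).map _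
    · rintro _ ⟨a, ha, rfl⟩ _ ⟨b, hb, rfl⟩
      rw [← map_mul, ← map_mul, hFc A hA a ha b hb]
    · exact weakBest_map Ve (hFw A hA)
  -- the image of `Y`
  obtain ⟨HY, hHY⟩ : ∃ HY : Subgroup (Hol Ve), HY = Y.map (psi Ve) := ⟨_, rfl⟩
  by_cases hbot : HY = ⊥
  · left
    intro y hy
    rw [← psi_eq_one_iff]
    have : psi Ve y ∈ HY := by rw [hHY]; exact ⟨y, hy, rfl⟩
    rwa [hbot, Subgroup.mem_bot] at this
  right
  have hHVY : HY ≤ Subgroup.normalizer ((VV Ve : Subgroup (Hol Ve)) : Set (Hol Ve)) := by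
    rw [hHY]; exact map_psi_le_normalizer Ve Y
  have hfY : HY ⊓ Subgroup.centralizer ((VV Ve : Subgroup (Hol Ve)) : Set (Hol Ve)) = ⊥ := by
    rw [hHY]; exact map_psi_inf_centralizer Ve Y
  have hS1Y : Subgroup.centralizer (Cfsg.pPrimeCore 2 ↥HY : Set ↥HY) ≤ Cfsg.pPrimeCore 2 ↥HY :=
    selfCent_congr hHY.symm (selfCent_map Ve hsep hO Y)
  have hS3 : HY = ⨆ A : {A : Subgroup (Hol Ve) // A ≤ HY ∧ Cfsg.IsBestOffenderOn 2 (VV Ve) A},
      (A : Subgroup (Hol Ve)) := by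
    apply le_antisymm
    · have e0 : HY = ⨆ A : F, (A : Subgroup X).map (psi Ve) := by
        rw [hHY, hY, sSup_eq_iSup', Subgroup.map_iSup]
      refine e0.le.trans ?_
      apply iSup_le
      rintro ⟨A, hA⟩
      have hAY : A.map (psi Ve) ≤ HY := by
        rw [hHY, hY]; exact Subgroup.map_mono (le_sSup hA)
      exact le_iSup (fun A' : {A' : Subgroup (Hol Ve) //
          A' ≤ HY ∧ Cfsg.IsBestOffenderOn 2 (VV Ve) A'} => (A' : Subgroup (Hol Ve)))
        ⟨A.map (psi Ve), hAY, hbest A hA⟩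
    · exact iSup_le fun A => A.2.1
  obtain ⟨-, hE, hind, hsup, -, -⟩ :=
    Cfsg.Agent.S0617.result (p := 2) (VV Ve) HY hV' hHVY hfY hS1Y hS3 hbot
  haveI hne : Nonempty {E : Subgroup (Hol Ve) // ∃ A : Subgroup (Hol Ve), A ≤ HY ∧
      Cfsg.IsBestOffenderOn 2 (VV Ve) A ∧ ⁅VV Ve, A⁆ ≠ ⊥ ∧
      (∀ B : Subgroup (Hol Ve), B ≤ A → Cfsg.IsBestOffenderOn 2 (VV Ve) B →
        ⁅VV Ve, B⁆ ≠ ⊥ → B = A) ∧
      E = ⁅((Cfsg.pPrimeCore 2 ↥HY).map HY.subtype), A⁆ ⊔ A} := by
    by_contra hcon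
    rw [not_nonempty_iff] at hcon
    apply hbot
    rw [← hsup]
    exact iSup_of_empty _
  obtain ⟨φ⟩ := Cfsg.Agent.S0250.result (F := ZMod 2) (by rw [ZMod.card])
  have hiso := exists_mulEquiv_pi (M := Equiv.Perm (Fin 3))
    (ι := {E : Subgroup (Hol Ve) // ∃ A : Subgroup (Hol Ve), A ≤ HY ∧
      Cfsg.IsBestOffenderOn 2 (VV Ve) A ∧ ⁅VV Ve, A⁆ ≠ ⊥ ∧
      (∀ B : Subgroup (Hol Ve), B ≤ A → Cfsg.IsBestOffenderOn 2 (VV Ve) B →
        ⁅VV Ve, B⁆ ≠ ⊥ → B = A) ∧
      E = ⁅((Cfsg.pPrimeCore 2 ↥HY).map HY.subtype), A⁆ ⊔ A})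
    (fun E => (E : Subgroup (Hol Ve))) HY (fun E => (hE E).1) hind hsup
    (fun E => by
      obtain ⟨e⟩ := (hE E).2.1
      exact ⟨e.trans φ⟩)
  obtain ⟨n, hn, ⟨Φ⟩⟩ : ∃ n : ℕ, 1 ≤ n ∧ Nonempty (↥HY ≃* (Fin n → Equiv.Perm (Fin 3))) := by
    refine ⟨Nat.card _, ?_, hiso⟩
    exact Nat.card_pos
  refine ⟨n, hn, ?_⟩
  have hsurj : Function.Surjective ((psi Ve).subgroupMap Y) :=
    (psi Ve).subgroupMap_surjective Y
  have hker : ((psi Ve).subgroupMap Y).ker =
      (Subgroup.centralizer (Ve : Set X)).subgroupOf Y := by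
    ext x
    rw [MonoidHom.mem_ker, Subgroup.mem_subgroupOf, ← psi_eq_one_iff]
    constructor
    · intro h
      exact congrArg Subtype.val h
    · intro h
      exact Subtype.ext h
  exact ⟨((QuotientGroup.quotientMulEquivOfEq hker).symm.trans
    (QuotientGroup.quotientKerEquivOfSurjective _ hsurj)).trans
    ((MulEquiv.subgroupCongr hHY.symm).trans Φ)⟩

end main

end Cfsg.Agent.Helper4.GlaubSolv
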