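import Mathlib
import Cfsg.Prelude.Def_PLocal
import Cfsg.Agent.Lib.Helper4.GlaubSolvD
import Cfsg.Agent.Lib.Helper1.FittingSolvable
import Cfsg.Agent.Lib.Helper23.PSolvable
import Cfsg.Agent.S4227

/-!
# Assembly of the solvable Thompson factorization with `S₃`-factors (helper4)
-/

set_option autoImplicit false
set_option linter.unusedSectionVars false
set_option linter.unusedVariables false
set_option linter.style.haveILetI false

namespace Cfsg.Agent.Helper4.GlaubSolv

open scoped commutatorElement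
open Cfsg.Agent.Helper4.OG Cfsg.Agent.Helper4.HOL Cfsg.Agent.Helper4.WeakOff
  Cfsg.Agent.Helper4.ZJ

/-- transport of a quotient isomorphism along an equality of normal subgroups -/
theorem transport_quot {X : Type*} [Group X] {Y C C' : Subgroup X} [hC : C.Normal]
    [hC' : C'.Normal] (h : C = C') {M : Type*} [Group M]
    (e : Nonempty (↥Y ⧸ C.subgroupOf Y ≃* M)) : Nonempty (↥Y ⧸ C'.subgroupOf Y ≃* M) := by
  subst h; exact e

variable {X : Type*} [Group X] [Finite X]

/-- part (ii) -/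
theorem main_ii [Group.IsSolvable X] (hF : Cfsg.fittingSubgroup X = Cfsg.pCore 2 X)
    (T : Sylow 2 X) :
    (Subgroup.normalClosure (Cfsg.thompsonSubgroupAOf (T : Subgroup X) : Set X)
        ≤ (Subgroup.centralizer (((T : Subgroup X) ⊓
          Subgroup.centralizer ((T : Subgroup X) : Set X) : Subgroup X) : Set X)).normalCore
      ∨ ∃ n : ℕ, 1 ≤ n ∧
        Nonempty (↥(Subgroup.normalClosure (Cfsg.thompsonSubgroupAOf (T : Subgroup X) : Set X)) ⧸
            ((Subgroup.centralizer (((T : Subgroup X) ⊓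
              Subgroup.centralizer ((T : Subgroup X) : Set X) : Subgroup X) : Set X)).normalCore).subgroupOf
              (Subgroup.normalClosure (Cfsg.thompsonSubgroupAOf (T : Subgroup X) : Set X))
          ≃* (Fin n → Equiv.Perm (Fin 3)))) := by
  haveI : Fact (Nat.Prime 2) := ⟨Nat.prime_two⟩
  have hsep : IsPSolvable 2 X := Cfsg.Agent.S4227.isPSolvable_of_isSolvable inferInstance 2
  -- `Q = O_2(X)`
  obtain ⟨Q, hQ⟩ : ∃ Q : Subgroup X, Q = Cfsg.pCore 2 X := ⟨_, rfl⟩
  haveI hQn : Q.Normal := by rw [hQ]; exact Cfsg.Agent.Helper10.pCore_normal 2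
  have hQ2 : IsPGroup 2 Q := by rw [hQ]; exact Cfsg.Agent.Helper10.pCore_isPGroup 2
  have hCQ : Subgroup.centralizer (Q : Set X) ≤ Q := by
    rw [hQ, ← hF]
    exact Cfsg.Agent.Helper1.centralizer_fittingSubgroup_le_of_isSolvable
  have hQT : Q ≤ (T : Subgroup X) := by
    rw [hQ]; exact Cfsg.Agent.Helper23.PSolv.pCore_le_sylow T
  -- `Z = Z(T)`
  obtain ⟨Z, hZ⟩ : ∃ Z : Subgroup X, Z = (T : Subgroup X) ⊓
      Subgroup.centralizer ((T : Subgroup X) : Set X) := ⟨_, rfl⟩
  rw [← hZ]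
  have hZCQ : Z ≤ Subgroup.centralizer (Q : Set X) := by
    rw [hZ]
    exact inf_le_right.trans (Subgroup.centralizer_le (SetLike.coe_subset_coe.mpr hQT))
  have hZQ : Z ≤ Q := hZCQ.trans hCQ
  have hTZ : (T : Subgroup X) ≤ Subgroup.centralizer (Z : Set X) := by
    intro t ht
    rw [Subgroup.mem_centralizer_iff]
    intro z hz
    rw [SetLike.mem_coe, hZ] at hz
    exact (Subgroup.mem_centralizer_iff.mp hz.2 t ht).symm
  -- `V = ⟨Z^X⟩`
  obtain ⟨V, hV⟩ : ∃ V : Subgroup X, V = Subgroup.normalClosure (Z : Set X) := ⟨_, rfl⟩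
  haveI hVn : V.Normal := by rw [hV]; exact Subgroup.normalClosure_normal
  have hVQ : V ≤ Q := by rw [hV]; exact Subgroup.normalClosure_le_normal hZQ
  have hVCQ : V ≤ Subgroup.centralizer (Q : Set X) := by
    rw [hV]; exact Subgroup.normalClosure_le_normal hZCQ
  have hVc : ∀ a ∈ V, ∀ b ∈ V, a * b = b * a := by
    intro a ha b hb
    exact (Subgroup.mem_centralizer_iff.mp (hVCQ hb) a (hVQ ha))
  have hV2 : IsPGroup 2 V := hQ2.to_le hVQ
  have hO : Cfsg.pCore 2 (X ⧸ Subgroup.centralizer (V : Set X)) = ⊥ :=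
    pCore_quotient_eq_bot V (Z : Set X) hV T hTZ
  -- `Ve = Ω₁(V)`
  obtain ⟨Ve, hVe⟩ : ∃ Ve : Subgroup X, Ve = Cfsg.omegaOne 2 V := ⟨_, rfl⟩
  haveI hVen : Ve.Normal := by
    rw [hVe, ← Subgroup.normalizer_eq_top_iff, eq_top_iff]
    apply Cfsg.Agent.Helper14.le_normalizer_omegaOne
    rw [Subgroup.normalizer_eq_top]
  have hVeV : Ve ≤ V := by
    intro x hx
    rw [hVe] at hx
    exact ((Cfsg.Agent.Helper14.mem_omegaOne_iff_of_comm hVc).mp hx).1
  have hVeE : Cfsg.IsElementaryAbelian 2 Ve := by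
    refine ⟨⟨⟨?_⟩⟩, ?_⟩
    · rintro ⟨a, ha⟩ ⟨b, hb⟩
      exact Subtype.ext (hVc a (hVeV ha) b (hVeV hb))
    · intro a ha
      rw [hVe] at ha
      exact ((Cfsg.Agent.Helper14.mem_omegaOne_iff_of_comm hVc).mp ha).2
  have hCe : Subgroup.centralizer (Ve : Set X) = Subgroup.centralizer (V : Set X) := by
    rw [hVe]; exact centralizer_omegaOne_eq V hVc hV2 hO
  have hOe : Cfsg.pCore 2 (X ⧸ Subgroup.centralizer (Ve : Set X)) = ⊥ := by
    have key : ∀ (K : Subgroup X) [hKn : K.Normal], K = Subgroup.centralizer (V : Set X) →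
        Cfsg.pCore 2 (X ⧸ K) = ⊥ := by
      intro K hKn hK; subst hK; exact hO
    exact key _ hCe
  have hCcore : (Subgroup.centralizer (Z : Set X)).normalCore =
      Subgroup.centralizer (Ve : Set X) := by
    rw [normalCore_centralizer, ← hV, hCe]
  -- the family
  obtain ⟨F, hFdef⟩ : ∃ F : Set (Subgroup X), F = {B | ∃ A ∈ famA (T : Subgroup X), ∃ g : X,
      B = cj g A} := ⟨_, rfl⟩
  obtain ⟨Y, hY⟩ : ∃ Y : Subgroup X, Y = Subgroup.normalClosure
      ((Cfsg.thompsonSubgroupAOf (T : Subgroup X) : Subgroup X) : Set X) := ⟨_, rfl⟩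
  rw [← hY]
  haveI hYn : Y.Normal := by rw [hY]; exact Subgroup.normalClosure_normal
  have hYF : Y = sSup F := by
    rw [hY, normalClosure_eq_iSup]
    apply le_antisymm
    · apply iSup_le
      intro g
      rw [cj_le_iff]
      apply thompsonSubgroupAOf_le
      intro A hA
      rw [← inv_inv g, ← cj_le_iff, inv_inv]
      apply le_sSup
      rw [hFdef]
      exact ⟨A, hA, g, rfl⟩
    · apply sSup_le
      intro B hB
      rw [hFdef] at hB
      obtain ⟨A, hA, g, rfl⟩ := hB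
      exact (cj_mono g (le_thompsonSubgroupAOf hA)).trans
        (le_iSup (fun g => cj g (Cfsg.thompsonSubgroupAOf (T : Subgroup X))) g)
  have hF2 : ∀ A ∈ F, IsPGroup 2 A := by
    intro B hB
    rw [hFdef] at hB
    obtain ⟨A, hA, g, rfl⟩ := hB
    exact (T.2.to_le (mem_famA.1 hA).1).map _
  have hFc : ∀ A ∈ F, ∀ a ∈ A, ∀ b ∈ A, a * b = b * a := by
    intro B hB
    rw [hFdef] at hB
    obtain ⟨A, hA, g, rfl⟩ := hB
    rintro _ ⟨a, ha, rfl⟩ _ ⟨b, hb, rfl⟩
    rw [← map_mul, ← map_mul, comm_of_mem_famA hA a ha b hb]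
  have hFw : ∀ A ∈ F, WeakBest Ve A := by
    intro B hB
    rw [hFdef] at hB
    obtain ⟨A, hA, g, rfl⟩ := hB
    obtain ⟨A', hA', rfl⟩ := hA
    apply weakBest_cj
    · apply weakBest_of_maxAbelian ((hVeV.trans hVQ).trans hQT) _ A' hA'
      intro a ha b hb
      exact hVc a (hVeV ha) b (hVeV hb)
    · rw [Subgroup.normalizer_eq_top]; exact Subgroup.mem_top g
  rcases s3_product Ve hsep hVeE hOe F hF2 hFc hFw Y hYF with h | ⟨n, hn, h⟩
  · left
    rw [hCcore]; exact h
  · right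
    exact ⟨n, hn, transport_quot hCcore.symm h⟩

end Cfsg.Agent.Helper4.GlaubSolv
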