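import Mathlib
import Cfsg.Agent.Lib.Helper4.ThBCrit
import Cfsg.Agent.Lib.Helper4.ThBCliffC
import Cfsg.Agent.Lib.Helper4.ThBRes

/-!
# S3801 block P, local module analysis, part 1 (helper4): Maschke, the socle, homogeneity transfer

Linear groups in the style of `ThB`: `Q : Subgroup (V ≃ₗ[K] V)` finite with `|Q| ≠ 0` in `K`.
-/

set_option autoImplicit false
set_option linter.unusedSectionVars false
set_option linter.style.haveILetI false

namespace Cfsg.Agent.Helper4.GrossP

open Cfsg.Agent.Helper4.ThB Module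

variable {K : Type*} [Field K] {V : Type*} [AddCommGroup V] [Module K V]
variable [IsAlgClosed K] [FiniteDimensional K V] [Nontrivial V]
variable (Q : Subgroup (V ≃ₗ[K] V)) [Finite Q]

/-- **Maschke**: an invariant subspace has an invariant complement -/
theorem exists_inv_compl (hQ : (Nat.card Q : K) ≠ 0)
    (U : Submodule K V) (hU : Inv (Q : Set (V ≃ₗ[K] V)) U) :
    ∃ W : Submodule K V, Inv (Q : Set (V ≃ₗ[K] V)) W ∧ U ⊓ W = ⊥ ∧ U ⊔ W = ⊤ := by
  classical
  obtain ⟨e, he⟩ := LinearMap.exists_leftInverse_of_injective U.subtype (Submodule.ker_subtype U)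
  set π : Module.End K V := U.subtype.comp e with hπ
  have hπU : ∀ v, π v ∈ U := fun v => (e v).2
  have hπid : ∀ u ∈ U, π u = u := by
    intro u hu
    have := congrArg (fun φ : U →ₗ[K] U => ((φ ⟨u, hu⟩ : U) : V)) he
    exact this
  set P := avg Q π with hP
  have hPapply : ∀ v, P v = ∑ q ∈ fin Q, q (π (q⁻¹ v)) := by
    intro v
    rw [hP]
    unfold avg
    rw [LinearMap.sum_apply]
    rfl
  have hPU : ∀ v, P v ∈ U := by
    intro v
    rw [hPapply]
    exact Submodule.sum_mem _ (fun q hq => hU q ((mem_fin Q).mp hq) _ (hπU _))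
  have hPu : ∀ u ∈ U, P u = (Nat.card Q : K) • u := by
    intro u hu
    rw [hPapply]
    have : ∀ q ∈ fin Q, q (π (q⁻¹ u)) = u := by
      intro q hq
      have hq' := (mem_fin Q).mp hq
      have h1 : q⁻¹ u ∈ U := hU _ (Q.inv_mem hq') u hu
      rw [hπid _ h1, apply_inv_apply]
    rw [Finset.sum_congr rfl this, Finset.sum_const, card_fin, Nat.cast_smul_eq_nsmul]
  refine ⟨LinearMap.ker P, ?_, ?_, ?_⟩
  · intro q hq w hw
    rw [LinearMap.mem_ker] at hw ⊢
    have h1 := congrArg (fun T : Module.End K V => T w) (avg_comm Q π q hq)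
    simp only [Module.End.mul_apply] at h1
    have h2 : P (q w) = q (P w) := h1
    rw [h2, hw, map_zero]
  · rw [eq_bot_iff]
    intro u hu
    rw [Submodule.mem_inf, LinearMap.mem_ker] at hu
    rw [Submodule.mem_bot]
    have h1 := hPu u hu.1
    rw [hu.2] at h1
    rcases smul_eq_zero.mp h1.symm with h2 | h2
    · exact absurd h2 hQ
    · exact h2
  · rw [eq_top_iff]
    intro v _
    set c : K := (Nat.card Q : K)⁻¹ with hc
    have h1 : c • P v ∈ U := U.smul_mem c (hPU v)
    have h2 : v - c • P v ∈ LinearMap.ker P := by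
      rw [LinearMap.mem_ker, map_sub, map_smul, hPu _ (hPU v), smul_smul, hc,
        inv_mul_cancel₀ hQ, one_smul, sub_self]
    have h3 : v = c • P v + (v - c • P v) := by abel
    rw [h3]
    exact Submodule.add_mem_sup h1 h2

/-- an endomorphism vanishing on every simple submodule is zero -/
theorem eq_zero_of_simp (hQ : (Nat.card Q : K) ≠ 0) (T : Module.End K V)
    (hT : ∀ U : Submodule K V, Simp (Q : Set (V ≃ₗ[K] V)) U → ∀ u ∈ U, T u = 0) : T = 0 := by
  classical
  set W₀ : Submodule K V :=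
    ⨆ U : {U : Submodule K V // Simp (Q : Set (V ≃ₗ[K] V)) U}, U.1 with hW₀
  have hinv : Inv (Q : Set (V ≃ₗ[K] V)) W₀ := by
    intro q hq v hv
    refine Submodule.iSup_induction (fun U : {U : Submodule K V // Simp (Q : Set (V ≃ₗ[K] V)) U} => U.1)
      (motive := fun v => q v ∈ W₀) hv ?_ ?_ ?_
    · intro U u hu
      exact (le_iSup (fun U : {U : Submodule K V // Simp (Q : Set (V ≃ₗ[K] V)) U} => U.1) U)
        (U.2.2.1 q hq u hu)
    · rw [map_zero]; exact W₀.zero_mem
    · intro x y hx hy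
      rw [map_add]; exact W₀.add_mem hx hy
  have hT0 : ∀ v ∈ W₀, T v = 0 := by
    intro v hv
    refine Submodule.iSup_induction (fun U : {U : Submodule K V // Simp (Q : Set (V ≃ₗ[K] V)) U} => U.1)
      (motive := fun v => T v = 0) hv ?_ ?_ ?_
    · intro U u hu
      exact hT U.1 U.2 u hu
    · exact map_zero T
    · intro x y hx hy
      rw [map_add, hx, hy, add_zero]
  obtain ⟨W₁, hW₁inv, hinf, hsup⟩ := exists_inv_compl Q hQ W₀ hinv
  have hW₁ : W₁ = ⊥ := by
    by_contra hne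
    obtain ⟨U, hUW, hU⟩ := exists_simp (Q : Set (V ≃ₗ[K] V)) hne hW₁inv
    have h1 : U ≤ W₀ :=
      le_iSup (fun U : {U : Submodule K V // Simp (Q : Set (V ≃ₗ[K] V)) U} => U.1) ⟨U, hU⟩
    have h2 : U ≤ W₀ ⊓ W₁ := le_inf h1 hUW
    rw [hinf] at h2
    exact hU.1 (le_bot_iff.mp h2)
  rw [hW₁, sup_bot_eq] at hsup
  apply LinearMap.ext
  intro v
  rw [LinearMap.zero_apply]
  exact hT0 v (by rw [hsup]; trivial)

/-- the span of the operators of `Q` -/
abbrev spanQ : Submodule K (Module.End K V) :=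
  Submodule.span K (op '' (Q : Set (V ≃ₗ[K] V)))

theorem op_mem_spanQ {x : V ≃ₗ[K] V} (hx : x ∈ Q) : op x ∈ spanQ Q :=
  Submodule.subset_span ⟨x, hx, rfl⟩

theorem one_mem_spanQ : (1 : Module.End K V) ∈ spanQ Q := by
  have := op_mem_spanQ Q Q.one_mem
  rwa [op_one] at this

theorem mul_mem_spanQ {S T : Module.End K V} (hS : S ∈ spanQ Q) (hT : T ∈ spanQ Q) :
    S * T ∈ spanQ Q := by
  refine Submodule.span_induction (p := fun S _ => S * T ∈ spanQ Q) ?_ ?_ ?_ ?_ hS
  · rintro _ ⟨x, hx, rfl⟩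
    refine Submodule.span_induction (p := fun T _ => op x * T ∈ spanQ Q) ?_ ?_ ?_ ?_ hT
    · rintro _ ⟨y, hy, rfl⟩
      rw [← op_mul]
      exact op_mem_spanQ Q (Q.mul_mem hx hy)
    · rw [mul_zero]; exact Submodule.zero_mem _
    · intro a b _ _ ha hb
      rw [mul_add]; exact Submodule.add_mem _ ha hb
    · intro c a _ ha
      rw [mul_smul_comm]; exact Submodule.smul_mem _ c ha
  · rw [zero_mul]; exact Submodule.zero_mem _
  · intro a b _ _ ha hb
    rw [add_mul]; exact Submodule.add_mem _ ha hb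
  · intro c a _ ha
    rw [smul_mul_assoc]; exact Submodule.smul_mem _ c ha

theorem pow_mem_spanQ {S : Module.End K V} (hS : S ∈ spanQ Q) (k : ℕ) : S ^ k ∈ spanQ Q := by
  induction k with
  | zero => rw [pow_zero]; exact one_mem_spanQ Q
  | succ k ih => rw [pow_succ]; exact mul_mem_spanQ Q ih hS

/-- elements of the span preserve invariant subspaces -/
theorem spanQ_apply_mem {U : Submodule K V} (hU : Inv (Q : Set (V ≃ₗ[K] V)) U)
    {T : Module.End K V} (hT : T ∈ spanQ Q) {u : V} (hu : u ∈ U) : T u ∈ U := by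
  refine Submodule.span_induction (p := fun T _ => T u ∈ U) ?_ ?_ ?_ ?_ hT
  · rintro _ ⟨x, hx, rfl⟩
    exact hU x hx u hu
  · exact U.zero_mem
  · intro a b _ _ ha hb
    exact U.add_mem ha hb
  · intro c a _ ha
    exact U.smul_mem c ha

/-- elements of the span commute with intertwiners -/
theorem spanQ_intertwine {U : Submodule K V} (f : Module.End K V)
    (hf : ∀ q ∈ Q, ∀ u ∈ U, f (q u) = q (f u)) {T : Module.End K V} (hT : T ∈ spanQ Q)
    {u : V} (hu : u ∈ U) : f (T u) = T (f u) := by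
  refine Submodule.span_induction (p := fun T _ => f (T u) = T (f u)) ?_ ?_ ?_ ?_ hT
  · rintro _ ⟨x, hx, rfl⟩
    exact hf x hx u hu
  · simp
  · intro a b _ _ ha hb
    rw [LinearMap.add_apply, map_add, ha, hb, LinearMap.add_apply]
  · intro c a _ ha
    rw [LinearMap.smul_apply, map_smul, ha, LinearMap.smul_apply]

/-- **homogeneity transfer**: if all simple submodules are isomorphic, an element of the span vanishing
on one simple submodule is zero -/
theorem eq_zero_of_spanQ (hQ : (Nat.card Q : K) ≠ 0)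
    (hhom : ∀ U U' : Submodule K V, Simp (Q : Set (V ≃ₗ[K] V)) U →
      Simp (Q : Set (V ≃ₗ[K] V)) U' → IsoM (Q : Set (V ≃ₗ[K] V)) U U')
    {U₁ : Submodule K V} (hU₁ : Simp (Q : Set (V ≃ₗ[K] V)) U₁)
    {T : Module.End K V} (hT : T ∈ spanQ Q) (hT1 : ∀ u ∈ U₁, T u = 0) : T = 0 := by
  apply eq_zero_of_simp Q hQ
  intro U hU u' hu'
  obtain ⟨f, hf1, hf2, hf3, hf4⟩ := hhom U₁ U hU₁ hU
  obtain ⟨u, hu, rfl⟩ := hf3 u' hu'
  rw [← spanQ_intertwine Q f hf4 hT hu, hT1 u hu, map_zero]

/-- two elements of the span agreeing on a simple submodule are equal -/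
theorem eq_of_spanQ (hQ : (Nat.card Q : K) ≠ 0)
    (hhom : ∀ U U' : Submodule K V, Simp (Q : Set (V ≃ₗ[K] V)) U →
      Simp (Q : Set (V ≃ₗ[K] V)) U' → IsoM (Q : Set (V ≃ₗ[K] V)) U U')
    {U₁ : Submodule K V} (hU₁ : Simp (Q : Set (V ≃ₗ[K] V)) U₁)
    {S T : Module.End K V} (hS : S ∈ spanQ Q) (hT : T ∈ spanQ Q)
    (h : ∀ u ∈ U₁, S u = T u) : S = T := by
  have h0 : S - T = 0 := by
    apply eq_zero_of_spanQ Q hQ hhom hU₁ (Submodule.sub_mem _ hS hT)
    intro u hu
    rw [LinearMap.sub_apply, h u hu, sub_self]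
  exact sub_eq_zero.mp h0

end Cfsg.Agent.Helper4.GrossP
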