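import Mathlib
import Cfsg.Agent.Lib.Helper8.HJDefs

/-!
# S3313 PIECE ABEL (helper4): abelian subgroups of `Q` have order at most 8.
-/

set_option autoImplicit false

namespace Cfsg.Agent.Helper8.HJ

open Cfsg

/-- Counting core: if `x ∈ Q` and the only elements of the abelian `A ≤ Q` commuting with `x` are `1, z`
then `|A| ≤ 4` (the commutator map `e ↦ [e, x]` has values in `{1, z}` and fibres of size at most 2). -/
theorem abel_count {G : Type*} [Group G] [Finite G] {z : G} {Q K : Subgroup G} (c : ZCfg z Q K)
    (A : Subgroup G) (hAQ : A ≤ Q) (x : G) (hxQ : x ∈ Q)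
    (hker : ∀ e ∈ A, e * x = x * e → e = 1 ∨ e = z) : Nat.card A ≤ 4 := by
  classical
  have : Fintype G := Fintype.ofFinite G
  let sA : Finset G := Finset.univ.filter (fun e => e ∈ A)
  have hcardA : Nat.card A = sA.card := by
    rw [Nat.card_eq_fintype_card, Fintype.card_subtype]
  let t : Finset G := {1, z}
  have ht : t.card ≤ 2 := Finset.card_le_two
  let φ : G → G := fun e => e * x * e⁻¹ * x⁻¹
  have hmaps : ∀ e ∈ sA, φ e ∈ t := by
    intro e he
    have heA : e ∈ A := (Finset.mem_filter.1 he).2
    have := c.hcomm e (hAQ heA) x hxQ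
    simp only [t, Finset.mem_insert, Finset.mem_singleton]
    exact this
  have hfib : ∀ b ∈ t, (sA.filter (fun e => φ e = b)).card ≤ 2 := by
    intro b _
    by_cases hne : (sA.filter (fun e => φ e = b)).Nonempty
    · obtain ⟨e', he'⟩ := hne
      have he'A : e' ∈ A := (Finset.mem_filter.1 (Finset.mem_filter.1 he').1).2
      have he'b : φ e' = b := (Finset.mem_filter.1 he').2
      refine le_trans (Finset.card_le_card_of_injOn (fun e => e'⁻¹ * e) ?_ ?_) ht
      · intro e he
        have he := Finset.mem_coe.1 he
        have heA : e ∈ A := (Finset.mem_filter.1 (Finset.mem_filter.1 he).1).2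
        have heb : φ e = b := (Finset.mem_filter.1 he).2
        have h1 : e * x * e⁻¹ * x⁻¹ = e' * x * e'⁻¹ * x⁻¹ := heb.trans he'b.symm
        have h2 : e * x * e⁻¹ = e' * x * e'⁻¹ := mul_right_cancel h1
        have h3 : (e'⁻¹ * e) * x = x * (e'⁻¹ * e) := by
          calc (e'⁻¹ * e) * x = e'⁻¹ * (e * x * e⁻¹) * e := by group
            _ = e'⁻¹ * (e' * x * e'⁻¹) * e := by rw [h2]
            _ = x * (e'⁻¹ * e) := by group
        have h4 := hker (e'⁻¹ * e) (A.mul_mem (A.inv_mem he'A) heA) h3
        simp only [t, Finset.coe_insert, Finset.coe_singleton, Set.mem_insert_iff,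
          Set.mem_singleton_iff]
        exact h4
      · intro e₁ _ e₂ _ h
        exact mul_left_cancel h
    · rw [Finset.not_nonempty_iff_eq_empty] at hne
      rw [hne]; simp
  have h := Finset.card_le_mul_card_image_of_maps_to hmaps 2 hfib
  rw [hcardA]
  omega

theorem abel {G : Type*} [Group G] [Finite G] {z : G} {Q K : Subgroup G} (c : ZCfg z Q K)
    (A : Subgroup G) (hAQ : A ≤ Q) (hA : ∀ x ∈ A, ∀ y ∈ A, x * y = y * x) : Nat.card A ≤ 8 := by
  classical
  by_contra hgt
  rw [not_le] at hgt
  have hdvd : Nat.card A ∣ 32 := by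
    rw [← c.hcard]
    exact Subgroup.card_dvd_of_le hAQ
  have hcases : Nat.card A = 16 ∨ Nat.card A = 32 := by
    have hmem : Nat.card A ∈ Nat.divisors 32 := by
      rw [Nat.mem_divisors]; exact ⟨hdvd, by norm_num⟩
    have hdiv : Nat.divisors 32 = {1, 2, 4, 8, 16, 32} := by decide
    rw [hdiv] at hmem
    simp only [Finset.mem_insert, Finset.mem_singleton] at hmem
    omega
  obtain ⟨x, hxQ, hker⟩ : ∃ x ∈ Q, ∀ e ∈ A, e * x = x * e → e = 1 ∨ e = z := by
    rcases hcases with h16 | h32
    · -- `A` has index 2 in `Q`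
      have hidx : (A.subgroupOf Q).index = 2 := by
        have h1 : Nat.card (A.subgroupOf Q) = 16 := by
          rw [Nat.card_congr (Subgroup.subgroupOfEquivOfLe hAQ).toEquiv]; exact h16
        have h2 := Subgroup.card_mul_index (A.subgroupOf Q)
        rw [h1, c.hcard] at h2
        omega
      obtain ⟨x, hxQ, hxA⟩ : ∃ x ∈ Q, x ∉ A := by
        by_contra h
        have h' : ∀ x ∈ Q, x ∈ A := by
          intro x hx
          by_contra hxA
          exact h ⟨x, hx, hxA⟩
        have : A = Q := le_antisymm hAQ h'
        rw [this, c.hcard] at h16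
        omega
      have hcos : ∀ y ∈ Q, y ∉ A → y * x ∈ A := by
        intro y hyQ hyA
        have := Subgroup.mul_mem_iff_of_index_two hidx (a := ⟨y, hyQ⟩) (b := ⟨x, hxQ⟩)
        simp only [Subgroup.mem_subgroupOf, Subgroup.coe_mul] at this
        exact this.2 ⟨fun h => absurd h hyA, fun h => absurd h hxA⟩
      refine ⟨x, hxQ, ?_⟩
      intro e heA hex
      apply c.hcenter e (hAQ heA)
      intro y hyQ
      by_cases hyA : y ∈ A
      · exact hA y hyA e heA
      · have h1 := hcos y hyQ hyA
        have h2 := hA (y * x) h1 e heA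
        have : y * e * x = e * y * x := by
          calc y * e * x = y * (e * x) := by group
            _ = y * (x * e) := by rw [hex]
            _ = y * x * e := by group
            _ = e * (y * x) := h2
            _ = e * y * x := by group
        exact mul_right_cancel this
    · -- `A = Q` is abelian
      have hAeq : A = Q := by
        apply Subgroup.eq_of_le_of_card_ge hAQ
        rw [c.hcard, h32]
      refine ⟨1, one_mem Q, ?_⟩
      intro e heA _
      apply c.hcenter e (hAQ heA)
      intro y hyQ
      have hyA : y ∈ A := by rw [hAeq]; exact hyQ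
      exact hA y hyA e heA
  have := abel_count c A hAQ x hxQ hker
  omega

end Cfsg.Agent.Helper8.HJ
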