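import Mathlib
import Cfsg.Agent.Lib.Helper8.HJDefs

/-!
# S3313 PIECE FIVE (helper4): an element `f` of order 5 of `K` has `C_Q(f) = {1, z}`.
-/

set_option autoImplicit false

namespace Cfsg.Agent.Helper8.HJ

open Cfsg

/-- Conjugation by an element `f` with `f ^ 5 = 1` on a conjugation-stable set: the number of fixed points
is congruent to the size of the set modulo 5. -/
theorem five_conj_modEq {G : Type*} [Group G] [Finite G] (f : G) (hf : f ^ 5 = 1) (P : G → Prop)
    (hP : ∀ x, P x → P (f * x * f⁻¹)) (hP' : ∀ x, P x → P (f⁻¹ * x * f)) :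
    Nat.card {x : G // P x} ≡ Nat.card {x : G // P x ∧ f * x = x * f} [MOD 5] := by
  classical
  have : Fintype {x : G // P x} := Fintype.ofFinite _
  let σ : Equiv.Perm {x : G // P x} :=
    { toFun := fun x => ⟨f * x.1 * f⁻¹, hP x.1 x.2⟩
      invFun := fun x => ⟨f⁻¹ * x.1 * f, hP' x.1 x.2⟩
      left_inv := fun x => by ext; simp [mul_assoc]
      right_inv := fun x => by ext; simp [mul_assoc] }
  have hσ1 : ∀ x : {x : G // P x}, (σ x).1 = f * x.1 * f⁻¹ := fun x => rfl
  have hpow : ∀ (n : ℕ) (x : {x : G // P x}), ((σ ^ n) x).1 = f ^ n * x.1 * (f ^ n)⁻¹ := by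
    intro n
    induction n with
    | zero => intro x; simp
    | succ n ih =>
      intro x
      rw [pow_succ', Equiv.Perm.mul_apply, hσ1, ih, pow_succ']
      group
  have hσ : σ ^ 5 ^ 1 = 1 := by
    ext x
    rw [pow_one, hpow, hf]
    simp
  have : Fact (Nat.Prime 5) := ⟨by norm_num⟩
  have h := Equiv.Perm.card_compl_support_modEq hσ
  rw [Nat.card_eq_fintype_card]
  refine h.symm.trans ?_
  have hcard : Nat.card {x : G // P x ∧ f * x = x * f} = σ.supportᶜ.card := by
    have e : {x : G // P x ∧ f * x = x * f} ≃ {y : {x : G // P x} // y ∈ σ.supportᶜ} :=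
      { toFun := fun x => ⟨⟨x.1, x.2.1⟩, by
          rw [Finset.mem_compl, Equiv.Perm.mem_support, not_not]
          apply Subtype.ext
          rw [hσ1]
          show f * x.1 * f⁻¹ = x.1
          rw [x.2.2]; group⟩
        invFun := fun y => ⟨y.1.1, y.1.2, by
          have h1 := y.2
          rw [Finset.mem_compl, Equiv.Perm.mem_support, not_not] at h1
          have h2 := congrArg Subtype.val h1
          rw [hσ1] at h2
          calc f * y.1.1 = (f * y.1.1 * f⁻¹) * f := by group
            _ = y.1.1 * f := by rw [h2]⟩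
        left_inv := fun x => rfl
        right_inv := fun y => rfl }
    rw [Nat.card_congr e, Nat.card_eq_fintype_card, Fintype.card_coe]
  rw [hcard]

theorem five {G : Type*} [Group G] [Finite G] {z : G} {Q K : Subgroup G} (c : ZCfg z Q K)
    (f : G) (hfK : f ∈ K) (hf : orderOf f = 5) :
    ∀ x ∈ Q, f * x = x * f → x = 1 ∨ x = z := by
  classical
  have hfC : f ∈ Subgroup.centralizer ({z} : Set G) := c.hKC hfK
  have hfC' : f⁻¹ ∈ Subgroup.centralizer ({z} : Set G) := inv_mem hfC
  have hf5 : f ^ 5 = 1 := by rw [← hf]; exact pow_orderOf_eq_one f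
  have hf1 : f ≠ 1 := by
    intro h; rw [h, orderOf_one] at hf; omega
  have hz1 : z ≠ 1 := by
    intro h; have := c.hz; rw [h, orderOf_one] at this; omega
  -- the subgroup `C_Q(f)`
  let A : Subgroup G := Q ⊓ Subgroup.centralizer ({f} : Set G)
  have hmemA : ∀ x, x ∈ A ↔ x ∈ Q ∧ f * x = x * f := by
    intro x
    simp only [A, Subgroup.mem_inf, Subgroup.mem_centralizer_iff, Set.mem_singleton_iff, forall_eq]
  have hmod := five_conj_modEq f hf5 (fun x => x ∈ Q) (fun x hx => c.hnorm f hfC x hx)
    (fun x hx => by simpa using c.hnorm f⁻¹ hfC' x hx)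
  have hQ32 : Nat.card {x : G // x ∈ Q} = 32 := c.hcard
  have hAcard : Nat.card {x : G // x ∈ Q ∧ f * x = x * f} = Nat.card A := by
    apply Nat.card_congr
    exact Equiv.subtypeEquivRight (fun x => (hmemA x).symm)
  rw [hQ32, hAcard] at hmod
  have hdvd : Nat.card A ∣ 32 := by
    rw [← c.hcard]
    exact Subgroup.card_dvd_of_le inf_le_left
  have hcases : Nat.card A = 2 ∨ Nat.card A = 32 := by
    have hmem : Nat.card A ∈ Nat.divisors 32 := by
      rw [Nat.mem_divisors]; exact ⟨hdvd, by norm_num⟩
    have hdiv : Nat.divisors 32 = {1, 2, 4, 8, 16, 32} := by decide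
    rw [hdiv] at hmem
    simp only [Finset.mem_insert, Finset.mem_singleton] at hmem
    unfold Nat.ModEq at hmod
    rcases hmem with h | h | h | h | h | h <;> rw [h] at hmod <;> simp_all
  rcases hcases with h2 | h32
  · -- `C_Q(f)` has two elements, `1` and `z`
    intro x hxQ hfx
    by_contra hne
    rw [not_or] at hne
    have hxA : x ∈ A := (hmemA x).2 ⟨hxQ, hfx⟩
    have hzA : z ∈ A := by
      refine (hmemA z).2 ⟨c.hzQ, ?_⟩
      have := Subgroup.mem_centralizer_iff.1 hfC z (Set.mem_singleton z)
      exact this.symm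
    have h1A : (1 : G) ∈ A := one_mem A
    have : Fintype A := Fintype.ofFinite _
    have h3 : 3 ≤ Nat.card A := by
      rw [Nat.card_eq_fintype_card]
      have hsub : ({⟨1, h1A⟩, ⟨z, hzA⟩, ⟨x, hxA⟩} : Finset A) ⊆ Finset.univ := Finset.subset_univ _
      have hc : ({⟨1, h1A⟩, ⟨z, hzA⟩, ⟨x, hxA⟩} : Finset A).card = 3 := by
        rw [Finset.card_insert_of_notMem, Finset.card_insert_of_notMem, Finset.card_singleton]
        · simp only [Finset.mem_singleton, Subtype.mk.injEq]
          exact fun h => hne.2 h.symm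
        · simp only [Finset.mem_insert, Finset.mem_singleton, Subtype.mk.injEq]
          rintro (h | h)
          · exact hz1 h.symm
          · exact hne.1 h.symm
      calc 3 = _ := hc.symm
        _ ≤ Finset.univ.card := Finset.card_le_card hsub
        _ = Fintype.card A := Finset.card_univ
    omega
  · -- `f` centralizes `Q`: impossible
    exfalso
    have hAQ : A = Q := by
      apply Subgroup.eq_of_le_of_card_ge inf_le_left
      rw [c.hcard, h32]
    have hall : ∀ x ∈ Q, f * x = x * f := by
      intro x hx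
      have : x ∈ A := by rw [hAQ]; exact hx
      exact ((hmemA x).1 this).2
    have hfQ : f ∈ Q := c.hself f hfC hall
    exact hf1 (c.hinf f hfK hfQ)

end Cfsg.Agent.Helper8.HJ
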