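import Mathlib
import Cfsg.Agent.Lib.Helper8.HJDefs
import Cfsg.Agent.Lib.Helper4.HJFIVE

/-!
# S3313 PIECE INV11 (helper4): `Q` has exactly 11 involutions.
-/

set_option autoImplicit false

namespace Cfsg.Agent.Helper8.HJ

open Cfsg

theorem inv11_orderOf_two_iff {G : Type*} [Group G] (a : G) : orderOf a = 2 ↔ a * a = 1 ∧ a ≠ 1 := by
  have : Fact (Nat.Prime 2) := ⟨Nat.prime_two⟩
  rw [orderOf_eq_prime_iff, pow_two]

theorem inv11_orderOf_conj {G : Type*} [Group G] (f a : G) : orderOf (f * a * f⁻¹) = orderOf a := by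
  have := MulEquiv.orderOf_eq (MulAut.conj f) a
  rwa [MulAut.conj_apply] at this

/-- `#{x ∈ Q | x^2 = 1} = #inv(Q) + 1`. -/
theorem inv11_count {G : Type*} [Group G] [Finite G] (Q : Subgroup G) :
    Nat.card {x : Q // x * x = 1} = Nat.card {a : G // a ∈ Q ∧ orderOf a = 2} + 1 := by
  classical
  have e : {x : Q // x * x = 1} ≃ Option {a : G // a ∈ Q ∧ orderOf a = 2} :=
    { toFun := fun x => if h : (x.1 : G) = 1 then none else
        some ⟨x.1.1, x.1.2, (inv11_orderOf_two_iff _).2 ⟨by
          have := congrArg Subtype.val x.2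
          simpa using this, h⟩⟩
      invFun := fun o => match o with
        | none => ⟨1, by simp⟩
        | some a => ⟨⟨a.1, a.2.1⟩, by
            apply Subtype.ext
            simpa using ((inv11_orderOf_two_iff _).1 a.2.2).1⟩
      left_inv := fun x => by
        by_cases h : (x.1 : G) = 1
        · simp only [h, dite_true]
          apply Subtype.ext; apply Subtype.ext
          simp [h]
        · simp only [h, dite_false]
      right_inv := fun o => by
        cases o with
        | none => simp
        | some a =>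
          have h : (a.1 : G) ≠ 1 := ((inv11_orderOf_two_iff _).1 a.2.2).2
          simp [h] }
  rw [Nat.card_congr e, Finite.card_option]

theorem card_invol_Q {G : Type*} [Group G] [Finite G] {z : G} {Q K : Subgroup G} (c : ZCfg z Q K)
    (hgauss : Nat.card {x : Q // x * x = 1} = 12 ∨ Nat.card {x : Q // x * x = 1} = 20)
    (f : G) (hfK : f ∈ K) (hf : orderOf f = 5)
    (hfive : ∀ x ∈ Q, f * x = x * f → x = 1 ∨ x = z) :
    Nat.card {a : G // a ∈ Q ∧ orderOf a = 2} = 11 := by
  classical
  have hfC : f ∈ Subgroup.centralizer ({z} : Set G) := c.hKC hfK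
  have hfC' : f⁻¹ ∈ Subgroup.centralizer ({z} : Set G) := inv_mem hfC
  have hf5 : f ^ 5 = 1 := by rw [← hf]; exact pow_orderOf_eq_one f
  have hmod := five_conj_modEq f hf5 (fun a => a ∈ Q ∧ orderOf a = 2)
    (fun x hx => ⟨c.hnorm f hfC x hx.1, by rw [inv11_orderOf_conj]; exact hx.2⟩)
    (fun x hx => ⟨by simpa using c.hnorm f⁻¹ hfC' x hx.1, by
      have := inv11_orderOf_conj f⁻¹ x
      rw [inv_inv] at this
      rw [this]; exact hx.2⟩)
  have hfix : Nat.card {x : G // (x ∈ Q ∧ orderOf x = 2) ∧ f * x = x * f} = 1 := by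
    have hfz : f * z = z * f := by
      have := Subgroup.mem_centralizer_iff.1 hfC z (Set.mem_singleton z)
      exact this.symm
    have : Unique {x : G // (x ∈ Q ∧ orderOf x = 2) ∧ f * x = x * f} :=
      { default := ⟨z, ⟨c.hzQ, c.hz⟩, hfz⟩
        uniq := fun x => by
          apply Subtype.ext
          show x.1 = z
          rcases hfive x.1 x.2.1.1 x.2.2 with h | h
          · exfalso
            have := x.2.1.2
            rw [h, orderOf_one] at this
            omega
          · exact h }
    exact Nat.card_unique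
  rw [hfix] at hmod
  have hcount := inv11_count Q
  unfold Nat.ModEq at hmod
  rcases hgauss with h | h <;> rw [h] at hcount <;> omega

end Cfsg.Agent.Helper8.HJ
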