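import Mathlib

/-!
# Involutory automorphisms of groups of odd order: inverted elements (helper4)

`card_inverted`: in a `σ`-invariant subgroup `Q` of odd order, `#inverted * #fixed = #Q`.
`exists_invariant_sylow`: invariant Sylow subgroups.
`exists_sylow_inverted`: if all inverted elements are `p`-elements, they all lie in one Sylow
`p`-subgroup.
-/

set_option autoImplicit false
set_option linter.unusedSectionVars false
set_option linter.unusedVariables false
set_option linter.style.haveILetI false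

namespace Cfsg.Agent.Helper4.InvOdd

open scoped Pointwise

variable {K : Type*} [Group K]

/-- parity of the number of fixed points of an involutive map -/
theorem card_mod_fix {α : Type*} [Finite α] (f : α → α) (hf : ∀ x, f (f x) = x) :
    Nat.card α % 2 = Nat.card {x : α // f x = x} % 2 := by
  classical
  haveI : Fintype α := Fintype.ofFinite α
  have : Fact (Nat.Prime 2) := ⟨Nat.prime_two⟩
  let f' : Function.End α := f
  have hf' : f' ^ 2 ^ 1 = 1 := by
    rw [pow_one, sq]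
    funext x
    exact hf x
  have hmod := Equiv.Perm.card_fixedPoints_modEq (α := α) hf'
  rw [Fintype.card_eq_nat_card, Fintype.card_eq_nat_card] at hmod
  exact hmod

/-- the fixed subgroup of an automorphism -/
def fix (σ : K ≃* K) : Subgroup K where
  carrier := {x | σ x = x}
  mul_mem' := by
    intro a b ha hb
    simp only [Set.mem_setOf_eq] at *
    rw [map_mul, ha, hb]
  one_mem' := map_one σ
  inv_mem' := by
    intro a ha
    simp only [Set.mem_setOf_eq] at *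
    rw [map_inv, ha]

theorem mem_fix {σ : K ≃* K} {x : K} : x ∈ fix σ ↔ σ x = x := Iff.rfl

/-- square roots in cyclic groups of odd order -/
theorem sqrt_mul_self (i : K) (hodd : Odd (orderOf i)) :
    (i ^ ((orderOf i + 1) / 2)) * (i ^ ((orderOf i + 1) / 2)) = i := by
  obtain ⟨m, hm⟩ := hodd
  rw [← pow_add]
  have : (orderOf i + 1) / 2 + (orderOf i + 1) / 2 = orderOf i + 1 := by omega
  rw [this, pow_succ, pow_orderOf_eq_one, one_mul]

theorem orderOf_dvd_card_of_mem [Finite K] (Q : Subgroup K) (i : K) (hi : i ∈ Q) :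
    orderOf i ∣ Nat.card Q := by
  have := orderOf_dvd_natCard (⟨i, hi⟩ : Q)
  rwa [Subgroup.orderOf_mk] at this

/-- counting inverted elements -/
theorem card_inverted [Finite K] (σ : K ≃* K) (hσ : ∀ x, σ (σ x) = x) (Q : Subgroup K)
    (hQ : ∀ x ∈ Q, σ x ∈ Q) (hodd : Odd (Nat.card Q)) :
    Nat.card {x : K // x ∈ Q ∧ σ x = x⁻¹} * Nat.card ↥(Q ⊓ fix σ) = Nat.card Q := by
  classical
  obtain ⟨r, hr⟩ : ∃ r : K → K, r = fun i => i ^ ((orderOf i + 1) / 2) := ⟨_, rfl⟩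
  have hoddQ : ∀ i ∈ Q, Odd (orderOf i) := fun i hi =>
    Odd.of_dvd_nat hodd (orderOf_dvd_card_of_mem Q i hi)
  have hr2 : ∀ i ∈ Q, r i * r i = i := by
    intro i hi
    rw [hr]
    exact sqrt_mul_self i (hoddQ i hi)
  have hrQ : ∀ i ∈ Q, r i ∈ Q := by
    intro i hi
    rw [hr]
    exact Q.pow_mem hi _
  have hrσ : ∀ i, σ i = i⁻¹ → σ (r i) = (r i)⁻¹ := by
    intro i hi
    rw [hr]
    show σ (i ^ _) = (i ^ _)⁻¹
    rw [map_pow, hi, inv_pow]
  have hφQ : ∀ x ∈ Q, x * (σ x)⁻¹ ∈ Q := fun x hx => Q.mul_mem hx (Q.inv_mem (hQ x hx))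
  have hφσ : ∀ x, σ (x * (σ x)⁻¹) = (x * (σ x)⁻¹)⁻¹ := by
    intro x
    rw [map_mul, map_inv, hσ, mul_inv_rev, inv_inv]
  have hc : ∀ x ∈ Q, σ ((r (x * (σ x)⁻¹))⁻¹ * x) = (r (x * (σ x)⁻¹))⁻¹ * x := by
    intro x hx
    obtain ⟨ρ, hρ⟩ : ∃ ρ, ρ = r (x * (σ x)⁻¹) := ⟨_, rfl⟩
    have h1 : σ ρ = ρ⁻¹ := by rw [hρ]; exact hrσ _ (hφσ x)
    have h2 : ρ * ρ = x * (σ x)⁻¹ := by rw [hρ]; exact hr2 _ (hφQ x hx)
    rw [← hρ, map_mul, map_inv, h1, inv_inv]
    have h3 : ρ * ρ * σ x = x := by rw [h2, inv_mul_cancel_right]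
    calc ρ * σ x = ρ⁻¹ * (ρ * ρ * σ x) := by group
      _ = ρ⁻¹ * x := by rw [h3]
  rw [← Nat.card_prod]
  apply Nat.card_congr
  refine
    { toFun := fun ic => ⟨r ic.1.1 * ic.2.1, Q.mul_mem (hrQ _ ic.1.2.1) ic.2.2.1⟩
      invFun := fun x => (⟨(x : K) * (σ x)⁻¹, hφQ _ x.2, hφσ _⟩,
        ⟨(r ((x : K) * (σ x)⁻¹))⁻¹ * x,
          ⟨Q.mul_mem (Q.inv_mem (hrQ _ (hφQ _ x.2))) x.2, hc _ x.2⟩⟩)
      left_inv := ?_
      right_inv := ?_ }
  · rintro ⟨⟨i, hiQ, hiσ⟩, ⟨c, hcQ, hcF⟩⟩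
    have hcF' : σ c = c := hcF
    have h1 : r i * c * (σ (r i * c))⁻¹ = i := by
      rw [map_mul, hrσ i hiσ, hcF']
      calc r i * c * ((r i)⁻¹ * c)⁻¹ = r i * r i := by group
        _ = i := hr2 i hiQ
    apply Prod.ext
    · apply Subtype.ext
      exact h1
    · apply Subtype.ext
      show (r (r i * c * (σ (r i * c))⁻¹))⁻¹ * (r i * c) = c
      rw [h1]
      group
  · rintro ⟨x, hx⟩
    apply Subtype.ext
    show r (x * (σ x)⁻¹) * ((r (x * (σ x)⁻¹))⁻¹ * x) = x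
    group

/-- invariant Sylow subgroups -/
theorem exists_invariant_sylow [Finite K] (σ : K ≃* K) (hσ : ∀ x, σ (σ x) = x)
    (hodd : Odd (Nat.card K)) (q : ℕ) [Fact q.Prime] :
    ∃ Q : Sylow q K, ∀ x ∈ Q, σ x ∈ Q := by
  obtain ⟨s, hs0⟩ : ∃ s : MulAut K, s = σ := ⟨_, rfl⟩
  have hs : s * s = 1 := by
    ext x
    rw [hs0]
    exact hσ x
  have hcard : Odd (Nat.card (Sylow q K)) := by
    obtain ⟨P⟩ : Nonempty (Sylow q K) := inferInstance
    exact Odd.of_dvd_nat hodd ((Sylow.card_dvd_index P).trans (Subgroup.index_dvd_card _))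
  have h1 := card_mod_fix (fun Q : Sylow q K => s • Q)
    (by intro Q; show s • s • Q = Q; rw [smul_smul, hs, one_smul])
  have hne : Nat.card {Q : Sylow q K // s • Q = Q} ≠ 0 := by
    intro h0
    rw [h0] at h1
    obtain ⟨m, hm⟩ := hcard
    omega
  obtain ⟨⟨Q, hQ⟩⟩ : Nonempty {Q : Sylow q K // s • Q = Q} := by
    by_contra hemp
    rw [not_nonempty_iff] at hemp
    exact hne Nat.card_of_isEmpty
  refine ⟨Q, fun x hx => ?_⟩
  have h2 : s • x ∈ s • (Q : Subgroup K) := Subgroup.smul_mem_pointwise_smul x s _ hx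
  rw [← Sylow.pointwise_smul_def, hQ] at h2
  rw [hs0] at h2
  exact h2

/-- if all inverted elements are `p`-elements, they lie in a single Sylow `p`-subgroup -/
theorem exists_sylow_inverted [Finite K] (σ : K ≃* K) (hσ : ∀ x, σ (σ x) = x)
    (hodd : Odd (Nat.card K)) (p : ℕ) [hp : Fact p.Prime]
    (hinv : ∀ x : K, σ x = x⁻¹ → ∃ k : ℕ, orderOf x = p ^ k) :
    ∃ P : Sylow p K, ∀ x : K, σ x = x⁻¹ → x ∈ P := by
  classical
  have hoddsub : ∀ Q : Subgroup K, Odd (Nat.card Q) := fun Q =>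
    Odd.of_dvd_nat hodd Q.card_subgroup_dvd_card
  have hK := card_inverted σ hσ ⊤ (fun x _ => Subgroup.mem_top _) (hoddsub ⊤)
  rw [top_inf_eq, Subgroup.card_top] at hK
  obtain ⟨iK, hiK⟩ : ∃ iK, iK = Nat.card {x : K // x ∈ (⊤ : Subgroup K) ∧ σ x = x⁻¹} :=
    ⟨_, rfl⟩
  rw [← hiK] at hK
  have hq : ∀ q : ℕ, q.Prime → q ≠ p → ¬ q ∣ iK := by
    intro q hqp hne hdvd
    haveI : Fact q.Prime := ⟨hqp⟩
    obtain ⟨Q, hQ⟩ := exists_invariant_sylow σ hσ hodd q
    have h1 := card_inverted σ hσ (Q : Subgroup K) hQ (hoddsub _)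
    have h2 : Nat.card {x : K // x ∈ (Q : Subgroup K) ∧ σ x = x⁻¹} = 1 := by
      rw [Nat.card_eq_one_iff_unique]
      have key : ∀ c : {x : K // x ∈ (Q : Subgroup K) ∧ σ x = x⁻¹}, c.1 = 1 := by
        intro c
        obtain ⟨k, hk⟩ := hinv c.1 c.2.2
        have h3 : orderOf c.1 ∣ Nat.card (Q : Subgroup K) :=
          orderOf_dvd_card_of_mem _ _ c.2.1
        obtain ⟨m, hm⟩ := IsPGroup.iff_card.mp Q.2
        rw [hm, hk] at h3
        have hk0 : k = 0 := by
          by_contra hk0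
          have h4 : p ∣ q ^ m := (dvd_pow_self p hk0).trans h3
          have h5 := (Nat.prime_dvd_prime_iff_eq hp.1 hqp).mp (hp.1.dvd_of_dvd_pow h4)
          exact hne h5.symm
        rw [hk0, pow_zero] at hk
        exact orderOf_eq_one_iff.mp hk
      refine ⟨⟨fun a b => Subtype.ext ((key a).trans (key b).symm)⟩,
        ⟨⟨1, (Q : Subgroup K).one_mem, by simp⟩⟩⟩
    rw [h2, one_mul] at h1
    have h4 : Nat.card (Q : Subgroup K) ∣ Nat.card (fix σ) := by
      rw [← h1]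
      exact Subgroup.card_dvd_of_le inf_le_right
    rw [Q.card_eq_multiplicity] at h4
    have h5 : q ^ ((Nat.card K).factorization q + 1) ∣ Nat.card K := by
      obtain ⟨v, hv⟩ : ∃ v, v = (Nat.card K).factorization q := ⟨_, rfl⟩
      rw [← hv] at h4 ⊢
      rw [← hK, pow_succ, mul_comm]
      exact Nat.mul_dvd_mul hdvd h4
    have := (hqp.pow_dvd_iff_le_factorization Nat.card_pos.ne').mp h5
    omega
  have hiK0 : iK ≠ 0 := by
    intro h
    rw [h, zero_mul] at hK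
    exact Nat.card_pos.ne' hK.symm
  obtain ⟨a, ha⟩ : ∃ a, iK = p ^ a := by
    refine ⟨iK.factorization p, ?_⟩
    apply Nat.eq_pow_of_factorization_eq_single hiK0
    ext q
    by_cases hqp : q = p
    · rw [hqp]; simp
    · rw [Finsupp.single_apply, if_neg (Ne.symm hqp)]
      by_cases hq' : q.Prime
      · exact Nat.factorization_eq_zero_of_not_dvd (hq q hq' hqp)
      · exact Nat.factorization_eq_zero_of_not_prime _ hq'
  obtain ⟨P, hP⟩ := exists_invariant_sylow σ hσ hodd p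
  have hPc := card_inverted σ hσ (P : Subgroup K) hP (hoddsub _)
  obtain ⟨c, hc⟩ : ∃ c, Nat.card ↥((P : Subgroup K) ⊓ fix σ) = p ^ c := by
    have : IsPGroup p ↥((P : Subgroup K) ⊓ fix σ) := P.2.to_le inf_le_left
    exact IsPGroup.iff_card.mp this
  obtain ⟨n, hn⟩ : ∃ n, n = (Nat.card K).factorization p := ⟨_, rfl⟩
  have hPn : Nat.card (P : Subgroup K) = p ^ n := by rw [hn]; exact P.card_eq_multiplicity
  have h6 : p ^ (a + c) ∣ Nat.card K := by
    rw [← hK, ha, pow_add]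
    apply Nat.mul_dvd_mul_left
    rw [← hc]
    exact Subgroup.card_dvd_of_le inf_le_right
  have h7 : a + c ≤ n := by
    rw [hn]
    exact (hp.1.pow_dvd_iff_le_factorization Nat.card_pos.ne').mp h6
  obtain ⟨iP, hiP⟩ : ∃ iP, iP = Nat.card {x : K // x ∈ (P : Subgroup K) ∧ σ x = x⁻¹} :=
    ⟨_, rfl⟩
  rw [← hiP, hc, hPn] at hPc
  have h8 : iP = p ^ (n - c) := by
    have : p ^ n = p ^ (n - c) * p ^ c := by
      rw [← pow_add]; congr 1; omega
    rw [this] at hPc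
    exact Nat.eq_of_mul_eq_mul_right (pow_pos hp.1.pos c) hPc
  have h9 : iK ≤ iP := by
    rw [ha, h8]
    exact Nat.pow_le_pow_right hp.1.pos (by omega)
  refine ⟨P, fun x hx => ?_⟩
  obtain ⟨ι, hι⟩ : ∃ ι : {x : K // x ∈ (P : Subgroup K) ∧ σ x = x⁻¹} →
      {x : K // x ∈ (⊤ : Subgroup K) ∧ σ x = x⁻¹}, ∀ y, (ι y).1 = y.1 :=
    ⟨fun y => ⟨y.1, Subgroup.mem_top _, y.2.2⟩, fun y => rfl⟩
  have hinj : Function.Injective ι := by
    intro y z h
    apply Subtype.ext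
    rw [← hι y, ← hι z, h]
  have hbij := hinj.bijective_of_nat_card_le (by rw [← hiK, ← hiP]; exact h9)
  obtain ⟨y, hy⟩ := hbij.2 ⟨x, Subgroup.mem_top _, hx⟩
  have hyx : y.1 = x := by rw [← hι y, hy]
  rw [← hyx]
  exact y.2.1

end Cfsg.Agent.Helper4.InvOdd
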