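import Mathlib
import Cfsg.Agent.Lib.Helper4.J1K1ONE

/-!
# S0448 piece K1E8 (helper4, for helper3): `res_mono` for `E8 ≤ K1 = Z2 × A4`, trivial character.
-/

set_option autoImplicit false
set_option linter.unusedSectionVars false
set_option linter.unusedVariables false

namespace Cfsg.Agent.Helper3.J1

open Cfsg Cfsg.Agent.Helper24 Cfsg.Agent.Helper15.GL23
open scoped ComplexConjugate

/-- PIECE K1E8: `res_mono` for `E8 = ⟨z0, u0, u0'⟩ ≤ K1` and the trivial character: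
`(D+7T)/8 - (D+7T+8ξ+8U)/24` is a natural number -/
theorem res_k1_e8 {ψ : H0 → ℂ} (hψ : IsCharacter H0 ψ) (D T ξ U : ℤ) (hD : ψ 1 = (D : ℂ))
    (hT : ∀ h : H0, orderOf h = 2 → ψ h = (T : ℂ)) (hX : ψ x0 = (ξ : ℂ)) (hU : ψ w0 = (U : ℂ)) :
    ∃ n : ℕ, D + 7 * T - 4 * ξ - 4 * U = 12 * n := by
  obtain ⟨m, n, h1, h2, h3⟩ := k1one_core hψ D T ξ U hD hT hX hU
  refine ⟨n - m, ?_⟩
  rw [Nat.cast_sub h3]
  linarith

end Cfsg.Agent.Helper3.J1
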