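import Mathlib
import Cfsg.Agent.Lib.Helper1.M22SRG1

/-!
# S0429 (helper1 farm-out), PIECE SRG1 - SUPERSEDED.
helper1 landed `Cfsg.Agent.Helper1.M22.card_nearC` in `Cfsg/Agent/Lib/Helper1/M22SRG1.lean` at the same
time; to avoid a duplicate declaration this file now only re-imports that one (no declarations here).
-/
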