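import Mathlib

set_option autoImplicit false

namespace Cfsg.Agent.Helper4

/-- Averaging argument (Maschke) for a coprime action on a finite commutative group: an invariant
subgroup with a complement has an invariant complement. -/
theorem exists_invariant_compl {V A : Type*} [CommGroup V] [Finite V] [Group A] [Finite A]
    (c : A →* MulAut V) (hcop : (Nat.card A).Coprime (Nat.card V))
    (U W : Subgroup V) (hU : ∀ a : A, ∀ u ∈ U, c a u ∈ U) (hUW : U ⊓ W = ⊥) (hsup : U ⊔ W = ⊤) :
    ∃ W' : Subgroup V, (∀ a : A, ∀ w ∈ W', c a w ∈ W') ∧ U ⊓ W' = ⊥ ∧ U ⊔ W' = ⊤ := by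
  classical
  let _ : Fintype A := Fintype.ofFinite A
  -- the projection onto U along W
  let f : U →* V ⧸ W := (QuotientGroup.mk' W).comp U.subtype
  have hf : Function.Bijective f := by
    constructor
    · rw [injective_iff_map_eq_one]
      intro u hu
      have h1 : ((u : V) : V ⧸ W) = 1 := hu
      rw [QuotientGroup.eq_one_iff] at h1
      have h2 : (u : V) ∈ U ⊓ W := ⟨u.2, h1⟩
      rw [hUW, Subgroup.mem_bot] at h2
      exact Subtype.ext h2
    · intro q
      obtain ⟨v, rfl⟩ := QuotientGroup.mk'_surjective W q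
      have hv : v ∈ U ⊔ W := by rw [hsup]; exact Subgroup.mem_top v
      obtain ⟨u, hu, w, hw, rfl⟩ := Subgroup.mem_sup.1 hv
      refine ⟨⟨u, hu⟩, ?_⟩
      show ((u : V) : V ⧸ W) = ((u * w : V) : V ⧸ W)
      rw [QuotientGroup.eq]
      simpa using hw
  let e : U ≃* V ⧸ W := MulEquiv.ofBijective f hf
  let π : V →* V := U.subtype.comp (e.symm.toMonoidHom.comp (QuotientGroup.mk' W))
  have hπU : ∀ v, π v ∈ U := fun v => (e.symm (QuotientGroup.mk' W v)).2
  have hπid : ∀ u ∈ U, π u = u := by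
    intro u hu
    have h1 : e ⟨u, hu⟩ = QuotientGroup.mk' W u := rfl
    have h2 : e.symm (QuotientGroup.mk' W u) = ⟨u, hu⟩ := by rw [← h1, e.symm_apply_apply]
    show ((e.symm (QuotientGroup.mk' W u) : U) : V) = u
    rw [h2]
  let θ : V →* V :=
    { toFun := fun v => ∏ a : A, c a⁻¹ (π (c a v))
      map_one' := by simp
      map_mul' := by intro x y; simp [Finset.prod_mul_distrib] }
  have hθ : ∀ v, θ v = ∏ a : A, c a⁻¹ (π (c a v)) := fun v => rfl
  have hθU : ∀ v, θ v ∈ U := by
    intro v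
    rw [hθ]
    apply Subgroup.prod_mem
    intro a _
    exact hU _ _ (hπU _)
  have hθid : ∀ u ∈ U, θ u = u ^ Nat.card A := by
    intro u hu
    rw [hθ]
    have : ∀ a : A, c a⁻¹ (π (c a u)) = u := by
      intro a
      rw [hπid _ (hU a u hu), ← MulAut.mul_apply, ← map_mul, inv_mul_cancel, map_one,
        MulAut.one_apply]
    simp only [this, Finset.prod_const, Finset.card_univ, Nat.card_eq_fintype_card]
  have hθeq : ∀ (b : A) (v : V), θ (c b v) = c b (θ v) := by
    intro b v
    rw [hθ, hθ, map_prod]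
    refine Fintype.prod_equiv (Equiv.mulRight b) _ _ ?_
    intro a
    show c a⁻¹ (π (c a (c b v))) = c b (c (a * b)⁻¹ (π (c (a * b) v)))
    rw [← MulAut.mul_apply _ (c a) (c b), ← map_mul, ← MulAut.mul_apply _ (c b), ← map_mul,
      mul_inv_rev, mul_inv_cancel_left]
  refine ⟨θ.ker, ?_, ?_, ?_⟩
  · intro a w hw
    rw [MonoidHom.mem_ker] at hw ⊢
    rw [hθeq, hw, map_one]
  · rw [eq_bot_iff]
    rintro u ⟨hu, hk⟩
    rw [Subgroup.mem_bot]
    have h1 : θ u = 1 := hk
    rw [hθid u hu] at h1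
    have h4 : orderOf u ∣ Nat.card A := orderOf_dvd_of_pow_eq_one h1
    have h5 : orderOf u ∣ Nat.card V := orderOf_dvd_natCard u
    have h6 : orderOf u = 1 := Nat.eq_one_of_dvd_coprimes hcop h4 h5
    exact orderOf_eq_one_iff.1 h6
  · rw [eq_top_iff]
    intro v _
    have hcopU : (Nat.card U).Coprime (Nat.card A) :=
      (Nat.Coprime.coprime_dvd_right (Subgroup.card_subgroup_dvd_card U) hcop).symm
    obtain ⟨u, hu⟩ := hcopU.pow_left_bijective.2 ⟨θ v, hθU v⟩
    have hu' : (u : V) ^ Nat.card A = θ v := by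
      have := congrArg Subtype.val hu
      simpa using this
    have hk : v * (u : V)⁻¹ ∈ θ.ker := by
      rw [MonoidHom.mem_ker, map_mul, map_inv, hθid _ u.2, hu', mul_inv_cancel]
    have : v = (u : V) * (v * (u : V)⁻¹) := by
      rw [mul_comm v, mul_inv_cancel_left]
    rw [this]
    exact Subgroup.mul_mem_sup u.2 hk

end Cfsg.Agent.Helper4
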