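import Mathlib
import Cfsg.Agent.Lib.Helper4.McLDefs
import Cfsg.Agent.Lib.Helper4.McLQ4
import Cfsg.Agent.Lib.Helper19.McLCls
import Cfsg.Agent.Lib.Helper19.McLQI
import Cfsg.Agent.Lib.Helper21.McLSum
import Cfsg.Agent.Lib.Helper19.McLDualCore
import Cfsg.Agent.Lib.Helper27.McLRes

/-!
# S5075: final assembly (helper4)

The classes of nontrivial transvections of `H`, the subgroups they generate (plus one trivial
factor, so that the number of factors is at least one), and the statement of S5075 in terms of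
`tvSet H`.
-/

set_option autoImplicit false

namespace Cfsg.Agent.Helper4.McL

open Module

section basics

variable {F : Type*} [Field F] {V : Type*} [AddCommGroup V] [Module F V]

theorem fin_comm_bot : comm (⊥ : Subgroup (V ≃ₗ[F] V)) = ⊥ := by
  rw [comm, Submodule.span_eq_bot]
  rintro y ⟨g, hg, x, rfl⟩
  rw [Subgroup.mem_bot] at hg
  subst hg
  simp

theorem fin_fix_bot : fix (⊥ : Subgroup (V ≃ₗ[F] V)) = ⊤ := by
  rw [eq_top_iff]
  intro x _ g hg
  rw [Subgroup.mem_bot] at hg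
  subst hg
  rfl

/-- the subgroup of all `g` fixing `X` pointwise -/
def finFixer (X : Submodule F V) : Subgroup (V ≃ₗ[F] V) where
  carrier := {g | ∀ x ∈ X, g x = x}
  mul_mem' := by
    intro a b ha hb x hx
    rw [LinearEquiv.mul_apply, hb x hx, ha x hx]
  one_mem' := by intro x _; rfl
  inv_mem' := by
    intro a ha x hx
    have h1 := ha x hx
    calc a⁻¹ x = a⁻¹ (a x) := by rw [h1]
      _ = x := by rw [← LinearEquiv.mul_apply, inv_mul_cancel]; rfl

theorem fin_le_fixer_fix (K : Subgroup (V ≃ₗ[F] V)) : K ≤ finFixer (fix K) := fun g hg x hx => hx g hg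

theorem fin_le_fixer_of_le_fix {K : Subgroup (V ≃ₗ[F] V)} {X : Submodule F V} (h : X ≤ fix K) :
    K ≤ finFixer X := fun g hg x hx => h hx g hg

/-- `[V,K]` is invariant under anything normalising `K`. -/
theorem fin_map_mem_comm {K : Subgroup (V ≃ₗ[F] V)} {h : V ≃ₗ[F] V}
    (hn : ∀ k ∈ K, h * k * h⁻¹ ∈ K) {x : V} (hx : x ∈ comm K) : h x ∈ comm K := by
  rw [comm] at hx
  induction hx using Submodule.span_induction with
  | mem y hy =>
    obtain ⟨g, hg, z, rfl⟩ := hy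
    have h1 : h (g z - z) = (h * g * h⁻¹) (h z) - h z := by
      rw [map_sub, LinearEquiv.mul_apply, LinearEquiv.mul_apply]
      have : h⁻¹ (h z) = z := h.symm_apply_apply z
      rw [this]
    rw [h1]
    exact sub_mem_comm (hn g hg) _
  | zero => simp
  | add a b _ _ ha hb => rw [map_add]; exact Submodule.add_mem _ ha hb
  | smul c a _ ha => rw [map_smul]; exact Submodule.smul_mem _ _ ha

/-- `C_V(K)` is invariant under anything normalising `K` (inverse form). -/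
theorem fin_map_mem_fix {K : Subgroup (V ≃ₗ[F] V)} {h : V ≃ₗ[F] V}
    (hn : ∀ k ∈ K, h⁻¹ * k * h ∈ K) {x : V} (hx : x ∈ fix K) : h x ∈ fix K := by
  intro k hk
  have h1 := hx _ (hn k hk)
  have h2 : k (h x) = h ((h⁻¹ * k * h) x) := by
    rw [LinearEquiv.mul_apply, LinearEquiv.mul_apply, ← LinearEquiv.mul_apply h, mul_inv_cancel]
    rfl
  rw [h2, h1]

theorem fin_map_eq_of_mem {X : Submodule F V} {h : V ≃ₗ[F] V} (h1 : ∀ x ∈ X, h x ∈ X)
    (h2 : ∀ x ∈ X, h⁻¹ x ∈ X) : X.map (h : V →ₗ[F] V) = X := by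
  apply le_antisymm
  · rintro _ ⟨x, hx, rfl⟩
    exact h1 x hx
  · intro x hx
    refine ⟨h⁻¹ x, h2 x hx, ?_⟩
    show h (h⁻¹ x) = x
    rw [← LinearEquiv.mul_apply, mul_inv_cancel]; rfl

end basics

section prime

variable {p : ℕ} [Fact p.Prime] {V : Type*} [AddCommGroup V] [Module (ZMod p) V]

theorem fin_qHyp_bot : QHyp (⊥ : Subgroup (V ≃ₗ[ZMod p] V)) where
  gen := by
    apply le_antisymm
    · rw [Subgroup.closure_le]
      intro g hg
      exact hg.1
    · exact bot_le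
  q1 := by
    intro X _
    left
    rw [fin_comm_bot]
    exact bot_le
  q3 := by
    intro g hg _
    exact Subgroup.mem_bot.1 hg

/-! ### classes -/

theorem fin_linked_refl (H : Subgroup (V ≃ₗ[ZMod p] V)) (t : V ≃ₗ[ZMod p] V) : Linked H t t :=
  Relation.EqvGen.refl t

theorem fin_linked_symm {H : Subgroup (V ≃ₗ[ZMod p] V)} {s t : V ≃ₗ[ZMod p] V} (h : Linked H s t) :
    Linked H t s := Relation.EqvGen.symm _ _ h

theorem fin_linked_trans {H : Subgroup (V ≃ₗ[ZMod p] V)} {s t r : V ≃ₗ[ZMod p] V} (h : Linked H s t)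
    (h' : Linked H t r) : Linked H s r := Relation.EqvGen.trans _ _ _ h h'

theorem fin_mem_cls_self {H : Subgroup (V ≃ₗ[ZMod p] V)} {t : V ≃ₗ[ZMod p] V} (ht : t ∈ tvSet H) :
    t ∈ cls H t := ⟨ht, fin_linked_refl H t⟩

theorem fin_cls_subset_tvSet (H : Subgroup (V ≃ₗ[ZMod p] V)) (t : V ≃ₗ[ZMod p] V) :
    cls H t ⊆ tvSet H := fun _ hs => hs.1

theorem fin_cls_eq_of_linked {H : Subgroup (V ≃ₗ[ZMod p] V)} {t t' : V ≃ₗ[ZMod p] V}
    (h : Linked H t t') : cls H t = cls H t' := by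
  ext s
  constructor
  · rintro ⟨h1, h2⟩
    exact ⟨h1, fin_linked_trans (fin_linked_symm h) h2⟩
  · rintro ⟨h1, h2⟩
    exact ⟨h1, fin_linked_trans h h2⟩

/-- the index type of the classes -/
abbrev ClsIdx (H : Subgroup (V ≃ₗ[ZMod p] V)) : Type _ :=
  {Y : Set (V ≃ₗ[ZMod p] V) // ∃ t ∈ tvSet H, Y = cls H t}

/-- the subgroup attached to an index (`none ↦ ⊥`) -/
def clsGrp (H : Subgroup (V ≃ₗ[ZMod p] V)) : Option (ClsIdx H) → Subgroup (V ≃ₗ[ZMod p] V)
  | none => ⊥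
  | some Y => Subgroup.closure Y.1

/-- the generating set attached to an index -/
def clsSet (H : Subgroup (V ≃ₗ[ZMod p] V)) : Option (ClsIdx H) → Set (V ≃ₗ[ZMod p] V)
  | none => ∅
  | some Y => Y.1

theorem clsGrp_eq (H : Subgroup (V ≃ₗ[ZMod p] V)) (i : Option (ClsIdx H)) :
    clsGrp H i = Subgroup.closure (clsSet H i) := by
  cases i with
  | none => simp [clsGrp, clsSet]
  | some Y => rfl

theorem clsSet_subset (H : Subgroup (V ≃ₗ[ZMod p] V)) (i : Option (ClsIdx H)) :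
    clsSet H i ⊆ tvSet H := by
  cases i with
  | none => intro x hx; exact absurd hx (Set.notMem_empty x)
  | some Y =>
    obtain ⟨Y, t, ht, rfl⟩ := Y
    exact fin_cls_subset_tvSet H t

theorem clsSet_commute {H : Subgroup (V ≃ₗ[ZMod p] V)} {i j : Option (ClsIdx H)} (hij : i ≠ j)
    {s s' : V ≃ₗ[ZMod p] V} (hs : s ∈ clsSet H i) (hs' : s' ∈ clsSet H j) : s * s' = s' * s := by
  cases i with
  | none => exact absurd hs (Set.notMem_empty s)
  | some Y =>
    cases j with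
    | none => exact absurd hs' (Set.notMem_empty s')
    | some Y' =>
      obtain ⟨Y, t, ht, rfl⟩ := Y
      obtain ⟨Y', t', ht', rfl⟩ := Y'
      apply commute_of_not_linked hs.1 hs'.1
      intro hl
      apply hij
      have h1 : Linked H t t' := fin_linked_trans hs.2 (fin_linked_trans hl (fin_linked_symm hs'.2))
      have h2 := fin_cls_eq_of_linked h1
      simp only [Option.some.injEq]
      exact Subtype.ext h2

theorem fin_closure_commute {G : Type*} [Group G] {S S' : Set G}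
    (h : ∀ s ∈ S, ∀ t ∈ S', s * t = t * s) :
    ∀ a ∈ Subgroup.closure S, ∀ b ∈ Subgroup.closure S', a * b = b * a := by
  intro a ha b hb
  have h1 : Subgroup.closure S ≤ Subgroup.centralizer (Subgroup.closure S' : Set G) := by
    rw [Subgroup.closure_le]
    intro s hs
    rw [SetLike.mem_coe, Subgroup.mem_centralizer_iff]
    intro t ht
    induction ht using Subgroup.closure_induction with
    | mem x hx => exact (h s hs x hx).symm
    | one => simp
    | mul x y _ _ hx hy => rw [mul_assoc, hy, ← mul_assoc, hx, mul_assoc]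
    | inv x _ hx =>
      have : x⁻¹ * s = x⁻¹ * (s * x) * x⁻¹ := by group
      rw [this, ← hx]; group
  have := Subgroup.mem_centralizer_iff.1 (h1 ha) b hb
  exact this.symm

end prime

section main

variable {p : ℕ} [Fact p.Prime] {V : Type*} [AddCommGroup V] [Module (ZMod p) V]

theorem clsGrp_le (H : Subgroup (V ≃ₗ[ZMod p] V)) (i : Option (ClsIdx H)) : clsGrp H i ≤ H := by
  rw [clsGrp_eq, Subgroup.closure_le]
  intro g hg
  exact (clsSet_subset H i hg).1

theorem clsSet_conj {H : Subgroup (V ≃ₗ[ZMod p] V)} (hH : H = Subgroup.closure (tvSet H))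
    (i : Option (ClsIdx H)) {h s : V ≃ₗ[ZMod p] V} (hh : h ∈ H) (hs : s ∈ clsSet H i) :
    h * s * h⁻¹ ∈ clsSet H i := by
  cases i with
  | none => exact absurd hs (Set.notMem_empty s)
  | some Y =>
    obtain ⟨Y, t, ht, rfl⟩ := Y
    exact conj_mem_cls hH hh hs

theorem clsGrp_normal {H : Subgroup (V ≃ₗ[ZMod p] V)} (hH : H = Subgroup.closure (tvSet H))
    (i : Option (ClsIdx H)) {h k : V ≃ₗ[ZMod p] V} (hh : h ∈ H) (hk : k ∈ clsGrp H i) :
    h * k * h⁻¹ ∈ clsGrp H i := by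
  rw [clsGrp_eq] at hk ⊢
  induction hk using Subgroup.closure_induction with
  | mem x hx => exact Subgroup.subset_closure (clsSet_conj hH i hh hx)
  | one => simp
  | mul x y _ _ hx hy =>
    have : h * (x * y) * h⁻¹ = (h * x * h⁻¹) * (h * y * h⁻¹) := by group
    rw [this]; exact Subgroup.mul_mem _ hx hy
  | inv x _ hx =>
    have : h * x⁻¹ * h⁻¹ = (h * x * h⁻¹)⁻¹ := by group
    rw [this]; exact Subgroup.inv_mem _ hx

theorem iSup_clsGrp {H : Subgroup (V ≃ₗ[ZMod p] V)} (hH : H = Subgroup.closure (tvSet H)) :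
    ⨆ i, clsGrp H i = H := by
  apply le_antisymm
  · exact iSup_le (clsGrp_le H)
  · conv_lhs => rw [hH]
    rw [Subgroup.closure_le]
    intro s hs
    have h1 : s ∈ clsGrp H (some ⟨cls H s, s, hs, rfl⟩) :=
      Subgroup.subset_closure (fin_mem_cls_self hs)
    exact (le_iSup (clsGrp H) _) h1

theorem clsGrp_commute {H : Subgroup (V ≃ₗ[ZMod p] V)} {i j : Option (ClsIdx H)} (hij : i ≠ j) :
    ∀ a ∈ clsGrp H i, ∀ b ∈ clsGrp H j, a * b = b * a := by
  rw [clsGrp_eq, clsGrp_eq]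
  exact fin_closure_commute fun s hs t ht => clsSet_commute hij hs ht

theorem clsSet_isTv (H : Subgroup (V ≃ₗ[ZMod p] V)) (i : Option (ClsIdx H)) :
    ∀ t ∈ clsSet H i, IsTv t := fun _ ht => (clsSet_subset H i ht).2.1

theorem clsSet_indec (H : Subgroup (V ≃ₗ[ZMod p] V)) (i : Option (ClsIdx H)) :
    Indec (clsSet H i) := by
  cases i with
  | none =>
    intro P _
    left
    intro t ht
    exact absurd ht (Set.notMem_empty t)
  | some Y =>
    obtain ⟨Y, t, ht, rfl⟩ := Y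
    exact indec_cls H t

theorem clsGrp_noNormalP {H : Subgroup (V ≃ₗ[ZMod p] V)} (hH : H = Subgroup.closure (tvSet H))
    (hO : ∀ N : Subgroup (V ≃ₗ[ZMod p] V), N ≤ H → (∀ g ∈ H, ∀ n ∈ N, g * n * g⁻¹ ∈ N) →
      IsPGroup p N → N = ⊥) (i : Option (ClsIdx H)) : NoNormalP (clsGrp H i) := by
  cases i with
  | none =>
    intro N hN _ _
    exact le_bot_iff.1 hN
  | some Y =>
    obtain ⟨Y, t, ht, rfl⟩ := Y
    exact noNormalP_cls hH hO t

variable [Module.Finite (ZMod p) V]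

theorem clsGrp_qHyp (hp : p ≠ 2) {H : Subgroup (V ≃ₗ[ZMod p] V)}
    (hH : H = Subgroup.closure (tvSet H))
    (hO : ∀ N : Subgroup (V ≃ₗ[ZMod p] V), N ≤ H → (∀ g ∈ H, ∀ n ∈ N, g * n * g⁻¹ ∈ N) →
      IsPGroup p N → N = ⊥) (i : Option (ClsIdx H)) : QHyp (clsGrp H i) :=
  qHyp_of_indec hp (clsSet_isTv H i) (clsGrp_eq H i) (clsSet_indec H i) (clsGrp_noNormalP hH hO i)

theorem clsGrp_cap (hp : p ≠ 2) {H : Subgroup (V ≃ₗ[ZMod p] V)}
    (hH : H = Subgroup.closure (tvSet H))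
    (hO : ∀ N : Subgroup (V ≃ₗ[ZMod p] V), N ≤ H → (∀ g ∈ H, ∀ n ∈ N, g * n * g⁻¹ ∈ N) →
      IsPGroup p N → N = ⊥) (i : Option (ClsIdx H)) :
    comm (clsGrp H i) ⊓ fix (clsGrp H i) = ⊥ :=
  (clsGrp_qHyp hp hH hO i).comm_inf_fix hp

theorem clsGrp_sup (hp : p ≠ 2) {H : Subgroup (V ≃ₗ[ZMod p] V)}
    (hH : H = Subgroup.closure (tvSet H))
    (hO : ∀ N : Subgroup (V ≃ₗ[ZMod p] V), N ≤ H → (∀ g ∈ H, ∀ n ∈ N, g * n * g⁻¹ ∈ N) →
      IsPGroup p N → N = ⊥) (i : Option (ClsIdx H)) :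
    comm (clsGrp H i) ⊔ fix (clsGrp H i) = ⊤ :=
  comm_sup_fix_core hp (fun _ hQ' => hQ'.comm_inf_fix hp) (clsSet_isTv H i) (clsGrp_eq H i)
    (clsSet_indec H i) (clsGrp_noNormalP hH hO i)

theorem clsGrp_comm_le_fix {H : Subgroup (V ≃ₗ[ZMod p] V)} {i j : Option (ClsIdx H)}
    (hij : i ≠ j) : comm (clsGrp H i) ≤ fix (clsGrp H j) := by
  rw [clsGrp_eq, clsGrp_eq]
  exact comm_le_fix_of_commute (clsSet_isTv H i) (clsSet_isTv H j)
    fun s hs t ht => clsSet_commute hij hs ht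

/-- the main theorem in the form needed for S5075 -/
theorem mcl_main [Finite V] (hp : p ≠ 2) (H : Subgroup (V ≃ₗ[ZMod p] V))
    (hH : H = Subgroup.closure (tvSet H))
    (hO : ∀ N : Subgroup (V ≃ₗ[ZMod p] V), N ≤ H → (∀ g ∈ H, ∀ n ∈ N, g * n * g⁻¹ ∈ N) →
      IsPGroup p N → N = ⊥) :
    ∃ (n : ℕ) (W : Fin (n + 1) → Submodule (ZMod p) V) (K : Fin n → Subgroup (V ≃ₗ[ZMod p] V)),
      1 ≤ n ∧ DirectSum.IsInternal W ∧
      (∀ h ∈ H, ∀ i, (W i).map (h : V →ₗ[ZMod p] V) = W i) ∧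
      (∀ j, K j ≤ H ∧ ((K j).subgroupOf H).Normal) ∧ ⨆ j, K j = H ∧
      (∀ j, K j ⊓ (⨆ j' ∈ {j' : Fin n | j' ≠ j}, K j') = ⊥) ∧
      (∀ j j', j ≠ j' → ∀ a ∈ K j, ∀ b ∈ K j', a * b = b * a) ∧
      (∀ j, ∀ h ∈ K j, ∀ i : Fin (n + 1), i ≠ j.succ → ∀ v ∈ W i, h v = v) ∧
      (∀ j, ∃ ρ : ↥(K j) →* (↥(W j.succ) ≃ₗ[ZMod p] ↥(W j.succ)),
        (∀ (h : ↥(K j)) (v : ↥(W j.succ)), ((ρ h v : ↥(W j.succ)) : V) = (h : V ≃ₗ[ZMod p] V) (v : V)) ∧
        ((ρ.range : Set (↥(W j.succ) ≃ₗ[ZMod p] ↥(W j.succ))) =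
            {f : ↥(W j.succ) ≃ₗ[ZMod p] ↥(W j.succ) | LinearMap.det (f : ↥(W j.succ) →ₗ[ZMod p] ↥(W j.succ)) = 1} ∨
          ∃ B : LinearMap.BilinForm (ZMod p) ↥(W j.succ), B.IsAlt ∧ B.Nondegenerate ∧
            (ρ.range : Set (↥(W j.succ) ≃ₗ[ZMod p] ↥(W j.succ))) = {f : ↥(W j.succ) ≃ₗ[ZMod p] ↥(W j.succ) | ∀ x y, B (f x) (f y) = B x y})) := by
  classical
  haveI : Finite (V ≃ₗ[ZMod p] V) :=
    Finite.of_injective (fun g : V ≃ₗ[ZMod p] V => (g : V → V)) DFunLike.coe_injective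
  haveI : Finite (ClsIdx H) := Subtype.finite
  obtain ⟨e⟩ : Nonempty (Option (ClsIdx H) ≃ Fin (Nat.card (Option (ClsIdx H)))) :=
    ⟨Finite.equivFin _⟩
  set n := Nat.card (Option (ClsIdx H)) with hn
  let K : Fin n → Subgroup (V ≃ₗ[ZMod p] V) := fun j => clsGrp H (e.symm j)
  have hinj : ∀ i j : Fin n, i ≠ j → e.symm i ≠ e.symm j := fun i j hij h => hij (e.symm.injective h)
  have h1 : ∀ j, comm (K j) ⊓ fix (K j) = ⊥ := fun j => clsGrp_cap hp hH hO _
  have h2 : ∀ j, comm (K j) ⊔ fix (K j) = ⊤ := fun j => clsGrp_sup hp hH hO _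
  have h3 : ∀ i j, i ≠ j → comm (K i) ≤ fix (K j) := fun i j hij => clsGrp_comm_le_fix (hinj i j hij)
  have hnorm : ∀ j, ∀ h ∈ H, ∀ k ∈ K j, h * k * h⁻¹ ∈ K j := fun j h hh k hk =>
    clsGrp_normal hH _ hh hk
  have hsup : ⨆ j, K j = H := by
    rw [← iSup_clsGrp hH]
    exact e.symm.iSup_comp (g := clsGrp H)
  refine ⟨n, Fin.cons (⨅ j, fix (K j)) (fun j => comm (K j)), K, ?_, ?_, ?_, ?_, hsup, ?_, ?_, ?_, ?_⟩
  · exact Nat.one_le_iff_ne_zero.2 (Nat.pos_iff_ne_zero.1 (Fin.pos (e none)))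
  · exact isInternal_of_comm_fix K h1 h2 h3
  · intro h hh i
    refine Fin.cases ?_ (fun j => ?_) i
    · simp only [Fin.cons_zero]
      apply fin_map_eq_of_mem
      · intro x hx
        rw [Submodule.mem_iInf] at hx ⊢
        intro j
        refine fin_map_mem_fix (fun k hk => ?_) (hx j)
        have := hnorm j h⁻¹ (H.inv_mem hh) k hk
        simpa using this
      · intro x hx
        rw [Submodule.mem_iInf] at hx ⊢
        intro j
        refine fin_map_mem_fix (fun k hk => ?_) (hx j)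
        have := hnorm j h hh k hk
        simpa using this
    · simp only [Fin.cons_succ]
      apply fin_map_eq_of_mem
      · intro x hx
        exact fin_map_mem_comm (hnorm j h hh) hx
      · intro x hx
        refine fin_map_mem_comm (fun k hk => ?_) hx
        exact hnorm j h⁻¹ (H.inv_mem hh) k hk
  · intro j
    refine ⟨clsGrp_le H _, ?_⟩
    constructor
    intro k hk g
    rw [Subgroup.mem_subgroupOf] at hk ⊢
    exact hnorm j g g.2 k hk
  · intro j
    rw [eq_bot_iff]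
    intro g hg
    rw [Subgroup.mem_inf] at hg
    obtain ⟨hg1, hg2⟩ := hg
    rw [Subgroup.mem_bot]
    have hA : g ∈ finFixer (fix (K j)) := fin_le_fixer_fix _ hg1
    have hB : g ∈ finFixer (comm (K j)) := by
      have : (⨆ j' ∈ {j' : Fin n | j' ≠ j}, K j') ≤ finFixer (comm (K j)) := by
        apply iSup₂_le
        intro j' hj'
        exact fin_le_fixer_of_le_fix (h3 j j' (Ne.symm hj'))
      exact this hg2
    apply LinearEquiv.ext
    intro x
    have hx : x ∈ comm (K j) ⊔ fix (K j) := by rw [h2]; trivial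
    obtain ⟨a, ha, b, hb, rfl⟩ := Submodule.mem_sup.1 hx
    rw [map_add, hB a ha, hA b hb]
    rfl
  · intro j j' hjj'
    exact clsGrp_commute (hinj j j' hjj')
  · intro j h hh i
    refine Fin.cases ?_ (fun j' => ?_) i
    · intro _ v hv
      simp only [Fin.cons_zero, Submodule.mem_iInf] at hv
      exact hv j h hh
    · intro hne v hv
      simp only [Fin.cons_succ] at hv
      have hj : j' ≠ j := fun h => hne (by rw [h])
      exact h3 j' j hj hv h hh
  · intro j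
    obtain ⟨ρ, hρ1, hρ2⟩ := exists_restrict hp (clsGrp_qHyp hp hH hO (e.symm j)) (h1 j)
    exact ⟨ρ, hρ1, hρ2⟩

end main

end Cfsg.Agent.Helper4.McL
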