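import Mathlib
import Cfsg.Agent.Lib.Lead.NC2Defs

/-!
# S3894 (n = 2), piece N2-WITNS5 (helper4): `exists_cube_root`.
For `|F| = 5` and `x` without eigenvector there is `y ∈ F + F x` with `y² + y + 1 = 0`, `det y = 1`, `y² ∉ F`, `y³ = 1`.
-/

set_option autoImplicit false
set_option linter.unusedSimpArgs false

namespace Cfsg.Agent.Lead.NC2

open Matrix

variable {F : Type*} [Field F]

/-- `NoEig x` forces `x 0 1 ≠ 0` (else `e₂` is an eigenvector). -/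
theorem nc2_witns5_entry_ne_zero {x : GL (Fin 2) F} (hx : NoEig x) :
    (x : Matrix (Fin 2) (Fin 2) F) 0 1 ≠ 0 := by
  intro h
  apply hx ![0, 1] ((x : Matrix (Fin 2) (Fin 2) F) 1 1)
  · intro h0
    have := congrFun h0 1
    simp at this
  · ext i
    fin_cases i <;> simp [Matrix.mulVec, dotProduct, Fin.sum_univ_two, h]

/-- `NoEig x`: the characteristic polynomial of `x` has no root. -/
theorem nc2_witns5_no_root {x : GL (Fin 2) F} (hx : NoEig x) (l : F) :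
    l ^ 2 - ((x : Matrix (Fin 2) (Fin 2) F) 0 0 + (x : Matrix (Fin 2) (Fin 2) F) 1 1) * l +
      ((x : Matrix (Fin 2) (Fin 2) F) 0 0 * (x : Matrix (Fin 2) (Fin 2) F) 1 1 -
        (x : Matrix (Fin 2) (Fin 2) F) 0 1 * (x : Matrix (Fin 2) (Fin 2) F) 1 0) ≠ 0 := by
  intro h
  apply hx ![(x : Matrix (Fin 2) (Fin 2) F) 0 1, l - (x : Matrix (Fin 2) (Fin 2) F) 0 0] l
  · intro h0
    have := congrFun h0 0
    simp at this
    exact nc2_witns5_entry_ne_zero hx this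
  · ext i
    fin_cases i
    · simp [Matrix.mulVec, dotProduct, Fin.sum_univ_two]
      ring
    · simp [Matrix.mulVec, dotProduct, Fin.sum_univ_two]
      linear_combination (-1 : F) * h

section fin

variable [Fintype F]

theorem nc2_witns5_five (hq : Fintype.card F = 5) : (5 : F) = 0 := by
  have := Nat.cast_card_eq_zero F
  rw [hq] at this
  exact_mod_cast this

theorem nc2_witns5_cases (hq : Fintype.card F = 5) (a : F) :
    a = 0 ∨ a = 1 ∨ a = 2 ∨ a = 3 ∨ a = 4 := by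
  let e := ZMod.ringEquivOfPrime F Nat.prime_five hq
  have hz : a = (((e.symm a).val : ℕ) : F) := by
    conv_lhs => rw [← e.apply_symm_apply a, ← ZMod.natCast_zmod_val (e.symm a), map_natCast]
  have hlt : (e.symm a).val < 5 := ZMod.val_lt _
  generalize (e.symm a).val = n at hz hlt
  interval_cases n <;> simp [hz]

end fin

/-- the algebraic core: `5 = 0`, `x 0 1 ≠ 0`, `c ≠ 0`, `c² Δ = 2`. -/
theorem nc2_witns5_main (h5 : (5 : F) = 0) (x : GL (Fin 2) F)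
    (hq0 : (x : Matrix (Fin 2) (Fin 2) F) 0 1 ≠ 0) (c : F) (hc0 : c ≠ 0)
    (hc : c ^ 2 * (((x : Matrix (Fin 2) (Fin 2) F) 0 0 + (x : Matrix (Fin 2) (Fin 2) F) 1 1) ^ 2 -
      4 * ((x : Matrix (Fin 2) (Fin 2) F) 0 0 * (x : Matrix (Fin 2) (Fin 2) F) 1 1 -
        (x : Matrix (Fin 2) (Fin 2) F) 0 1 * (x : Matrix (Fin 2) (Fin 2) F) 1 0)) = 2) :
    ∃ y : GL (Fin 2) F, y * x = x * y ∧ (y : Matrix (Fin 2) (Fin 2) F).det = 1 ∧
      ¬ IsScalar ((y : Matrix (Fin 2) (Fin 2) F) * (y : Matrix (Fin 2) (Fin 2) F)) ∧ y ^ 3 = 1 := by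
  obtain ⟨X, hX⟩ : ∃ X : Matrix (Fin 2) (Fin 2) F, X = (x : Matrix (Fin 2) (Fin 2) F) := ⟨_, rfl⟩
  rw [← hX] at hq0 hc
  obtain ⟨p, hp⟩ : ∃ p : F, p = X 0 0 := ⟨_, rfl⟩
  obtain ⟨q, hq⟩ : ∃ q : F, q = X 0 1 := ⟨_, rfl⟩
  obtain ⟨r, hr⟩ : ∃ r : F, r = X 1 0 := ⟨_, rfl⟩
  obtain ⟨s, hs⟩ : ∃ s : F, s = X 1 1 := ⟨_, rfl⟩
  rw [← hp, ← hq, ← hr, ← hs] at hc
  rw [← hq] at hq0
  obtain ⟨Y, hYdef⟩ : ∃ Y : Matrix (Fin 2) (Fin 2) F,
      Y = (2 * c * (p + s) + 2) • (1 : Matrix (Fin 2) (Fin 2) F) + c • X := ⟨_, rfl⟩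
  have hY : Y * Y + Y + 1 = 0 := by
    ext i j
    fin_cases i <;> fin_cases j
    · simp [hYdef, Matrix.mul_apply, Fin.sum_univ_two, Matrix.add_apply, Matrix.smul_apply,
        Matrix.one_apply, ← hp, ← hq, ← hr, ← hs]
      linear_combination (-1 : F) * hc + (c ^ 2 * (p + s) ^ 2 + 2 * c * (p + s) + 1 -
        c ^ 2 * (p * s - q * r) + c * (c * (p + s) + 1) * p) * h5
    · simp [hYdef, Matrix.mul_apply, Fin.sum_univ_two, Matrix.add_apply, Matrix.smul_apply,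
        Matrix.one_apply, ← hp, ← hq, ← hr, ← hs]
      linear_combination (c * q * (c * (p + s) + 1)) * h5
    · simp [hYdef, Matrix.mul_apply, Fin.sum_univ_two, Matrix.add_apply, Matrix.smul_apply,
        Matrix.one_apply, ← hp, ← hq, ← hr, ← hs]
      linear_combination (c * r * (c * (p + s) + 1)) * h5
    · simp [hYdef, Matrix.mul_apply, Fin.sum_univ_two, Matrix.add_apply, Matrix.smul_apply,
        Matrix.one_apply, ← hp, ← hq, ← hr, ← hs]
      linear_combination (-1 : F) * hc + (c ^ 2 * (p + s) ^ 2 + 2 * c * (p + s) + 1 -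
        c ^ 2 * (p * s - q * r) + c * (c * (p + s) + 1) * s) * h5
  have hYY : Y * Y = -Y - 1 := by
    have h := hY
    rw [add_assoc, add_eq_zero_iff_eq_neg] at h
    rw [h]
    abel
  have h1 : Y * (Y * Y) = 1 := by
    rw [hYY, mul_sub, mul_neg, mul_one, hYY]
    abel
  have h2 : Y * Y * Y = 1 := by rw [mul_assoc]; exact h1
  have hdet : Y.det = 1 := by
    rw [Matrix.det_fin_two]
    simp [hYdef, Matrix.add_apply, Matrix.smul_apply, Matrix.one_apply, ← hp, ← hq, ← hr, ← hs]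
    linear_combination hc + (c ^ 2 * (p + s) ^ 2 + c ^ 2 * (p * s - q * r) + 2 * c * (p + s) + 1) * h5
  have hcomm : Y * X = X * Y := by
    rw [hYdef]
    simp [add_mul, mul_add, smul_mul_assoc, mul_smul_comm]
  have hns : ¬ IsScalar (Y * Y) := by
    rintro ⟨k, hk⟩
    rw [hYY] at hk
    have h01 := congrFun (congrFun hk 0) 1
    simp [hYdef, Matrix.add_apply, Matrix.smul_apply, Matrix.one_apply, Matrix.sub_apply,
      Matrix.neg_apply, ← hq] at h01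
    rcases h01 with h01 | h01
    · exact hc0 h01
    · exact hq0 h01
  refine ⟨⟨Y, Y * Y, h1, h2⟩, ?_, hdet, hns, ?_⟩
  · apply Units.ext
    show Y * (x : Matrix (Fin 2) (Fin 2) F) = (x : Matrix (Fin 2) (Fin 2) F) * Y
    rw [← hX]
    exact hcomm
  · apply Units.ext
    show (Y ^ 3 : Matrix (Fin 2) (Fin 2) F) = 1
    rw [pow_three]
    exact h1

section fin

variable [Fintype F]

theorem exists_cube_root (hq : Fintype.card F = 5) {x : GL (Fin 2) F} (hx : NoEig x) :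
    ∃ y : GL (Fin 2) F, y * x = x * y ∧ (y : Matrix (Fin 2) (Fin 2) F).det = 1 ∧
      ¬ IsScalar ((y : Matrix (Fin 2) (Fin 2) F) * (y : Matrix (Fin 2) (Fin 2) F)) ∧ y ^ 3 = 1 := by
  have h5 := nc2_witns5_five hq
  have h2 : (2 : F) ≠ 0 := by
    intro h2
    have : (1 : F) = 0 := by linear_combination h5 - 2 * h2
    exact one_ne_zero this
  have hq0 := nc2_witns5_entry_ne_zero hx
  have hroot := nc2_witns5_no_root hx
  obtain ⟨c, hc0, hc⟩ : ∃ c : F, c ≠ 0 ∧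
      c ^ 2 * (((x : Matrix (Fin 2) (Fin 2) F) 0 0 + (x : Matrix (Fin 2) (Fin 2) F) 1 1) ^ 2 -
      4 * ((x : Matrix (Fin 2) (Fin 2) F) 0 0 * (x : Matrix (Fin 2) (Fin 2) F) 1 1 -
        (x : Matrix (Fin 2) (Fin 2) F) 0 1 * (x : Matrix (Fin 2) (Fin 2) F) 1 0)) = 2 := by
    rcases nc2_witns5_cases hq
      (((x : Matrix (Fin 2) (Fin 2) F) 0 0 + (x : Matrix (Fin 2) (Fin 2) F) 1 1) ^ 2 -
      4 * ((x : Matrix (Fin 2) (Fin 2) F) 0 0 * (x : Matrix (Fin 2) (Fin 2) F) 1 1 -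
        (x : Matrix (Fin 2) (Fin 2) F) 0 1 * (x : Matrix (Fin 2) (Fin 2) F) 1 0)) with h | h | h | h | h
    · exfalso
      apply hroot (3 * ((x : Matrix (Fin 2) (Fin 2) F) 0 0 + (x : Matrix (Fin 2) (Fin 2) F) 1 1))
      linear_combination h + (((x : Matrix (Fin 2) (Fin 2) F) 0 0 + (x : Matrix (Fin 2) (Fin 2) F) 1 1) ^ 2 +
        ((x : Matrix (Fin 2) (Fin 2) F) 0 0 * (x : Matrix (Fin 2) (Fin 2) F) 1 1 -
        (x : Matrix (Fin 2) (Fin 2) F) 0 1 * (x : Matrix (Fin 2) (Fin 2) F) 1 0)) * h5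
    · exfalso
      apply hroot (3 * ((x : Matrix (Fin 2) (Fin 2) F) 0 0 + (x : Matrix (Fin 2) (Fin 2) F) 1 1) + 2)
      linear_combination h + (((x : Matrix (Fin 2) (Fin 2) F) 0 0 + (x : Matrix (Fin 2) (Fin 2) F) 1 1) ^ 2 +
        ((x : Matrix (Fin 2) (Fin 2) F) 0 0 * (x : Matrix (Fin 2) (Fin 2) F) 1 1 -
        (x : Matrix (Fin 2) (Fin 2) F) 0 1 * (x : Matrix (Fin 2) (Fin 2) F) 1 0) +
        2 * ((x : Matrix (Fin 2) (Fin 2) F) 0 0 + (x : Matrix (Fin 2) (Fin 2) F) 1 1) + 1) * h5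
    · exact ⟨1, one_ne_zero, by rw [h]; ring⟩
    · exact ⟨2, h2, by rw [h]; linear_combination 2 * h5⟩
    · exfalso
      apply hroot (3 * ((x : Matrix (Fin 2) (Fin 2) F) 0 0 + (x : Matrix (Fin 2) (Fin 2) F) 1 1) + 1)
      linear_combination h + (((x : Matrix (Fin 2) (Fin 2) F) 0 0 + (x : Matrix (Fin 2) (Fin 2) F) 1 1) ^ 2 +
        ((x : Matrix (Fin 2) (Fin 2) F) 0 0 * (x : Matrix (Fin 2) (Fin 2) F) 1 1 -
        (x : Matrix (Fin 2) (Fin 2) F) 0 1 * (x : Matrix (Fin 2) (Fin 2) F) 1 0) +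
        ((x : Matrix (Fin 2) (Fin 2) F) 0 0 + (x : Matrix (Fin 2) (Fin 2) F) 1 1) + 1) * h5
  exact nc2_witns5_main h5 x hq0 c hc0 hc

end fin

end Cfsg.Agent.Lead.NC2
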