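import Mathlib
import Cfsg.Agent.Lib.Lead.NC2Defs
import Cfsg.Agent.Lib.Helper1.NC2CEN
import Cfsg.Agent.Lib.Helper22.NC2DISJ
import Cfsg.Agent.Lib.Helper25.NC2TI
import Cfsg.Agent.Lib.Helper28.NC2WITNS
import Cfsg.Agent.Lib.Helper4.NC2WITNS5

/-!
# S3894 (n = 2), piece N2-WITNSW (helper4): `exists_isWit_noEig`.
-/

set_option autoImplicit false

namespace Cfsg.Agent.Lead.NC2

open Matrix

variable {F : Type*} [Field F]

/-- a scalar matrix has a scalar square. -/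
theorem nc2_witnsw_sq_isScalar {m : Matrix (Fin 2) (Fin 2) F} (h : IsScalar m) : IsScalar (m * m) := by
  obtain ⟨c, rfl⟩ := h
  exact ⟨c * c, by simp [smul_smul]⟩

section fin

variable [Fintype F]

/-- packaging a `y` commuting with `x` into a witness of `T x`. -/
theorem nc2_witnsw_pack {x y : GL (Fin 2) F} (hx : NoEig x) (hyx : y * x = x * y)
    (hdet : (y : Matrix (Fin 2) (Fin 2) F).det = 1)
    (hns : ¬ IsScalar ((y : Matrix (Fin 2) (Fin 2) F) * (y : Matrix (Fin 2) (Fin 2) F)))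
    (h5 : Fintype.card F = 5 → UniType y ∨ y ^ 3 = 1) : IsWit (T x) (pr y) := by
  have hy : ¬ IsScalar (y : Matrix (Fin 2) (Fin 2) F) := fun h => hns (nc2_witnsw_sq_isScalar h)
  exact ⟨y, rfl, Or.inl hns, T_eq_of_commute (nc2_disj_not_isScalar hx) hy hyx,
    pr_mem_slImage_of_det hdet, h5⟩

theorem exists_isWit_noEig (hq : 4 ≤ Fintype.card F) {x : GL (Fin 2) F} (hx : NoEig x) :
    ∃ w : PGL2 F, IsWit (T x) w := by
  by_cases h5 : Fintype.card F = 5
  · obtain ⟨y, hyx, hdet, hns, hy3⟩ := exists_cube_root h5 hx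
    exact ⟨pr y, nc2_witnsw_pack hx hyx hdet hns (fun _ => Or.inr hy3)⟩
  · obtain ⟨y, hyx, hdet, hns⟩ := exists_pow_four_not_scalar hq hx
    exact ⟨pr y, nc2_witnsw_pack hx hyx hdet hns (fun h => absurd h h5)⟩

end fin

end Cfsg.Agent.Lead.NC2
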