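import Mathlib
import Cfsg.Agent.Lib.Lead.NC2Defs
import Cfsg.Agent.Lib.Helper3.NC2WITU
import Cfsg.Agent.Lib.Helper4.NC2WITNSW

/-!
# S3894 (n = 2), piece N2-WIT (helper4): `exists_isWit`.
-/

set_option autoImplicit false

namespace Cfsg.Agent.Lead.NC2

open Matrix

variable {F : Type*} [Field F]

section fin

variable [Fintype F]

theorem exists_isWit (hq : 4 ≤ Fintype.card F) {A : Subgroup (PGL2 F)}
    (hA : A ∈ (Iall : Set (Subgroup (PGL2 F)))) : ∃ w : PGL2 F, IsWit A w := by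
  rcases hA with ⟨N, hN, hN0, rfl⟩ | ⟨x, hx, rfl⟩
  · exact ⟨_, isWit_uni N hN hN0⟩
  · exact exists_isWit_noEig hq hx

end fin

end Cfsg.Agent.Lead.NC2
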