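import Mathlib
import Cfsg.Prelude

set_option autoImplicit false

namespace Cfsg.Agent.Helper4.NF

variable {F : Type*} [Cfsg.NearField F]

theorem add_mul' (a b c : F) : (a + b) * c = a * c + b * c := Cfsg.NearField.right_distrib a b c

theorem mul_zero' (a : F) : a * 0 = 0 := Cfsg.NearField.mul_zero a

theorem zero_mul' (c : F) : (0 : F) * c = 0 := by
  have h := add_mul' (0 : F) 0 c
  rw [add_zero] at h
  exact left_eq_add.1 h

theorem neg_mul' (a c : F) : (-a) * c = -(a * c) := by
  apply eq_neg_of_add_eq_zero_left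
  rw [← add_mul', neg_add_cancel, zero_mul']

theorem sub_mul' (a b c : F) : (a - b) * c = a * c - b * c := by
  rw [sub_eq_add_neg, add_mul', neg_mul', ← sub_eq_add_neg]

theorem nsmul_mul' (n : ℕ) (a c : F) : (n • a) * c = n • (a * c) := by
  induction n with
  | zero => rw [zero_nsmul, zero_nsmul, zero_mul']
  | succ k ih => rw [succ_nsmul, succ_nsmul, add_mul', ih]

theorem one_ne_zero' : (1 : F) ≠ 0 := fun h => Cfsg.NearField.zero_ne_one h.symm

theorem mul_ne_zero' {a b : F} (ha : a ≠ 0) (hb : b ≠ 0) : a * b ≠ 0 := by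
  intro h
  obtain ⟨b', hb1, _⟩ := Cfsg.NearField.exists_inv b hb
  apply ha
  have : a * b * b' = 0 := by rw [h, zero_mul']
  rwa [mul_assoc, hb1, mul_one] at this

theorem mul_right_cancel' {a b c : F} (hc : c ≠ 0) (h : a * c = b * c) : a = b := by
  obtain ⟨c', hc1, _⟩ := Cfsg.NearField.exists_inv c hc
  have := congrArg (· * c') h
  simpa [mul_assoc, hc1] using this

theorem mul_left_cancel' {a b c : F} (ha : a ≠ 0) (h : a * b = a * c) : b = c := by
  obtain ⟨a', _, ha2⟩ := Cfsg.NearField.exists_inv a ha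
  have := congrArg (a' * ·) h
  simpa [← mul_assoc, ha2] using this

theorem inv_ne_zero' {a b : F} (h : a * b = 1) : b ≠ 0 := by
  rintro rfl
  rw [mul_zero'] at h
  exact Cfsg.NearField.zero_ne_one h

end Cfsg.Agent.Helper4.NF
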