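import Mathlib
import Cfsg.Prelude.Def_PLocal
import Cfsg.Prelude.Def_Local
import Cfsg.Agent.Lib.Helper4.OffThompson

/-!
# Failure of Thompson factorization gives an `SL(2,p)`-section (helper4)
-/

set_option autoImplicit false
set_option linter.unusedSectionVars false
set_option linter.unusedVariables false
set_option linter.style.haveILetI false

namespace Cfsg.Agent.Helper4.HOL

open scoped commutatorElement
open Cfsg

variable {G : Type*} [Group G] [Finite G] {p : ℕ} [hp : Fact p.Prime]
  (V : Subgroup G) [hVn : V.Normal]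

/-- if `J(G)` does not centralize the normal elementary abelian subgroup `V` of the
`p`-solvable group `G` and `O_p(G/C_G(V)) = 1`, then `J(G) C_G(V) / C_G(V)` has a normal
subgroup isomorphic to `SL(2,p)` and `p ≤ 3` -/
theorem exists_sl2_section (hsep : IsPSolvable p G) (hV : IsElementaryAbelian p V)
    (hOp : pCore p (G ⧸ Subgroup.centralizer (V : Set G)) = ⊥)
    (hJ : ¬ thompsonSubgroup p G ≤ Subgroup.centralizer (V : Set G)) :
    (p = 2 ∨ p = 3) ∧ ∃ E : Subgroup G, Subgroup.centralizer (V : Set G) ≤ E ∧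
      E ≤ thompsonSubgroup p G ⊔ Subgroup.centralizer (V : Set G) ∧
      thompsonSubgroup p G ⊔ Subgroup.centralizer (V : Set G) ≤ Subgroup.normalizer (E : Set G) ∧
      ∃ hn : ((Subgroup.centralizer (V : Set G)).subgroupOf E).Normal,
        Nonempty ((↥E ⧸ (Subgroup.centralizer (V : Set G)).subgroupOf E) ≃*
          Matrix.SpecialLinearGroup (Fin 2) (ZMod p)) := by
  have hS := setting_thompson V hsep hV hOp hJ
  have hI := OG.inputs_of_setting hS
  obtain ⟨A', hA'⟩ := OG.exists_minoff hS hI
  refine ⟨OG.EE_p hS hI hA', ?_⟩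
  obtain ⟨E', hE'⟩ : ∃ E' : Subgroup (Hol V),
      E' = OG.EE p ((thompsonSubgroup p G).map (psi V)) A' := ⟨_, rfl⟩
  have hE'H : E' ≤ (thompsonSubgroup p G).map (psi V) := by
    rw [hE']; exact OG.EE_le hA'.1
  have hE'N : (thompsonSubgroup p G).map (psi V) ≤ Subgroup.normalizer (E' : Set (Hol V)) := by
    rw [hE']; exact OG.H_le_normalizer_EE hS hI hA'
  obtain ⟨φ⟩ : Nonempty (↥E' ≃* Matrix.SpecialLinearGroup (Fin 2) (ZMod p)) := by
    rw [hE']; exact OG.EE_iso hS hI hA'
  refine ⟨E'.comap (psi V), ?_, ?_, ?_, ?_⟩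
  · intro x hx
    rw [Subgroup.mem_comap, (psi_eq_one_iff V x).mpr hx]
    exact Subgroup.one_mem _
  · calc E'.comap (psi V) ≤ ((thompsonSubgroup p G).map (psi V)).comap (psi V) :=
        Subgroup.comap_mono hE'H
      _ = _ := comap_map_psi V _
  · intro g hg
    have hg' : psi V g ∈ (thompsonSubgroup p G).map (psi V) := by
      have h1 : g ∈ ((thompsonSubgroup p G).map (psi V)).comap (psi V) := by
        rw [comap_map_psi]; exact hg
      exact h1
    have h2 := hE'N hg'
    rw [Subgroup.mem_normalizer_iff] at h2 ⊢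
    intro x
    rw [Subgroup.mem_comap, Subgroup.mem_comap, map_mul, map_mul, map_inv]
    exact h2 (psi V x)
  · have hsurj : Function.Surjective ((psi V).subgroupComap E') := by
      rintro ⟨y, hy⟩
      obtain ⟨j, hj, rfl⟩ := hE'H hy
      exact ⟨⟨j, hy⟩, rfl⟩
    have hker : ((psi V).subgroupComap E').ker =
        (Subgroup.centralizer (V : Set G)).subgroupOf (E'.comap (psi V)) := by
      ext x
      rw [MonoidHom.mem_ker, Subgroup.mem_subgroupOf, ← psi_eq_one_iff]
      constructor
      · intro h
        exact congrArg Subtype.val h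
      · intro h
        exact Subtype.ext h
    have hn : ((Subgroup.centralizer (V : Set G)).subgroupOf (E'.comap (psi V))).Normal := by
      rw [← hker]; infer_instance
    refine ⟨hn, ⟨?_⟩⟩
    exact ((QuotientGroup.quotientMulEquivOfEq hker).symm.trans
      (QuotientGroup.quotientKerEquivOfSurjective _ hsurj)).trans φ

end Cfsg.Agent.Helper4.HOL
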