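import Mathlib
import Cfsg.Prelude.Def_PLocal
import Cfsg.Prelude.Def_Local
import Cfsg.Agent.Lib.Helper4.OffThompson
import Cfsg.Agent.Lib.Helper3.Thompson
import Cfsg.Agent.S0610

/-!
# `[Ω₁(Z(J(C_G(V)))), J(G)] ≤ V` in `p`-solvable groups (helper4)
-/

set_option autoImplicit false
set_option linter.unusedSectionVars false
set_option linter.unusedVariables false
set_option linter.style.haveILetI false

namespace Cfsg.Agent.Helper4.HOL

open scoped commutatorElement
open Cfsg

variable {G : Type*} [Group G] [Finite G] {p : ℕ} [hp : Fact p.Prime]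
  (V : Subgroup G) [hVn : V.Normal]

omit [Finite G] hp hVn in
/-- a largest elementary abelian subgroup inside `U` lies in `J(U)` -/
theorem le_thompsonSubgroupOf {A U : Subgroup G}
    (hA : A ∈ maxElementaryAbelianSubgroups p G) (hAU : A ≤ U) : A ≤ thompsonSubgroupOf p U := by
  have h1 : A.subgroupOf U ≤ thompsonSubgroup p ↥U :=
    Helper3.le_thompsonSubgroup (Helper3.subgroupOf_mem_max hA hAU)
  have h2 := Subgroup.map_mono (f := U.subtype) h1
  rwa [Subgroup.map_subgroupOf_eq_of_le hAU] at h2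

omit [Finite G] hp hVn in
theorem omegaOne_le (p : ℕ) (K : Subgroup G) : omegaOne p K ≤ K := by
  unfold omegaOne
  rw [Subgroup.closure_le]
  intro x hx
  exact hx.1

omit [Finite G] hp in
theorem le_centralizer_self (hV : IsElementaryAbelian p V) :
    V ≤ Subgroup.centralizer (V : Set G) := by
  intro v hv
  rw [Subgroup.mem_centralizer_iff]
  intro w hw
  exact Helper3.IsElementaryAbelian.commute hV hw hv

/-- the key step: a largest elementary abelian subgroup acting nontrivially on `V` -/
theorem comm_omega_le_of_not_le (hsep : IsPSolvable p G) (hV : IsElementaryAbelian p V)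
    (hOp : pCore p (G ⧸ Subgroup.centralizer (V : Set G)) = ⊥) {A : Subgroup G}
    (hA : A ∈ maxElementaryAbelianSubgroups p G)
    (hAC : ¬ A ≤ Subgroup.centralizer (V : Set G)) :
    ⁅omegaOne p (centerThompsonOf p (Subgroup.centralizer (V : Set G))), A⁆ ≤ V := by
  have hAJ : A ≤ thompsonSubgroup p G := Helper3.le_thompsonSubgroup hA
  have hJ : ¬ thompsonSubgroup p G ≤ Subgroup.centralizer (V : Set G) :=
    fun h => hAC (hAJ.trans h)
  have hS := setting_thompson V hsep hV hOp hJ
  have hA'1 : A.map (psi V) ≠ ⊥ := by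
    intro h
    apply hAC
    rw [← ker_psi V]
    intro x hx
    have : psi V x ∈ A.map (psi V) := ⟨x, hx, rfl⟩
    rw [h, Subgroup.mem_bot] at this
    exact this
  have h610 := Cfsg.Agent.S0610.result (VV V) ((thompsonSubgroup p G).map (psi V)) hS.hV hS.hHV
    hS.hf hS.hS1 hS.hS3 hS.hH1 (A.map (psi V)) (Subgroup.map_mono hAJ)
    (isBestOffenderOn_map V (Cfsg.Agent.S0606.result V hV A hA)) hA'1
  rw [card_centralizer_map, card_VV] at h610
  have e1 := card_map_psi V A
  -- (E1)
  have E1 : Nat.card ↥A * Nat.card ↥(V ⊓ Subgroup.centralizer (A : Set G)) =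
      Nat.card ↥V * Nat.card ↥(A ⊓ Subgroup.centralizer (V : Set G)) := by
    rw [← e1, ← h610]; ring
  obtain ⟨B, hB⟩ : ∃ B : Subgroup G, B = (A ⊓ Subgroup.centralizer (V : Set G)) ⊔ V := ⟨_, rfl⟩
  have hVC := le_centralizer_self V hV
  have hBel : IsElementaryAbelian p B := by
    rw [hB]
    apply Helper3.isElementaryAbelian_sup (Helper3.isElementaryAbelian_mono inf_le_left hA.1) hV
    rw [Subgroup.le_centralizer_iff]
    exact inf_le_right
  -- (E2)
  have E2 : Nat.card ↥B * Nat.card ↥((A ⊓ Subgroup.centralizer (V : Set G)) ⊓ V) =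
      Nat.card ↥V * Nat.card ↥(A ⊓ Subgroup.centralizer (V : Set G)) := by
    have r1 : V.relIndex B = V.relIndex (A ⊓ Subgroup.centralizer (V : Set G)) := by
      rw [hB]; exact Subgroup.relIndex_sup_right _ _
    have r2 : ((A ⊓ Subgroup.centralizer (V : Set G)) ⊓ V).relIndex
        (A ⊓ Subgroup.centralizer (V : Set G)) =
        V.relIndex (A ⊓ Subgroup.centralizer (V : Set G)) := Subgroup.inf_relIndex_left _ _
    have r3 : Nat.card ↥V * V.relIndex B = Nat.card ↥B := by
      have hVB : V ≤ B := by rw [hB]; exact le_sup_right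
      have := Subgroup.relIndex_mul_relIndex (⊥ : Subgroup G) V B bot_le hVB
      rwa [Subgroup.relIndex_bot_left, Subgroup.relIndex_bot_left] at this
    have r4 : Nat.card ↥((A ⊓ Subgroup.centralizer (V : Set G)) ⊓ V) *
        ((A ⊓ Subgroup.centralizer (V : Set G)) ⊓ V).relIndex
          (A ⊓ Subgroup.centralizer (V : Set G)) =
        Nat.card ↥(A ⊓ Subgroup.centralizer (V : Set G)) := by
      have := Subgroup.relIndex_mul_relIndex (⊥ : Subgroup G)
        ((A ⊓ Subgroup.centralizer (V : Set G)) ⊓ V) (A ⊓ Subgroup.centralizer (V : Set G))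
        bot_le inf_le_left
      rwa [Subgroup.relIndex_bot_left, Subgroup.relIndex_bot_left] at this
    rw [← r3, ← r4, r1, r2]; ring
  have hle : (A ⊓ Subgroup.centralizer (V : Set G)) ⊓ V ≤
      V ⊓ Subgroup.centralizer (A : Set G) := by
    intro x hx
    refine Subgroup.mem_inf.mpr ⟨hx.2, ?_⟩
    rw [Subgroup.mem_centralizer_iff]
    intro a ha
    exact Helper3.IsElementaryAbelian.commute hA.1 ha hx.1.1
  have hcardle : Nat.card ↥A ≤ Nat.card ↥B := by
    have h1 : Nat.card ↥((A ⊓ Subgroup.centralizer (V : Set G)) ⊓ V) ≤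
        Nat.card ↥(V ⊓ Subgroup.centralizer (A : Set G)) := Subgroup.card_le_of_le hle
    have hpos : 0 < Nat.card ↥(V ⊓ Subgroup.centralizer (A : Set G)) := Nat.card_pos
    have h2 : Nat.card ↥A * Nat.card ↥(V ⊓ Subgroup.centralizer (A : Set G)) ≤
        Nat.card ↥B * Nat.card ↥(V ⊓ Subgroup.centralizer (A : Set G)) := by
      rw [E1, ← E2]
      exact Nat.mul_le_mul_left _ h1
    exact Nat.le_of_mul_le_mul_right h2 hpos
  have hBmax : B ∈ maxElementaryAbelianSubgroups p G :=
    ⟨hBel, fun B' hB' => (hA.2 B' hB').trans hcardle⟩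
  have hBC : B ≤ Subgroup.centralizer (V : Set G) := by
    rw [hB]; exact sup_le inf_le_right hVC
  have hBJ := le_thompsonSubgroupOf hBmax hBC
  have hZB : omegaOne p (centerThompsonOf p (Subgroup.centralizer (V : Set G))) ≤ B := by
    unfold omegaOne
    rw [Subgroup.closure_le]
    intro x hx
    apply Helper3.mem_of_mem_centralizer_of_max hBmax hx.2
    have h1 : x ∈ Subgroup.centralizer
        ((thompsonSubgroupOf p (Subgroup.centralizer (V : Set G)) : Subgroup G) : Set G) :=
      hx.1.2
    exact Subgroup.centralizer_le hBJ h1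
  refine (Subgroup.commutator_mono hZB le_rfl).trans ?_
  rw [Subgroup.commutator_le]
  intro b hb a ha
  rw [hB] at hb
  obtain ⟨c, hc, v, hv, rfl⟩ := Subgroup.mem_sup_of_normal_right.mp hb
  have hca : c * a = a * c := Helper3.IsElementaryAbelian.commute hA.1 hc.1 ha
  have e : ⁅c * v, a⁆ = c * (v * (a * v⁻¹ * a⁻¹)) * c⁻¹ := by
    rw [commutatorElement_def]
    calc c * v * a * (c * v)⁻¹ * a⁻¹ = c * v * a * v⁻¹ * (c⁻¹ * a⁻¹) := by group
      _ = c * v * a * v⁻¹ * (a * c)⁻¹ := by group
      _ = c * v * a * v⁻¹ * (c * a)⁻¹ := by rw [hca]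
      _ = _ := by group
  rw [e]
  exact hVn.conj_mem _ (V.mul_mem hv (hVn.conj_mem _ (V.inv_mem hv) a)) c

/-- `[Ω₁(Z(J(C_G(V)))), J(G)] ≤ V` -/
theorem comm_omega_le (hsep : IsPSolvable p G) (hV : IsElementaryAbelian p V)
    (hOp : pCore p (G ⧸ Subgroup.centralizer (V : Set G)) = ⊥) :
    ⁅omegaOne p (centerThompsonOf p (Subgroup.centralizer (V : Set G))),
      thompsonSubgroup p G⁆ ≤ V := by
  have key : ∀ A ∈ maxElementaryAbelianSubgroups p G,
      ⁅omegaOne p (centerThompsonOf p (Subgroup.centralizer (V : Set G))), A⁆ ≤ V := by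
    intro A hA
    by_cases hAC : A ≤ Subgroup.centralizer (V : Set G)
    · have h1 := le_thompsonSubgroupOf hA hAC
      have h2 : omegaOne p (centerThompsonOf p (Subgroup.centralizer (V : Set G))) ≤
          Subgroup.centralizer (A : Set G) := by
        refine (omegaOne_le p _).trans ?_
        unfold centerThompsonOf
        exact inf_le_right.trans (Subgroup.centralizer_le h1)
      rw [Subgroup.commutator_eq_bot_iff_le_centralizer.mpr h2]
      exact bot_le
    · exact comm_omega_le_of_not_le V hsep hV hOp hA hAC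
  -- pass to the quotient by `V`
  have hJ : thompsonSubgroup p G ≤ (Subgroup.centralizer
      (((omegaOne p (centerThompsonOf p (Subgroup.centralizer (V : Set G)))).map
        (QuotientGroup.mk' V) : Subgroup (G ⧸ V)) : Set (G ⧸ V))).comap (QuotientGroup.mk' V) := by
    unfold thompsonSubgroup
    apply sSup_le
    intro A hA a ha
    rw [Subgroup.mem_comap, Subgroup.mem_centralizer_iff]
    rintro y ⟨z, hz, rfl⟩
    have h1 : ⁅z, a⁆ ∈ V := key A hA (Subgroup.commutator_mem_commutator hz ha)
    have h2 : (QuotientGroup.mk' V) ⁅z, a⁆ = 1 := (QuotientGroup.eq_one_iff _).mpr h1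
    rw [commutatorElement_def, map_mul, map_mul, map_mul, map_inv, map_inv] at h2
    calc (QuotientGroup.mk' V) z * (QuotientGroup.mk' V) a
        = ((QuotientGroup.mk' V) z * (QuotientGroup.mk' V) a * ((QuotientGroup.mk' V) z)⁻¹ *
          ((QuotientGroup.mk' V) a)⁻¹) * ((QuotientGroup.mk' V) a * (QuotientGroup.mk' V) z) := by
          group
      _ = (QuotientGroup.mk' V) a * (QuotientGroup.mk' V) z := by rw [h2, one_mul]
  rw [Subgroup.commutator_le]
  intro z hz j hj
  have h1 := hJ hj
  rw [Subgroup.mem_comap, Subgroup.mem_centralizer_iff] at h1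
  have h2 := h1 _ ⟨z, hz, rfl⟩
  rw [← QuotientGroup.eq_one_iff (N := V), commutatorElement_def]
  show (QuotientGroup.mk' V) (z * j * z⁻¹ * j⁻¹) = 1
  rw [map_mul, map_mul, map_mul, map_inv, map_inv, h2]
  group

end Cfsg.Agent.Helper4.HOL
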