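import Mathlib
import Cfsg.Prelude
import Cfsg.Agent.Lib.Helper4.SylOLoc
import Cfsg.Agent.Lib.Helper13.SdBN3
import Cfsg.Agent.Lib.Helper2.OrthFrames3

/-!
# S4613 piece PA-POPLUS (helper4), core: `NoPAut p (PΩ⁺_{2m}(q))`, `m ≥ 4`, from the abstract
`SylO` statements (taken as hypotheses at the concrete types).

The (B, N) data are those of `Helper13.SdBN.steinberg_POmegaPlus`.
-/

set_option autoImplicit false
set_option linter.unusedSectionVars false
set_option linter.unusedVariables false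

namespace Cfsg.Agent.Helper28.PA

open Matrix Cfsg Cfsg.Agent.Helper13.SuBN Cfsg.Agent.Helper13.BNAbs Cfsg.Agent.Helper13.SdP
  Cfsg.Agent.Helper13.SuP Cfsg.Agent.Helper13.SdBN Cfsg.Agent.Helper13.SylO
  Cfsg.Agent.Helper2.WordLen Cfsg.Agent.Helper2.BN Cfsg.Agent.Helper17.BNCox

/-- the split (B, N) data of type `D_m` -/
theorem poplus_data {F : Type*} [Field F] [Fintype F] (p : ℕ) [Fact p.Prime] [CharP F p]
    (m : ℕ) (hm2 : 2 ≤ m) :
    ∃ hloc : BNLoc (borQ (2 * m) F) (monE (2 * m) F) (Set.range (srD (2 * m) F)),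
      Nonempty (Data hloc.pair p) := by
  classical
  have hn : (2 * m) % 2 = 0 := by omega
  have h4 : 4 ≤ 2 * m := by omega
  have hloc := bnLocD (F := F) hn h4
  obtain ⟨N0, hN0E, hN0⟩ := exists_n0D (F := F) hn h4
  have hfin : Finite (WSU (2 * m) (RingHom.id F)) := finite_WSU
  refine ⟨hloc, ⟨sylo_dataLoc hloc p (XS (2 * m) F) (YS (2 * m) F) ?_ ?_ ?_ N0 hN0E ?_
    (tor (2 * m) (RingHom.id F)) tor_le_borQ (mem_tor_iff_conjD hn h4 hN0 hN0E.1)
    (unipQ (2 * m) F) unipQ_le_borQ ?_ ?_ card_borQ (not_dvd_card_tor p) ?_ ?_⟩⟩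
  · intro s hs
    obtain ⟨i, rfl, hX, hY⟩ := XS_YS hn h4 s hs
    rw [hX, hY]
    exact rankOne_D hn h4 i
  · intro s hs y hy
    obtain ⟨i, rfl, hX, hY⟩ := XS_YS hn h4 s hs
    rw [hY] at hy
    exact YD_mem_sup hn h4 i y hy
  · intro s hs
    obtain ⟨i, rfl, hX, hY⟩ := XS_YS hn h4 s hs
    rw [hX]
    refine ⟨_, ⟨1, rfl⟩, ?_⟩
    intro e
    have h1 := conj_XD_not_mem (F := F) hn h4 i
    rw [e, mul_one, mul_inv_cancel] at h1
    exact h1 (Subgroup.one_mem _)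
  · intro s hs y hy
    obtain ⟨i, rfl, hX, hY⟩ := XS_YS hn h4 s hs
    rw [hY] at hy
    refine ⟨conj_YD_mem_bor hn h4 hN0 i y hy, ?_⟩
    obtain ⟨hab, hab', ha, hbb, hlt⟩ := abD hn h4 i
    obtain ⟨t, rfl⟩ := hy
    exact (soq (2 * m) F).mul_mem ((soq (2 * m) F).mul_mem ((soq (2 * m) F).inv_mem hN0E.1)
      (Tm_mem_soq hab.symm (ne_rev_symm hab') hbb ha hn t)) hN0E.1
  · intro b hb u hu
    exact conj_mem_unipQ hb hu
  · exact (unip_isPGroup (n := 2 * m) (F := F) (φ := RingHom.id F) p).to_le inf_le_left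
  · exact ⟨_, ⟨⟨0, by omega⟩, rfl⟩⟩
  · rintro _ ⟨i, rfl⟩
    refine ⟨_, XD_mem (F := F) hn h4 i 1, ?_⟩
    intro hcon
    exact conj_XD_not_mem (F := F) hn h4 i hcon.1

/-- core of PA-POPLUS: the abstract `SylO` statements are hypotheses -/
theorem poplus_core {F : Type*} [Field F] [Fintype F] (p : ℕ) [Fact p.Prime] [CharP F p]
    (m : ℕ) (hm : 4 ≤ m)
    (h_data : ∀ hloc : BNLoc (borQ (2 * m) F) (monE (2 * m) F) (Set.range (srD (2 * m) F)),
      Data hloc.pair p → SylOpp p ↥(borQ (2 * m) F ⊔ monE (2 * m) F))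
    (h_sub : ∀ K : Subgroup ↥(borQ (2 * m) F ⊔ monE (2 * m) F), K.Normal → ¬ p ∣ K.index →
      SylOpp p ↥(borQ (2 * m) F ⊔ monE (2 * m) F) → SylOpp p ↥K)
    (h_quot1 : ∀ (K : Subgroup ↥(borQ (2 * m) F ⊔ monE (2 * m) F))
      (f : ↥K →* ↥(Cfsg.Omega F (Cfsg.quadFormPlus m F))), Function.Surjective f →
      f.ker ≤ Subgroup.center ↥K → SylOpp p ↥K →
      SylOpp p ↥(Cfsg.Omega F (Cfsg.quadFormPlus m F)))
    (h_quot2 : ∀ f : ↥(Cfsg.Omega F (Cfsg.quadFormPlus m F)) →*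
        Cfsg.POmega F (Cfsg.quadFormPlus m F), Function.Surjective f →
      f.ker ≤ Subgroup.center ↥(Cfsg.Omega F (Cfsg.quadFormPlus m F)) →
      SylOpp p ↥(Cfsg.Omega F (Cfsg.quadFormPlus m F)) →
      SylOpp p (Cfsg.POmega F (Cfsg.quadFormPlus m F)))
    (h_T : SylOpp p (Cfsg.POmega F (Cfsg.quadFormPlus m F)) →
      NoPAut p (Cfsg.POmega F (Cfsg.quadFormPlus m F))) :
    NoPAut p (Cfsg.POmega F (Cfsg.quadFormPlus m F)) := by
  classical
  have hm2 : 2 ≤ m := by omega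
  have hex : Fintype.card F ≠ 2 ∨ m ≠ 2 := Or.inr (by omega)
  obtain ⟨hloc, ⟨D⟩⟩ := poplus_data (F := F) p m hm2
  have hfin : Finite (WSU (2 * m) (RingHom.id F)) := finite_WSU
  have hHle : borQ (2 * m) F ⊔ monE (2 * m) F ≤ soq (2 * m) F := sup_le borQ_le_soq monE_le_soq
  obtain ⟨j, hjinj, hjent, hjdet⟩ := exists_hom_plus (F := F) m
  have hΩ := Omega_le_map m hm2 hex j hjent hjdet
  have hidx := not_dvd_index p m hm2 hex hloc j hjinj hjent hΩ
  let jH : ↥(borQ (2 * m) F ⊔ monE (2 * m) F) →* Cfsg.isometryGroup F (Cfsg.quadFormPlus m F) :=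
    j.comp (Subgroup.inclusion hHle)
  have hjHinj : Function.Injective jH := hjinj.comp (Subgroup.inclusion_injective hHle)
  have hrange : jH.range =
      ((borQ (2 * m) F ⊔ monE (2 * m) F).subgroupOf (soq (2 * m) F)).map j := by
    rw [MonoidHom.range_comp, Subgroup.inclusion_range]
  have hΩ' : Cfsg.Omega F (Cfsg.quadFormPlus m F) ≤ jH.range := by
    rw [hrange]; exact hΩ
  have hidx' : ¬ p ∣ ((Cfsg.Omega F (Cfsg.quadFormPlus m F)).comap jH).index := by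
    rw [Subgroup.index_comap, hrange]
    exact hidx
  have hnormal : ((Cfsg.Omega F (Cfsg.quadFormPlus m F)).comap jH).Normal := inferInstance
  exact sylo_chain p jH hjHinj (Cfsg.Omega F (Cfsg.quadFormPlus m F)) hΩ' (h_data hloc D)
    (h_sub _ hnormal hidx') (h_quot1 _) h_quot2 h_T

end Cfsg.Agent.Helper28.PA
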