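import Mathlib
import Cfsg.Prelude
import Cfsg.Agent.Lib.Helper4.PAPOPLUSCore
import Cfsg.Agent.Lib.Helper4.SylOData
import Cfsg.Agent.Lib.Helper6.SYLOSUB
import Cfsg.Agent.Lib.Helper22.SylOQUOT
import Cfsg.Agent.Lib.Helper10.SylOT
import Cfsg.Agent.S0296

/-!
# S4613 piece PA-POPLUS (helper4): `NoPAut p (PΩ⁺_{2m}(q))`, `m ≥ 4`
-/

set_option autoImplicit false

namespace Cfsg.Agent.Helper28.PA

open Cfsg Cfsg.Lie Cfsg.Agent.Helper13.SylO

section families
variable {F : Type*} [Field F] [Fintype F] (p : ℕ) [Fact p.Prime] [CharP F p]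

/-- FAMILY PA-POPLUS -/
theorem noPAut_POmegaPlus (m : ℕ) (hm : 4 ≤ m) :
    NoPAut p (POmega F (quadFormPlus m F)) := by
  classical
  have hs : IsSimpleGroup (POmega F (quadFormPlus m F)) := Cfsg.Agent.S0296.result m hm
  have hfin : Finite (Cfsg.Agent.Helper13.SuBN.WSU (2 * m) (RingHom.id F)) :=
    Cfsg.Agent.Helper13.SuBN.finite_WSU
  have hfinΩ : Finite ↥(Cfsg.Omega F (Cfsg.quadFormPlus m F)) := inferInstance
  exact poplus_core p m hm (fun hloc D => sylo_h4_of_data D)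
    (fun K hK hidx h => @SylOpp.of_normal _ _ _ p _ K hK hidx h)
    (fun K f hf hk h => SylOpp.of_surjective p f hf hk h)
    (fun f hf hk h => SylOpp.of_surjective p f hf hk h)
    (fun h => noPAut_of_sylOpp p h)

end families

end Cfsg.Agent.Helper28.PA
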