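import Mathlib
import Cfsg.Prelude.Def_ClassicalGeometry

set_option autoImplicit false

namespace Cfsg.Agent.Helper4

open Matrix

theorem polarVec_dot {ι : Type} [Fintype ι] [DecidableEq ι] {F : Type*} [CommRing F]
    (Q : QuadraticForm F (ι → F)) (v x : ι → F) :
    Cfsg.polarVec (⇑Q) v ⬝ᵥ x = QuadraticMap.polar (⇑Q) v x := by
  have h : QuadraticMap.polar (⇑Q) v x = QuadraticMap.polarBilin Q v x := rfl
  rw [h, LinearMap.pi_apply_eq_sum_univ (QuadraticMap.polarBilin Q v) x]
  simp only [dotProduct, Cfsg.polarVec, smul_eq_mul]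
  apply Finset.sum_congr rfl
  intro i _
  rw [mul_comm]
  congr 2
  ext j
  simp [Pi.single_apply, eq_comm]

theorem vecMulVec_mulVec_comm {ι : Type} [Fintype ι] {F : Type*} [CommRing F] (u w x : ι → F) :
    Matrix.vecMulVec u w *ᵥ x = (w ⬝ᵥ x) • u := by
  ext i
  simp only [Matrix.mulVec, dotProduct, Matrix.vecMulVec_apply, Pi.smul_apply, smul_eq_mul,
    Finset.sum_mul]
  apply Finset.sum_congr rfl
  intro j _
  ring

theorem det_one_add_smul_vecMulVec {ι : Type} [Fintype ι] [DecidableEq ι] {F : Type*} [CommRing F]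
    (c : F) (u w : ι → F) :
    (1 + c • Matrix.vecMulVec u w).det = 1 + c * (w ⬝ᵥ u) := by
  rw [← Matrix.smul_vecMulVec, Matrix.vecMulVec_eq Unit, Matrix.det_one_add_replicateCol_mul_replicateRow,
    dotProduct_smul, smul_eq_mul]

end Cfsg.Agent.Helper4
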