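import Mathlib
import Cfsg.Agent.Lib.Helper12.SL2Quat
import Cfsg.Agent.Lib.Helper4.RedSylA

set_option autoImplicit false

namespace Cfsg.Agent.Helper4.RedSyl

open Cfsg.Agent.Helper12

variable {F : Type*} [Field F]

theorem negOneSL_eq_one_of_two (h2 : (2 : F) = 0) :
    (negOneSL : Matrix.SpecialLinearGroup (Fin 2) F) = 1 := by
  apply Subtype.ext
  rw [negOneSL_coe, Matrix.SpecialLinearGroup.coe_one]
  have : (-1 : F) = 1 := by linear_combination (-1 : F) * h2
  ext i j
  fin_cases i <;> fin_cases j <;> simp [this]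

theorem not_scalar_of_p {p : ℕ} [Fact p.Prime] (hp : p ≠ 2 ∨ (2 : F) = 0)
    (z : Matrix.SpecialLinearGroup (Fin 2) F) (hz1 : z ≠ 1) (k : ℕ) (hzk : z ^ (p ^ k) = 1) :
    ¬ IsScalar2 (z : Matrix (Fin 2) (Fin 2) F) := by
  intro hs
  rcases (isScalar2_iff_eq z).1 hs with h | h
  · exact hz1 h
  · rcases hp with hp | h2
    · apply hz1
      have hpp : p.Prime := Fact.out
      have hcop : Nat.Coprime (p ^ k) 2 :=
        Nat.Coprime.pow_left k ((Nat.coprime_primes hpp Nat.prime_two).2 hp)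
      apply eq_one_of_pow_coprime z _ _ hzk _ hcop
      rw [pow_two, h, negOneSL_mul_self]
    · apply hz1
      rw [h, negOneSL_eq_one_of_two h2]

variable [Fintype F]

/-- for `p` odd or in characteristic two, every Sylow `p`-subgroup of `SL₂` contains a
`p`-element lying in no other Sylow `p`-subgroup -/
theorem unique_sylow_of_central {p : ℕ} [Fact p.Prime] (hp : p ≠ 2 ∨ (2 : F) = 0)
    (Q : Sylow p (Matrix.SpecialLinearGroup (Fin 2) F)) :
    ∃ x ∈ Q, (∃ k : ℕ, orderOf x = p ^ k) ∧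
      ∀ P : Sylow p (Matrix.SpecialLinearGroup (Fin 2) F), x ∈ P → P = Q := by
  classical
  by_cases hQ : (Q : Subgroup (Matrix.SpecialLinearGroup (Fin 2) F)) = ⊥
  · refine ⟨1, one_mem _, ⟨0, by simp⟩, ?_⟩
    intro P _
    exact sylow_eq_of_bot P Q hQ
  · obtain ⟨z, hzQ, hz1, hzc, k, hzk⟩ := exists_central_of_ne_bot
      (Q : Subgroup (Matrix.SpecialLinearGroup (Fin 2) F)) Q.isPGroup' hQ
    have hzns := not_scalar_of_p hp z hz1 k hzk
    refine ⟨z, hzQ, exists_orderOf_eq_of_pow z k hzk, ?_⟩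
    intro P hzP
    have hP : (P : Subgroup (Matrix.SpecialLinearGroup (Fin 2) F)) ≠ ⊥ := by
      intro h
      apply hz1
      have : z ∈ (P : Subgroup (Matrix.SpecialLinearGroup (Fin 2) F)) := hzP
      rw [h, Subgroup.mem_bot] at this
      exact this
    obtain ⟨z', hz'P, hz'1, hz'c, k', hz'k⟩ := exists_central_of_ne_bot
      (P : Subgroup (Matrix.SpecialLinearGroup (Fin 2) F)) P.isPGroup' hP
    have hz'ns := not_scalar_of_p hp z' hz'1 k' hz'k
    -- `P` is commutative
    have hPT' : ∀ x ∈ P, x ∈ torus z' := by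
      intro x hx
      rw [mem_torus_iff]
      exact hz'c x hx
    have hPT : ∀ x ∈ P, x ∈ torus z := by
      intro x hx
      rw [mem_torus_iff]
      exact torus_comm z' hz'ns z x (hPT' z hzP) (hPT' x hx)
    have hQT : ∀ x ∈ Q, x ∈ torus z := by
      intro x hx
      rw [mem_torus_iff]
      exact hzc x hx
    apply sylow_eq_of_commute
    intro x hx y hy
    exact torus_comm z hzns x y (hPT x hx) (hQT y hy)

variable [DecidableEq F]

/-- a Sylow `2`-subgroup attached to a torus of `2`-power order contains an element lying in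
no other Sylow `2`-subgroup -/
theorem unique_sylow_of_two_pow (hodd : Odd (Fintype.card F))
    (Q : Sylow 2 (Matrix.SpecialLinearGroup (Fin 2) F))
    (c : Matrix.SpecialLinearGroup (Fin 2) F)
    (h : QuatData (Q : Subgroup (Matrix.SpecialLinearGroup (Fin 2) F)) c) (k : ℕ)
    (hk : Nat.card (torus c) = 2 ^ k) :
    ∃ x ∈ Q, (∃ k : ℕ, orderOf x = 2 ^ k) ∧
      ∀ P : Sylow 2 (Matrix.SpecialLinearGroup (Fin 2) F), x ∈ P → P = Q := by
  have hF : ringChar F ≠ 2 := by
    intro h
    have := FiniteField.even_card_of_char_two h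
    rw [Nat.odd_iff] at hodd
    omega
  have h2 : (2 : F) ≠ 0 := Ring.two_ne_zero hF
  have htr := trace_sq_ne_of_sq h2 h.sq
  obtain ⟨hr, hcyc, -⟩ := regular_of_trace_sq_ne hF c htr
  obtain ⟨t, ht⟩ := hcyc.exists_generator
  have hcardK : Nat.card ((Q : Subgroup (Matrix.SpecialLinearGroup (Fin 2) F)) ⊓ torus c :
      Subgroup (Matrix.SpecialLinearGroup (Fin 2) F)) = Nat.card (torus c) := by
    rw [h.cardT, hk, Nat.Prime.factorization_pow Nat.prime_two]
    simp
  have hKT : ((Q : Subgroup (Matrix.SpecialLinearGroup (Fin 2) F)) ⊓ torus c :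
      Subgroup (Matrix.SpecialLinearGroup (Fin 2) F)) = torus c :=
    Subgroup.eq_of_le_of_card_ge inf_le_right (le_of_eq hcardK.symm)
  have hTQ : torus c ≤ (Q : Subgroup (Matrix.SpecialLinearGroup (Fin 2) F)) := by
    rw [← hKT]
    exact inf_le_left
  have hcardQ : Nat.card (Q : Subgroup (Matrix.SpecialLinearGroup (Fin 2) F)) =
      2 * Nat.card (torus c) := by
    rw [h.card, hcardK]
  have hord : orderOf (t : Matrix.SpecialLinearGroup (Fin 2) F) = 2 ^ k := by
    rw [Subgroup.orderOf_coe, orderOf_eq_card_of_forall_mem_zpowers ht, hk]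
  refine ⟨(t : Matrix.SpecialLinearGroup (Fin 2) F), hTQ t.2, ⟨k, hord⟩, ?_⟩
  intro P htP
  have hTP : torus c ≤ (P : Subgroup (Matrix.SpecialLinearGroup (Fin 2) F)) := by
    intro y hy
    obtain ⟨n, hn⟩ := Subgroup.mem_zpowers_iff.1 (ht ⟨y, hy⟩)
    have hn' := congrArg Subtype.val hn
    rw [Subgroup.coe_zpow] at hn'
    change (t : Matrix.SpecialLinearGroup (Fin 2) F) ^ n = y at hn'
    rw [← hn']
    exact Subgroup.zpow_mem _ htP n
  have hcardPQ : Nat.card (P : Subgroup (Matrix.SpecialLinearGroup (Fin 2) F)) =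
      Nat.card (Q : Subgroup (Matrix.SpecialLinearGroup (Fin 2) F)) := by
    rw [P.card_eq_multiplicity, Q.card_eq_multiplicity]
  have hPN := le_normalizer_of_card_eq_two_mul (torus c)
    (P : Subgroup (Matrix.SpecialLinearGroup (Fin 2) F)) hTP (by rw [hcardPQ, hcardQ])
  have hQN : (Q : Subgroup (Matrix.SpecialLinearGroup (Fin 2) F)) =
      Subgroup.normalizer ((torus c : Subgroup (Matrix.SpecialLinearGroup (Fin 2) F)) :
        Set (Matrix.SpecialLinearGroup (Fin 2) F)) := by
    apply Subgroup.eq_of_le_of_card_ge h.le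
    rw [card_normalizer_torus hF hr htr, hcardQ]
  rw [← hQN] at hPN
  apply Sylow.ext
  exact Subgroup.eq_of_le_of_card_ge hPN (le_of_eq hcardPQ.symm)

/-- when the torus is not a `2`-group, its `2`-elements lie in two distinct Sylow subgroups -/
theorem two_sylows (hodd : Odd (Fintype.card F))
    (Q : Sylow 2 (Matrix.SpecialLinearGroup (Fin 2) F))
    (c : Matrix.SpecialLinearGroup (Fin 2) F)
    (h : QuatData (Q : Subgroup (Matrix.SpecialLinearGroup (Fin 2) F)) c)
    (hnp : ∀ k : ℕ, Nat.card (torus c) ≠ 2 ^ k) :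
    ∃ t : Matrix.SpecialLinearGroup (Fin 2) F, t • Q ≠ Q ∧
      ∀ x ∈ torus c, ∀ k : ℕ, x ^ (2 ^ k) = 1 → x ∈ Q ∧ x ∈ t • Q := by
  have hF : ringChar F ≠ 2 := by
    intro h
    have := FiniteField.even_card_of_char_two h
    rw [Nat.odd_iff] at hodd
    omega
  have h2 : (2 : F) ≠ 0 := Ring.two_ne_zero hF
  have htr := trace_sq_ne_of_sq h2 h.sq
  obtain ⟨hr, hcyc, -⟩ := regular_of_trace_sq_ne hF c htr
  obtain ⟨t, ht⟩ := hcyc.exists_generator
  have htT : (t : Matrix.SpecialLinearGroup (Fin 2) F) ∈ torus c := t.2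
  have htQ : (t : Matrix.SpecialLinearGroup (Fin 2) F) ∉
      (Q : Subgroup (Matrix.SpecialLinearGroup (Fin 2) F)) := by
    intro htQ
    have hTQ : torus c ≤ (Q : Subgroup (Matrix.SpecialLinearGroup (Fin 2) F)) := by
      intro y hy
      obtain ⟨n, hn⟩ := Subgroup.mem_zpowers_iff.1 (ht ⟨y, hy⟩)
      have hn' := congrArg Subtype.val hn
      rw [Subgroup.coe_zpow] at hn'
      change (t : Matrix.SpecialLinearGroup (Fin 2) F) ^ n = y at hn'
      rw [← hn']
      exact Subgroup.zpow_mem _ htQ n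
    have hdvd := Subgroup.card_dvd_of_le hTQ
    rw [Q.card_eq_multiplicity] at hdvd
    obtain ⟨j, -, hj⟩ := (Nat.dvd_prime_pow Nat.prime_two).1 hdvd
    exact hnp j hj
  have htN : (t : Matrix.SpecialLinearGroup (Fin 2) F) ∉ Subgroup.normalizer
      ((Q : Subgroup (Matrix.SpecialLinearGroup (Fin 2) F)) :
        Set (Matrix.SpecialLinearGroup (Fin 2) F)) := by
    intro hN
    exact htQ (h.mem_of_mem_torus hF _ htT hN)
  refine ⟨(t : Matrix.SpecialLinearGroup (Fin 2) F), ?_, ?_⟩
  · intro heq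
    exact htN (Sylow.smul_eq_iff_mem_normalizer.1 heq)
  · intro x hxT k hxk
    have hxQ : x ∈ ((Q : Subgroup (Matrix.SpecialLinearGroup (Fin 2) F)) ⊓ torus c :
        Subgroup (Matrix.SpecialLinearGroup (Fin 2) F)) := by
      apply mem_of_pow_card_eq_one' (torus c) _ hcyc inf_le_right x hxT
      rw [h.cardT]
      have h7 : x ^ Nat.card (torus c) = 1 := by
        have h7 : (⟨x, hxT⟩ : torus c) ^ Nat.card (torus c) = 1 := pow_card_eq_one'
        have h8 := congrArg Subtype.val h7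
        rw [Subgroup.coe_pow] at h8
        exact h8
      have h8 := pow_gcd_eq_one.2 ⟨hxk, h7⟩
      have hg : Nat.gcd (2 ^ k) (Nat.card (torus c)) ∣ 2 ^ (Nat.card (torus c)).factorization 2 := by
        obtain ⟨j, -, hj⟩ := (Nat.dvd_prime_pow Nat.prime_two).1
          (Nat.gcd_dvd_left (2 ^ k) (Nat.card (torus c)))
        rw [hj]
        apply pow_dvd_pow
        apply (Nat.Prime.pow_dvd_iff_le_factorization Nat.prime_two Nat.card_pos.ne').1
        rw [← hj]
        exact Nat.gcd_dvd_right _ _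
      obtain ⟨m, hm⟩ := hg
      rw [hm, pow_mul, h8, one_pow]
    refine ⟨hxQ.1, ?_⟩
    rw [mem_smul_sylow_iff]
    have hcomm : x * (t : Matrix.SpecialLinearGroup (Fin 2) F) = t * x :=
      torus_comm c hr.ns x t hxT htT
    rw [mul_assoc, hcomm, ← mul_assoc, inv_mul_cancel, one_mul]
    exact hxQ.1

end Cfsg.Agent.Helper4.RedSyl
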