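import Mathlib
import Cfsg.Agent.Lib.Helper12.SL2Quat
import Cfsg.Agent.Lib.Helper12.SL2Half
import Cfsg.Agent.Lib.Helper4.RedSylB

set_option autoImplicit false

namespace Cfsg.Agent.Helper4.RedSyl

open Cfsg.Agent.Helper12

variable {F : Type*} [Field F] [Fintype F] [DecidableEq F]

/-- every `2`-element of `SL₂(q)`, `q` odd, is conjugate into a given torus of order
divisible by four -/
theorem exists_conj_mem_torus_of_two (hF : ringChar F ≠ 2)
    (c : Matrix.SpecialLinearGroup (Fin 2) F) (hc : c * c = negOneSL)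
    (x : Matrix.SpecialLinearGroup (Fin 2) F) (k : ℕ) (hx : orderOf x = 2 ^ k) :
    ∃ y : Matrix.SpecialLinearGroup (Fin 2) F, y⁻¹ * x * y ∈ torus c := by
  have h2 : (2 : F) ≠ 0 := Ring.two_ne_zero hF
  by_cases hk : k < 2
  · refine ⟨1, ?_⟩
    rw [inv_one, one_mul, mul_one]
    have hxx : x * x = 1 := by
      rw [← pow_two]
      apply orderOf_dvd_iff_pow_eq_one.1
      rw [hx]
      have : k = 0 ∨ k = 1 := by omega
      rcases this with rfl | rfl <;> norm_num
    rcases SL2_sq_eq_one h2 x hxx with h | h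
    · rw [h]; exact one_mem _
    · rw [h]; exact negOneSL_mem_torus c
  · push Not at hk
    obtain ⟨j, rfl⟩ : ∃ j, k = j + 2 := ⟨k - 2, by omega⟩
    set c' := x ^ (2 ^ j) with hc'
    have hww : (c' * c') * (c' * c') = 1 := by
      rw [hc', ← pow_add, ← pow_add, ← two_mul, ← two_mul, ← mul_assoc]
      have : 2 * 2 * 2 ^ j = 2 ^ (j + 2) := by ring
      rw [this, ← hx]
      exact pow_orderOf_eq_one x
    have hw1 : c' * c' ≠ 1 := by
      intro h1
      rw [hc', ← pow_add, ← two_mul] at h1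
      have hdvd := orderOf_dvd_of_pow_eq_one h1
      rw [hx] at hdvd
      have : 2 * 2 ^ j = 2 ^ (j + 1) := by ring
      rw [this] at hdvd
      have := (Nat.pow_dvd_pow_iff_le_right (by norm_num : 1 < 2)).1 hdvd
      omega
    have hcc' : c' * c' = negOneSL := (SL2_sq_eq_one h2 _ hww).resolve_left hw1
    have htr : (c : Matrix (Fin 2) (Fin 2) F).trace = (c' : Matrix (Fin 2) (Fin 2) F).trace := by
      rw [trace_eq_zero_of_sq h2 hc, trace_eq_zero_of_sq h2 hcc']
    obtain ⟨y, hy⟩ := isConj_iff.1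
      (SL2_isConj_of_trace_sq_ne hF c c' (trace_sq_ne_of_sq h2 hc) htr)
    refine ⟨y, ?_⟩
    rw [mem_torus_iff]
    have hcomm : c' * x = x * c' := by
      rw [hc', ← pow_succ, ← pow_succ']
    have hc_eq : c = y⁻¹ * c' * y := by
      rw [← hy]; group
    rw [hc_eq]
    have e1 : y⁻¹ * c' * y * (y⁻¹ * x * y) = y⁻¹ * (c' * x) * y := by group
    have e2 : y⁻¹ * x * y * (y⁻¹ * c' * y) = y⁻¹ * (x * c') * y := by group
    rw [e1, e2, hcomm]

/-- the redundancy of every Sylow `2`-subgroup -/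
theorem redundant_two (hodd : Odd (Fintype.card F))
    (hnp1 : ∀ k : ℕ, Fintype.card F + 1 ≠ 2 ^ k) (hnp2 : ∀ k : ℕ, Fintype.card F ≠ 2 ^ k + 1)
    (Q : Sylow 2 (Matrix.SpecialLinearGroup (Fin 2) F))
    (x : Matrix.SpecialLinearGroup (Fin 2) F) (k : ℕ) (hx : orderOf x = 2 ^ k) :
    ∃ P : Sylow 2 (Matrix.SpecialLinearGroup (Fin 2) F), P ≠ Q ∧ x ∈ P := by
  have hF : ringChar F ≠ 2 := by
    intro h
    have := FiniteField.even_card_of_char_two h
    rw [Nat.odd_iff] at hodd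
    omega
  have h2 : (2 : F) ≠ 0 := Ring.two_ne_zero hF
  obtain ⟨c, h⟩ := exists_quatData hodd Q
  have htr := trace_sq_ne_of_sq h2 h.sq
  obtain ⟨hr, hcyc, hcard⟩ := regular_of_trace_sq_ne hF c htr
  have hqpos : 2 ≤ Fintype.card F := Fintype.one_lt_card
  have hnp : ∀ k : ℕ, Nat.card (torus c) ≠ 2 ^ k := by
    intro k hk
    rcases hcard with h1 | h1
    · apply hnp2 k
      rw [← hk, h1]
      omega
    · apply hnp1 k
      rw [← hk, h1]
  obtain ⟨t, htQ, hall⟩ := two_sylows hodd Q c h hnp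
  obtain ⟨y, hy⟩ := exists_conj_mem_torus_of_two hF c h.sq x k hx
  have hpow : (y⁻¹ * x * y) ^ (2 ^ k) = 1 := by
    have : (y⁻¹ * x * y) ^ (2 ^ k) = y⁻¹ * x ^ (2 ^ k) * y := by
      have := conj_pow (a := y⁻¹) (b := x) (i := 2 ^ k)
      rw [inv_inv] at this
      exact this
    rw [this, ← hx, pow_orderOf_eq_one, mul_one, inv_mul_cancel]
  obtain ⟨hm1, hm2⟩ := hall _ hy k hpow
  have hx1 : x ∈ y • Q := (mem_smul_sylow_iff y x Q).2 hm1
  have hx2 : x ∈ y • (t • Q) := (mem_smul_sylow_iff y x (t • Q)).2 hm2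
  by_cases hyQ : y • Q = Q
  · refine ⟨y • (t • Q), ?_, hx2⟩
    intro heq
    apply htQ
    have : y • (t • Q) = y • Q := by rw [heq, hyQ]
    exact smul_left_cancel y this
  · exact ⟨y • Q, hyQ, hx1⟩

end Cfsg.Agent.Helper4.RedSyl
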