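import Mathlib

set_option autoImplicit false

namespace Cfsg.Agent.Helper4.RedSyl

variable {G H : Type*} [Group G] [Group H]

/-- a central `p`-element lies in every Sylow `p`-subgroup -/
theorem central_mem_sylow {p : ℕ} [Fact p.Prime] (P : Sylow p G) (k : G)
    (hk : k ∈ Subgroup.center G) (n : ℕ) (hkn : k ^ (p ^ n) = 1) : k ∈ P := by
  have hZ : IsPGroup p (Subgroup.zpowers k) := by
    rintro ⟨z, hz⟩
    obtain ⟨m, rfl⟩ := Subgroup.mem_zpowers_iff.1 hz
    refine ⟨n, ?_⟩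
    apply Subtype.ext
    rw [Subgroup.coe_pow]
    change (k ^ m) ^ (p ^ n) = 1
    rw [← zpow_natCast, ← zpow_mul, mul_comm, zpow_mul, zpow_natCast, hkn, one_zpow]
  have hZN : Subgroup.zpowers k ≤ Subgroup.normalizer ((P : Subgroup G) : Set G) := by
    rw [Subgroup.zpowers_le]
    apply Subgroup.centralizer_le_normalizer
    rw [Subgroup.mem_centralizer_iff]
    intro x _
    exact (Subgroup.mem_center_iff.1 hk x)
  have hsup : IsPGroup p ((P : Subgroup G) ⊔ Subgroup.zpowers k : Subgroup G) :=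
    IsPGroup.to_sup_of_normal_left' P.isPGroup' hZ hZN
  have h1 : ((P : Subgroup G) ⊔ Subgroup.zpowers k : Subgroup G) = P :=
    P.is_maximal' hsup le_sup_left
  have : k ∈ ((P : Subgroup G) ⊔ Subgroup.zpowers k : Subgroup G) :=
    (le_sup_right : Subgroup.zpowers k ≤ _) (Subgroup.mem_zpowers k)
  rw [h1] at this
  exact this

/-- a `p`-element mapping into the image of a Sylow subgroup under a map with central kernel
lies in the Sylow subgroup -/
theorem mem_sylow_of_map_mem (f : G →* H) (hker : f.ker ≤ Subgroup.center G) {p : ℕ}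
    [Fact p.Prime] (P : Sylow p G) (x : G) (a : ℕ) (hx : x ^ (p ^ a) = 1) (y : G) (hy : y ∈ P)
    (hxy : f y = f x) : x ∈ P := by
  have hk : y⁻¹ * x ∈ f.ker := by
    rw [MonoidHom.mem_ker, map_mul, map_inv, hxy, inv_mul_cancel]
  have hkc := hker hk
  obtain ⟨b, hb⟩ := P.isPGroup' ⟨y, hy⟩
  have hb' : y ^ (p ^ b) = 1 := by
    have := congrArg Subtype.val hb
    simpa using this
  have hcomm : Commute y (y⁻¹ * x) := (Subgroup.mem_center_iff.1 hkc y)
  have hxe : x = y * (y⁻¹ * x) := by group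
  have hx' : x ^ (p ^ (a + b)) = 1 := by
    rw [pow_add, pow_mul, hx, one_pow]
  have hy' : y ^ (p ^ (a + b)) = 1 := by
    rw [pow_add, mul_comm, pow_mul, hb', one_pow]
  have hk' : (y⁻¹ * x) ^ (p ^ (a + b)) = 1 := by
    have h1 := hcomm.mul_pow (p ^ (a + b))
    rw [← hxe, hx', hy', one_mul] at h1
    exact h1.symm
  have hkP := central_mem_sylow P _ hkc _ hk'
  rw [hxe]
  exact mul_mem hy hkP

/-- transfer of redundant Sylow subgroups along a surjection with central kernel -/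
theorem redundant_iff_of_central [Finite G] (f : G →* H) (hf : Function.Surjective f)
    (hker : f.ker ≤ Subgroup.center G) (p : ℕ) [Fact p.Prime] :
    (∃ Q : Sylow p G, ∀ x : G, (∃ k : ℕ, orderOf x = p ^ k) →
        ∃ P : Sylow p G, P ≠ Q ∧ x ∈ P) ↔
    (∃ Q : Sylow p H, ∀ x : H, (∃ k : ℕ, orderOf x = p ^ k) →
        ∃ P : Sylow p H, P ≠ Q ∧ x ∈ P) := by
  have hFH : Finite H := Finite.of_surjective f hf
  -- the map on Sylow subgroups is injective
  have hinj : ∀ P Q : Sylow p G, P.mapSurjective hf = Q.mapSurjective hf → P = Q := by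
    intro P Q hPQ
    have hle : (P : Subgroup G) ≤ Q := by
      intro y hy
      obtain ⟨a, ha⟩ := P.isPGroup' ⟨y, hy⟩
      have ha' : y ^ (p ^ a) = 1 := by
        have := congrArg Subtype.val ha
        simpa using this
      have h1 : f y ∈ ((P.mapSurjective hf : Sylow p H) : Subgroup H) := by
        rw [Sylow.coe_mapSurjective]
        exact Subgroup.mem_map_of_mem f hy
      rw [hPQ, Sylow.coe_mapSurjective] at h1
      obtain ⟨q, hq, hqy⟩ := Subgroup.mem_map.1 h1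
      exact mem_sylow_of_map_mem f hker Q y a ha' q hq hqy
    exact Sylow.ext (P.is_maximal' Q.isPGroup' hle).symm
  have hpel : ∀ x : G, (∃ k : ℕ, orderOf x = p ^ k) → ∃ a : ℕ, x ^ (p ^ a) = 1 := by
    rintro x ⟨k, hk⟩
    exact ⟨k, by rw [← hk]; exact pow_orderOf_eq_one x⟩
  have hpp : p.Prime := Fact.out
  constructor
  · rintro ⟨Q, hQ⟩
    refine ⟨Q.mapSurjective hf, ?_⟩
    rintro x ⟨k, hk⟩
    -- lift `x` to a `p`-element
    have hZ : IsPGroup p (Subgroup.zpowers x) := by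
      rintro ⟨z, hz⟩
      obtain ⟨m, rfl⟩ := Subgroup.mem_zpowers_iff.1 hz
      refine ⟨k, ?_⟩
      apply Subtype.ext
      rw [Subgroup.coe_pow]
      change (x ^ m) ^ (p ^ k) = 1
      rw [← zpow_natCast, ← zpow_mul, mul_comm, zpow_mul, zpow_natCast, ← hk, pow_orderOf_eq_one,
        one_zpow]
    obtain ⟨P₁, hP₁⟩ := hZ.exists_le_sylow
    obtain ⟨P₀, hP₀⟩ := Sylow.mapSurjective_surjective hf p P₁
    have hx₁ : x ∈ ((P₀.mapSurjective hf : Sylow p H) : Subgroup H) := by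
      rw [hP₀]
      exact hP₁ (Subgroup.mem_zpowers x)
    rw [Sylow.coe_mapSurjective] at hx₁
    obtain ⟨x₀, hx₀, hfx₀⟩ := Subgroup.mem_map.1 hx₁
    obtain ⟨a, ha⟩ := P₀.isPGroup' ⟨x₀, hx₀⟩
    have ha' : x₀ ^ (p ^ a) = 1 := by
      have := congrArg Subtype.val ha
      simpa using this
    have hord : ∃ j : ℕ, orderOf x₀ = p ^ j := by
      obtain ⟨j, -, hj⟩ := (Nat.dvd_prime_pow hpp).1 (orderOf_dvd_of_pow_eq_one ha')
      exact ⟨j, hj⟩
    obtain ⟨P, hPQ, hxP⟩ := hQ x₀ hord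
    refine ⟨P.mapSurjective hf, ?_, ?_⟩
    · intro h
      exact hPQ (hinj P Q h)
    · change x ∈ ((P.mapSurjective hf : Sylow p H) : Subgroup H)
      rw [Sylow.coe_mapSurjective, ← hfx₀]
      exact Subgroup.mem_map_of_mem f hxP
  · rintro ⟨Q', hQ'⟩
    obtain ⟨Q, rfl⟩ := Sylow.mapSurjective_surjective hf p Q'
    refine ⟨Q, ?_⟩
    intro x hx
    obtain ⟨a, ha⟩ := hpel x hx
    have hfx : ∃ k : ℕ, orderOf (f x) = p ^ k := by
      have h1 : (f x) ^ (p ^ a) = 1 := by rw [← map_pow, ha, map_one]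
      obtain ⟨j, -, hj⟩ := (Nat.dvd_prime_pow hpp).1 (orderOf_dvd_of_pow_eq_one h1)
      exact ⟨j, hj⟩
    obtain ⟨P', hP'Q, hxP'⟩ := hQ' (f x) hfx
    obtain ⟨P, rfl⟩ := Sylow.mapSurjective_surjective hf p P'
    refine ⟨P, ?_, ?_⟩
    · rintro rfl
      exact hP'Q rfl
    · have h1 : f x ∈ ((P.mapSurjective hf : Sylow p H) : Subgroup H) := hxP'
      rw [Sylow.coe_mapSurjective] at h1
      obtain ⟨y, hy, hyx⟩ := Subgroup.mem_map.1 h1
      exact mem_sylow_of_map_mem f hker P x a ha y hy hyx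

end Cfsg.Agent.Helper4.RedSyl
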