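import Mathlib
import Cfsg.Prelude.Def_PLocal
import Cfsg.Agent.Lib.Helper23.PGroup

set_option autoImplicit false
open scoped commutatorElement

/-! Philip Hall's theory of regular `p`-groups: power subgroups. -/

namespace Cfsg.Agent.Helper4.RegP

open Cfsg Subgroup

variable {G : Type*} [Group G]

/-- The regularity identity for one fixed exponent `p ^ n`. -/
def Pn (p n : ℕ) (G : Type*) [Group G] : Prop :=
  ∀ a b : G, ∃ c ∈ powerClosure p n ⁅closure ({a, b} : Set G), closure ({a, b} : Set G)⁆,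
    (a * b) ^ (p ^ n) = a ^ (p ^ n) * b ^ (p ^ n) * c

theorem powerClosure_mono (p n : ℕ) {H K : Subgroup G} (h : H ≤ K) :
    powerClosure p n H ≤ powerClosure p n K := by
  unfold powerClosure
  apply Subgroup.closure_mono
  rintro y ⟨x, hx, rfl⟩
  exact ⟨x, h hx, rfl⟩

theorem pow_mem_powerClosure (p n : ℕ) {H : Subgroup G} {x : G} (hx : x ∈ H) :
    x ^ (p ^ n) ∈ powerClosure p n H :=
  subset_closure ⟨x, hx, rfl⟩

theorem powerClosure_le_self (p n : ℕ) (H : Subgroup G) : powerClosure p n H ≤ H := by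
  unfold powerClosure
  rw [closure_le]
  rintro y ⟨x, hx, rfl⟩
  exact H.pow_mem hx _

theorem powerClosure_bot (p n : ℕ) : powerClosure p n (⊥ : Subgroup G) = ⊥ :=
  le_bot_iff.1 (powerClosure_le_self p n ⊥)

/-- If products of `p ^ n`-th powers of elements of `H` are again such powers, the power subgroup
consists of powers. -/
theorem mem_powerClosure_of_closed (p n : ℕ) (H : Subgroup G)
    (hcl : ∀ x ∈ H, ∀ y ∈ H, ∃ w ∈ H, x ^ (p ^ n) * y ^ (p ^ n) = w ^ (p ^ n))
    {u : G} (hu : u ∈ powerClosure p n H) : ∃ w ∈ H, u = w ^ (p ^ n) := by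
  unfold powerClosure at hu
  induction hu using closure_induction with
  | mem y hy => exact hy
  | one => exact ⟨1, H.one_mem, (one_pow _).symm⟩
  | mul a b _ _ iha ihb =>
    obtain ⟨x, hx, rfl⟩ := iha
    obtain ⟨y, hy, rfl⟩ := ihb
    obtain ⟨w, hw, h⟩ := hcl x hx y hy
    exact ⟨w, hw, h⟩
  | inv a _ iha =>
    obtain ⟨x, hx, rfl⟩ := iha
    exact ⟨x⁻¹, H.inv_mem hx, (inv_pow x _).symm⟩

section fin

variable [Finite G] {p : ℕ} [hp : Fact p.Prime]

/-- A `2`-generated `p`-group generated modulo its derived subgroup by one element is abelian. -/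
theorem commutator_eq_bot_of_sup_zpowers (hG : IsPGroup p G) (K : Subgroup G) (g : G)
    (hg : g ∈ K) (h : ⁅K, K⁆ ⊔ zpowers g = K) : ⁅K, K⁆ = ⊥ := by
  -- work inside K
  have hKp : IsPGroup p K := hG.to_subgroup K
  set g' : K := ⟨g, hg⟩ with hg'
  have h1 : _root_.commutator K ⊔ zpowers g' = ⊤ := by
    apply (map_injective K.subtype_injective)
    rw [Subgroup.map_sup, map_subtype_commutator, MonoidHom.map_zpowers, ← MonoidHom.range_eq_map,
      K.range_subtype]
    exact h
  have h2 : _root_.commutator K ≤ frattini K :=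
    Cfsg.Agent.Helper23.commutator_le_frattini_pgroup p hKp
  have h3 : zpowers g' ⊔ frattini K = ⊤ := by
    rw [eq_top_iff, ← h1, sup_comm]
    exact sup_le_sup_left h2 _
  have h4 : zpowers g' = ⊤ := frattini_nongenerating h3
  have hcomm : ∀ a b : K, a * b = b * a := by
    intro a b
    have ha : a ∈ zpowers g' := h4 ▸ mem_top a
    have hb : b ∈ zpowers g' := h4 ▸ mem_top b
    obtain ⟨i, rfl⟩ := ha
    obtain ⟨j, rfl⟩ := hb
    exact (Commute.zpow_zpow_self g' i j).eq
  rw [commutator_eq_bot_iff_le_centralizer]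
  intro a ha
  rw [mem_centralizer_iff]
  intro b hb
  exact congrArg Subtype.val (hcomm ⟨b, hb⟩ ⟨a, ha⟩)

/-- In a nontrivial `p`-subgroup the derived subgroup is proper. -/
theorem commutator_lt (hG : IsPGroup p G) (K : Subgroup G) (hK : K ≠ ⊥) : ⁅K, K⁆ < K := by
  have hKp : IsPGroup p K := hG.to_subgroup K
  have : Group.IsNilpotent ↥K := hKp.isNilpotent
  have : Nontrivial ↥K := (nontrivial_iff_ne_bot K).2 hK
  have h1 : _root_.commutator ↥K < ⊤ := Group.IsSolvable.commutator_lt_top_of_nontrivial ↥K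
  have h2 := (map_lt_map_iff_of_injective K.subtype_injective).2 h1
  rwa [map_subtype_commutator, ← MonoidHom.range_eq_map, K.range_subtype] at h2

theorem card_lt_of_lt {H K : Subgroup G} (h : H < K) : Nat.card H < Nat.card K := by
  rcases (card_le_of_le h.le).lt_or_eq with h1 | h1
  · exact h1
  · exact absurd (eq_of_le_of_card_ge h.le h1.symm.le) h.ne

/-- **Hall**: under the identity for the exponent `p ^ n`, products of `p ^ n`-th powers of
elements of a subgroup are `p ^ n`-th powers of elements of that subgroup. -/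
theorem closed_of_Pn (hG : IsPGroup p G) (n : ℕ) (hP : Pn p n G) :
    ∀ (m : ℕ) (H : Subgroup G), Nat.card H ≤ m →
      ∀ x ∈ H, ∀ y ∈ H, ∃ w ∈ H, x ^ (p ^ n) * y ^ (p ^ n) = w ^ (p ^ n) := by
  intro m
  induction m using Nat.strong_induction_on with
  | _ m ih =>
  intro H hHm x hx y hy
  set K := closure ({x, y} : Set G) with hK
  have hKH : K ≤ H := by
    rw [hK, closure_le]
    intro z hz
    rcases hz with rfl | rfl
    · exact hx
    · exact hy
  have hxK : x ∈ K := subset_closure (Set.mem_insert _ _)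
  have hyK : y ∈ K := subset_closure (Set.mem_insert_of_mem _ rfl)
  obtain ⟨c, hc, hxy⟩ := hP x y
  rw [← hK] at hc
  by_cases hK' : ⁅K, K⁆ = ⊥
  · rw [hK', powerClosure_bot, mem_bot] at hc
    rw [hc, mul_one] at hxy
    exact ⟨x * y, H.mul_mem hx hy, hxy.symm⟩
  · have hKne : K ≠ ⊥ := by
      intro h
      apply hK'
      rw [h]
      exact le_bot_iff.1 (commutator_le_self ⊥)
    have hlt1 : ⁅K, K⁆ < K := commutator_lt hG K hKne
    have hcard1 : Nat.card (⁅K, K⁆ : Subgroup G) < m :=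
      lt_of_lt_of_le (card_lt_of_lt hlt1) ((card_le_of_le hKH).trans hHm)
    -- c⁻¹ is a power
    have hcinv : c⁻¹ ∈ powerClosure p n ⁅K, K⁆ := inv_mem hc
    obtain ⟨d, hd, hcd⟩ := mem_powerClosure_of_closed p n ⁅K, K⁆
      (ih _ hcard1 ⁅K, K⁆ le_rfl) hcinv
    -- the subgroup L
    set L := ⁅K, K⁆ ⊔ zpowers (x * y) with hL
    have hLK : L ≤ K := sup_le hlt1.le ((zpowers_le).2 (K.mul_mem hxK hyK))
    have hLne : L ≠ K := by
      intro h
      exact hK' (commutator_eq_bot_of_sup_zpowers hG K (x * y) (K.mul_mem hxK hyK) h)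
    have hcard2 : Nat.card L < m :=
      lt_of_lt_of_le (card_lt_of_lt (lt_of_le_of_ne hLK hLne)) ((card_le_of_le hKH).trans hHm)
    have hxyL : x * y ∈ L := (le_sup_right : zpowers (x * y) ≤ L) (mem_zpowers _)
    have hdL : d ∈ L := (le_sup_left : ⁅K, K⁆ ≤ L) hd
    obtain ⟨w, hw, hwe⟩ := ih _ hcard2 L le_rfl (x * y) hxyL d hdL
    refine ⟨w, hKH (hLK hw), ?_⟩
    rw [← hwe, ← hcd, hxy]
    group

/-- **Hall**: the power subgroup consists of powers. -/
theorem exists_pow_eq_of_mem (hG : IsPGroup p G) (n : ℕ) (hP : Pn p n G) (H : Subgroup G)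
    {u : G} (hu : u ∈ powerClosure p n H) : ∃ w ∈ H, u = w ^ (p ^ n) :=
  mem_powerClosure_of_closed p n H (closed_of_Pn hG n hP _ H le_rfl) hu

omit [Finite G] hp in
/-- The power subgroup of the derived subgroup is normalized by the subgroup. -/
theorem conj_mem_powerClosure_commutator (p n : ℕ) (H : Subgroup G) {h m : G} (hh : h ∈ H)
    (hm : m ∈ powerClosure p n ⁅H, H⁆) : h * m * h⁻¹ ∈ powerClosure p n ⁅H, H⁆ := by
  have hnorm : H ≤ normalizer ((⁅H, H⁆ : Subgroup G) : Set G) := normalizer_commutator_ge_left H H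
  have key : (powerClosure p n ⁅H, H⁆).map (MulAut.conj h).toMonoidHom ≤
      powerClosure p n ⁅H, H⁆ := by
    unfold powerClosure
    rw [MonoidHom.map_closure]
    apply Subgroup.closure_mono
    rintro _ ⟨_, ⟨x, hx, rfl⟩, rfl⟩
    refine ⟨h * x * h⁻¹, ?_, ?_⟩
    · have := hnorm hh
      rw [mem_normalizer_iff] at this
      exact (this x).1 hx
    · show h * x ^ (p ^ n) * h⁻¹ = _
      rw [conj_pow]
  exact key ⟨m, hm, rfl⟩

omit [Finite G] hp in
/-- **Hall**: modulo the power subgroup of the derived subgroup, powers commute. -/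
theorem commutator_pow_mem (n : ℕ) (hP : Pn p n G) (H : Subgroup G) {x y : G}
    (hx : x ∈ H) (hy : y ∈ H) :
    ⁅x ^ (p ^ n), y ^ (p ^ n)⁆ ∈ powerClosure p n ⁅H, H⁆ := by
  set M := powerClosure p n ⁅H, H⁆ with hM
  have hMH : M ≤ H := (powerClosure_le_self p n _).trans (commutator_le_self H)
  have hMn : (M.subgroupOf H).Normal := by
    refine ⟨fun m hm h => ?_⟩
    rw [mem_subgroupOf] at hm ⊢
    exact conj_mem_powerClosure_commutator p n H h.2 hm
  -- the power map to the quotient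
  have hmul : ∀ a b : H, (QuotientGroup.mk ((a * b) ^ (p ^ n)) : ↥H ⧸ M.subgroupOf H) =
      QuotientGroup.mk (a ^ (p ^ n)) * QuotientGroup.mk (b ^ (p ^ n)) := by
    intro a b
    obtain ⟨c, hc, hab⟩ := hP (a : G) (b : G)
    have hcl : closure ({(a : G), (b : G)} : Set G) ≤ H := by
      rw [closure_le]
      intro z hz
      rcases hz with rfl | rfl
      · exact a.2
      · exact b.2
    have hcM : c ∈ M := powerClosure_mono p n (commutator_mono hcl hcl) hc
    rw [← QuotientGroup.mk_mul, QuotientGroup.eq, mem_subgroupOf]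
    have e : (((a * b) ^ (p ^ n))⁻¹ * (a ^ (p ^ n) * b ^ (p ^ n)) : ↥H) =
        (c⁻¹ : G) := by
      push_cast
      rw [hab]; group
    rw [e]
    exact inv_mem hcM
  let θ : ↥H →* ↥H ⧸ M.subgroupOf H :=
    MonoidHom.mk' (fun a => QuotientGroup.mk (a ^ (p ^ n))) hmul
  have hθ : ∀ a : H, θ a = QuotientGroup.mk (a ^ (p ^ n)) := fun _ => rfl
  have hkill : θ ⁅(⟨x, hx⟩ : H), ⟨y, hy⟩⁆ = 1 := by
    rw [hθ, QuotientGroup.eq_one_iff, mem_subgroupOf]
    push_cast
    apply pow_mem_powerClosure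
    exact commutator_mem_commutator hx hy
  rw [map_commutatorElement, hθ, hθ] at hkill
  have h2 : (QuotientGroup.mk ⁅(⟨x, hx⟩ : H) ^ (p ^ n), (⟨y, hy⟩ : H) ^ (p ^ n)⁆ :
      ↥H ⧸ M.subgroupOf H) = ⁅QuotientGroup.mk ((⟨x, hx⟩ : H) ^ (p ^ n)),
        QuotientGroup.mk ((⟨y, hy⟩ : H) ^ (p ^ n))⁆ :=
    map_commutatorElement (QuotientGroup.mk' (M.subgroupOf H)) _ _
  rw [← h2] at hkill
  have := (QuotientGroup.eq_one_iff _).1 hkill
  rw [mem_subgroupOf] at this
  simpa [commutatorElement_def] using this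

/-- **Hall**: the derived subgroup of the power subgroup. -/
theorem commutator_powerClosure_le (hG : IsPGroup p G) (n : ℕ) (hP : Pn p n G) (H : Subgroup G) :
    ⁅powerClosure p n H, powerClosure p n H⁆ ≤ powerClosure p n ⁅H, H⁆ := by
  rw [commutator_le]
  intro u hu v hv
  obtain ⟨x, hx, rfl⟩ := exists_pow_eq_of_mem hG n hP H hu
  obtain ⟨y, hy, rfl⟩ := exists_pow_eq_of_mem hG n hP H hv
  exact commutator_pow_mem n hP H hx hy

/-- Iterating the power subgroups. -/
theorem powerClosure_one_powerClosure_le (hG : IsPGroup p G) (n : ℕ) (hP : Pn p n G)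
    (H : Subgroup G) : powerClosure p 1 (powerClosure p n H) ≤ powerClosure p (n + 1) H := by
  unfold powerClosure
  rw [closure_le]
  rintro _ ⟨u, hu, rfl⟩
  obtain ⟨w, hw, rfl⟩ := exists_pow_eq_of_mem hG n hP H hu
  apply Subgroup.subset_closure
  refine ⟨w, hw, ?_⟩
  rw [← pow_mul, pow_one, pow_succ]

/-- The induction step for the regularity identities. -/
theorem Pn_succ (hG : IsPGroup p G) (n : ℕ) (h1 : Pn p 1 G) (hn : Pn p n G) : Pn p (n + 1) G := by
  intro a b
  set K := closure ({a, b} : Set G) with hK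
  have haK : a ∈ K := subset_closure (Set.mem_insert _ _)
  have hbK : b ∈ K := subset_closure (Set.mem_insert_of_mem _ rfl)
  obtain ⟨c, hc, hab⟩ := hn a b
  rw [← hK] at hc
  set x := a ^ (p ^ n) with hx
  set y := b ^ (p ^ n) with hy
  obtain ⟨d₁, hd₁, h₁⟩ := h1 (x * y) c
  obtain ⟨d₂, hd₂, h₂⟩ := h1 x y
  -- the target subgroup
  set T := powerClosure p (n + 1) ⁅K, K⁆ with hT
  have hxP : x ∈ powerClosure p n K := pow_mem_powerClosure p n haK
  have hyP : y ∈ powerClosure p n K := pow_mem_powerClosure p n hbK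
  have hcP : c ∈ powerClosure p n K := powerClosure_mono p n (commutator_le_self K) hc
  have hsub : ∀ S : Subgroup G, S ≤ powerClosure p n K → powerClosure p 1 ⁅S, S⁆ ≤ T := by
    intro S hS
    calc powerClosure p 1 ⁅S, S⁆
        ≤ powerClosure p 1 ⁅powerClosure p n K, powerClosure p n K⁆ :=
          powerClosure_mono p 1 (commutator_mono hS hS)
      _ ≤ powerClosure p 1 (powerClosure p n ⁅K, K⁆) :=
          powerClosure_mono p 1 (commutator_powerClosure_le hG n hn K)
      _ ≤ T := powerClosure_one_powerClosure_le hG n hn ⁅K, K⁆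
  have hd₂T : d₂ ∈ T := by
    apply hsub _ _ hd₂
    rw [closure_le]
    intro z hz
    rcases hz with rfl | rfl
    · exact hxP
    · exact hyP
  have hd₁T : d₁ ∈ T := by
    apply hsub _ _ hd₁
    rw [closure_le]
    intro z hz
    rcases hz with rfl | rfl
    · exact mul_mem hxP hyP
    · exact hcP
  have hcT : c ^ p ∈ T := by
    obtain ⟨z, hz, rfl⟩ := exists_pow_eq_of_mem hG n hn ⁅K, K⁆ hc
    rw [← pow_mul, ← pow_succ]
    exact pow_mem_powerClosure p (n + 1) hz
  refine ⟨d₂ * c ^ p * d₁, mul_mem (mul_mem hd₂T hcT) hd₁T, ?_⟩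
  rw [pow_one] at h₁ h₂
  calc (a * b) ^ (p ^ (n + 1)) = ((a * b) ^ (p ^ n)) ^ p := by rw [← pow_mul, pow_succ]
    _ = (x * y * c) ^ p := by rw [hab]
    _ = (x * y) ^ p * c ^ p * d₁ := h₁
    _ = x ^ p * y ^ p * d₂ * c ^ p * d₁ := by rw [h₂]
    _ = a ^ (p ^ (n + 1)) * b ^ (p ^ (n + 1)) * (d₂ * c ^ p * d₁) := by
      rw [hx, hy, ← pow_mul, ← pow_mul, ← pow_succ]
      group

omit [Finite G] hp in
theorem Pn_zero (p : ℕ) : Pn p 0 G := by
  intro a b
  exact ⟨1, one_mem _, by simp⟩

/-- From the identity for exponent `p` to all exponents. -/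
theorem Pn_all (hG : IsPGroup p G) (h1 : Pn p 1 G) : ∀ n, Pn p n G := by
  intro n
  induction n with
  | zero => exact Pn_zero p
  | succ n ih => exact Pn_succ hG n h1 ih

end fin

end Cfsg.Agent.Helper4.RegP
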