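import Cfsg.Agent.Lib.Helper4.S3702RealDefs

/-! # S3702 realization step: node 0, new row 0 (generated) -/

set_option autoImplicit false
set_option maxHeartbeats 0
set_option maxRecDepth 100000
set_option synthInstance.maxSize 100000
set_option synthInstance.maxHeartbeats 0
set_option linter.unusedVariables false
set_option linter.unusedSectionVars false
set_option linter.unusedSimpArgs false
set_option linter.unnecessarySeqFocus false

namespace Cfsg.Agent.Helper4.S3702R

variable {ι : Type*} [Fintype ι] [DecidableEq ι] {o : ι} {v : Fin 9 → ι → ℤ} {d : ι → ℤ}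

/-- node 0: adding row 0 -/
theorem step0 (h : Hyp o v d) (c : Cfg o v R0 1 cols0) :
    IsCfg o v R1 3 cols1 := by
  obtain ⟨x0, hx⟩ : ∃ x0 : ℤ, c.e 0 = ![x0] :=
    ⟨c.e 0 0, by funext j; fin_cases j <;> rfl⟩
  have h0 := c.e_zero h 0
  have hnorm := c.norm_eq h 0
  have hS0 : 0 ≤ ∑ X, c.outPart 0 X ^ 2 := Finset.sum_nonneg (fun X _ => sq_nonneg _)
  generalize hS : ∑ X, c.outPart 0 X ^ 2 = S at hnorm hS0
  rw [hx] at h0
  simp [col0] at h0
  subst h0
  rw [hx] at hnorm
  simp [Fin.sum_univ_succ, cols0, gramM] at hnorm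
  norm_num at hnorm
  have hSv : S = 2 := by omega
  subst hSv
  obtain ⟨Y, η, hYi, hη, hYv, hYo⟩ := shape_small 2 (by norm_num) (c.outPart 0) (by simpa using hS)
  exact ⟨c.extend 0 ![0] (fun j => congrFun hx j) 1 one_ne_zero Y η hYi hη
      (fun l => by rw [hYv l, mul_one]) hYo cols1 ![Sum.inl 0, Sum.inr 0, Sum.inr 1]
      (by decide) (by decide) (by decide) (by decide)⟩

end Cfsg.Agent.Helper4.S3702R
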