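import Cfsg.Agent.Lib.Helper4.S3702RealDefs

/-! # S3702 realization step: node 2, new row 1 (generated) -/

set_option autoImplicit false
set_option maxHeartbeats 0
set_option maxRecDepth 100000
set_option synthInstance.maxSize 100000
set_option synthInstance.maxHeartbeats 0
set_option linter.unusedVariables false
set_option linter.unusedSectionVars false
set_option linter.unusedSimpArgs false
set_option linter.unnecessarySeqFocus false

namespace Cfsg.Agent.Helper4.S3702R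

/-- the possible entries of row 1 on the characters of node 2 -/
theorem enum2 : ∀ x1 ∈ L3, x1 ^ 2 ≤ 2 → 
    ∀ x2 ∈ L3, x1 ^ 2 + x2 ^ 2 ≤ 2 → 
    ∀ x3 ∈ L3, x1 ^ 2 + x2 ^ 2 + x3 ^ 2 ≤ 2 → 
    ∀ x4 ∈ L3, x1 ^ 2 + x2 ^ 2 + x3 ^ 2 + x4 ^ 2 ≤ 2 → x3 + x4 = 0 → x1 + x2 + x4 = 0 → 
    (x1 = -1 ∧ x2 = 1 ∧ x3 = 0 ∧ x4 = 0) ∨
    (x1 = 0 ∧ x2 = 0 ∧ x3 = 0 ∧ x4 = 0) ∨
    (x1 = 1 ∧ x2 = -1 ∧ x3 = 0 ∧ x4 = 0) := by
  decide

variable {ι : Type*} [Fintype ι] [DecidableEq ι] {o : ι} {v : Fin 9 → ι → ℤ} {d : ι → ℤ}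

/-- node 2: adding row 1 -/
theorem step2 (h : Hyp o v d) (c : Cfg o v R2 5 cols2) :
    IsCfg o v R3 5 cols3 ∨
    IsCfg o v R3 7 cols4 := by
  obtain ⟨x0, x1, x2, x3, x4, hx⟩ : ∃ x0 x1 x2 x3 x4 : ℤ, c.e 1 = ![x0, x1, x2, x3, x4] :=
    ⟨c.e 1 0, c.e 1 1, c.e 1 2, c.e 1 3, c.e 1 4, by funext j; fin_cases j <;> rfl⟩
  have h0 := c.e_zero h 1
  have hnorm := c.norm_eq h 1
  have hr0 := c.row_eq h 1 (r := 0) (by decide)
  have hr2 := c.row_eq h 1 (r := 2) (by decide)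
  have hS0 : 0 ≤ ∑ X, c.outPart 1 X ^ 2 := Finset.sum_nonneg (fun X _ => sq_nonneg _)
  generalize hS : ∑ X, c.outPart 1 X ^ 2 = S at hnorm hS0
  rw [hx] at h0
  simp [col0] at h0
  subst h0
  rw [hx] at hnorm hr0 hr2
  simp [Fin.sum_univ_succ, cols2, gramM] at hnorm hr0 hr2
  have n1 := sq_nonneg x1
  have n2 := sq_nonneg x2
  have n3 := sq_nonneg x3
  have n4 := sq_nonneg x4
  have key := enum2 x1 (memL3 (by omega)) (by omega) x2 (memL3 (by omega)) (by omega) x3 (memL3 (by omega)) (by omega) x4 (memL3 (by omega)) (by omega) (by omega) (by omega)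
  rcases key with ⟨h1, h2, h3, h4⟩ | ⟨h1, h2, h3, h4⟩ | ⟨h1, h2, h3, h4⟩
  · subst h1; subst h2; subst h3; subst h4
    norm_num at hnorm
    have hSv : S = 0 := by omega
    subst hSv
    obtain ⟨Y, η, hYi, hη, hYv, hYo⟩ := shape_small 0 (by norm_num) (c.outPart 1) (by simpa using hS)
    exact Or.inl ⟨c.extend 1 ![0, -1, 1, 0, 0] (fun j => congrFun hx j) 1 one_ne_zero Y η hYi hη
        (fun l => by rw [hYv l, mul_one]) hYo cols3 ![Sum.inl 0, Sum.inl 1, Sum.inl 2, Sum.inl 3, Sum.inl 4]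
        (by decide) (by decide) (by decide) (by decide)⟩
  · subst h1; subst h2; subst h3; subst h4
    norm_num at hnorm
    have hSv : S = 2 := by omega
    subst hSv
    obtain ⟨Y, η, hYi, hη, hYv, hYo⟩ := shape_small 2 (by norm_num) (c.outPart 1) (by simpa using hS)
    exact Or.inr (⟨c.extend 1 ![0, 0, 0, 0, 0] (fun j => congrFun hx j) 1 one_ne_zero Y η hYi hη
        (fun l => by rw [hYv l, mul_one]) hYo cols4 ![Sum.inl 0, Sum.inl 1, Sum.inl 2, Sum.inr 0, Sum.inr 1, Sum.inl 3, Sum.inl 4]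
        (by decide) (by decide) (by decide) (by decide)⟩)
  · subst h1; subst h2; subst h3; subst h4
    norm_num at hnorm
    have hSv : S = 0 := by omega
    subst hSv
    obtain ⟨Y, η, hYi, hη, hYv, hYo⟩ := shape_small 0 (by norm_num) (c.outPart 1) (by simpa using hS)
    exact Or.inl ⟨c.extend 1 ![0, 1, -1, 0, 0] (fun j => congrFun hx j) 1 one_ne_zero Y η hYi hη
        (fun l => by rw [hYv l, mul_one]) hYo cols3 ![Sum.inl 0, Sum.inl 2, Sum.inl 1, Sum.inl 3, Sum.inl 4]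
        (by decide) (by decide) (by decide) (by decide)⟩

end Cfsg.Agent.Helper4.S3702R
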