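import Cfsg.Agent.Lib.Helper4.S3702RealDefs

/-! # S3702 realization step: node 5, new row 4 (generated) -/

set_option autoImplicit false
set_option maxHeartbeats 0
set_option maxRecDepth 100000
set_option synthInstance.maxSize 100000
set_option synthInstance.maxHeartbeats 0
set_option linter.unusedVariables false
set_option linter.unusedSectionVars false
set_option linter.unusedSimpArgs false
set_option linter.unnecessarySeqFocus false

namespace Cfsg.Agent.Helper4.S3702R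

/-- the possible entries of row 4 on the characters of node 5 -/
theorem enum5 : ∀ x1 ∈ L3, x1 ^ 2 ≤ 3 → 
    ∀ x2 ∈ L3, x1 ^ 2 + x2 ^ 2 ≤ 3 → 
    ∀ x3 ∈ L3, x1 ^ 2 + x2 ^ 2 + x3 ^ 2 ≤ 3 → -1 * x1 + x3 = 0 → 
    ∀ x4 ∈ L3, x1 ^ 2 + x2 ^ 2 + x3 ^ 2 + x4 ^ 2 ≤ 3 → -1 * x1 + x2 - 1 * x4 = 1 → 
    ∀ x5 ∈ L3, x1 ^ 2 + x2 ^ 2 + x3 ^ 2 + x4 ^ 2 + x5 ^ 2 ≤ 3 → x4 + x5 = 0 → x1 + x3 + x5 = 1 → 
    (x1 = 0 ∧ x2 = 0 ∧ x3 = 0 ∧ x4 = -1 ∧ x5 = 1) := by
  decide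

variable {ι : Type*} [Fintype ι] [DecidableEq ι] {o : ι} {v : Fin 9 → ι → ℤ} {d : ι → ℤ}

/-- node 5: adding row 4 -/
theorem step5 (h : Hyp o v d) (c : Cfg o v R4 6 cols5) :
    IsCfg o v R5 7 cols8 := by
  obtain ⟨x0, x1, x2, x3, x4, x5, hx⟩ : ∃ x0 x1 x2 x3 x4 x5 : ℤ, c.e 4 = ![x0, x1, x2, x3, x4, x5] :=
    ⟨c.e 4 0, c.e 4 1, c.e 4 2, c.e 4 3, c.e 4 4, c.e 4 5, by funext j; fin_cases j <;> rfl⟩
  have h0 := c.e_zero h 4
  have hnorm := c.norm_eq h 4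
  have hr0 := c.row_eq h 4 (r := 0) (by decide)
  have hr2 := c.row_eq h 4 (r := 2) (by decide)
  have hr1 := c.row_eq h 4 (r := 1) (by decide)
  have hr3 := c.row_eq h 4 (r := 3) (by decide)
  have hS0 : 0 ≤ ∑ X, c.outPart 4 X ^ 2 := Finset.sum_nonneg (fun X _ => sq_nonneg _)
  generalize hS : ∑ X, c.outPart 4 X ^ 2 = S at hnorm hS0
  rw [hx] at h0
  simp [col0] at h0
  subst h0
  rw [hx] at hnorm hr0 hr2 hr1 hr3
  simp [Fin.sum_univ_succ, cols5, gramM] at hnorm hr0 hr2 hr1 hr3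
  have n1 := sq_nonneg x1
  have n2 := sq_nonneg x2
  have n3 := sq_nonneg x3
  have n4 := sq_nonneg x4
  have n5 := sq_nonneg x5
  have key := enum5 x1 (memL3 (by omega)) (by omega) x2 (memL3 (by omega)) (by omega) x3 (memL3 (by omega)) (by omega) (by omega) x4 (memL3 (by omega)) (by omega) (by omega) x5 (memL3 (by omega)) (by omega) (by omega) (by omega)
  rcases key with ⟨h1, h2, h3, h4, h5⟩
  · subst h1; subst h2; subst h3; subst h4; subst h5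
    norm_num at hnorm
    have hSv : S = 1 := by omega
    subst hSv
    obtain ⟨Y, η, hYi, hη, hYv, hYo⟩ := shape_small 1 (by norm_num) (c.outPart 4) (by simpa using hS)
    exact ⟨c.extend 4 ![-1, 0, 0, 0, -1, 1] (fun j => congrFun hx j) 1 one_ne_zero Y η hYi hη
        (fun l => by rw [hYv l, mul_one]) hYo cols8 ![Sum.inl 0, Sum.inl 1, Sum.inr 0, Sum.inl 2, Sum.inl 3, Sum.inl 4, Sum.inl 5]
        (by decide) (by decide) (by decide) (by decide)⟩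

end Cfsg.Agent.Helper4.S3702R
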