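import Cfsg.Agent.Lib.Helper4.S3702RealDefs

/-! # S3702 realization step: node 10, new row 6 (generated) -/

set_option autoImplicit false
set_option maxHeartbeats 0
set_option maxRecDepth 100000
set_option synthInstance.maxSize 100000
set_option synthInstance.maxHeartbeats 0
set_option linter.unusedVariables false
set_option linter.unusedSectionVars false
set_option linter.unusedSimpArgs false
set_option linter.unnecessarySeqFocus false

namespace Cfsg.Agent.Helper4.S3702R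

/-- the possible entries of row 6 on the characters of node 10 -/
theorem enum10 : ∀ x1 ∈ L3, x1 ^ 2 ≤ 3 → 
    ∀ x2 ∈ L3, x1 ^ 2 + x2 ^ 2 ≤ 3 → 
    ∀ x3 ∈ L3, x1 ^ 2 + x2 ^ 2 + x3 ^ 2 ≤ 3 → 
    ∀ x4 ∈ L3, x1 ^ 2 + x2 ^ 2 + x3 ^ 2 + x4 ^ 2 ≤ 3 → x3 + x4 = 0 → x2 - 1 * x3 + x4 = 0 → 
    ∀ x5 ∈ L3, x1 ^ 2 + x2 ^ 2 + x3 ^ 2 + x4 ^ 2 + x5 ^ 2 ≤ 3 → -1 * x1 + x4 - 1 * x5 = 1 → 
    ∀ x6 ∈ L3, x1 ^ 2 + x2 ^ 2 + x3 ^ 2 + x4 ^ 2 + x5 ^ 2 + x6 ^ 2 ≤ 3 → x5 + x6 = -1 → x1 + x2 + x6 = -1 → 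
    False := by
  decide

variable {ι : Type*} [Fintype ι] [DecidableEq ι] {o : ι} {v : Fin 9 → ι → ℤ} {d : ι → ℤ}

/-- node 10: adding row 6 -/
theorem step10 (h : Hyp o v d) (c : Cfg o v R5 7 cols10) :
    False := by
  obtain ⟨x0, x1, x2, x3, x4, x5, x6, hx⟩ : ∃ x0 x1 x2 x3 x4 x5 x6 : ℤ, c.e 6 = ![x0, x1, x2, x3, x4, x5, x6] :=
    ⟨c.e 6 0, c.e 6 1, c.e 6 2, c.e 6 3, c.e 6 4, c.e 6 5, c.e 6 6, by funext j; fin_cases j <;> rfl⟩
  have h0 := c.e_zero h 6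
  have hnorm := c.norm_eq h 6
  have hr0 := c.row_eq h 6 (r := 0) (by decide)
  have hr2 := c.row_eq h 6 (r := 2) (by decide)
  have hr1 := c.row_eq h 6 (r := 1) (by decide)
  have hr3 := c.row_eq h 6 (r := 3) (by decide)
  have hr4 := c.row_eq h 6 (r := 4) (by decide)
  have hS0 : 0 ≤ ∑ X, c.outPart 6 X ^ 2 := Finset.sum_nonneg (fun X _ => sq_nonneg _)
  generalize hS : ∑ X, c.outPart 6 X ^ 2 = S at hnorm hS0
  rw [hx] at h0
  simp [col0] at h0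
  subst h0
  rw [hx] at hnorm hr0 hr2 hr1 hr3 hr4
  simp [Fin.sum_univ_succ, cols10, gramM] at hnorm hr0 hr2 hr1 hr3 hr4
  have n1 := sq_nonneg x1
  have n2 := sq_nonneg x2
  have n3 := sq_nonneg x3
  have n4 := sq_nonneg x4
  have n5 := sq_nonneg x5
  have n6 := sq_nonneg x6
  have key := enum10 x1 (memL3 (by omega)) (by omega) x2 (memL3 (by omega)) (by omega) x3 (memL3 (by omega)) (by omega) x4 (memL3 (by omega)) (by omega) (by omega) (by omega) x5 (memL3 (by omega)) (by omega) (by omega) x6 (memL3 (by omega)) (by omega) (by omega) (by omega)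
  exact key

end Cfsg.Agent.Helper4.S3702R
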