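import Cfsg.Agent.Lib.Helper4.S3702RealDefs

/-! # S3702 realization step: node 11, new row 6 (generated) -/

set_option autoImplicit false
set_option maxHeartbeats 0
set_option maxRecDepth 100000
set_option synthInstance.maxSize 100000
set_option synthInstance.maxHeartbeats 0
set_option linter.unusedVariables false
set_option linter.unusedSectionVars false
set_option linter.unusedSimpArgs false
set_option linter.unnecessarySeqFocus false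

namespace Cfsg.Agent.Helper4.S3702R

/-- the possible entries of row 6 on the characters of node 11 -/
theorem enum11 : ∀ x1 ∈ L3, x1 ^ 2 ≤ 3 → 
    ∀ x2 ∈ L3, x1 ^ 2 + x2 ^ 2 ≤ 3 → 
    ∀ x3 ∈ L3, x1 ^ 2 + x2 ^ 2 + x3 ^ 2 ≤ 3 → 
    ∀ x4 ∈ L3, x1 ^ 2 + x2 ^ 2 + x3 ^ 2 + x4 ^ 2 ≤ 3 → 
    ∀ x5 ∈ L3, x1 ^ 2 + x2 ^ 2 + x3 ^ 2 + x4 ^ 2 + x5 ^ 2 ≤ 3 → x4 + x5 = 0 → x3 - 1 * x4 + x5 = 0 → 
    ∀ x6 ∈ L3, x1 ^ 2 + x2 ^ 2 + x3 ^ 2 + x4 ^ 2 + x5 ^ 2 + x6 ^ 2 ≤ 3 → 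
    ∀ x7 ∈ L3, x1 ^ 2 + x2 ^ 2 + x3 ^ 2 + x4 ^ 2 + x5 ^ 2 + x6 ^ 2 + x7 ^ 2 ≤ 3 → x6 + x7 = -1 → x2 + x3 + x7 = -1 → x1 + x5 - 1 * x7 = 1 → 
    (x1 = 0 ∧ x2 = 0 ∧ x3 = 0 ∧ x4 = 0 ∧ x5 = 0 ∧ x6 = 0 ∧ x7 = -1) ∨
    (x1 = 1 ∧ x2 = -1 ∧ x3 = 0 ∧ x4 = 0 ∧ x5 = 0 ∧ x6 = -1 ∧ x7 = 0) := by
  decide

variable {ι : Type*} [Fintype ι] [DecidableEq ι] {o : ι} {v : Fin 9 → ι → ℤ} {d : ι → ℤ}

/-- node 11: adding row 6 -/
theorem step11 (h : Hyp o v d) (c : Cfg o v R5 8 cols11) :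
    IsCfg o v R6 10 cols14 := by
  obtain ⟨x0, x1, x2, x3, x4, x5, x6, x7, hx⟩ : ∃ x0 x1 x2 x3 x4 x5 x6 x7 : ℤ, c.e 6 = ![x0, x1, x2, x3, x4, x5, x6, x7] :=
    ⟨c.e 6 0, c.e 6 1, c.e 6 2, c.e 6 3, c.e 6 4, c.e 6 5, c.e 6 6, c.e 6 7, by funext j; fin_cases j <;> rfl⟩
  have h0 := c.e_zero h 6
  have hnorm := c.norm_eq h 6
  have hr0 := c.row_eq h 6 (r := 0) (by decide)
  have hr2 := c.row_eq h 6 (r := 2) (by decide)
  have hr1 := c.row_eq h 6 (r := 1) (by decide)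
  have hr3 := c.row_eq h 6 (r := 3) (by decide)
  have hr4 := c.row_eq h 6 (r := 4) (by decide)
  have hS0 : 0 ≤ ∑ X, c.outPart 6 X ^ 2 := Finset.sum_nonneg (fun X _ => sq_nonneg _)
  generalize hS : ∑ X, c.outPart 6 X ^ 2 = S at hnorm hS0
  rw [hx] at h0
  simp [col0] at h0
  subst h0
  rw [hx] at hnorm hr0 hr2 hr1 hr3 hr4
  simp [Fin.sum_univ_succ, cols11, gramM] at hnorm hr0 hr2 hr1 hr3 hr4
  have n1 := sq_nonneg x1
  have n2 := sq_nonneg x2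
  have n3 := sq_nonneg x3
  have n4 := sq_nonneg x4
  have n5 := sq_nonneg x5
  have n6 := sq_nonneg x6
  have n7 := sq_nonneg x7
  have key := enum11 x1 (memL3 (by omega)) (by omega) x2 (memL3 (by omega)) (by omega) x3 (memL3 (by omega)) (by omega) x4 (memL3 (by omega)) (by omega) x5 (memL3 (by omega)) (by omega) (by omega) (by omega) x6 (memL3 (by omega)) (by omega) x7 (memL3 (by omega)) (by omega) (by omega) (by omega) (by omega)
  rcases key with ⟨h1, h2, h3, h4, h5, h6, h7⟩ | ⟨h1, h2, h3, h4, h5, h6, h7⟩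
  · subst h1; subst h2; subst h3; subst h4; subst h5; subst h6; subst h7
    norm_num at hnorm
    have hSv : S = 2 := by omega
    subst hSv
    obtain ⟨Y, η, hYi, hη, hYv, hYo⟩ := shape_small 2 (by norm_num) (c.outPart 6) (by simpa using hS)
    exact ⟨c.extend 6 ![-1, 0, 0, 0, 0, 0, 0, -1] (fun j => congrFun hx j) 1 one_ne_zero Y η hYi hη
        (fun l => by rw [hYv l, mul_one]) hYo cols14 ![Sum.inl 0, Sum.inr 0, Sum.inr 1, Sum.inl 1, Sum.inl 2, Sum.inl 3, Sum.inl 4, Sum.inl 5, Sum.inl 6, Sum.inl 7]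
        (by decide) (by decide) (by decide) (by decide)⟩
  · subst h1; subst h2; subst h3; subst h4; subst h5; subst h6; subst h7
    norm_num at hnorm
    have hSv : S = 0 := by omega
    subst hSv
    obtain ⟨Y, η, hYi, hη, hYv, hYo⟩ := shape_small 0 (by norm_num) (c.outPart 6) (by simpa using hS)
    have c' : Cfg o v R6 8 colsD11_1 := c.extend 6 ![-1, 1, -1, 0, 0, 0, -1, 0] (fun j => congrFun hx j) 1 one_ne_zero Y η hYi hη
        (fun l => by rw [hYv l, mul_one]) hYo colsD11_1 ![Sum.inl 0, Sum.inl 1, Sum.inl 2, Sum.inl 3, Sum.inl 4, Sum.inl 5, Sum.inl 6, Sum.inl 7]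
        (by decide) (by decide) (by decide) (by decide)
    obtain ⟨D0, D1, D2, D3, D4, D5, D6, D7, hD⟩ : ∃ D0 D1 D2 D3 D4 D5 D6 D7 : ℤ, c'.D d = ![D0, D1, D2, D3, D4, D5, D6, D7] :=
      ⟨c'.D d 0, c'.D d 1, c'.D d 2, c'.D d 3, c'.D d 4, c'.D d 5, c'.D d 6, c'.D d 7, by funext j; fin_cases j <;> rfl⟩
    have hd0 := c'.deg_eq h (r := 0) (by decide)
    have hd2 := c'.deg_eq h (r := 2) (by decide)
    have hd1 := c'.deg_eq h (r := 1) (by decide)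
    have hd3 := c'.deg_eq h (r := 3) (by decide)
    have hd4 := c'.deg_eq h (r := 4) (by decide)
    have hd6 := c'.deg_eq h (r := 6) (by decide)
    have hn := c'.D_ne_zero h 1
    rw [hD] at hd0 hd2 hd1 hd3 hd4 hd6 hn
    simp [Fin.sum_univ_succ, colsD11_1] at hd0 hd2 hd1 hd3 hd4 hd6 hn
    exact absurd (show D1 = 0 by omega) hn

end Cfsg.Agent.Helper4.S3702R
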