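import Cfsg.Agent.Lib.Helper4.S3702RealDefs

/-! # S3702 realization step: node 16, new row 8 (generated) -/

set_option autoImplicit false
set_option maxHeartbeats 0
set_option maxRecDepth 100000
set_option synthInstance.maxSize 100000
set_option synthInstance.maxHeartbeats 0
set_option linter.unusedVariables false
set_option linter.unusedSectionVars false
set_option linter.unusedSimpArgs false
set_option linter.unnecessarySeqFocus false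

namespace Cfsg.Agent.Helper4.S3702R

/-- the possible entries of row 8 on the characters of node 16 -/
theorem enum16 : ∀ x1 ∈ L5, x1 ^ 2 ≤ 4 → 
    ∀ x2 ∈ L5, x1 ^ 2 + x2 ^ 2 ≤ 4 → 
    ∀ x3 ∈ L5, x1 ^ 2 + x2 ^ 2 + x3 ^ 2 ≤ 4 → 
    ∀ x4 ∈ L5, x1 ^ 2 + x2 ^ 2 + x3 ^ 2 + x4 ^ 2 ≤ 4 → x1 + x2 + x4 = 1 → 
    ∀ x5 ∈ L5, x1 ^ 2 + x2 ^ 2 + x3 ^ 2 + x4 ^ 2 + x5 ^ 2 ≤ 4 → 
    ∀ x6 ∈ L5, x1 ^ 2 + x2 ^ 2 + x3 ^ 2 + x4 ^ 2 + x5 ^ 2 + x6 ^ 2 ≤ 4 → x5 + x6 = -1 → 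
    ∀ x7 ∈ L5, x1 ^ 2 + x2 ^ 2 + x3 ^ 2 + x4 ^ 2 + x5 ^ 2 + x6 ^ 2 + x7 ^ 2 ≤ 4 → x2 - 1 * x4 - 1 * x7 = 1 → 
    ∀ x8 ∈ L5, x1 ^ 2 + x2 ^ 2 + x3 ^ 2 + x4 ^ 2 + x5 ^ 2 + x6 ^ 2 + x7 ^ 2 + x8 ^ 2 ≤ 4 → x7 + x8 = 0 → x3 + x4 + x8 = 1 → x2 + x6 - 1 * x8 = -1 → 
    (x1 = 1 ∧ x2 = 0 ∧ x3 = 0 ∧ x4 = 0 ∧ x5 = -1 ∧ x6 = 0 ∧ x7 = -1 ∧ x8 = 1) := by
  decide

variable {ι : Type*} [Fintype ι] [DecidableEq ι] {o : ι} {v : Fin 9 → ι → ℤ} {d : ι → ℤ}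

/-- node 16: adding row 8 -/
theorem step16 (h : Hyp o v d) (c : Cfg o v R6 9 cols16) :
    IsCfg o v R7 9 cols20 := by
  obtain ⟨x0, x1, x2, x3, x4, x5, x6, x7, x8, hx⟩ : ∃ x0 x1 x2 x3 x4 x5 x6 x7 x8 : ℤ, c.e 8 = ![x0, x1, x2, x3, x4, x5, x6, x7, x8] :=
    ⟨c.e 8 0, c.e 8 1, c.e 8 2, c.e 8 3, c.e 8 4, c.e 8 5, c.e 8 6, c.e 8 7, c.e 8 8, by funext j; fin_cases j <;> rfl⟩
  have h0 := c.e_zero h 8
  have hnorm := c.norm_eq h 8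
  have hr0 := c.row_eq h 8 (r := 0) (by decide)
  have hr2 := c.row_eq h 8 (r := 2) (by decide)
  have hr1 := c.row_eq h 8 (r := 1) (by decide)
  have hr3 := c.row_eq h 8 (r := 3) (by decide)
  have hr4 := c.row_eq h 8 (r := 4) (by decide)
  have hr6 := c.row_eq h 8 (r := 6) (by decide)
  have hS0 : 0 ≤ ∑ X, c.outPart 8 X ^ 2 := Finset.sum_nonneg (fun X _ => sq_nonneg _)
  generalize hS : ∑ X, c.outPart 8 X ^ 2 = S at hnorm hS0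
  rw [hx] at h0
  simp [col0] at h0
  subst h0
  rw [hx] at hnorm hr0 hr2 hr1 hr3 hr4 hr6
  simp [Fin.sum_univ_succ, cols16, gramM] at hnorm hr0 hr2 hr1 hr3 hr4 hr6
  have n1 := sq_nonneg x1
  have n2 := sq_nonneg x2
  have n3 := sq_nonneg x3
  have n4 := sq_nonneg x4
  have n5 := sq_nonneg x5
  have n6 := sq_nonneg x6
  have n7 := sq_nonneg x7
  have n8 := sq_nonneg x8
  have key := enum16 x1 (memL5 (by omega)) (by omega) x2 (memL5 (by omega)) (by omega) x3 (memL5 (by omega)) (by omega) x4 (memL5 (by omega)) (by omega) (by omega) x5 (memL5 (by omega)) (by omega) x6 (memL5 (by omega)) (by omega) (by omega) x7 (memL5 (by omega)) (by omega) (by omega) x8 (memL5 (by omega)) (by omega) (by omega) (by omega) (by omega)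
  rcases key with ⟨h1, h2, h3, h4, h5, h6, h7, h8⟩
  · subst h1; subst h2; subst h3; subst h4; subst h5; subst h6; subst h7; subst h8
    norm_num at hnorm
    have hSv : S = 0 := by omega
    subst hSv
    obtain ⟨Y, η, hYi, hη, hYv, hYo⟩ := shape_small 0 (by norm_num) (c.outPart 8) (by simpa using hS)
    exact ⟨c.extend 8 ![0, 1, 0, 0, 0, -1, 0, -1, 1] (fun j => congrFun hx j) 1 one_ne_zero Y η hYi hη
        (fun l => by rw [hYv l, mul_one]) hYo cols20 ![Sum.inl 0, Sum.inl 1, Sum.inl 2, Sum.inl 3, Sum.inl 4, Sum.inl 5, Sum.inl 6, Sum.inl 7, Sum.inl 8]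
        (by decide) (by decide) (by decide) (by decide)⟩

end Cfsg.Agent.Helper4.S3702R
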