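import Cfsg.Agent.Lib.Helper4.S3702RealDefs

/-! # S3702 realization step: node 17, new row 7 (generated) -/

set_option autoImplicit false
set_option maxHeartbeats 0
set_option maxRecDepth 100000
set_option synthInstance.maxSize 100000
set_option synthInstance.maxHeartbeats 0
set_option linter.unusedVariables false
set_option linter.unusedSectionVars false
set_option linter.unusedSimpArgs false
set_option linter.unnecessarySeqFocus false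

namespace Cfsg.Agent.Helper4.S3702R

/-- the possible entries of row 7 on the characters of node 17 -/
theorem enum17 : ∀ x1 ∈ L3, x1 ^ 2 ≤ 3 → 
    ∀ x2 ∈ L3, x1 ^ 2 + x2 ^ 2 ≤ 3 → 
    ∀ x3 ∈ L3, x1 ^ 2 + x2 ^ 2 + x3 ^ 2 ≤ 3 → 
    ∀ x4 ∈ L3, x1 ^ 2 + x2 ^ 2 + x3 ^ 2 + x4 ^ 2 ≤ 3 → 
    ∀ x5 ∈ L3, x1 ^ 2 + x2 ^ 2 + x3 ^ 2 + x4 ^ 2 + x5 ^ 2 ≤ 3 → 
    ∀ x6 ∈ L3, x1 ^ 2 + x2 ^ 2 + x3 ^ 2 + x4 ^ 2 + x5 ^ 2 + x6 ^ 2 ≤ 3 → x2 - 1 * x3 + x4 - 1 * x6 = 1 → 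
    ∀ x7 ∈ L3, x1 ^ 2 + x2 ^ 2 + x3 ^ 2 + x4 ^ 2 + x5 ^ 2 + x6 ^ 2 + x7 ^ 2 ≤ 3 → x6 + x7 = -1 → x5 - 1 * x6 + x7 = 0 → 
    ∀ x8 ∈ L3, x1 ^ 2 + x2 ^ 2 + x3 ^ 2 + x4 ^ 2 + x5 ^ 2 + x6 ^ 2 + x7 ^ 2 + x8 ^ 2 ≤ 3 → 
    ∀ x9 ∈ L3, x1 ^ 2 + x2 ^ 2 + x3 ^ 2 + x4 ^ 2 + x5 ^ 2 + x6 ^ 2 + x7 ^ 2 + x8 ^ 2 + x9 ^ 2 ≤ 3 → x8 + x9 = 0 → x4 + x5 + x9 = 1 → x3 + x7 - 1 * x9 = -1 → x1 + x2 - 1 * x9 = 0 → 
    False := by
  decide

variable {ι : Type*} [Fintype ι] [DecidableEq ι] {o : ι} {v : Fin 9 → ι → ℤ} {d : ι → ℤ}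

/-- node 17: adding row 7 -/
theorem step17 (h : Hyp o v d) (c : Cfg o v R7 10 cols17) :
    False := by
  obtain ⟨x0, x1, x2, x3, x4, x5, x6, x7, x8, x9, hx⟩ : ∃ x0 x1 x2 x3 x4 x5 x6 x7 x8 x9 : ℤ, c.e 7 = ![x0, x1, x2, x3, x4, x5, x6, x7, x8, x9] :=
    ⟨c.e 7 0, c.e 7 1, c.e 7 2, c.e 7 3, c.e 7 4, c.e 7 5, c.e 7 6, c.e 7 7, c.e 7 8, c.e 7 9, by funext j; fin_cases j <;> rfl⟩
  have h0 := c.e_zero h 7
  have hnorm := c.norm_eq h 7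
  have hr0 := c.row_eq h 7 (r := 0) (by decide)
  have hr2 := c.row_eq h 7 (r := 2) (by decide)
  have hr1 := c.row_eq h 7 (r := 1) (by decide)
  have hr3 := c.row_eq h 7 (r := 3) (by decide)
  have hr4 := c.row_eq h 7 (r := 4) (by decide)
  have hr6 := c.row_eq h 7 (r := 6) (by decide)
  have hr8 := c.row_eq h 7 (r := 8) (by decide)
  have hS0 : 0 ≤ ∑ X, c.outPart 7 X ^ 2 := Finset.sum_nonneg (fun X _ => sq_nonneg _)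
  generalize hS : ∑ X, c.outPart 7 X ^ 2 = S at hnorm hS0
  rw [hx] at h0
  simp [col0] at h0
  subst h0
  rw [hx] at hnorm hr0 hr2 hr1 hr3 hr4 hr6 hr8
  simp [Fin.sum_univ_succ, cols17, gramM] at hnorm hr0 hr2 hr1 hr3 hr4 hr6 hr8
  have n1 := sq_nonneg x1
  have n2 := sq_nonneg x2
  have n3 := sq_nonneg x3
  have n4 := sq_nonneg x4
  have n5 := sq_nonneg x5
  have n6 := sq_nonneg x6
  have n7 := sq_nonneg x7
  have n8 := sq_nonneg x8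
  have n9 := sq_nonneg x9
  have key := enum17 x1 (memL3 (by omega)) (by omega) x2 (memL3 (by omega)) (by omega) x3 (memL3 (by omega)) (by omega) x4 (memL3 (by omega)) (by omega) x5 (memL3 (by omega)) (by omega) x6 (memL3 (by omega)) (by omega) (by omega) x7 (memL3 (by omega)) (by omega) (by omega) (by omega) x8 (memL3 (by omega)) (by omega) x9 (memL3 (by omega)) (by omega) (by omega) (by omega) (by omega) (by omega)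
  exact key

end Cfsg.Agent.Helper4.S3702R
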