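import Cfsg.Agent.Lib.Helper4.S3702RealDefs

/-! # S3702 realization step: node 21, new row 5 (generated) -/

set_option autoImplicit false
set_option maxHeartbeats 0
set_option maxRecDepth 100000
set_option synthInstance.maxSize 100000
set_option synthInstance.maxHeartbeats 0
set_option linter.unusedVariables false
set_option linter.unusedSectionVars false
set_option linter.unusedSimpArgs false
set_option linter.unnecessarySeqFocus false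

namespace Cfsg.Agent.Helper4.S3702R

/-- the possible entries of row 5 on the characters of node 21 -/
theorem enum21 : ∀ x1 ∈ L5, x1 ^ 2 ≤ 4 → 
    ∀ x2 ∈ L5, x1 ^ 2 + x2 ^ 2 ≤ 4 → 
    ∀ x3 ∈ L5, x1 ^ 2 + x2 ^ 2 + x3 ^ 2 ≤ 4 → 
    ∀ x4 ∈ L5, x1 ^ 2 + x2 ^ 2 + x3 ^ 2 + x4 ^ 2 ≤ 4 → 
    ∀ x5 ∈ L5, x1 ^ 2 + x2 ^ 2 + x3 ^ 2 + x4 ^ 2 + x5 ^ 2 ≤ 4 → 
    ∀ x6 ∈ L5, x1 ^ 2 + x2 ^ 2 + x3 ^ 2 + x4 ^ 2 + x5 ^ 2 + x6 ^ 2 ≤ 4 → 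
    ∀ x7 ∈ L5, x1 ^ 2 + x2 ^ 2 + x3 ^ 2 + x4 ^ 2 + x5 ^ 2 + x6 ^ 2 + x7 ^ 2 ≤ 4 → x4 + x5 + x7 = 1 → 
    ∀ x8 ∈ L5, x1 ^ 2 + x2 ^ 2 + x3 ^ 2 + x4 ^ 2 + x5 ^ 2 + x6 ^ 2 + x7 ^ 2 + x8 ^ 2 ≤ 4 → -1 * x5 + x7 - 1 * x8 = 1 → 
    ∀ x9 ∈ L5, x1 ^ 2 + x2 ^ 2 + x3 ^ 2 + x4 ^ 2 + x5 ^ 2 + x6 ^ 2 + x7 ^ 2 + x8 ^ 2 + x9 ^ 2 ≤ 4 → x8 + x9 = 0 → x1 + x3 + x7 - 1 * x9 = 1 → 
    ∀ x10 ∈ L5, x1 ^ 2 + x2 ^ 2 + x3 ^ 2 + x4 ^ 2 + x5 ^ 2 + x6 ^ 2 + x7 ^ 2 + x8 ^ 2 + x9 ^ 2 + x10 ^ 2 ≤ 4 → 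
    ∀ x11 ∈ L5, x1 ^ 2 + x2 ^ 2 + x3 ^ 2 + x4 ^ 2 + x5 ^ 2 + x6 ^ 2 + x7 ^ 2 + x8 ^ 2 + x9 ^ 2 + x10 ^ 2 + x11 ^ 2 ≤ 4 → x10 + x11 = 0 → x6 + x7 + x11 = 1 → x5 + x9 - 1 * x11 = 1 → x2 + x3 - 1 * x11 = 1 → 
    (x1 = 0 ∧ x2 = 0 ∧ x3 = 0 ∧ x4 = 0 ∧ x5 = 0 ∧ x6 = 1 ∧ x7 = 1 ∧ x8 = 0 ∧ x9 = 0 ∧ x10 = 1 ∧ x11 = -1) := by
  decide

variable {ι : Type*} [Fintype ι] [DecidableEq ι] {o : ι} {v : Fin 9 → ι → ℤ} {d : ι → ℤ}

/-- node 21: adding row 5 -/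
theorem step21 (h : Hyp o v d) (c : Cfg o v R8 12 cols21) :
    False := by
  obtain ⟨x0, x1, x2, x3, x4, x5, x6, x7, x8, x9, x10, x11, hx⟩ : ∃ x0 x1 x2 x3 x4 x5 x6 x7 x8 x9 x10 x11 : ℤ, c.e 5 = ![x0, x1, x2, x3, x4, x5, x6, x7, x8, x9, x10, x11] :=
    ⟨c.e 5 0, c.e 5 1, c.e 5 2, c.e 5 3, c.e 5 4, c.e 5 5, c.e 5 6, c.e 5 7, c.e 5 8, c.e 5 9, c.e 5 10, c.e 5 11, by funext j; fin_cases j <;> rfl⟩
  have h0 := c.e_zero h 5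
  have hnorm := c.norm_eq h 5
  have hr0 := c.row_eq h 5 (r := 0) (by decide)
  have hr2 := c.row_eq h 5 (r := 2) (by decide)
  have hr1 := c.row_eq h 5 (r := 1) (by decide)
  have hr3 := c.row_eq h 5 (r := 3) (by decide)
  have hr4 := c.row_eq h 5 (r := 4) (by decide)
  have hr6 := c.row_eq h 5 (r := 6) (by decide)
  have hr8 := c.row_eq h 5 (r := 8) (by decide)
  have hr7 := c.row_eq h 5 (r := 7) (by decide)
  have hS0 : 0 ≤ ∑ X, c.outPart 5 X ^ 2 := Finset.sum_nonneg (fun X _ => sq_nonneg _)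
  generalize hS : ∑ X, c.outPart 5 X ^ 2 = S at hnorm hS0
  rw [hx] at h0
  simp [col0] at h0
  subst h0
  rw [hx] at hnorm hr0 hr2 hr1 hr3 hr4 hr6 hr8 hr7
  simp [Fin.sum_univ_succ, cols21, gramM] at hnorm hr0 hr2 hr1 hr3 hr4 hr6 hr8 hr7
  have n1 := sq_nonneg x1
  have n2 := sq_nonneg x2
  have n3 := sq_nonneg x3
  have n4 := sq_nonneg x4
  have n5 := sq_nonneg x5
  have n6 := sq_nonneg x6
  have n7 := sq_nonneg x7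
  have n8 := sq_nonneg x8
  have n9 := sq_nonneg x9
  have n10 := sq_nonneg x10
  have n11 := sq_nonneg x11
  have key := enum21 x1 (memL5 (by omega)) (by omega) x2 (memL5 (by omega)) (by omega) x3 (memL5 (by omega)) (by omega) x4 (memL5 (by omega)) (by omega) x5 (memL5 (by omega)) (by omega) x6 (memL5 (by omega)) (by omega) x7 (memL5 (by omega)) (by omega) (by omega) x8 (memL5 (by omega)) (by omega) (by omega) x9 (memL5 (by omega)) (by omega) (by omega) (by omega) x10 (memL5 (by omega)) (by omega) x11 (memL5 (by omega)) (by omega) (by omega) (by omega) (by omega) (by omega)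
  rcases key with ⟨h1, h2, h3, h4, h5, h6, h7, h8, h9, h10, h11⟩
  · subst h1; subst h2; subst h3; subst h4; subst h5; subst h6; subst h7; subst h8; subst h9; subst h10; subst h11
    norm_num at hnorm
    have hSv : S = 0 := by omega
    subst hSv
    obtain ⟨Y, η, hYi, hη, hYv, hYo⟩ := shape_small 0 (by norm_num) (c.outPart 5) (by simpa using hS)
    have c' : Cfg o v R9 12 colsD21_0 := c.extend 5 ![0, 0, 0, 0, 0, 0, 1, 1, 0, 0, 1, -1] (fun j => congrFun hx j) 1 one_ne_zero Y η hYi hη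
        (fun l => by rw [hYv l, mul_one]) hYo colsD21_0 ![Sum.inl 0, Sum.inl 1, Sum.inl 2, Sum.inl 3, Sum.inl 4, Sum.inl 5, Sum.inl 6, Sum.inl 7, Sum.inl 8, Sum.inl 9, Sum.inl 10, Sum.inl 11]
        (by decide) (by decide) (by decide) (by decide)
    obtain ⟨D0, D1, D2, D3, D4, D5, D6, D7, D8, D9, D10, D11, hD⟩ : ∃ D0 D1 D2 D3 D4 D5 D6 D7 D8 D9 D10 D11 : ℤ, c'.D d = ![D0, D1, D2, D3, D4, D5, D6, D7, D8, D9, D10, D11] :=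
      ⟨c'.D d 0, c'.D d 1, c'.D d 2, c'.D d 3, c'.D d 4, c'.D d 5, c'.D d 6, c'.D d 7, c'.D d 8, c'.D d 9, c'.D d 10, c'.D d 11, by funext j; fin_cases j <;> rfl⟩
    have hd0 := c'.deg_eq h (r := 0) (by decide)
    have hd2 := c'.deg_eq h (r := 2) (by decide)
    have hd1 := c'.deg_eq h (r := 1) (by decide)
    have hd3 := c'.deg_eq h (r := 3) (by decide)
    have hd4 := c'.deg_eq h (r := 4) (by decide)
    have hd6 := c'.deg_eq h (r := 6) (by decide)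
    have hd8 := c'.deg_eq h (r := 8) (by decide)
    have hd7 := c'.deg_eq h (r := 7) (by decide)
    have hd5 := c'.deg_eq h (r := 5) (by decide)
    have hn := c'.D_ne_zero h 10
    rw [hD] at hd0 hd2 hd1 hd3 hd4 hd6 hd8 hd7 hd5 hn
    simp [Fin.sum_univ_succ, colsD21_0] at hd0 hd2 hd1 hd3 hd4 hd6 hd8 hd7 hd5 hn
    exact absurd (show D10 = 0 by omega) hn

end Cfsg.Agent.Helper4.S3702R
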