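import Cfsg.Agent.Lib.Helper4.S3702RStep00
import Cfsg.Agent.Lib.Helper4.S3702RStep01
import Cfsg.Agent.Lib.Helper4.S3702RStep02
import Cfsg.Agent.Lib.Helper4.S3702RStep03
import Cfsg.Agent.Lib.Helper4.S3702RStep04
import Cfsg.Agent.Lib.Helper4.S3702RStep05
import Cfsg.Agent.Lib.Helper4.S3702RStep06
import Cfsg.Agent.Lib.Helper4.S3702RStep07
import Cfsg.Agent.Lib.Helper4.S3702RStep08
import Cfsg.Agent.Lib.Helper4.S3702RStep09
import Cfsg.Agent.Lib.Helper4.S3702RStep10
import Cfsg.Agent.Lib.Helper4.S3702RStep11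
import Cfsg.Agent.Lib.Helper4.S3702RStep12
import Cfsg.Agent.Lib.Helper4.S3702RStep13
import Cfsg.Agent.Lib.Helper4.S3702RStep14
import Cfsg.Agent.Lib.Helper4.S3702RStep15
import Cfsg.Agent.Lib.Helper4.S3702RStep16
import Cfsg.Agent.Lib.Helper4.S3702RStep17
import Cfsg.Agent.Lib.Helper4.S3702RStep18
import Cfsg.Agent.Lib.Helper4.S3702RStep19
import Cfsg.Agent.Lib.Helper4.S3702RStep20
import Cfsg.Agent.Lib.Helper4.S3702RStep21
import Cfsg.Agent.Lib.Helper4.S3702RStep22

/-! # S3702: the realization step (assembly of the search tree, generated)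

`Hyp o v d` (Gram matrix of the nine rows, the column of the principal character, the degree
equations) forces one of two configurations: the natural one `cols23` (14 characters) or the
exotic one `cols24` (13 characters). -/

set_option autoImplicit false
set_option linter.unusedSectionVars false

namespace Cfsg.Agent.Helper4.S3702R

variable {ι : Type*} [Fintype ι] [DecidableEq ι] {o : ι} {v : Fin 9 → ι → ℤ} {d : ι → ℤ}

/-- the natural configuration survives -/
theorem fin23 (c : Cfg o v R9 14 cols23) :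
    IsCfg o v R9 14 cols23 ∨ IsCfg o v R9 13 cols24 := Or.inl ⟨c⟩

/-- the exotic configuration survives -/
theorem fin24 (c : Cfg o v R9 13 cols24) :
    IsCfg o v R9 14 cols23 ∨ IsCfg o v R9 13 cols24 := Or.inr ⟨c⟩

/-- everything below node 22 -/
theorem fin22 (h : Hyp o v d) (c : Cfg o v R8 13 cols22) :
    IsCfg o v R9 14 cols23 ∨ IsCfg o v R9 13 cols24 := by
  rcases step22 h c with hc0 | hc1
  · obtain ⟨c0⟩ := hc0
    exact fin23 c0
  · obtain ⟨c1⟩ := hc1
    exact fin24 c1

/-- everything below node 21 -/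
theorem fin21 (h : Hyp o v d) (c : Cfg o v R8 12 cols21) :
    IsCfg o v R9 14 cols23 ∨ IsCfg o v R9 13 cols24 := by
  exact (step21 h c).elim

/-- everything below node 20 -/
theorem fin20 (h : Hyp o v d) (c : Cfg o v R7 9 cols20) :
    IsCfg o v R9 14 cols23 ∨ IsCfg o v R9 13 cols24 := by
  exact (step20 h c).elim

/-- everything below node 19 -/
theorem fin19 (h : Hyp o v d) (c : Cfg o v R7 11 cols19) :
    IsCfg o v R9 14 cols23 ∨ IsCfg o v R9 13 cols24 := by
  exact (step19 h c).elim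

/-- everything below node 18 -/
theorem fin18 (h : Hyp o v d) (c : Cfg o v R7 12 cols18) :
    IsCfg o v R9 14 cols23 ∨ IsCfg o v R9 13 cols24 := by
  rcases step18 h c with hc0 | hc1
  · obtain ⟨c0⟩ := hc0
    exact fin21 h c0
  · obtain ⟨c1⟩ := hc1
    exact fin22 h c1

/-- everything below node 17 -/
theorem fin17 (h : Hyp o v d) (c : Cfg o v R7 10 cols17) :
    IsCfg o v R9 14 cols23 ∨ IsCfg o v R9 13 cols24 := by
  exact (step17 h c).elim

/-- everything below node 16 -/
theorem fin16 (h : Hyp o v d) (c : Cfg o v R6 9 cols16) :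
    IsCfg o v R9 14 cols23 ∨ IsCfg o v R9 13 cols24 := by
  obtain ⟨c1⟩ := step16 h c
  exact fin20 h c1

/-- everything below node 15 -/
theorem fin15 (h : Hyp o v d) (c : Cfg o v R6 11 cols15) :
    IsCfg o v R9 14 cols23 ∨ IsCfg o v R9 13 cols24 := by
  rcases step15 h c with hc0 | hc1
  · obtain ⟨c0⟩ := hc0
    exact fin18 h c0
  · obtain ⟨c1⟩ := hc1
    exact fin19 h c1

/-- everything below node 14 -/
theorem fin14 (h : Hyp o v d) (c : Cfg o v R6 10 cols14) :
    IsCfg o v R9 14 cols23 ∨ IsCfg o v R9 13 cols24 := by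
  obtain ⟨c1⟩ := step14 h c
  exact fin17 h c1

/-- everything below node 13 -/
theorem fin13 (h : Hyp o v d) (c : Cfg o v R6 8 cols13) :
    IsCfg o v R9 14 cols23 ∨ IsCfg o v R9 13 cols24 := by
  exact (step13 h c).elim

/-- everything below node 12 -/
theorem fin12 (h : Hyp o v d) (c : Cfg o v R5 9 cols12) :
    IsCfg o v R9 14 cols23 ∨ IsCfg o v R9 13 cols24 := by
  rcases step12 h c with hc0 | hc1
  · obtain ⟨c0⟩ := hc0
    exact fin15 h c0
  · obtain ⟨c1⟩ := hc1
    exact fin16 h c1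

/-- everything below node 11 -/
theorem fin11 (h : Hyp o v d) (c : Cfg o v R5 8 cols11) :
    IsCfg o v R9 14 cols23 ∨ IsCfg o v R9 13 cols24 := by
  obtain ⟨c1⟩ := step11 h c
  exact fin14 h c1

/-- everything below node 10 -/
theorem fin10 (h : Hyp o v d) (c : Cfg o v R5 7 cols10) :
    IsCfg o v R9 14 cols23 ∨ IsCfg o v R9 13 cols24 := by
  exact (step10 h c).elim

/-- everything below node 9 -/
theorem fin9 (h : Hyp o v d) (c : Cfg o v R5 8 cols9) :
    IsCfg o v R9 14 cols23 ∨ IsCfg o v R9 13 cols24 := by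
  obtain ⟨c1⟩ := step9 h c
  exact fin13 h c1

/-- everything below node 8 -/
theorem fin8 (h : Hyp o v d) (c : Cfg o v R5 7 cols8) :
    IsCfg o v R9 14 cols23 ∨ IsCfg o v R9 13 cols24 := by
  exact (step8 h c).elim

/-- everything below node 7 -/
theorem fin7 (h : Hyp o v d) (c : Cfg o v R4 8 cols7) :
    IsCfg o v R9 14 cols23 ∨ IsCfg o v R9 13 cols24 := by
  rcases step7 h c with hc0 | hc1
  · obtain ⟨c0⟩ := hc0
    exact fin11 h c0
  · obtain ⟨c1⟩ := hc1
    exact fin12 h c1

/-- everything below node 6 -/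
theorem fin6 (h : Hyp o v d) (c : Cfg o v R4 7 cols6) :
    IsCfg o v R9 14 cols23 ∨ IsCfg o v R9 13 cols24 := by
  rcases step6 h c with hc0 | hc1
  · obtain ⟨c0⟩ := hc0
    exact fin9 h c0
  · obtain ⟨c1⟩ := hc1
    exact fin10 h c1

/-- everything below node 5 -/
theorem fin5 (h : Hyp o v d) (c : Cfg o v R4 6 cols5) :
    IsCfg o v R9 14 cols23 ∨ IsCfg o v R9 13 cols24 := by
  obtain ⟨c1⟩ := step5 h c
  exact fin8 h c1

/-- everything below node 4 -/
theorem fin4 (h : Hyp o v d) (c : Cfg o v R3 7 cols4) :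
    IsCfg o v R9 14 cols23 ∨ IsCfg o v R9 13 cols24 := by
  rcases step4 h c with hc0 | hc1
  · obtain ⟨c0⟩ := hc0
    exact fin6 h c0
  · obtain ⟨c1⟩ := hc1
    exact fin7 h c1

/-- everything below node 3 -/
theorem fin3 (h : Hyp o v d) (c : Cfg o v R3 5 cols3) :
    IsCfg o v R9 14 cols23 ∨ IsCfg o v R9 13 cols24 := by
  obtain ⟨c1⟩ := step3 h c
  exact fin5 h c1

/-- everything below node 2 -/
theorem fin2 (h : Hyp o v d) (c : Cfg o v R2 5 cols2) :
    IsCfg o v R9 14 cols23 ∨ IsCfg o v R9 13 cols24 := by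
  rcases step2 h c with hc0 | hc1
  · obtain ⟨c0⟩ := hc0
    exact fin3 h c0
  · obtain ⟨c1⟩ := hc1
    exact fin4 h c1

/-- everything below node 1 -/
theorem fin1 (h : Hyp o v d) (c : Cfg o v R1 3 cols1) :
    IsCfg o v R9 14 cols23 ∨ IsCfg o v R9 13 cols24 := by
  obtain ⟨c1⟩ := step1 h c
  exact fin2 h c1

/-- everything below node 0 -/
theorem fin0 (h : Hyp o v d) (c : Cfg o v R0 1 cols0) :
    IsCfg o v R9 14 cols23 ∨ IsCfg o v R9 13 cols24 := by
  obtain ⟨c1⟩ := step0 h c
  exact fin1 h c1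

/-- the root configuration -/
def rootCfg (o : ι) (v : Fin 9 → ι → ℤ) : Cfg o v R0 1 cols0 where
  W := fun _ => o
  ε := fun _ => 1
  inj := fun a b _ => Subsingleton.elim a b
  sign := fun _ => Or.inl rfl
  val := fun r hr => absurd hr (Finset.notMem_empty r)
  out := fun r hr => absurd hr (Finset.notMem_empty r)
  W0 := rfl
  ε0 := rfl

/-- **the realization step**: the natural or the exotic configuration -/
theorem realization (h : Hyp o v d) :
    IsCfg o v R9 14 cols23 ∨ IsCfg o v R9 13 cols24 :=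
  fin0 h (rootCfg o v)

theorem mem_R9 (r : Fin 9) : r ∈ R9 := by
  revert r
  decide

/-- all values of a final configuration -/
theorem Cfg.val_all {n : ℕ} [NeZero n] {cols : Fin n → Fin 9 → ℤ} (c : Cfg o v R9 n cols)
    (r : Fin 9) (j : Fin n) : v r (c.W j) = c.ε j * cols j r :=
  c.val r (mem_R9 r) j

/-- the rows vanish outside a final configuration -/
theorem Cfg.out_all {n : ℕ} [NeZero n] {cols : Fin n → Fin 9 → ℤ} (c : Cfg o v R9 n cols)
    (r : Fin 9) (X : ι) (hX : ∀ j, c.W j ≠ X) : v r X = 0 :=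
  c.out r (mem_R9 r) X hX

end Cfsg.Agent.Helper4.S3702R
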