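import Mathlib

/-!
# S3702: the realization step (pure combinatorics), generic core

`ι` is the set of irreducible characters of `G`, `o` the principal one, `v i X = (X, F_i^G)` the
integer inner products with the nine induced generalized characters, `d X` the degree of `X`.
A *configuration* (`Cfg`) for a set `R` of rows lists the characters on which some `v r`, `r ∈ R`,
does not vanish, together with the values of these `v r` on them (up to one sign per character).
-/

set_option autoImplicit false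
set_option linter.unusedSectionVars false

namespace Cfsg.Agent.Helper4.S3702R

/-- the Gram matrix of `F₁, …, F₉` -/
def gramM : Fin 9 → Fin 9 → ℤ :=
  ![![2, 0, 1, -1, 0, 0, -1, 0, 0],
    ![0, 2, 0, 1, 0, 0, 0, -1, -1],
    ![1, 0, 3, -1, 1, 1, -1, 1, 1],
    ![-1, 1, -1, 3, 1, 1, 1, -1, -1],
    ![0, 0, 1, 1, 4, 1, 1, 1, 1],
    ![0, 0, 1, 1, 1, 4, 1, 1, 1],
    ![-1, 0, -1, 1, 1, 1, 4, 1, 1],
    ![0, -1, 1, -1, 1, 1, 1, 4, 1],
    ![0, -1, 1, -1, 1, 1, 1, 1, 4]]

/-- the column of the principal character -/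
def col0 : Fin 9 → ℤ := ![0, 0, 0, 0, -1, 0, -1, -1, 0]

variable {ι : Type*} [Fintype ι] [DecidableEq ι]

/-- the hypotheses of the realization step -/
structure Hyp (o : ι) (v : Fin 9 → ι → ℤ) (d : ι → ℤ) : Prop where
  gram : ∀ i j, ∑ X, v i X * v j X = gramM i j
  princ : ∀ i, v i o = col0 i
  dpos : ∀ X, 0 < d X
  deg : ∀ i, ∑ X, v i X * d X = 0

/-- a configuration for the set `R` of rows: `n` distinct characters `W j` (the first one is `o`),
signs `ε j`, with `v r (W j) = ε j * cols j r` for `r ∈ R`, and `v r = 0` elsewhere -/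
structure Cfg (o : ι) (v : Fin 9 → ι → ℤ) (R : Finset (Fin 9)) (n : ℕ) [NeZero n]
    (cols : Fin n → Fin 9 → ℤ) where
  W : Fin n → ι
  ε : Fin n → ℤ
  inj : Function.Injective W
  sign : ∀ j, ε j = 1 ∨ ε j = -1
  val : ∀ r ∈ R, ∀ j, v r (W j) = ε j * cols j r
  out : ∀ r ∈ R, ∀ X, (∀ j, W j ≠ X) → v r X = 0
  W0 : W 0 = o
  ε0 : ε 0 = 1

/-- the propositional version -/
def IsCfg (o : ι) (v : Fin 9 → ι → ℤ) (R : Finset (Fin 9)) (n : ℕ) [NeZero n]
    (cols : Fin n → Fin 9 → ℤ) : Prop :=
  Nonempty (Cfg o v R n cols)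

section Core

variable {o : ι} {v : Fin 9 → ι → ℤ} {d : ι → ℤ} {R : Finset (Fin 9)} {n : ℕ} [NeZero n]
  {cols : Fin n → Fin 9 → ℤ}

theorem sign_mul_self {x : ℤ} (h : x = 1 ∨ x = -1) : x * x = 1 := by
  rcases h with rfl | rfl <;> norm_num

/-- a sum over `ι` of a function vanishing off the `W j` -/
theorem Cfg.sum_eq (c : Cfg o v R n cols) (f : ι → ℤ) (hf : ∀ X, (∀ j, c.W j ≠ X) → f X = 0) :
    ∑ X, f X = ∑ j, f (c.W j) := by
  rw [← Finset.sum_image (s := Finset.univ) (g := c.W) (f := f) (fun a _ b _ h => c.inj h)]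
  symm
  apply Finset.sum_subset (Finset.subset_univ _)
  intro X _ hX
  apply hf
  intro j hj
  exact hX (Finset.mem_image.2 ⟨j, Finset.mem_univ j, hj⟩)

/-- the entries of the new row `i` on the old characters, sign normalised -/
def Cfg.e (c : Cfg o v R n cols) (i : Fin 9) (j : Fin n) : ℤ := c.ε j * v i (c.W j)

theorem Cfg.v_eq (c : Cfg o v R n cols) (i : Fin 9) (j : Fin n) :
    v i (c.W j) = c.ε j * c.e i j := by
  unfold Cfg.e
  rw [← mul_assoc, sign_mul_self (c.sign j), one_mul]

theorem Cfg.e_zero (c : Cfg o v R n cols) (h : Hyp o v d) (i : Fin 9) : c.e i 0 = col0 i := by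
  unfold Cfg.e
  rw [c.ε0, c.W0, one_mul, h.princ]

/-- the inner products of the new row with the old rows -/
theorem Cfg.row_eq (c : Cfg o v R n cols) (h : Hyp o v d) (i : Fin 9) {r : Fin 9} (hr : r ∈ R) :
    ∑ j, c.e i j * cols j r = gramM i r := by
  rw [← h.gram i r, c.sum_eq (fun X => v i X * v r X)]
  · apply Finset.sum_congr rfl
    intro j _
    rw [c.val r hr j, c.v_eq i j]
    have := sign_mul_self (c.sign j)
    calc c.e i j * cols j r = (c.ε j * c.ε j) * (c.e i j * cols j r) := by rw [this, one_mul]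
      _ = c.ε j * c.e i j * (c.ε j * cols j r) := by ring
  · intro X hX
    rw [c.out r hr X hX, mul_zero]

/-- the part of the new row outside the old characters -/
def Cfg.outPart (c : Cfg o v R n cols) (i : Fin 9) (X : ι) : ℤ :=
  if ∃ j, c.W j = X then 0 else v i X

theorem Cfg.outPart_W (c : Cfg o v R n cols) (i : Fin 9) (j : Fin n) :
    c.outPart i (c.W j) = 0 := by
  unfold Cfg.outPart
  rw [if_pos ⟨j, rfl⟩]

theorem Cfg.outPart_of_ne (c : Cfg o v R n cols) (i : Fin 9) {X : ι} (hX : ∀ j, c.W j ≠ X) :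
    c.outPart i X = v i X := by
  unfold Cfg.outPart
  rw [if_neg]
  rintro ⟨j, hj⟩
  exact hX j hj

/-- the norm of the new row splits -/
theorem Cfg.norm_eq (c : Cfg o v R n cols) (h : Hyp o v d) (i : Fin 9) :
    ∑ j, c.e i j ^ 2 + ∑ X, c.outPart i X ^ 2 = gramM i i := by
  rw [← h.gram i i]
  have h1 : ∀ X, v i X * v i X =
      (if ∃ j, c.W j = X then v i X * v i X else 0) + c.outPart i X ^ 2 := by
    intro X
    unfold Cfg.outPart
    by_cases hX : ∃ j, c.W j = X
    · rw [if_pos hX, if_pos hX]; ring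
    · rw [if_neg hX, if_neg hX]; ring
  rw [Finset.sum_congr rfl (fun X _ => h1 X), Finset.sum_add_distrib]
  congr 1
  rw [c.sum_eq (fun X => if ∃ j, c.W j = X then v i X * v i X else 0)]
  · apply Finset.sum_congr rfl
    intro j _
    rw [if_pos ⟨j, rfl⟩, c.v_eq i j]
    have := sign_mul_self (c.sign j)
    calc c.e i j ^ 2 = (c.ε j * c.ε j) * c.e i j ^ 2 := by rw [this, one_mul]
      _ = c.ε j * c.e i j * (c.ε j * c.e i j) := by ring
  · intro X hX
    rw [if_neg]
    rintro ⟨j, hj⟩
    exact hX j hj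

/-- the signed degrees -/
def Cfg.D (c : Cfg o v R n cols) (d : ι → ℤ) (j : Fin n) : ℤ := c.ε j * d (c.W j)

theorem Cfg.D_ne_zero (c : Cfg o v R n cols) (h : Hyp o v d) (j : Fin n) : c.D d j ≠ 0 := by
  unfold Cfg.D
  have hd := h.dpos (c.W j)
  rcases c.sign j with hε | hε <;> rw [hε] <;> omega

theorem Cfg.D_zero (c : Cfg o v R n cols) (d : ι → ℤ) : c.D d 0 = d o := by
  unfold Cfg.D
  rw [c.ε0, c.W0, one_mul]

/-- the degree equations -/
theorem Cfg.deg_eq (c : Cfg o v R n cols) (h : Hyp o v d) {r : Fin 9} (hr : r ∈ R) :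
    ∑ j, cols j r * c.D d j = 0 := by
  rw [← h.deg r, c.sum_eq (fun X => v r X * d X)]
  · apply Finset.sum_congr rfl
    intro j _
    rw [c.val r hr j]
    unfold Cfg.D
    ring
  · intro X hX
    rw [c.out r hr X hX, zero_mul]

/-- linear lower bounds for the square of an integer (exact at `0, ±1, ±2`) -/
theorem sq_lines (x : ℤ) : x ≤ x ^ 2 ∧ -x ≤ x ^ 2 ∧ 3 * x - 2 ≤ x ^ 2 ∧ -3 * x - 2 ≤ x ^ 2 ∧
    5 * x - 6 ≤ x ^ 2 ∧ -5 * x - 6 ≤ x ^ 2 := by
  refine ⟨?_, ?_, ?_, ?_, ?_, ?_⟩
  · rcases le_or_gt x 0 with h | h <;> nlinarith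
  · rcases le_or_gt x (-1) with h | h <;> nlinarith
  · rcases le_or_gt x 1 with h | h <;> nlinarith
  · rcases le_or_gt x (-2) with h | h <;> nlinarith
  · rcases le_or_gt x 2 with h | h <;> nlinarith
  · rcases le_or_gt x (-3) with h | h <;> nlinarith

end Core

section Outside

/-- a function with positive square sum does not vanish somewhere; remove that point -/
theorem peel (g : ι → ℤ) (k : ℤ) (hk : 0 < k) (h : ∑ X, g X ^ 2 = k) :
    ∃ Y, g Y ≠ 0 ∧ ∑ X, (Function.update g Y 0 X) ^ 2 = k - g Y ^ 2 := by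
  have hex : ∃ Y, g Y ≠ 0 := by
    by_contra hno
    push Not at hno
    have : ∑ X, g X ^ 2 = 0 := Finset.sum_eq_zero (fun X _ => by rw [hno X]; norm_num)
    omega
  obtain ⟨Y, hY⟩ := hex
  refine ⟨Y, hY, ?_⟩
  have h1 : ∑ X, (Function.update g Y 0 X) ^ 2 =
      ∑ X, (g X ^ 2 - if X = Y then g Y ^ 2 else 0) := by
    apply Finset.sum_congr rfl
    intro X _
    by_cases hX : X = Y
    · subst hX
      rw [Function.update_self, if_pos rfl]; ring
    · rw [Function.update_of_ne hX, if_neg hX]; ring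
  rw [h1, Finset.sum_sub_distrib, h, Finset.sum_ite_eq' Finset.univ Y, if_pos (Finset.mem_univ Y)]

/-- the support of a function with square sum `k` consists of `k` points with values `±1`,
unless some value has square at least `4` -/
theorem shape (k : ℕ) : ∀ g : ι → ℤ, ∑ X, g X ^ 2 = (k : ℤ) →
    (∃ (Y : Fin k → ι) (η : Fin k → ℤ), Function.Injective Y ∧ (∀ l, η l = 1 ∨ η l = -1) ∧
      (∀ l, g (Y l) = η l) ∧ ∀ X, (∀ l, Y l ≠ X) → g X = 0) ∨ ∃ X, 4 ≤ g X ^ 2 := by
  induction k with
  | zero =>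
    intro g h
    left
    refine ⟨Fin.elim0, Fin.elim0, fun a => a.elim0, fun l => l.elim0, fun l => l.elim0, ?_⟩
    intro X _
    have hnn : ∀ Z ∈ Finset.univ, 0 ≤ g Z ^ 2 := fun Z _ => sq_nonneg _
    have h0 : ∑ Z, g Z ^ 2 = 0 := by simpa using h
    have := (Finset.sum_eq_zero_iff_of_nonneg hnn).1 h0 X (Finset.mem_univ X)
    exact pow_eq_zero_iff (two_ne_zero) |>.1 this
  | succ k ih =>
    intro g h
    obtain ⟨Y0, hY0, hsum⟩ := peel g ((k + 1 : ℕ) : ℤ) (by positivity) h
    by_cases h4 : 4 ≤ g Y0 ^ 2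
    · right; exact ⟨Y0, h4⟩
    · have hsq : g Y0 ^ 2 = 1 := by
        have h1 : 0 < g Y0 ^ 2 := by positivity
        have h2 : g Y0 ^ 2 < 4 := by omega
        have hb : -2 < g Y0 ∧ g Y0 < 2 := by constructor <;> nlinarith
        have : g Y0 = -1 ∨ g Y0 = 0 ∨ g Y0 = 1 := by omega
        rcases this with h' | h' | h'
        · rw [h']; norm_num
        · exact absurd h' hY0
        · rw [h']; norm_num
      have hη0 : g Y0 = 1 ∨ g Y0 = -1 := by
        have : (g Y0 - 1) * (g Y0 + 1) = 0 := by nlinarith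
        rcases mul_eq_zero.1 this with h' | h'
        · left; omega
        · right; omega
      have hsum' : ∑ X, (Function.update g Y0 0 X) ^ 2 = (k : ℤ) := by
        rw [hsum, hsq]; push_cast; ring
      rcases ih (Function.update g Y0 0) hsum' with ⟨Y, η, hinj, hη, hval, hrest⟩ | ⟨X, hX⟩
      · left
        have hne : ∀ l, Y l ≠ Y0 := by
          intro l hl
          have := hval l
          rw [hl, Function.update_self] at this
          rcases hη l with h' | h' <;> omega
        refine ⟨Fin.cons Y0 Y, Fin.cons (g Y0) η, ?_, ?_, ?_, ?_⟩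
        · rw [Fin.cons_injective_iff]
          refine ⟨?_, hinj⟩
          rintro ⟨l, hl⟩
          exact hne l hl
        · intro l
          refine Fin.cases ?_ (fun l' => ?_) l
          · rw [Fin.cons_zero]; exact hη0
          · rw [Fin.cons_succ]; exact hη l'
        · intro l
          refine Fin.cases ?_ (fun l' => ?_) l
          · rw [Fin.cons_zero, Fin.cons_zero]
          · rw [Fin.cons_succ, Fin.cons_succ]
            have := hval l'
            rwa [Function.update_of_ne (hne l')] at this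
        · intro X hX
          have hX0 : X ≠ Y0 := by
            intro h'
            have := hX 0
            rw [Fin.cons_zero] at this
            exact this h'.symm
          have := hrest X (fun l => by
            have := hX l.succ
            rwa [Fin.cons_succ] at this)
          rwa [Function.update_of_ne hX0] at this
      · right
        refine ⟨X, ?_⟩
        by_cases hXY : X = Y0
        · subst hXY
          rw [Function.update_self] at hX
          norm_num at hX
        · rwa [Function.update_of_ne hXY] at hX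

/-- square sum at most `3`: only values `±1` -/
theorem shape_small (k : ℕ) (hk : k ≤ 3) (g : ι → ℤ) (h : ∑ X, g X ^ 2 = (k : ℤ)) :
    ∃ (Y : Fin k → ι) (η : Fin k → ℤ), Function.Injective Y ∧ (∀ l, η l = 1 ∨ η l = -1) ∧
      (∀ l, g (Y l) = η l) ∧ ∀ X, (∀ l, Y l ≠ X) → g X = 0 := by
  rcases shape k g h with h' | ⟨X, hX⟩
  · exact h'
  · exfalso
    have hle : g X ^ 2 ≤ ∑ Z, g Z ^ 2 :=
      Finset.single_le_sum (f := fun Z => g Z ^ 2) (fun Z _ => sq_nonneg _) (Finset.mem_univ X)
    rw [h] at hle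
    have : (k : ℤ) ≤ 3 := by exact_mod_cast hk
    omega

/-- square sum `4`: four values `±1` or one value `±2` -/
theorem shape_four (g : ι → ℤ) (h : ∑ X, g X ^ 2 = 4) :
    (∃ (Y : Fin 4 → ι) (η : Fin 4 → ℤ), Function.Injective Y ∧ (∀ l, η l = 1 ∨ η l = -1) ∧
      (∀ l, g (Y l) = η l) ∧ ∀ X, (∀ l, Y l ≠ X) → g X = 0) ∨
    ∃ (Y : Fin 1 → ι) (η : Fin 1 → ℤ), Function.Injective Y ∧ (∀ l, η l = 1 ∨ η l = -1) ∧
      (∀ l, g (Y l) = η l * 2) ∧ ∀ X, (∀ l, Y l ≠ X) → g X = 0 := by
  rcases shape 4 g (by simpa using h) with h' | ⟨X, hX⟩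
  · exact Or.inl h'
  · right
    have hsplit : ∑ Z, g Z ^ 2 = g X ^ 2 + ∑ Z ∈ Finset.univ.erase X, g Z ^ 2 :=
      (Finset.add_sum_erase Finset.univ (fun Z => g Z ^ 2) (Finset.mem_univ X)).symm
    have hnn : 0 ≤ ∑ Z ∈ Finset.univ.erase X, g Z ^ 2 := Finset.sum_nonneg (fun Z _ => sq_nonneg _)
    have hX4 : g X ^ 2 = 4 := by omega
    have hrest0 : ∑ Z ∈ Finset.univ.erase X, g Z ^ 2 = 0 := by omega
    have hz : ∀ Z, Z ≠ X → g Z = 0 := by
      intro Z hZ
      have := (Finset.sum_eq_zero_iff_of_nonneg (fun Z _ => sq_nonneg (g Z))).1 hrest0 Z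
        (Finset.mem_erase.2 ⟨hZ, Finset.mem_univ Z⟩)
      exact pow_eq_zero_iff (two_ne_zero) |>.1 this
    have hval : g X = 2 ∨ g X = -2 := by
      have : (g X - 2) * (g X + 2) = 0 := by nlinarith
      rcases mul_eq_zero.1 this with h' | h'
      · left; omega
      · right; omega
    refine ⟨fun _ => X, fun _ => g X / 2, fun a b _ => Subsingleton.elim a b, ?_, ?_, ?_⟩
    · intro l
      rcases hval with h' | h' <;> rw [h'] <;> norm_num
    · intro l
      rcases hval with h' | h' <;> rw [h'] <;> norm_num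
    · intro Z hZ
      exact hz Z (fun h' => hZ 0 h'.symm)

end Outside

section Extend

variable {o : ι} {v : Fin 9 → ι → ℤ} {d : ι → ℤ} {R : Finset (Fin 9)} {n : ℕ} [NeZero n]
  {cols : Fin n → Fin 9 → ℤ}

/-- the child configuration: the new row `i` has the entries `p` on the old characters and
`±q` on the `k` new characters `Y`; the columns of the child are listed in the order given by
`src` -/
noncomputable def Cfg.extend {m k : ℕ} [NeZero m] (c : Cfg o v R n cols) (i : Fin 9)
    (p : Fin n → ℤ) (hp : ∀ j, c.e i j = p j) (q : ℤ) (hq : q ≠ 0)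
    (Y : Fin k → ι) (η : Fin k → ℤ) (hY : Function.Injective Y) (hη : ∀ l, η l = 1 ∨ η l = -1)
    (hYv : ∀ l, c.outPart i (Y l) = η l * q) (hYo : ∀ X, (∀ l, Y l ≠ X) → c.outPart i X = 0)
    (cols' : Fin m → Fin 9 → ℤ) (src : Fin m → Fin n ⊕ Fin k)
    (hsi : Function.Injective src) (hss : Function.Surjective src) (hs0 : src 0 = Sum.inl 0)
    (hcols : ∀ x r, r ∈ insert i R → cols' x r =
      Sum.elim (fun j => if r = i then p j else cols j r) (fun _ => if r = i then q else 0)
        (src x)) :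
    Cfg o v (insert i R) m cols' := by
  have hYne : ∀ l, η l ≠ 0 := by
    intro l
    rcases hη l with h' | h' <;> rw [h'] <;> norm_num
  have hWY : ∀ j l, c.W j ≠ Y l := by
    intro j l hjl
    have h1 := hYv l
    rw [← hjl, c.outPart_W] at h1
    exact mul_ne_zero (hYne l) hq h1.symm
  have hvY : ∀ l, v i (Y l) = η l * q := by
    intro l
    rw [← c.outPart_of_ne i (fun j => hWY j l)]
    exact hYv l
  refine
    { W := fun x => Sum.elim c.W Y (src x)
      ε := fun x => Sum.elim c.ε η (src x)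
      inj := ?_
      sign := ?_
      val := ?_
      out := ?_
      W0 := ?_
      ε0 := ?_ }
  · intro x x' hxx
    apply hsi
    simp only at hxx
    rcases hx : src x with j | l <;> rcases hx' : src x' with j' | l' <;>
      rw [hx, hx'] at hxx <;> simp only [Sum.elim_inl, Sum.elim_inr] at hxx
    · rw [c.inj hxx]
    · exact absurd hxx (hWY j l')
    · exact absurd hxx.symm (hWY j' l)
    · rw [hY hxx]
  · intro x
    rcases src x with j | l
    · exact c.sign j
    · exact hη l
  · intro r hr x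
    have hc := hcols x r hr
    rcases hx : src x with j | l <;> rw [hx] at hc <;>
      simp only [Sum.elim_inl, Sum.elim_inr] at hc ⊢ <;> rw [hc]
    · by_cases hri : r = i
      · rw [if_pos hri, hri, c.v_eq i j, hp j]
      · rw [if_neg hri]
        exact c.val r ((Finset.mem_insert.1 hr).resolve_left hri) j
    · by_cases hri : r = i
      · rw [if_pos hri, hri]
        exact hvY l
      · rw [if_neg hri, mul_zero]
        exact c.out r ((Finset.mem_insert.1 hr).resolve_left hri) (Y l) (fun j => hWY j l)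
  · intro r hr X hX
    have hXW : ∀ j, c.W j ≠ X := by
      intro j
      obtain ⟨x, hx⟩ := hss (Sum.inl j)
      have := hX x
      simp only [hx, Sum.elim_inl] at this
      exact this
    have hXY : ∀ l, Y l ≠ X := by
      intro l
      obtain ⟨x, hx⟩ := hss (Sum.inr l)
      have := hX x
      simp only [hx, Sum.elim_inr] at this
      exact this
    by_cases hri : r = i
    · rw [hri, ← c.outPart_of_ne i hXW]
      exact hYo X hXY
    · exact c.out r ((Finset.mem_insert.1 hr).resolve_left hri) X hXW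
  · simp only [hs0, Sum.elim_inl]
    exact c.W0
  · simp only [hs0, Sum.elim_inl]
    exact c.ε0

/-- the root configuration: only the principal character, no rows -/
def Cfg.root (o : ι) (v : Fin 9 → ι → ℤ) : Cfg o v ∅ 1 (fun _ _ => 0) where
  W := fun _ => o
  ε := fun _ => 1
  inj := fun a b _ => Subsingleton.elim a b
  sign := fun _ => Or.inl rfl
  val := fun r hr => absurd hr (Finset.notMem_empty r)
  out := fun r hr => absurd hr (Finset.notMem_empty r)
  W0 := rfl
  ε0 := rfl

end Extend

section Lists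

/-- the integers of square at most `4` -/
abbrev L5 : List ℤ := [-2, -1, 0, 1, 2]

/-- the integers of square at most `3` -/
abbrev L3 : List ℤ := [-1, 0, 1]

theorem memL5 {x : ℤ} (h : x ^ 2 ≤ 4) : x ∈ L5 := by
  have h1 : -3 < x := by nlinarith
  have h2 : x < 3 := by nlinarith
  have : x = -2 ∨ x = -1 ∨ x = 0 ∨ x = 1 ∨ x = 2 := by omega
  rcases this with rfl | rfl | rfl | rfl | rfl <;> decide

theorem memL3 {x : ℤ} (h : x ^ 2 ≤ 3) : x ∈ L3 := by
  have h1 : -2 < x := by nlinarith
  have h2 : x < 2 := by nlinarith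
  have : x = -1 ∨ x = 0 ∨ x = 1 := by omega
  rcases this with rfl | rfl | rfl <;> decide

end Lists

end Cfsg.Agent.Helper4.S3702R
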