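import Cfsg.Agent.Lib.Helper4.S3702RealCore

/-! # S3702 realization step: the configurations of the search tree (generated) -/

set_option autoImplicit false

namespace Cfsg.Agent.Helper4.S3702R

/-- the rows are processed in the order `0, 2, 1, 3, 4, 6, 8, 7, 5` -/
abbrev R0 : Finset (Fin 9) := ∅
/-- the rows processed at level 1 -/
abbrev R1 : Finset (Fin 9) := insert 0 R0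
/-- the rows processed at level 2 -/
abbrev R2 : Finset (Fin 9) := insert 2 R1
/-- the rows processed at level 3 -/
abbrev R3 : Finset (Fin 9) := insert 1 R2
/-- the rows processed at level 4 -/
abbrev R4 : Finset (Fin 9) := insert 3 R3
/-- the rows processed at level 5 -/
abbrev R5 : Finset (Fin 9) := insert 4 R4
/-- the rows processed at level 6 -/
abbrev R6 : Finset (Fin 9) := insert 6 R5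
/-- the rows processed at level 7 -/
abbrev R7 : Finset (Fin 9) := insert 8 R6
/-- the rows processed at level 8 -/
abbrev R8 : Finset (Fin 9) := insert 7 R7
/-- the rows processed at level 9 -/
abbrev R9 : Finset (Fin 9) := insert 5 R8

/-- node 0 (level 0) -/
def cols0 : Fin 1 → Fin 9 → ℤ :=
  ![![0, 0, 0, 0, 0, 0, 0, 0, 0]]

/-- node 1 (level 1) -/
def cols1 : Fin 3 → Fin 9 → ℤ :=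
  ![![0, 0, 0, 0, 0, 0, 0, 0, 0],
    ![1, 0, 0, 0, 0, 0, 0, 0, 0],
    ![1, 0, 0, 0, 0, 0, 0, 0, 0]]

/-- node 2 (level 2) -/
def cols2 : Fin 5 → Fin 9 → ℤ :=
  ![![0, 0, 0, 0, 0, 0, 0, 0, 0],
    ![0, 0, 1, 0, 0, 0, 0, 0, 0],
    ![0, 0, 1, 0, 0, 0, 0, 0, 0],
    ![1, 0, 0, 0, 0, 0, 0, 0, 0],
    ![1, 0, 1, 0, 0, 0, 0, 0, 0]]

/-- node 3 (level 3) -/
def cols3 : Fin 5 → Fin 9 → ℤ :=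
  ![![0, 0, 0, 0, 0, 0, 0, 0, 0],
    ![0, -1, 1, 0, 0, 0, 0, 0, 0],
    ![0, 1, 1, 0, 0, 0, 0, 0, 0],
    ![1, 0, 0, 0, 0, 0, 0, 0, 0],
    ![1, 0, 1, 0, 0, 0, 0, 0, 0]]

/-- node 4 (level 3) -/
def cols4 : Fin 7 → Fin 9 → ℤ :=
  ![![0, 0, 0, 0, 0, 0, 0, 0, 0],
    ![0, 0, 1, 0, 0, 0, 0, 0, 0],
    ![0, 0, 1, 0, 0, 0, 0, 0, 0],
    ![0, 1, 0, 0, 0, 0, 0, 0, 0],
    ![0, 1, 0, 0, 0, 0, 0, 0, 0],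
    ![1, 0, 0, 0, 0, 0, 0, 0, 0],
    ![1, 0, 1, 0, 0, 0, 0, 0, 0]]

/-- node 5 (level 4) -/
def cols5 : Fin 6 → Fin 9 → ℤ :=
  ![![0, 0, 0, 0, 0, 0, 0, 0, 0],
    ![0, -1, 1, -1, 0, 0, 0, 0, 0],
    ![0, 0, 0, 1, 0, 0, 0, 0, 0],
    ![0, 1, 1, 0, 0, 0, 0, 0, 0],
    ![1, 0, 0, -1, 0, 0, 0, 0, 0],
    ![1, 0, 1, 0, 0, 0, 0, 0, 0]]

/-- node 6 (level 4) -/
def cols6 : Fin 7 → Fin 9 → ℤ :=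
  ![![0, 0, 0, 0, 0, 0, 0, 0, 0],
    ![0, 0, 1, -1, 0, 0, 0, 0, 0],
    ![0, 0, 1, 0, 0, 0, 0, 0, 0],
    ![0, 1, 0, 0, 0, 0, 0, 0, 0],
    ![0, 1, 0, 1, 0, 0, 0, 0, 0],
    ![1, 0, 0, -1, 0, 0, 0, 0, 0],
    ![1, 0, 1, 0, 0, 0, 0, 0, 0]]

/-- node 7 (level 4) -/
def cols7 : Fin 8 → Fin 9 → ℤ :=
  ![![0, 0, 0, 0, 0, 0, 0, 0, 0],
    ![0, 0, 0, 1, 0, 0, 0, 0, 0],
    ![0, 0, 1, 0, 0, 0, 0, 0, 0],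
    ![0, 0, 1, 0, 0, 0, 0, 0, 0],
    ![0, 1, 0, 0, 0, 0, 0, 0, 0],
    ![0, 1, 0, 1, 0, 0, 0, 0, 0],
    ![1, 0, 0, 0, 0, 0, 0, 0, 0],
    ![1, 0, 1, -1, 0, 0, 0, 0, 0]]

/-- node 8 (level 5) -/
def cols8 : Fin 7 → Fin 9 → ℤ :=
  ![![0, 0, 0, 0, -1, 0, 0, 0, 0],
    ![0, -1, 1, -1, 0, 0, 0, 0, 0],
    ![0, 0, 0, 0, 1, 0, 0, 0, 0],
    ![0, 0, 0, 1, 0, 0, 0, 0, 0],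
    ![0, 1, 1, 0, 0, 0, 0, 0, 0],
    ![1, 0, 0, -1, -1, 0, 0, 0, 0],
    ![1, 0, 1, 0, 1, 0, 0, 0, 0]]

/-- dead child 0 of node 8 -/
def colsD8_0 : Fin 7 → Fin 9 → ℤ :=
  ![![0, 0, 0, 0, -1, 0, -1, 0, 0],
    ![0, -1, 1, -1, 0, 0, 0, 0, 0],
    ![0, 0, 0, 0, 1, 0, 1, 0, 0],
    ![0, 0, 0, 1, 0, 0, 1, 0, 0],
    ![0, 1, 1, 0, 0, 0, 0, 0, 0],
    ![1, 0, 0, -1, -1, 0, 0, 0, 0],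
    ![1, 0, 1, 0, 1, 0, -1, 0, 0]]

/-- node 9 (level 5) -/
def cols9 : Fin 8 → Fin 9 → ℤ :=
  ![![0, 0, 0, 0, -1, 0, 0, 0, 0],
    ![0, 0, 0, 0, 1, 0, 0, 0, 0],
    ![0, 0, 1, -1, 0, 0, 0, 0, 0],
    ![0, 0, 1, 0, 0, 0, 0, 0, 0],
    ![0, 1, 0, 0, 0, 0, 0, 0, 0],
    ![0, 1, 0, 1, 0, 0, 0, 0, 0],
    ![1, 0, 0, -1, -1, 0, 0, 0, 0],
    ![1, 0, 1, 0, 1, 0, 0, 0, 0]]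

/-- node 10 (level 5) -/
def cols10 : Fin 7 → Fin 9 → ℤ :=
  ![![0, 0, 0, 0, -1, 0, 0, 0, 0],
    ![0, 0, 1, -1, 0, 0, 0, 0, 0],
    ![0, 0, 1, 0, 1, 0, 0, 0, 0],
    ![0, 1, 0, 0, -1, 0, 0, 0, 0],
    ![0, 1, 0, 1, 1, 0, 0, 0, 0],
    ![1, 0, 0, -1, 0, 0, 0, 0, 0],
    ![1, 0, 1, 0, 0, 0, 0, 0, 0]]

/-- node 11 (level 5) -/
def cols11 : Fin 8 → Fin 9 → ℤ :=
  ![![0, 0, 0, 0, -1, 0, 0, 0, 0],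
    ![0, 0, 0, 1, 0, 0, 0, 0, 0],
    ![0, 0, 1, 0, 0, 0, 0, 0, 0],
    ![0, 0, 1, 0, 1, 0, 0, 0, 0],
    ![0, 1, 0, 0, -1, 0, 0, 0, 0],
    ![0, 1, 0, 1, 1, 0, 0, 0, 0],
    ![1, 0, 0, 0, 0, 0, 0, 0, 0],
    ![1, 0, 1, -1, 0, 0, 0, 0, 0]]

/-- dead child 1 of node 11 -/
def colsD11_1 : Fin 8 → Fin 9 → ℤ :=
  ![![0, 0, 0, 0, -1, 0, -1, 0, 0],
    ![0, 0, 0, 1, 0, 0, 1, 0, 0],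
    ![0, 0, 1, 0, 0, 0, -1, 0, 0],
    ![0, 0, 1, 0, 1, 0, 0, 0, 0],
    ![0, 1, 0, 0, -1, 0, 0, 0, 0],
    ![0, 1, 0, 1, 1, 0, 0, 0, 0],
    ![1, 0, 0, 0, 0, 0, -1, 0, 0],
    ![1, 0, 1, -1, 0, 0, 0, 0, 0]]

/-- node 12 (level 5) -/
def cols12 : Fin 9 → Fin 9 → ℤ :=
  ![![0, 0, 0, 0, -1, 0, 0, 0, 0],
    ![0, 0, 0, 0, 1, 0, 0, 0, 0],
    ![0, 0, 0, 1, 1, 0, 0, 0, 0],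
    ![0, 0, 1, 0, 0, 0, 0, 0, 0],
    ![0, 0, 1, 0, 1, 0, 0, 0, 0],
    ![0, 1, 0, 0, 0, 0, 0, 0, 0],
    ![0, 1, 0, 1, 0, 0, 0, 0, 0],
    ![1, 0, 0, 0, 0, 0, 0, 0, 0],
    ![1, 0, 1, -1, 0, 0, 0, 0, 0]]

/-- node 13 (level 6) -/
def cols13 : Fin 8 → Fin 9 → ℤ :=
  ![![0, 0, 0, 0, -1, 0, -1, 0, 0],
    ![0, 0, 0, 0, 1, 0, -1, 0, 0],
    ![0, 0, 1, -1, 0, 0, 0, 0, 0],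
    ![0, 0, 1, 0, 0, 0, -1, 0, 0],
    ![0, 1, 0, 0, 0, 0, 0, 0, 0],
    ![0, 1, 0, 1, 0, 0, 0, 0, 0],
    ![1, 0, 0, -1, -1, 0, -1, 0, 0],
    ![1, 0, 1, 0, 1, 0, 0, 0, 0]]

/-- node 14 (level 6) -/
def cols14 : Fin 10 → Fin 9 → ℤ :=
  ![![0, 0, 0, 0, -1, 0, -1, 0, 0],
    ![0, 0, 0, 0, 0, 0, 1, 0, 0],
    ![0, 0, 0, 0, 0, 0, 1, 0, 0],
    ![0, 0, 0, 1, 0, 0, 0, 0, 0],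
    ![0, 0, 1, 0, 0, 0, 0, 0, 0],
    ![0, 0, 1, 0, 1, 0, 0, 0, 0],
    ![0, 1, 0, 0, -1, 0, 0, 0, 0],
    ![0, 1, 0, 1, 1, 0, 0, 0, 0],
    ![1, 0, 0, 0, 0, 0, 0, 0, 0],
    ![1, 0, 1, -1, 0, 0, -1, 0, 0]]

/-- node 15 (level 6) -/
def cols15 : Fin 11 → Fin 9 → ℤ :=
  ![![0, 0, 0, 0, -1, 0, -1, 0, 0],
    ![0, 0, 0, 0, 0, 0, 1, 0, 0],
    ![0, 0, 0, 0, 0, 0, 1, 0, 0],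
    ![0, 0, 0, 0, 1, 0, 0, 0, 0],
    ![0, 0, 0, 1, 1, 0, 0, 0, 0],
    ![0, 0, 1, 0, 0, 0, 0, 0, 0],
    ![0, 0, 1, 0, 1, 0, 0, 0, 0],
    ![0, 1, 0, 0, 0, 0, 0, 0, 0],
    ![0, 1, 0, 1, 0, 0, 0, 0, 0],
    ![1, 0, 0, 0, 0, 0, 0, 0, 0],
    ![1, 0, 1, -1, 0, 0, -1, 0, 0]]

/-- node 16 (level 6) -/
def cols16 : Fin 9 → Fin 9 → ℤ :=
  ![![0, 0, 0, 0, -1, 0, -1, 0, 0],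
    ![0, 0, 0, 0, 1, 0, 0, 0, 0],
    ![0, 0, 0, 1, 1, 0, 1, 0, 0],
    ![0, 0, 1, 0, 0, 0, 0, 0, 0],
    ![0, 0, 1, 0, 1, 0, -1, 0, 0],
    ![0, 1, 0, 0, 0, 0, 0, 0, 0],
    ![0, 1, 0, 1, 0, 0, 0, 0, 0],
    ![1, 0, 0, 0, 0, 0, -1, 0, 0],
    ![1, 0, 1, -1, 0, 0, 0, 0, 0]]

/-- node 17 (level 7) -/
def cols17 : Fin 10 → Fin 9 → ℤ :=
  ![![0, 0, 0, 0, -1, 0, -1, 0, 0],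
    ![0, 0, 0, 0, 0, 0, 1, 0, 0],
    ![0, 0, 0, 0, 0, 0, 1, 0, 1],
    ![0, 0, 0, 1, 0, 0, 0, 0, -1],
    ![0, 0, 1, 0, 0, 0, 0, 0, 1],
    ![0, 0, 1, 0, 1, 0, 0, 0, 0],
    ![0, 1, 0, 0, -1, 0, 0, 0, -1],
    ![0, 1, 0, 1, 1, 0, 0, 0, 0],
    ![1, 0, 0, 0, 0, 0, 0, 0, 0],
    ![1, 0, 1, -1, 0, 0, -1, 0, 0]]

/-- node 18 (level 7) -/
def cols18 : Fin 12 → Fin 9 → ℤ :=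
  ![![0, 0, 0, 0, -1, 0, -1, 0, 0],
    ![0, 0, 0, 0, 0, 0, 0, 0, 1],
    ![0, 0, 0, 0, 0, 0, 1, 0, 0],
    ![0, 0, 0, 0, 0, 0, 1, 0, 1],
    ![0, 0, 0, 0, 1, 0, 0, 0, 0],
    ![0, 0, 0, 1, 1, 0, 0, 0, 0],
    ![0, 0, 1, 0, 0, 0, 0, 0, 0],
    ![0, 0, 1, 0, 1, 0, 0, 0, 1],
    ![0, 1, 0, 0, 0, 0, 0, 0, 0],
    ![0, 1, 0, 1, 0, 0, 0, 0, -1],
    ![1, 0, 0, 0, 0, 0, 0, 0, 0],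
    ![1, 0, 1, -1, 0, 0, -1, 0, 0]]

/-- node 19 (level 7) -/
def cols19 : Fin 11 → Fin 9 → ℤ :=
  ![![0, 0, 0, 0, -1, 0, -1, 0, 0],
    ![0, 0, 0, 0, 0, 0, 1, 0, 0],
    ![0, 0, 0, 0, 0, 0, 1, 0, 1],
    ![0, 0, 0, 0, 1, 0, 0, 0, 1],
    ![0, 0, 0, 1, 1, 0, 0, 0, 0],
    ![0, 0, 1, 0, 0, 0, 0, 0, 1],
    ![0, 0, 1, 0, 1, 0, 0, 0, 0],
    ![0, 1, 0, 0, 0, 0, 0, 0, 0],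
    ![0, 1, 0, 1, 0, 0, 0, 0, -1],
    ![1, 0, 0, 0, 0, 0, 0, 0, 0],
    ![1, 0, 1, -1, 0, 0, -1, 0, 0]]

/-- node 20 (level 7) -/
def cols20 : Fin 9 → Fin 9 → ℤ :=
  ![![0, 0, 0, 0, -1, 0, -1, 0, 0],
    ![0, 0, 0, 0, 1, 0, 0, 0, 1],
    ![0, 0, 0, 1, 1, 0, 1, 0, 0],
    ![0, 0, 1, 0, 0, 0, 0, 0, 0],
    ![0, 0, 1, 0, 1, 0, -1, 0, 0],
    ![0, 1, 0, 0, 0, 0, 0, 0, -1],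
    ![0, 1, 0, 1, 0, 0, 0, 0, 0],
    ![1, 0, 0, 0, 0, 0, -1, 0, -1],
    ![1, 0, 1, -1, 0, 0, 0, 0, 1]]

/-- node 21 (level 8) -/
def cols21 : Fin 12 → Fin 9 → ℤ :=
  ![![0, 0, 0, 0, -1, 0, -1, -1, 0],
    ![0, 0, 0, 0, 0, 0, 0, 0, 1],
    ![0, 0, 0, 0, 0, 0, 1, 0, 0],
    ![0, 0, 0, 0, 0, 0, 1, 0, 1],
    ![0, 0, 0, 0, 1, 0, 0, 0, 0],
    ![0, 0, 0, 1, 1, 0, 0, -1, 0],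
    ![0, 0, 1, 0, 0, 0, 0, 0, 0],
    ![0, 0, 1, 0, 1, 0, 0, 1, 1],
    ![0, 1, 0, 0, 0, 0, 0, -1, 0],
    ![0, 1, 0, 1, 0, 0, 0, 0, -1],
    ![1, 0, 0, 0, 0, 0, 0, 0, 0],
    ![1, 0, 1, -1, 0, 0, -1, 0, 0]]

/-- dead child 0 of node 21 -/
def colsD21_0 : Fin 12 → Fin 9 → ℤ :=
  ![![0, 0, 0, 0, -1, 0, -1, -1, 0],
    ![0, 0, 0, 0, 0, 0, 0, 0, 1],
    ![0, 0, 0, 0, 0, 0, 1, 0, 0],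
    ![0, 0, 0, 0, 0, 0, 1, 0, 1],
    ![0, 0, 0, 0, 1, 0, 0, 0, 0],
    ![0, 0, 0, 1, 1, 0, 0, -1, 0],
    ![0, 0, 1, 0, 0, 1, 0, 0, 0],
    ![0, 0, 1, 0, 1, 1, 0, 1, 1],
    ![0, 1, 0, 0, 0, 0, 0, -1, 0],
    ![0, 1, 0, 1, 0, 0, 0, 0, -1],
    ![1, 0, 0, 0, 0, 1, 0, 0, 0],
    ![1, 0, 1, -1, 0, -1, -1, 0, 0]]

/-- node 22 (level 8) -/
def cols22 : Fin 13 → Fin 9 → ℤ :=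
  ![![0, 0, 0, 0, -1, 0, -1, -1, 0],
    ![0, 0, 0, 0, 0, 0, 0, 0, 1],
    ![0, 0, 0, 0, 0, 0, 0, 1, 0],
    ![0, 0, 0, 0, 0, 0, 1, 0, 0],
    ![0, 0, 0, 0, 0, 0, 1, 0, 1],
    ![0, 0, 0, 0, 1, 0, 0, 0, 0],
    ![0, 0, 0, 1, 1, 0, 0, 0, 0],
    ![0, 0, 1, 0, 0, 0, 0, 1, 0],
    ![0, 0, 1, 0, 1, 0, 0, 0, 1],
    ![0, 1, 0, 0, 0, 0, 0, 0, 0],
    ![0, 1, 0, 1, 0, 0, 0, -1, -1],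
    ![1, 0, 0, 0, 0, 0, 0, 0, 0],
    ![1, 0, 1, -1, 0, 0, -1, 0, 0]]

/-- dead child 0 of node 22 -/
def colsD22_0 : Fin 13 → Fin 9 → ℤ :=
  ![![0, 0, 0, 0, -1, 0, -1, -1, 0],
    ![0, 0, 0, 0, 0, 0, 0, 0, 1],
    ![0, 0, 0, 0, 0, 0, 0, 1, 0],
    ![0, 0, 0, 0, 0, 0, 1, 0, 0],
    ![0, 0, 0, 0, 0, 0, 1, 0, 1],
    ![0, 0, 0, 0, 1, 0, 0, 0, 0],
    ![0, 0, 0, 1, 1, 0, 0, 0, 0],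
    ![0, 0, 1, 0, 0, 1, 0, 1, 0],
    ![0, 0, 1, 0, 1, 1, 0, 0, 1],
    ![0, 1, 0, 0, 0, 0, 0, 0, 0],
    ![0, 1, 0, 1, 0, 0, 0, -1, -1],
    ![1, 0, 0, 0, 0, 1, 0, 0, 0],
    ![1, 0, 1, -1, 0, -1, -1, 0, 0]]

/-- node 23 (level 9) -/
def cols23 : Fin 14 → Fin 9 → ℤ :=
  ![![0, 0, 0, 0, -1, 0, -1, -1, 0],
    ![0, 0, 0, 0, 0, 0, 0, 0, 1],
    ![0, 0, 0, 0, 0, 0, 0, 1, 0],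
    ![0, 0, 0, 0, 0, 0, 1, 0, 0],
    ![0, 0, 0, 0, 0, 1, 0, 0, 0],
    ![0, 0, 0, 0, 0, 1, 1, 0, 1],
    ![0, 0, 0, 0, 1, 0, 0, 0, 0],
    ![0, 0, 0, 1, 1, 1, 0, 0, 0],
    ![0, 0, 1, 0, 0, 1, 0, 1, 0],
    ![0, 0, 1, 0, 1, 0, 0, 0, 1],
    ![0, 1, 0, 0, 0, 0, 0, 0, 0],
    ![0, 1, 0, 1, 0, 0, 0, -1, -1],
    ![1, 0, 0, 0, 0, 0, 0, 0, 0],
    ![1, 0, 1, -1, 0, 0, -1, 0, 0]]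

/-- node 24 (level 9) -/
def cols24 : Fin 13 → Fin 9 → ℤ :=
  ![![0, 0, 0, 0, -1, 0, -1, -1, 0],
    ![0, 0, 0, 0, 0, 0, 0, 1, 0],
    ![0, 0, 0, 0, 0, 0, 1, 0, 1],
    ![0, 0, 0, 0, 0, 1, 0, 0, 1],
    ![0, 0, 0, 0, 0, 1, 1, 0, 0],
    ![0, 0, 0, 0, 1, 0, 0, 0, 0],
    ![0, 0, 0, 1, 1, 1, 0, 0, 0],
    ![0, 0, 1, 0, 0, 1, 0, 1, 0],
    ![0, 0, 1, 0, 1, 0, 0, 0, 1],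
    ![0, 1, 0, 0, 0, 0, 0, 0, 0],
    ![0, 1, 0, 1, 0, 0, 0, -1, -1],
    ![1, 0, 0, 0, 0, 0, 0, 0, 0],
    ![1, 0, 1, -1, 0, 0, -1, 0, 0]]

end Cfsg.Agent.Helper4.S3702R
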