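import Cfsg.Agent.Lib.Helper4.S3702Real
import Cfsg.Agent.Lib.Helper24.TC648End

/-!
# S3702 part (A): STRUCT and the arithmetic theorem `arith : A.m = 1`

Glue between the realization tree (`S3702Real`, in the basis `F₁ … F₉`) and helper16's interface
`Arith` (basis `ξ0..ξ3, ζ±, υ0..υ2`): the change of basis `tM` is unimodular, it carries the Gram
matrix `M0` to `gramM` and the column `v1` to `col0`.  The two final nodes of the tree are
helper24's `Wnat` and `Wexo`, so `end_nat` / `end_exo` finish the proof.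
-/

set_option autoImplicit false
set_option linter.unusedSectionVars false

namespace Cfsg.Agent.Helper4.S3702R

open Cfsg.Agent.Helper16.TC648

/-- the rows `F₁ … F₉` in terms of `l₀ … l₈ = ξ0..ξ3, ζ+, ζ-, υ0..υ2` -/
def tM : Fin 9 → Fin 9 → ℤ :=
  ![![0, 1, 0, -1, 0, 0, 0, 0, 0],
    ![0, 0, 0, 0, 0, 0, 0, 1, -1],
    ![0, 1, 0, 0, 0, 0, 0, 0, 0],
    ![0, -1, 0, 0, 0, 0, 0, 1, 0],
    ![1, 0, 0, 0, 0, 0, 0, 0, 0],
    ![0, 0, 1, 0, 0, 0, 0, 0, 0],
    ![0, -1, 0, 0, 0, 0, 1, 0, 0],
    ![0, 0, 0, 0, 1, 0, 0, -1, 0],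
    ![0, 0, 0, 0, 0, 1, 0, -1, 0]]

/-- the inverse change of basis -/
def tI : Fin 9 → Fin 9 → ℤ :=
  ![![0, 0, 0, 0, 1, 0, 0, 0, 0],
    ![0, 0, 1, 0, 0, 0, 0, 0, 0],
    ![0, 0, 0, 0, 0, 1, 0, 0, 0],
    ![-1, 0, 1, 0, 0, 0, 0, 0, 0],
    ![0, 0, 1, 1, 0, 0, 0, 1, 0],
    ![0, 0, 1, 1, 0, 0, 0, 0, 1],
    ![0, 0, 1, 0, 0, 0, 1, 0, 0],
    ![0, 0, 1, 1, 0, 0, 0, 0, 0],
    ![0, -1, 1, 1, 0, 0, 0, 0, 0]]

theorem tI_tM : ∀ i k, ∑ r, tI i r * tM r k = if i = k then 1 else 0 := by decide

theorem tM_gram : ∀ r s, ∑ i, ∑ j, tM r i * tM s j * M0 i j = gramM r s := by decide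

theorem tM_v1 : ∀ r, ∑ i, tM r i * v1 i = col0 r := by decide

/-- position of the columns of `Wnat` in the final node `cols23` -/
def piNat : Fin 14 → Fin 14 := ![1, 2, 3, 4, 5, 6, 0, 7, 8, 9, 10, 11, 12, 13]

/-- position of the columns of `Wexo` in the final node `cols24` -/
def piExo : Fin 13 → Fin 13 := ![1, 2, 3, 4, 5, 0, 6, 7, 8, 9, 10, 11, 12]

theorem piNat_inj : Function.Injective piNat := by decide

theorem piExo_inj : Function.Injective piExo := by decide

theorem piNat_surj : Function.Surjective piNat := by decide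

theorem piExo_surj : Function.Surjective piExo := by decide

theorem wnat_eq : ∀ j i, ∑ r, tI i r * cols23 (piNat j) r = Wnat j i := by decide

theorem wexo_eq : ∀ j i, ∑ r, tI i r * cols24 (piExo j) r = Wexo j i := by decide

variable {ι : Type*} [Fintype ι]

/-- the coordinates in the basis `F₁ … F₉` -/
def vF (A : Arith ι) (r : Fin 9) (X : ι) : ℤ := ∑ i, tM r i * A.v X i

theorem v_eq_vF (A : Arith ι) (X : ι) (i : Fin 9) : A.v X i = ∑ r, tI i r * vF A r X := by
  unfold vF
  simp only [Finset.mul_sum]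
  rw [Finset.sum_comm]
  have h1 : ∀ k, ∑ r, tI i r * (tM r k * A.v X k) = (if i = k then 1 else 0) * A.v X k := by
    intro k
    rw [← tI_tM i k, Finset.sum_mul]
    apply Finset.sum_congr rfl
    intro r _
    ring
  rw [Finset.sum_congr rfl (fun k _ => h1 k)]
  simp

theorem hyp_of_arith [DecidableEq ι] (A : Arith ι) :
    Hyp A.o (vF A) (fun X => (A.d X : ℤ)) where
  gram := by
    intro r s
    rw [← tM_gram r s]
    simp only [vF, Finset.sum_mul_sum]
    rw [Finset.sum_comm]
    apply Finset.sum_congr rfl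
    intro i _
    rw [Finset.sum_comm]
    apply Finset.sum_congr rfl
    intro j _
    rw [← A.gram i j, Finset.mul_sum]
    apply Finset.sum_congr rfl
    intro X _
    ring
  princ := by
    intro r
    rw [← tM_v1 r]
    unfold vF
    rw [A.ho]
  dpos := by
    intro X
    exact_mod_cast A.dpos X
  deg := by
    intro r
    unfold vF
    simp only [Finset.sum_mul]
    rw [Finset.sum_comm]
    have h1 : ∀ i, ∑ X, tM r i * A.v X i * (A.d X : ℤ) = tM r i * ∑ X, A.v X i * (A.d X : ℤ) := by
      intro i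
      rw [Finset.mul_sum]
      apply Finset.sum_congr rfl
      intro X _
      ring
    rw [Finset.sum_congr rfl (fun i _ => h1 i)]
    simp [A.deg]

/-- a final configuration gives a final node of helper24 -/
theorem finalNode_of_cfg [DecidableEq ι] (A : Arith ι) {n : ℕ} [NeZero n]
    {cols : Fin n → Fin 9 → ℤ} (c : Cfg A.o (vF A) R9 n cols) (W : Fin n → Fin 9 → ℤ)
    (π : Fin n → Fin n) (hπi : Function.Injective π) (hπs : Function.Surjective π)
    (hW : ∀ j i, ∑ r, tI i r * cols (π j) r = W j i) : FinalNode A n W := by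
  refine ⟨fun j => c.W (π j), fun j => c.ε (π j), ?_, ?_, ?_, ?_⟩
  · intro a b hab
    exact hπi (c.inj hab)
  · intro j
    exact c.sign (π j)
  · intro j i
    rw [v_eq_vF, ← hW j i, Finset.mul_sum]
    apply Finset.sum_congr rfl
    intro r _
    rw [c.val_all r (π j)]
    ring
  · intro Y hY i
    rw [v_eq_vF]
    apply Finset.sum_eq_zero
    intro r _
    rw [c.out_all r Y, mul_zero]
    intro j
    obtain ⟨j', rfl⟩ := hπs j
    exact fun h => hY j' h.symm

/-- **STRUCT**: the natural or the exotic realization -/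
theorem struct (A : Arith ι) : FinalNode A 14 Wnat ∨ FinalNode A 13 Wexo := by
  classical
  rcases realization (hyp_of_arith A) with h | h
  · obtain ⟨c⟩ := h
    exact Or.inl (finalNode_of_cfg A c Wnat piNat piNat_inj piNat_surj wnat_eq)
  · obtain ⟨c⟩ := h
    exact Or.inr (finalNode_of_cfg A c Wexo piExo piExo_inj piExo_surj wexo_eq)

/-- **the arithmetic part of S3702** -/
theorem arith (A : Arith ι) : A.m = 1 := by
  rcases struct A with h | h
  · exact end_nat A h
  · exact (end_exo A h).elim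

/-! ### the same in helper16's column order (`Realizes ncol` / `Realizes ecol`) -/

/-- position of the columns of `ncol` in the final node `cols23` -/
def piN : Fin 14 → Fin 14 := ![6, 13, 4, 12, 2, 1, 3, 11, 10, 0, 5, 7, 8, 9]

/-- the signs of the columns of `ncol` relative to `cols23` -/
def sgN : Fin 14 → ℤ := ![1, 1, 1, -1, 1, 1, 1, 1, -1, 1, -1, -1, -1, -1]

/-- position of the columns of `ecol` in the final node `cols24` -/
def piE : Fin 13 → Fin 13 := ![5, 12, 11, 1, 10, 9, 0, 6, 7, 8, 2, 3, 4]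

/-- the signs of the columns of `ecol` relative to `cols24` -/
def sgE : Fin 13 → ℤ := ![1, 1, -1, 1, 1, -1, 1, -1, -1, -1, 1, 1, 1]

theorem piN_inj : Function.Injective piN := by decide

theorem piE_inj : Function.Injective piE := by decide

theorem piN_surj : Function.Surjective piN := by decide

theorem piE_surj : Function.Surjective piE := by decide

theorem sgN_sign : ∀ j, sgN j = 1 ∨ sgN j = -1 := by decide

theorem sgE_sign : ∀ j, sgE j = 1 ∨ sgE j = -1 := by decide

theorem ncol_eq : ∀ j i, ∑ r, tI i r * cols23 (piN j) r = sgN j * ncol j i := by decide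

theorem ecol_eq : ∀ j i, ∑ r, tI i r * cols24 (piE j) r = sgE j * ecol j i := by decide

/-- a final configuration realizes the columns `W` (up to the permutation `π` and signs `s`) -/
theorem realizes_of_cfg [DecidableEq ι] (A : Arith ι) {n : ℕ} [NeZero n]
    {cols : Fin n → Fin 9 → ℤ} (c : Cfg A.o (vF A) R9 n cols) (W : Fin n → Fin 9 → ℤ)
    (π : Fin n → Fin n) (s : Fin n → ℤ) (hπi : Function.Injective π)
    (hπs : Function.Surjective π) (hs : ∀ j, s j = 1 ∨ s j = -1)
    (hW : ∀ j i, ∑ r, tI i r * cols (π j) r = s j * W j i) : Realizes W A.v := by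
  refine ⟨fun j => c.W (π j), fun j => c.ε (π j) * s j, ?_, ?_, ?_, ?_⟩
  · intro a b hab
    exact hπi (c.inj hab)
  · intro j
    show c.ε (π j) * s j = 1 ∨ c.ε (π j) * s j = -1
    rcases c.sign (π j) with h1 | h1 <;> rcases hs j with h2 | h2 <;> rw [h1, h2] <;> norm_num
  · intro j i
    show A.v (c.W (π j)) i = c.ε (π j) * s j * W j i
    rw [v_eq_vF, mul_assoc, ← hW j i, Finset.mul_sum]
    apply Finset.sum_congr rfl
    intro r _
    rw [c.val_all r (π j)]
    ring
  · intro Y hY
    funext i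
    rw [v_eq_vF]
    apply Finset.sum_eq_zero
    intro r _
    rw [c.out_all r Y, mul_zero]
    intro j
    obtain ⟨j', rfl⟩ := hπs j
    exact fun h => hY j' h.symm

/-- **STRUCT** in helper16's form -/
theorem struct_realizes (A : Arith ι) : Realizes ncol A.v ∨ Realizes ecol A.v := by
  classical
  rcases realization (hyp_of_arith A) with h | h
  · obtain ⟨c⟩ := h
    exact Or.inl (realizes_of_cfg A c ncol piN sgN piN_inj piN_surj sgN_sign ncol_eq)
  · obtain ⟨c⟩ := h
    exact Or.inr (realizes_of_cfg A c ecol piE sgE piE_inj piE_surj sgE_sign ecol_eq)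

end Cfsg.Agent.Helper4.S3702R

namespace Cfsg.Agent.Helper16.TC648

/-- **STRUCT** under the name helper16 asked for -/
theorem struct {ι : Type*} [Fintype ι] (A : Arith ι) : Realizes ncol A.v ∨ Realizes ecol A.v :=
  Cfsg.Agent.Helper4.S3702R.struct_realizes A

/-- the arithmetic part of S3702 (same as `Cfsg.Agent.Helper4.S3702R.arith`) -/
theorem arith_m {ι : Type*} [Fintype ι] (A : Arith ι) : A.m = 1 :=
  Cfsg.Agent.Helper4.S3702R.arith A

end Cfsg.Agent.Helper16.TC648
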