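import Mathlib
import Cfsg.Prelude.Def_Local
import Cfsg.Prelude.Def_SylowChains
import Cfsg.Prelude.Def_Transfer
import Cfsg.Agent.Lib.Helper1.AlperinGoldschmidt

/-!
# Strong Alperin–Goldschmidt: step predicate and reachability (helper4)
-/

set_option autoImplicit false

namespace Cfsg.Agent.Helper4.SAG

open Cfsg Subgroup
open Cfsg.Agent.Helper10 (rcs rcg XChain rcs_mul rcs_one mem_rcs rcs_mono coe_rcg mem_rcg
  mem_normalizer_iff_rcg)

variable {G : Type*} [Group G]

/-- the strong step predicate: `H` lies in the strong Alperin–Goldschmidt family and `x` lies in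
`O^p(X)` where `X / H` is the smallest normal subgroup of `N(H) / H` of order divisible by `p`. -/
def SStep {p : ℕ} (P : Sylow p G) (H : Subgroup G) (x : G) : Prop :=
  ∃ X : Subgroup G,
    H ≤ (P : Subgroup G) ∧
    ¬ p ∣ ((P : Subgroup G) ⊓ normalizer (H : Set G)).relIndex (normalizer (H : Set G)) ∧
    (P : Subgroup G) ⊓ centralizer (H : Set G) ≤ H ∧
    (Cfsg.pPrimePCore p ↥(normalizer (H : Set G))).map (normalizer (H : Set G)).subtype =
      H ⊔ centralizer (H : Set G) ∧
    ¬ Cfsg.IsSylowChainConnected p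
        (↥(normalizer (H : Set G)) ⧸ H.subgroupOf (normalizer (H : Set G))) ∧
    (H ≤ X ∧ X ≤ normalizer (H : Set G) ∧
      (X.subgroupOf (normalizer (H : Set G))).Normal ∧ p ∣ H.relIndex X ∧
      ∀ Y : Subgroup G, H ≤ Y → Y ≤ normalizer (H : Set G) →
        (Y.subgroupOf (normalizer (H : Set G))).Normal → p ∣ H.relIndex Y → X ≤ Y) ∧
    x ∈ (Cfsg.pResidual p ↥X).map X.subtype

theorem SStep.mem_normalizer {p : ℕ} {P : Sylow p G} {H : Subgroup G} {x : G}
    (h : SStep P H x) : x ∈ normalizer (H : Set G) := by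
  obtain ⟨X, -, -, -, -, -, ⟨-, hXN, -, -, -⟩, hx⟩ := h
  exact hXN (Subgroup.map_subtype_le _ hx)

/-- strong reachability -/
def SReach {p : ℕ} (P : Sylow p G) (A : Set G) (g : G) : Prop :=
  ∃ c m y : G, c ∈ centralizer A ∧ y ∈ normalizer ((P : Subgroup G) : Set G) ∧ g = c * m * y ∧
    XChain (SStep P) A m

variable {p : ℕ} {P : Sylow p G}

theorem SReach.mono {A B : Set G} {g : G} (h : SReach P B g) (hAB : A ⊆ B) : SReach P A g := by
  obtain ⟨c, m, y, hc, hy, hg, hm⟩ := h
  exact ⟨c, m, y, Subgroup.centralizer_le hAB hc, hy, hg, hm.mono hAB⟩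

theorem SReach.mul_left {A : Set G} {g c : G} (h : SReach P A g) (hc : c ∈ centralizer A) :
    SReach P A (c * g) := by
  obtain ⟨c', m, y, hc', hy, hg, hm⟩ := h
  exact ⟨c * c', m, y, Subgroup.mul_mem _ hc hc', hy, by rw [hg]; group, hm⟩

theorem SReach.of_NP {A : Set G} {y : G} (hy : y ∈ normalizer ((P : Subgroup G) : Set G)) :
    SReach P A y :=
  ⟨1, 1, y, Subgroup.one_mem _, hy, by group, XChain.nil A⟩

theorem SReach.one {A : Set G} : SReach P A 1 := SReach.of_NP (Subgroup.one_mem _)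

theorem SReach.single {A : Set G} {D : Subgroup G} {x : G} (hD : SStep P D x)
    (hAD : A ⊆ (D : Set G)) : SReach P A x :=
  ⟨1, x, 1, Subgroup.one_mem _, Subgroup.one_mem _, by group,
    XChain.single hD hD.mem_normalizer hAD⟩

theorem rcs_eq_of_mem_centralizer' {A : Set G} {c : G} (hc : c ∈ centralizer A) : rcs c A = A :=
  Cfsg.Agent.Helper1.AG.rcs_eq_of_mem_centralizer hc

theorem conj_mem_centralizer_of_rcs {A : Set G} {m c' : G} (hc' : c' ∈ centralizer (rcs m A)) :
    m * c' * m⁻¹ ∈ centralizer A := by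
  rw [mem_centralizer_iff]
  intro a ha
  have hma : m⁻¹ * a * m ∈ rcs m A := by
    rw [mem_rcs]
    have e : m * (m⁻¹ * a * m) * m⁻¹ = a := by group
    rw [e]; exact ha
  have h3 := mem_centralizer_iff.mp hc' _ hma
  calc a * (m * c' * m⁻¹) = m * ((m⁻¹ * a * m) * c') * m⁻¹ := by group
    _ = m * (c' * (m⁻¹ * a * m)) * m⁻¹ := by rw [h3]
    _ = m * c' * m⁻¹ * a := by group

/-- composition, where the second part is taken after conjugating by the `N(P)`-tail of the
first -/
theorem SReach.trans' {A : Set G} {g h : G} (h1 : SReach P A g)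
    (h2 : ∀ y ∈ normalizer ((P : Subgroup G) : Set G),
      SReach P (rcs (g * y⁻¹) A) (y * h * y⁻¹)) : SReach P A (g * h) := by
  obtain ⟨c, m, y, hc, hy, hg, hm⟩ := h1
  have e1 : rcs (g * y⁻¹) A = rcs m A := by
    have : g * y⁻¹ = c * m := by rw [hg]; group
    rw [this, rcs_mul, rcs_eq_of_mem_centralizer' hc]
  have h3 := h2 y hy
  rw [e1] at h3
  obtain ⟨c', m', y', hc', hy', hh, hm'⟩ := h3
  refine ⟨c * (m * c' * m⁻¹), m * m', y' * y, Subgroup.mul_mem _ hc (conj_mem_centralizer_of_rcs hc'),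
    Subgroup.mul_mem _ hy' hy, ?_, hm.trans hm'⟩
  have e2 : h = y⁻¹ * (c' * m' * y') * y := by rw [← hh]; group
  rw [hg, e2]; group

end Cfsg.Agent.Helper4.SAG
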