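import Mathlib
import Cfsg.Prelude.Def_SylowChains
import Cfsg.Agent.Lib.Helper10.TameAlperin
import Cfsg.Agent.Lib.Helper15.SylowGraph

/-!
# Generation of a group with chain-connected Sylow subgroups by local subgroups (helper4)
-/

set_option autoImplicit false

namespace Cfsg.Agent.Helper4.SAG

open Cfsg Subgroup
open Cfsg.Agent.Helper10 (rcs rcg XChain TameStep rcs_mul rcs_one mem_rcs rcs_mono coe_rcg mem_rcg
  mem_normalizer_iff_rcg)
open Cfsg.Agent.Helper15 (sylowAdj isSylowChainConnected_iff sylow_coe_smul_eq_map)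

variable {G : Type*} [Group G]

theorem mem_smul_sylow_iff {p : ℕ} (g z : G) (S : Sylow p G) :
    z ∈ ((g • S : Sylow p G) : Subgroup G) ↔ g⁻¹ * z * g ∈ (S : Subgroup G) := by
  rw [sylow_coe_smul_eq_map]
  constructor
  · rintro ⟨s, hs, rfl⟩
    have : g⁻¹ * ((MulAut.conj g).toMonoidHom s) * g = s := by simp [MulAut.conj_apply]; group
    rw [this]; exact hs
  · intro h
    refine ⟨g⁻¹ * z * g, h, ?_⟩
    simp [MulAut.conj_apply]; group

theorem chain_mem_of_local [Finite G] {p : ℕ} [Fact p.Prime] (S : Sylow p G) (M : Subgroup G)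
    (hM : ∀ Q : Subgroup G, Q ≤ (S : Subgroup G) → Q ≠ ⊥ → normalizer (Q : Set G) ≤ M)
    {A : Set G} {g : G} (h : XChain (TameStep S) A g) (hA1 : ∃ a ∈ A, a ≠ 1) : g ∈ M := by
  induction h with
  | nil A => exact M.one_mem
  | cons A T x g' hT hx hAT _ ih =>
    obtain ⟨Q, hTQ, -, -, -⟩ := hT
    have hTS : T ≤ (S : Subgroup G) := hTQ ▸ inf_le_left
    obtain ⟨a, haA, ha1⟩ := hA1
    have hT1 : T ≠ ⊥ := by
      intro hbot
      have : a ∈ T := hAT haA
      rw [hbot, Subgroup.mem_bot] at this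
      exact ha1 this
    have hxM : x ∈ M := hM T hTS hT1 hx
    have hg' : g' ∈ M := by
      apply ih
      refine ⟨x⁻¹ * a * x, ⟨a, haA, rfl⟩, ?_⟩
      intro h1
      apply ha1
      have : a = x * (x⁻¹ * a * x) * x⁻¹ := by group
      rw [this, h1]; group
    exact M.mul_mem hxM hg'

theorem mem_of_inf_smul_ne_bot [Finite G] {p : ℕ} [Fact p.Prime] (S : Sylow p G) (M : Subgroup G)
    (hM : ∀ Q : Subgroup G, Q ≤ (S : Subgroup G) → Q ≠ ⊥ → normalizer (Q : Set G) ≤ M) (g : G)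
    (h : (S : Subgroup G) ⊓ ((g • S : Sylow p G) : Subgroup G) ≠ ⊥) : g ∈ M := by
  set D : Subgroup G := (S : Subgroup G) ⊓ ((g • S : Sylow p G) : Subgroup G) with hD
  have hA : ((D : Subgroup G) : Set G) ⊆ ((S : Subgroup G) : Set G) :=
    SetLike.coe_subset_coe.mpr inf_le_left
  have hAg : rcs g ((D : Subgroup G) : Set G) ⊆ ((S : Subgroup G) : Set G) := by
    intro y hy
    rw [mem_rcs] at hy
    have h1 : g * y * g⁻¹ ∈ ((g • S : Sylow p G) : Subgroup G) := hy.2
    rw [mem_smul_sylow_iff] at h1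
    have e : g⁻¹ * (g * y * g⁻¹) * g = y := by group
    rw [e] at h1
    exact h1
  have hch := Cfsg.Agent.Helper10.tame_chain S _ g hA hAg
  apply chain_mem_of_local S M hM hch
  obtain ⟨a, ha1⟩ := (Subgroup.ne_bot_iff_exists_ne_one).mp h
  exact ⟨a.1, a.2, fun h1 => ha1 (Subtype.ext h1)⟩

/-- a subgroup containing the normalizers of all nontrivial subgroups of a Sylow subgroup is
everything when the Sylow subgroups are chain-connected -/
theorem eq_top_of_chainConnected [Finite G] {p : ℕ} [Fact p.Prime] (S : Sylow p G)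
    (hS : (S : Subgroup G) ≠ ⊥) (M : Subgroup G)
    (hM : ∀ Q : Subgroup G, Q ≤ (S : Subgroup G) → Q ≠ ⊥ → normalizer (Q : Set G) ≤ M)
    (hconn : Cfsg.IsSylowChainConnected p G) : M = ⊤ := by
  have hNM : normalizer ((S : Subgroup G) : Set G) ≤ M := hM _ le_rfl hS
  have hadj : ∀ R R' : Sylow p G, (∃ m ∈ M, R = m • S) → sylowAdj p R R' → ∃ m ∈ M, R' = m • S := by
    intro R R' hR hRR'
    obtain ⟨m, hm, rfl⟩ := hR
    obtain ⟨g', hg'⟩ := MulAction.exists_smul_eq G S R'
    obtain ⟨z, hz1⟩ := (Subgroup.ne_bot_iff_exists_ne_one).mp hRR'.2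
    have hz' : (z : G) ∈ ((m • S : Sylow p G) : Subgroup G) ⊓ (R' : Subgroup G) := z.2
    have hzm : m⁻¹ * (z : G) * m ∈ (S : Subgroup G) := (mem_smul_sylow_iff m z S).mp hz'.1
    have hzg : g'⁻¹ * (z : G) * g' ∈ (S : Subgroup G) := by
      rw [← mem_smul_sylow_iff, hg']; exact hz'.2
    have hmem : m⁻¹ * g' ∈ M := by
      apply mem_of_inf_smul_ne_bot S M hM
      intro hbot
      have h1 : m⁻¹ * (z : G) * m ∈ (S : Subgroup G) ⊓ (((m⁻¹ * g') • S : Sylow p G) : Subgroup G) := by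
        refine ⟨hzm, ?_⟩
        apply (mem_smul_sylow_iff (m⁻¹ * g') (m⁻¹ * (z : G) * m) S).mpr
        have e : (m⁻¹ * g')⁻¹ * (m⁻¹ * (z : G) * m) * (m⁻¹ * g') = g'⁻¹ * (z : G) * g' := by group
        rw [e]; exact hzg
      rw [hbot, Subgroup.mem_bot] at h1
      apply hz1
      apply Subtype.ext
      have : (z : G) = m * (m⁻¹ * (z : G) * m) * m⁻¹ := by group
      rw [this, h1]; simp
    refine ⟨g', ?_, hg'.symm⟩
    have := M.mul_mem hm hmem
    simpa using this
  have hreach : ∀ T : Sylow p G, Relation.ReflTransGen (sylowAdj p) S T → ∃ m ∈ M, T = m • S := by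
    intro T hT
    induction hT with
    | refl => exact ⟨1, M.one_mem, (one_smul G S).symm⟩
    | tail _ hbc ih => exact hadj _ _ ih hbc
  rw [isSylowChainConnected_iff] at hconn
  rw [eq_top_iff]
  intro g _
  obtain ⟨m, hm, hgm⟩ := hreach (g • S) (hconn S (g • S))
  have h1 : (m⁻¹ * g) • S = S := by
    rw [mul_smul, hgm, inv_smul_smul]
  have h2 : m⁻¹ * g ∈ normalizer ((S : Subgroup G) : Set G) :=
    Sylow.smul_eq_iff_mem_normalizer.mp h1
  have := M.mul_mem hm (hNM h2)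
  simpa using this

end Cfsg.Agent.Helper4.SAG
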