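import Mathlib
import Cfsg.Agent.Lib.Helper4.SAG2

/-!
# Generation of `N(T)` by normalizers of larger subgroups when `N(T)/T` is chain-connected (helper4)
-/

set_option autoImplicit false

namespace Cfsg.Agent.Helper4.SAG

open Cfsg Subgroup

variable {G : Type*} [Group G]

theorem normalizer_le_closure [Finite G] {p : ℕ} [Fact p.Prime] (P : Sylow p G) (T : Subgroup G)
    (hTP : T ≤ (P : Subgroup G)) (hne : T ≠ (P : Subgroup G))
    (htame : ¬ p ∣ ((P : Subgroup G) ⊓ normalizer (T : Set G)).relIndex (normalizer (T : Set G)))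
    (hconn : Cfsg.IsSylowChainConnected p
      (↥(normalizer (T : Set G)) ⧸ T.subgroupOf (normalizer (T : Set G)))) :
    normalizer (T : Set G) ≤ closure {y | y ∈ normalizer (T : Set G) ∧
      ∃ Q : Subgroup G, T < Q ∧ Q ≤ (P : Subgroup G) ∧ y ∈ normalizer (Q : Set G)} := by
  set N := normalizer (T : Set G) with hN
  have hTN : T ≤ N := le_normalizer
  haveI hnorm : (T.subgroupOf N).Normal :=
    (Subgroup.normal_subgroupOf_iff_le_normalizer hTN).mpr le_rfl
  set 𝒢 : Set G := {y | y ∈ N ∧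
      ∃ Q : Subgroup G, T < Q ∧ Q ≤ (P : Subgroup G) ∧ y ∈ normalizer (Q : Set G)} with h𝒢
  set M := closure 𝒢 with hMdef
  haveI : Group.IsNilpotent (P : Subgroup G) := P.2.isNilpotent
  have hlt : T < (P : Subgroup G) ⊓ N :=
    Cfsg.Agent.Helper10.lt_inf_normalizer_of_lt (P : Subgroup G) T (lt_of_le_of_ne hTP hne)
  have hTM : T ≤ M := fun t ht =>
    subset_closure ⟨hTN ht, (P : Subgroup G) ⊓ N, hlt, inf_le_left, le_normalizer (hlt.le ht)⟩
  let π := QuotientGroup.mk' (T.subgroupOf N)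
  have hπ : Function.Surjective π := QuotientGroup.mk'_surjective _
  let R : Subgroup N := ((P : Subgroup G) ⊓ N).subgroupOf N
  have hRp : IsPGroup p R := (P.2.to_le inf_le_left).comap_subtype
  have hRidx : ¬ p ∣ R.index := htame
  let RS : Sylow p N := hRp.toSylow hRidx
  let Sb : Sylow p (N ⧸ T.subgroupOf N) := RS.mapSurjective hπ
  have hSb : (Sb : Subgroup (N ⧸ T.subgroupOf N)) = R.map π := rfl
  have hSb1 : (Sb : Subgroup (N ⧸ T.subgroupOf N)) ≠ ⊥ := by
    intro hbot
    rw [hSb, Subgroup.map_eq_bot_iff, QuotientGroup.ker_mk'] at hbot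
    have h1 : (P : Subgroup G) ⊓ N ≤ T := by
      intro z hz
      have h2 : (⟨z, hz.2⟩ : N) ∈ R := by
        rw [Subgroup.mem_subgroupOf]; exact hz
      have h3 := hbot h2
      rwa [Subgroup.mem_subgroupOf] at h3
    exact absurd (lt_of_lt_of_le hlt h1) (lt_irrefl _)
  set Mb : Subgroup (N ⧸ T.subgroupOf N) := (M.subgroupOf N).map π with hMb
  have key : Mb = ⊤ := by
    apply eq_top_of_chainConnected Sb hSb1 Mb ?_ hconn
    intro Qb hQbS hQb1 yb hyb
    obtain ⟨y, rfl⟩ := hπ yb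
    set QN : Subgroup N := Qb.comap π with hQN
    set QG : Subgroup G := QN.map N.subtype with hQG
    have hyQN : y ∈ normalizer (QN : Set N) := Subgroup.le_normalizer_comap π hyb
    have hyQG : (y : G) ∈ normalizer (QG : Set G) :=
      Subgroup.le_normalizer_map N.subtype ⟨y, hyQN, rfl⟩
    have hTQ : T ≤ QG := by
      intro t ht
      refine ⟨⟨t, hTN ht⟩, ?_, rfl⟩
      change π ⟨t, hTN ht⟩ ∈ Qb
      have : π ⟨t, hTN ht⟩ = 1 := by
        rw [← MonoidHom.mem_ker, QuotientGroup.ker_mk', Subgroup.mem_subgroupOf]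
        exact ht
      rw [this]; exact Qb.one_mem
    have hTQ' : T < QG := by
      refine lt_of_le_of_ne hTQ ?_
      intro heq
      apply hQb1
      rw [eq_bot_iff]
      intro z hz
      obtain ⟨w, rfl⟩ := hπ z
      have hw : (w : G) ∈ QG := ⟨w, (show π w ∈ Qb from hz), rfl⟩
      rw [← heq] at hw
      rw [Subgroup.mem_bot, ← MonoidHom.mem_ker, QuotientGroup.ker_mk', Subgroup.mem_subgroupOf]
      exact hw
    have hQP : QG ≤ (P : Subgroup G) := by
      rintro _ ⟨w, hw, rfl⟩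
      replace hw : π w ∈ Qb := hw
      have h1 : π w ∈ R.map π := by rw [← hSb]; exact hQbS hw
      obtain ⟨r, hr, hrw⟩ := h1
      have h2 : r⁻¹ * w ∈ T.subgroupOf N := by
        rw [← QuotientGroup.ker_mk' (T.subgroupOf N), MonoidHom.mem_ker, map_mul, map_inv]
        change (π r)⁻¹ * π w = 1
        rw [hrw]; simp
      rw [Subgroup.mem_subgroupOf] at h2
      replace hr : (r : G) ∈ (P : Subgroup G) ⊓ N := Subgroup.mem_subgroupOf.mp hr
      have h3 : ((r : G))⁻¹ * (w : G) ∈ (P : Subgroup G) := hTP (by simpa using h2)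
      have h4 : (w : G) = (r : G) * ((r : G)⁻¹ * (w : G)) := by group
      change (w : G) ∈ (P : Subgroup G)
      rw [h4]
      exact (P : Subgroup G).mul_mem hr.1 h3
    have hyM : (y : G) ∈ M := subset_closure ⟨y.2, QG, hTQ', hQP, hyQG⟩
    exact ⟨y, (show y ∈ M.subgroupOf N from Subgroup.mem_subgroupOf.mpr hyM), rfl⟩
  intro x hx
  have h1 : π ⟨x, hx⟩ ∈ Mb := by rw [key]; trivial
  obtain ⟨m, hm, hmx⟩ := h1
  have h2 : m⁻¹ * ⟨x, hx⟩ ∈ T.subgroupOf N := by
    rw [← QuotientGroup.ker_mk' (T.subgroupOf N), MonoidHom.mem_ker, map_mul, map_inv]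
    change (π m)⁻¹ * π ⟨x, hx⟩ = 1
    rw [hmx]; simp
  rw [Subgroup.mem_subgroupOf] at h2
  replace hm : (m : G) ∈ M := Subgroup.mem_subgroupOf.mp hm
  have h3 : x = (m : G) * ((m : G)⁻¹ * x) := by group
  rw [h3]
  exact M.mul_mem hm (hTM (by simpa using h2))

end Cfsg.Agent.Helper4.SAG
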