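import Mathlib
import Cfsg.Prelude.Def_SylowChains
import Cfsg.Prelude.Def_Transfer
import Cfsg.Agent.S3058
import Cfsg.Agent.Lib.Helper22.PResidual
import Cfsg.Agent.Lib.Helper10.StabChain
import Cfsg.Agent.Lib.Helper1.AlperinGoldschmidt

/-!
# The smallest normal subgroup of order divisible by `p` in `N(T)/T`, and the Frattini
decomposition of `N(T)` relative to it (helper4)
-/

set_option autoImplicit false

namespace Cfsg.Agent.Helper4.SAG

open Cfsg Subgroup

variable {G : Type*} [Group G]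

theorem card_map_mk' {N : Type*} [Group N] (T' : Subgroup N) [T'.Normal] (L : Subgroup N) :
    Nat.card (L.map (QuotientGroup.mk' T')) = T'.relIndex L := by
  have h1 := Subgroup.relIndex_comap (⊥ : Subgroup (N ⧸ T')) (QuotientGroup.mk' T') L
  rw [Subgroup.relIndex_bot_left, MonoidHom.comap_bot, QuotientGroup.ker_mk'] at h1
  exact h1.symm

theorem exists_min_normal [Finite G] {p : ℕ} [Fact p.Prime] (P : Sylow p G) (T : Subgroup G)
    (hTP : T ≤ (P : Subgroup G)) (hne : T ≠ (P : Subgroup G))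
    (hnc : ¬ Cfsg.IsSylowChainConnected p
      (↥(normalizer (T : Set G)) ⧸ T.subgroupOf (normalizer (T : Set G)))) :
    ∃ X : Subgroup G, T ≤ X ∧ X ≤ normalizer (T : Set G) ∧
      (X.subgroupOf (normalizer (T : Set G))).Normal ∧ p ∣ T.relIndex X ∧
      ∀ Y : Subgroup G, T ≤ Y → Y ≤ normalizer (T : Set G) →
        (Y.subgroupOf (normalizer (T : Set G))).Normal → p ∣ T.relIndex Y → X ≤ Y := by
  classical
  set N := normalizer (T : Set G) with hN
  have hTN : T ≤ N := le_normalizer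
  haveI hnorm : (T.subgroupOf N).Normal :=
    (Subgroup.normal_subgroupOf_iff_le_normalizer hTN).mpr le_rfl
  let π := QuotientGroup.mk' (T.subgroupOf N)
  have hπ : Function.Surjective π := QuotientGroup.mk'_surjective _
  haveI : Group.IsNilpotent (P : Subgroup G) := P.2.isNilpotent
  have hlt : T < (P : Subgroup G) ⊓ N :=
    Cfsg.Agent.Helper10.lt_inf_normalizer_of_lt (P : Subgroup G) T (lt_of_le_of_ne hTP hne)
  -- `p` divides the order of the quotient
  have hcardQ : p ∣ Nat.card (↥N ⧸ T.subgroupOf N) := by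
    have h1 : Nat.card (↥N ⧸ T.subgroupOf N) = T.relIndex N := rfl
    rw [h1, ← Subgroup.relIndex_mul_relIndex T ((P : Subgroup G) ⊓ N) N hlt.le inf_le_right]
    apply Dvd.dvd.mul_right
    have hPN : IsPGroup p ((P : Subgroup G) ⊓ N : Subgroup G) := P.2.to_le inf_le_left
    obtain ⟨n, hn⟩ := hPN.index (T.subgroupOf ((P : Subgroup G) ⊓ N))
    have h2 : T.relIndex ((P : Subgroup G) ⊓ N) = p ^ n := hn
    rw [h2]
    apply dvd_pow_self
    intro hn0
    rw [hn0, pow_zero, Subgroup.relIndex_eq_one] at h2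
    exact absurd (lt_of_lt_of_le hlt h2) (lt_irrefl _)
  set 𝒩 : Set (Subgroup (↥N ⧸ T.subgroupOf N)) := {K | K.Normal ∧ p ∣ Nat.card K} with h𝒩
  have htop : (⊤ : Subgroup (↥N ⧸ T.subgroupOf N)) ∈ 𝒩 := by
    refine ⟨inferInstance, ?_⟩
    rw [Subgroup.card_top]; exact hcardQ
  have hex : ∃ n, ∃ K ∈ 𝒩, Nat.card K = n := ⟨_, ⊤, htop, rfl⟩
  obtain ⟨K₀, hK₀, hK₀n⟩ := Nat.find_spec hex
  have hmin : ∀ K ∈ 𝒩, Nat.card K₀ ≤ Nat.card K := fun K hK => by
    rw [hK₀n]; exact Nat.find_min' hex ⟨K, hK, rfl⟩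
  haveI hK₀n' : K₀.Normal := hK₀.1
  have hle : ∀ K ∈ 𝒩, K₀ ≤ K := by
    intro K hK
    haveI : K.Normal := hK.1
    have h1 := Cfsg.Agent.S3058.result p hnc K₀ K hK₀.2 hK.2
    have h2 : K₀ ⊓ K ∈ 𝒩 := ⟨inferInstance, h1⟩
    have h3 := hmin _ h2
    have h4 : K₀ ⊓ K = K₀ := Subgroup.eq_of_le_of_card_ge inf_le_left h3
    rw [← h4]; exact inf_le_right
  have hmemT : ∀ t (ht : t ∈ T), π ⟨t, hTN ht⟩ = 1 := by
    intro t ht
    rw [← MonoidHom.mem_ker, QuotientGroup.ker_mk', Subgroup.mem_subgroupOf]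
    exact ht
  set XN : Subgroup N := K₀.comap π with hXN
  set X : Subgroup G := XN.map N.subtype with hX
  have hTX : T ≤ X := by
    intro t ht
    refine ⟨⟨t, hTN ht⟩, ?_, rfl⟩
    change π ⟨t, hTN ht⟩ ∈ K₀
    rw [hmemT t ht]; exact K₀.one_mem
  have hXleN : X ≤ N := Subgroup.map_subtype_le _
  have hXsub : X.subgroupOf N = XN := by
    rw [hX, Subgroup.subgroupOf, Subgroup.comap_map_eq_self_of_injective N.subtype_injective]
  have hrel : ∀ Y : Subgroup G, Y ≤ N →
      Nat.card ((Y.subgroupOf N).map π) = T.relIndex Y := by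
    intro Y hYN
    rw [card_map_mk', Subgroup.relIndex_subgroupOf hYN]
  refine ⟨X, hTX, hXleN, ?_, ?_, ?_⟩
  · rw [hXsub]; infer_instance
  · rw [← hrel X hXleN, hXsub, hXN, Subgroup.map_comap_eq_self_of_surjective hπ]
    exact hK₀.2
  · intro Y hTY hYN hYn hpY
    have hKY : (Y.subgroupOf N).map π ∈ 𝒩 := by
      refine ⟨Subgroup.Normal.map hYn π hπ, ?_⟩
      rw [hrel Y hYN]; exact hpY
    have h1 := hle _ hKY
    rintro _ ⟨w, hw, rfl⟩
    replace hw : π w ∈ K₀ := hw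
    obtain ⟨y', hy', hyw⟩ := h1 hw
    have h2 : y'⁻¹ * w ∈ T.subgroupOf N := by
      rw [← QuotientGroup.ker_mk' (T.subgroupOf N), MonoidHom.mem_ker, map_mul, map_inv]
      change (π y')⁻¹ * π w = 1
      rw [hyw]; simp
    rw [Subgroup.mem_subgroupOf] at h2
    replace hy' : (y' : G) ∈ Y := Subgroup.mem_subgroupOf.mp hy'
    have h3 : ((y' : G))⁻¹ * (w : G) ∈ Y := hTY (by simpa using h2)
    have h4 : (w : G) = (y' : G) * ((y' : G)⁻¹ * (w : G)) := by group
    change (w : G) ∈ Y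
    rw [h4]
    exact Y.mul_mem hy' h3

/-- the Frattini decomposition relative to `X` -/
theorem exists_decomp [Finite G] {p : ℕ} [Fact p.Prime] (P : Sylow p G) (T X : Subgroup G)
    (hTP : T ≤ (P : Subgroup G))
    (htame : ¬ p ∣ ((P : Subgroup G) ⊓ normalizer (T : Set G)).relIndex (normalizer (T : Set G)))
    (hTX : T ≤ X) (hXN : X ≤ normalizer (T : Set G))
    (hXn : (X.subgroupOf (normalizer (T : Set G))).Normal) (hpX : p ∣ T.relIndex X)
    (x : G) (hx : x ∈ normalizer (T : Set G)) :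
    T < (P : Subgroup G) ⊓ X ∧
    ∃ u ∈ (Cfsg.pResidual p ↥X).map X.subtype,
      ∃ n' ∈ normalizer (((P : Subgroup G) ⊓ X : Subgroup G) : Set G), x = u * n' := by
  set N := normalizer (T : Set G) with hN
  have hidxN : ¬ p ∣ (P : Subgroup G).relIndex N := by
    rwa [Subgroup.inf_relIndex_right] at htame
  have hNX : N ≤ normalizer (X : Set G) := (Subgroup.normal_subgroupOf_iff_le_normalizer hXN).mp hXn
  have hidxX : ¬ p ∣ ((P : Subgroup G) ⊓ X).relIndex X :=
    Cfsg.Agent.Helper10.inf_relSylow_of_le_normalizer N X (P : Subgroup G) P.2 hidxN hXN hNX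
  haveI hRn : (Cfsg.pResidual p ↥X).Normal := Cfsg.Agent.Helper22.pResidual_normal
  refine ⟨?_, ?_⟩
  · refine lt_of_le_of_ne (le_inf hTP hTX) ?_
    intro heq
    rw [heq] at hpX
    exact hidxX hpX
  · exact Cfsg.Agent.Helper10.exists_mul_normalizer_of_pQuotient (p := p) N X
      ((Cfsg.pResidual p ↥X).map X.subtype) ((P : Subgroup G) ⊓ X) hNX (Subgroup.map_subtype_le _)
      (Cfsg.Agent.Helper1.AG.le_normalizer_map_subtype X (Cfsg.pResidual p ↥X))
      (by
        intro j hj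
        obtain ⟨a, ha⟩ := Cfsg.Agent.Helper22.exists_pow_mem_pResidual (p := p) (⟨j, hj⟩ : ↥X)
        exact ⟨a, ⟨_, ha, by simp⟩⟩)
      inf_le_right (P.2.to_le inf_le_left) hidxX x hx

end Cfsg.Agent.Helper4.SAG
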