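import Mathlib
import Cfsg.Agent.Lib.Helper4.SAG1
import Cfsg.Agent.Lib.Helper4.SAG3
import Cfsg.Agent.Lib.Helper4.SAG4

/-!
# Strong Alperin–Goldschmidt: the main induction (helper4)
-/

set_option autoImplicit false

namespace Cfsg.Agent.Helper4.SAG

open Cfsg Subgroup
open Cfsg.Agent.Helper10 (rcs rcg XChain TameStep rcs_mul rcs_one mem_rcs rcs_mono coe_rcg mem_rcg
  mem_normalizer_iff_rcg rcg_mul rcg_one rcg_mono card_rcg rcg_normalizer rcg_inf relIndex_rcg)
open Cfsg.Agent.Helper1.AG (opp oppp InD inD_of)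

variable {G : Type*} [Group G]

/-- `T ≤ P` and `N_P(T)` is a Sylow subgroup of `N_G(T)` -/
def Tame {p : ℕ} (P : Sylow p G) (T : Subgroup G) : Prop :=
  T ≤ (P : Subgroup G) ∧
    ¬ p ∣ ((P : Subgroup G) ⊓ normalizer (T : Set G)).relIndex (normalizer (T : Set G))

theorem Tame.conj {p : ℕ} {P : Sylow p G} {T : Subgroup G} (h : Tame P T) {k : G}
    (hk : k ∈ normalizer ((P : Subgroup G) : Set G)) : Tame P (rcg k T) := by
  have hkP : rcg k (P : Subgroup G) = P := mem_normalizer_iff_rcg.mp hk
  refine ⟨?_, ?_⟩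
  · have := rcg_mono k h.1
    rwa [hkP] at this
  · have e : (P : Subgroup G) ⊓ normalizer ((rcg k T : Subgroup G) : Set G) =
        rcg k ((P : Subgroup G) ⊓ normalizer (T : Set G)) := by
      rw [rcg_inf, rcg_normalizer, hkP]
    rw [e, ← rcg_normalizer, relIndex_rcg]
    exact h.2

theorem conj_mem_normalizer {S : Subgroup G} {z n : G} (hz : z ∈ normalizer (S : Set G)) :
    n * z * n⁻¹ ∈ normalizer ((rcg n⁻¹ S : Subgroup G) : Set G) := by
  rw [mem_normalizer_iff_rcg] at hz ⊢
  rw [← rcg_mul]
  have e : n⁻¹ * (n * z * n⁻¹) = z * n⁻¹ := by group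
  rw [e, rcg_mul, hz]

theorem rcs_eq_of_mem_normalizer {S : Subgroup G} {z : G} (hz : z ∈ normalizer (S : Set G)) :
    rcs z (S : Set G) = (S : Set G) := by
  rw [← coe_rcg, mem_normalizer_iff_rcg.mp hz]

section main

variable [Finite G] {p : ℕ} [Fact p.Prime] {P : Sylow p G}

theorem sreach_of_xchain {A : Set G} {w : G}
    (h : XChain (TameStep P) A w) (k : ℕ) (hk : k ≤ A.ncard)
    (hyp : ∀ (S : Subgroup G) (z : G), Tame P S → z ∈ normalizer (S : Set G) →
      k ≤ Nat.card S → SReach P (S : Set G) z) :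
    ∀ n ∈ normalizer ((P : Subgroup G) : Set G), SReach P (rcs n⁻¹ A) (n * w * n⁻¹) := by
  induction h with
  | nil A =>
    intro n hn
    have : n * 1 * n⁻¹ = 1 := by group
    rw [this]; exact SReach.one
  | cons A S z w' hS hz hAS _ ih =>
    intro n hn
    obtain ⟨Q, hSQ, hS1, -, -⟩ := id hS
    have hSP : S ≤ (P : Subgroup G) := hSQ ▸ inf_le_left
    have hST : Tame P S := ⟨hSP, hS1⟩
    have hninv : n⁻¹ ∈ normalizer ((P : Subgroup G) : Set G) := Subgroup.inv_mem _ hn
    have hc1 : A.ncard ≤ Nat.card S := by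
      rw [← Nat.card_coe_set_eq]
      exact Nat.card_mono (Set.toFinite _) hAS
    have h1 : SReach P (rcs n⁻¹ A) (n * z * n⁻¹) := by
      have h0 := hyp (rcg n⁻¹ S) (n * z * n⁻¹) (hST.conj hninv) (conj_mem_normalizer hz)
        (by rw [card_rcg]; exact hk.trans hc1)
      apply h0.mono
      rw [coe_rcg]; exact rcs_mono _ hAS
    have e : n * (z * w') * n⁻¹ = (n * z * n⁻¹) * (n * w' * n⁻¹) := by group
    rw [e]
    apply h1.trans'
    intro y hy
    have hc2 : (rcs z A).ncard = A.ncard := by
      apply Set.ncard_image_of_injective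
      intro a b hab
      simpa using hab
    have h2 := ih (by rw [hc2]; exact hk) (y * n) (Subgroup.mul_mem _ hy hn)
    have e1 : rcs (n * z * n⁻¹ * y⁻¹) (rcs n⁻¹ A) = rcs (y * n)⁻¹ (rcs z A) := by
      rw [← rcs_mul, ← rcs_mul]
      congr 1
      group
    have e2 : y * (n * w' * n⁻¹) * y⁻¹ = y * n * w' * (y * n)⁻¹ := by group
    rw [e1, e2]; exact h2

theorem mem_normalizer_sup' {A B : Subgroup G} {y : G} (hA : y ∈ normalizer (A : Set G))
    (hB : y ∈ normalizer (B : Set G)) : y ∈ normalizer ((A ⊔ B : Subgroup G) : Set G) :=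
  Cfsg.Agent.Helper1.AG.mem_normalizer_sup hA hB

/-- the main induction -/
theorem sreach_normalizer (P : Sylow p G) (n : ℕ) : ∀ T : Subgroup G, Tame P T →
    Nat.card (P : Subgroup G) - Nat.card T = n →
    ∀ x ∈ normalizer (T : Set G), SReach P (T : Set G) x := by
  induction n using Nat.strong_induction_on with
  | _ n ih =>
  intro T hTt hn x hx
  obtain ⟨hTP, htame⟩ := id hTt
  by_cases hne : T = (P : Subgroup G)
  · rw [hne] at hx
    exact SReach.of_NP hx
  have hT : IsPGroup p T := P.2.to_le hTP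
  have hidxN : ¬ p ∣ (P : Subgroup G).relIndex (normalizer (T : Set G)) := by
    rwa [Subgroup.inf_relIndex_right] at htame
  have IH : ∀ (S : Subgroup G) (z : G), Tame P S → z ∈ normalizer (S : Set G) →
      Nat.card T + 1 ≤ Nat.card S → SReach P (S : Set G) z := by
    intro S z hS hz hcard
    have hle : Nat.card S ≤ Nat.card (P : Subgroup G) := Subgroup.card_le_of_le hS.1
    exact ih (Nat.card (P : Subgroup G) - Nat.card S) (by omega) S hS rfl z hz
  have red : ∀ T' : Subgroup G, T' ≤ (P : Subgroup G) → Nat.card T < Nat.card T' →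
      ∀ y : G, rcs y (T' : Set G) ⊆ ((P : Subgroup G) : Set G) → SReach P (T' : Set G) y := by
    intro T' hT'P hlt y hy
    have hch := Cfsg.Agent.Helper10.tame_chain P (T' : Set G) y
      (SetLike.coe_subset_coe.mpr hT'P) hy
    have h0 := sreach_of_xchain hch (Nat.card T + 1)
      (by rw [← Nat.card_coe_set_eq]; exact hlt) IH 1 (Subgroup.one_mem _)
    have e1 : rcs (1 : G)⁻¹ (T' : Set G) = (T' : Set G) := by rw [inv_one, rcs_one]
    have e2 : 1 * y * (1 : G)⁻¹ = y := by group
    rwa [e1, e2] at h0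
  have redN : ∀ T' : Subgroup G, T' ≤ (P : Subgroup G) → Nat.card T < Nat.card T' →
      ∀ y ∈ normalizer (T' : Set G), SReach P (T' : Set G) y := by
    intro T' hT'P hlt y hy
    apply red T' hT'P hlt y
    rw [rcs_eq_of_mem_normalizer hy]
    exact SetLike.coe_subset_coe.mpr hT'P
  by_cases hR : (P : Subgroup G) ⊓ oppp p T ≤ T
  · by_cases hC : (P : Subgroup G) ⊓ centralizer (T : Set G) ≤ T
    · -- `T` is in the Alperin–Goldschmidt family
      have hInD := inD_of T P hTP htame hR hC
      obtain ⟨-, hCle, ⟨hoo, hTo, -, -, hsup⟩, -⟩ := id hInD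
      have hcore : (Cfsg.pPrimePCore p ↥(normalizer (T : Set G))).map
          (normalizer (T : Set G)).subtype = T ⊔ centralizer (T : Set G) := by
        change oppp p T = T ⊔ centralizer (T : Set G)
        apply le_antisymm
        · rw [← hsup]
          exact sup_le (le_sup_of_le_right (Cfsg.Agent.Helper1.AG.opp_le_centralizer T hT))
            le_sup_left
        · exact sup_le hTo hCle
      by_cases hconn : Cfsg.IsSylowChainConnected p
          (↥(normalizer (T : Set G)) ⧸ T.subgroupOf (normalizer (T : Set G)))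
      · -- generation by normalizers of larger subgroups
        have hgen := normalizer_le_closure P T hTP hne htame hconn
        have key : ∀ x' ∈ closure {y | y ∈ normalizer (T : Set G) ∧
            ∃ Q : Subgroup G, T < Q ∧ Q ≤ (P : Subgroup G) ∧ y ∈ normalizer (Q : Set G)},
            x' ∈ normalizer (T : Set G) ∧ ∀ n ∈ normalizer ((P : Subgroup G) : Set G),
              SReach P (rcs n⁻¹ (T : Set G)) (n * x' * n⁻¹) := by
          have hgenerator : ∀ y : G, y ∈ normalizer (T : Set G) →
              (∃ Q : Subgroup G, T < Q ∧ Q ≤ (P : Subgroup G) ∧ y ∈ normalizer (Q : Set G)) →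
              ∀ n ∈ normalizer ((P : Subgroup G) : Set G),
              SReach P (rcs n⁻¹ (T : Set G)) (n * y * n⁻¹) := by
            rintro y - ⟨Q, hTQ, hQP, hyQ⟩ n hn
            have hninv : n⁻¹ ∈ normalizer ((P : Subgroup G) : Set G) := Subgroup.inv_mem _ hn
            have hQ'P : rcg n⁻¹ Q ≤ (P : Subgroup G) := by
              have := rcg_mono n⁻¹ hQP
              rwa [mem_normalizer_iff_rcg.mp hninv] at this
            have h0 := redN (rcg n⁻¹ Q) hQ'P
              (by rw [card_rcg]; exact Cfsg.Agent.Helper10.card_lt_card_of_lt hTQ)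
              (n * y * n⁻¹) (conj_mem_normalizer hyQ)
            apply h0.mono
            rw [coe_rcg]
            exact rcs_mono _ (SetLike.coe_subset_coe.mpr hTQ.le)
          intro x' hx'
          induction hx' using Subgroup.closure_induction'' with
          | mem y hy => exact ⟨hy.1, hgenerator y hy.1 hy.2⟩
          | inv_mem y hy =>
            refine ⟨Subgroup.inv_mem _ hy.1, hgenerator y⁻¹ (Subgroup.inv_mem _ hy.1) ?_⟩
            obtain ⟨Q, hTQ, hQP, hyQ⟩ := hy.2
            exact ⟨Q, hTQ, hQP, Subgroup.inv_mem _ hyQ⟩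
          | one =>
            refine ⟨Subgroup.one_mem _, fun n hn => ?_⟩
            have : n * 1 * n⁻¹ = 1 := by group
            rw [this]; exact SReach.one
          | mul a b _ _ iha ihb =>
            refine ⟨Subgroup.mul_mem _ iha.1 ihb.1, fun n hn => ?_⟩
            have e : n * (a * b) * n⁻¹ = (n * a * n⁻¹) * (n * b * n⁻¹) := by group
            rw [e]
            apply (iha.2 n hn).trans'
            intro y hy
            have h2 := ihb.2 (y * n) (Subgroup.mul_mem _ hy hn)
            have e1 : rcs (n * a * n⁻¹ * y⁻¹) (rcs n⁻¹ (T : Set G)) =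
                rcs (y * n)⁻¹ (T : Set G) := by
              rw [← rcs_mul]
              have e3 : n⁻¹ * (n * a * n⁻¹ * y⁻¹) = a * (y * n)⁻¹ := by group
              rw [e3, rcs_mul, rcs_eq_of_mem_normalizer iha.1]
            have e2 : y * (n * b * n⁻¹) * y⁻¹ = y * n * b * (y * n)⁻¹ := by group
            rw [e1, e2]; exact h2
        have h0 := (key x (hgen hx)).2 1 (Subgroup.one_mem _)
        have e1 : rcs (1 : G)⁻¹ (T : Set G) = (T : Set G) := by rw [inv_one, rcs_one]
        have e2 : 1 * x * (1 : G)⁻¹ = x := by group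
        rwa [e1, e2] at h0
      · -- a strong step followed by the normalizer of a larger subgroup
        obtain ⟨X, hTX, hXN, hXn, hpX, hXmin⟩ := exists_min_normal P T hTP hne hconn
        obtain ⟨hlt, u, hu, n', hn', hxun⟩ :=
          exists_decomp P T X hTP htame hTX hXN hXn hpX x hx
        have hstep : SStep P T u :=
          ⟨X, hTP, htame, hC, hcore, hconn, ⟨hTX, hXN, hXn, hpX, hXmin⟩, hu⟩
        have huN : u ∈ normalizer (T : Set G) := hstep.mem_normalizer
        rw [hxun]
        apply (SReach.single hstep (subset_refl _)).trans'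
        intro y hy
        have hyinv : y⁻¹ ∈ normalizer ((P : Subgroup G) : Set G) := Subgroup.inv_mem _ hy
        have hQ'P : rcg y⁻¹ ((P : Subgroup G) ⊓ X) ≤ (P : Subgroup G) := by
          have := rcg_mono y⁻¹ (inf_le_left : (P : Subgroup G) ⊓ X ≤ (P : Subgroup G))
          rwa [mem_normalizer_iff_rcg.mp hyinv] at this
        have h0 := redN (rcg y⁻¹ ((P : Subgroup G) ⊓ X)) hQ'P
          (by rw [card_rcg]; exact Cfsg.Agent.Helper10.card_lt_card_of_lt hlt)
          (y * n' * y⁻¹) (conj_mem_normalizer hn')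
        apply h0.mono
        rw [coe_rcg, rcs_mul, rcs_eq_of_mem_normalizer huN]
        exact rcs_mono _ (SetLike.coe_subset_coe.mpr hlt.le)
    · -- enlarge by `C_P(T)`
      have hCN : centralizer (T : Set G) ≤ normalizer (T : Set G) :=
        Subgroup.centralizer_le_normalizer _
      have hNC := Cfsg.Agent.Helper1.AG.normalizer_le_normalizer_centralizer' T
      have hidxC : ¬ p ∣ ((P : Subgroup G) ⊓ centralizer (T : Set G)).relIndex
          (centralizer (T : Set G)) :=
        Cfsg.Agent.Helper10.inf_relSylow_of_le_normalizer _ _ (P : Subgroup G) P.2 hidxN hCN hNC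
      obtain ⟨c, hc, y, hy, hxy⟩ := Cfsg.Agent.Helper10.exists_mul_normalizer_of_pQuotient
        (p := p) (normalizer (T : Set G)) (centralizer (T : Set G)) (centralizer (T : Set G))
        ((P : Subgroup G) ⊓ centralizer (T : Set G)) hNC le_rfl Subgroup.le_normalizer
        (fun j hj => ⟨0, by simpa using hj⟩) inf_le_right (P.2.to_le inf_le_left) hidxC x hx
      have hyT : y ∈ normalizer (T : Set G) := by
        have e : y = c⁻¹ * x := by rw [hxy]; group
        rw [e]
        exact Subgroup.mul_mem _ (Subgroup.inv_mem _ (hCN hc)) hx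
      have hlt : T < T ⊔ ((P : Subgroup G) ⊓ centralizer (T : Set G)) := by
        refine lt_of_le_of_ne le_sup_left ?_
        intro heq
        exact hC (le_sup_right.trans heq.ge)
      have h1 := redN (T ⊔ ((P : Subgroup G) ⊓ centralizer (T : Set G)))
        (sup_le hTP inf_le_left) (Cfsg.Agent.Helper10.card_lt_card_of_lt hlt) y
        (mem_normalizer_sup' hyT hy)
      rw [hxy]
      exact (h1.mono (SetLike.coe_subset_coe.mpr le_sup_left)).mul_left hc
  · -- enlarge to `P ∩ O_{p'p}(N)`
    have hidxK : ¬ p ∣ ((P : Subgroup G) ⊓ oppp p T).relIndex (oppp p T) :=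
      Cfsg.Agent.Helper10.inf_relSylow_of_le_normalizer _ _ (P : Subgroup G) P.2 hidxN
        (Cfsg.Agent.Helper1.AG.oppp_le_normalizer p T)
        (Cfsg.Agent.Helper1.AG.normalizer_le_normalizer_oppp p T)
    obtain ⟨c, hc, y, hy, hxy⟩ := Cfsg.Agent.Helper10.exists_mul_normalizer_of_pQuotient
      (p := p) (normalizer (T : Set G)) (oppp p T) (opp p T)
      ((P : Subgroup G) ⊓ oppp p T) (Cfsg.Agent.Helper1.AG.normalizer_le_normalizer_oppp p T)
      (Cfsg.Agent.Helper1.AG.opp_le_oppp p T)
      ((Cfsg.Agent.Helper1.AG.oppp_le_normalizer p T).trans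
        (Cfsg.Agent.Helper1.AG.normalizer_le_normalizer_opp p T))
      (Cfsg.Agent.Helper1.AG.powCond_oppp p T) inf_le_right (P.2.to_le inf_le_left) hidxK x hx
    have hle : T ≤ (P : Subgroup G) ⊓ oppp p T :=
      le_inf hTP (Cfsg.Agent.Helper1.AG.le_oppp T hT)
    have hlt : T < (P : Subgroup G) ⊓ oppp p T := lt_of_le_of_ne hle (fun heq => hR heq.ge)
    have h1 := redN ((P : Subgroup G) ⊓ oppp p T) inf_le_left
      (Cfsg.Agent.Helper10.card_lt_card_of_lt hlt) y hy
    rw [hxy]
    exact (h1.mono (SetLike.coe_subset_coe.mpr hle)).mul_left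
      (Cfsg.Agent.Helper1.AG.opp_le_centralizer T hT hc)

/-- every conjugation of a subset of `P` into `P` is strongly reachable -/
theorem sreach_of_conj (P : Sylow p G) (A : Set G) (g : G)
    (hA : A ⊆ ((P : Subgroup G) : Set G))
    (hAg : rcs g A ⊆ ((P : Subgroup G) : Set G)) : SReach P A g := by
  have hch := Cfsg.Agent.Helper10.tame_chain P A g hA hAg
  have h0 := sreach_of_xchain hch 0 (Nat.zero_le _)
    (fun S z hS hz _ => sreach_normalizer P _ S hS rfl z hz) 1 (Subgroup.one_mem _)
  have e1 : rcs (1 : G)⁻¹ A = A := by rw [inv_one, rcs_one]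
  have e2 : 1 * g * (1 : G)⁻¹ = g := by group
  rwa [e1, e2] at h0

end main

end Cfsg.Agent.Helper4.SAG
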