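import Mathlib
import Cfsg.Agent.Lib.Helper7.Frob7

/-!
# S3341 piece VAN (helper4, for helper16's skeleton `plans/S3341_Skel2.lean.txt`)

Characters outside the principal 3-block vanish on `P^#`: the principal block column at `w` already
has square norm `9 = |C(w)|`.
-/

set_option autoImplicit false
set_option linter.unusedSectionVars false
set_option linter.unusedVariables false

namespace Cfsg.Agent.Helper16.SSC

open Cfsg Cfsg.Agent.Helper24 Cfsg.Agent.Helper7.Frob Cfsg.Agent.Helper7.Homo
open scoped ComplexConjugate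

universe u

section Chr

variable {G : Type u} [Group G] [Finite G] (P : Sylow 3 G)

/-- PIECE VAN: characters outside the principal 3-block vanish on `P^#`. -/
theorem vanish_off_block (M : Ideal AlgInt) (hM : IsPModular 3 M)
    (hcomm : ∀ x y : (P : Subgroup G), x * y = y * x)
    (hcard : Nat.card (P : Subgroup G) = 9)
    (hcent : ∀ s ∈ (P : Subgroup G), s ≠ 1 →
      Subgroup.centralizer ({s} : Set G) = (P : Subgroup G))
    (w : (P : Subgroup G)) (hw : w ≠ 1)
    (hnil : ∃ k : ℕ,
      (Cfsg.pPrimeCore 3 (Subgroup.centralizer ({(w : G)} : Set G))).index = 3 ^ k)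
    (χ : IrrCharacter G) (hχ : χ ∉ pbFinset M G) : (χ : G → ℂ) (w : G) = 0 := by
  classical
  have : Fact (Nat.Prime 3) := ⟨Nat.prime_three⟩
  have : Fintype G := Fintype.ofFinite G
  let _ : Fintype (IrrCharacter G) := irrFintype
  have hw1 : (w : G) ≠ 1 := fun h => hw (Subtype.ext h)
  have h1 := frob_col_same M hM P hcomm w hw hnil
  have h2 := second_orthogonality' (w : G) (w : G)
  rw [if_pos (IsConj.refl _), hcent (w : G) w.2 hw1, hcard] at h2
  rw [hcard] at h1
  -- all terms are nonnegative reals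
  have hterm : ∀ ψ : IrrCharacter G, (ψ : G → ℂ) w * conj ((ψ : G → ℂ) w) =
      ((Complex.normSq ((ψ : G → ℂ) w) : ℝ) : ℂ) := fun ψ => Complex.mul_conj _
  simp only [hterm] at h1 h2
  have h1' : ∑ ψ ∈ pbFinset M G, Complex.normSq ((ψ : G → ℂ) w) = 9 := by
    have : ((∑ ψ ∈ pbFinset M G, Complex.normSq ((ψ : G → ℂ) w) : ℝ) : ℂ) = ((9 : ℝ) : ℂ) := by
      push_cast
      rw [h1]
      norm_num
    exact_mod_cast this
  have h2' : ∑ ψ : IrrCharacter G, Complex.normSq ((ψ : G → ℂ) w) = 9 := by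
    have : ((∑ ψ : IrrCharacter G, Complex.normSq ((ψ : G → ℂ) w) : ℝ) : ℂ) = ((9 : ℝ) : ℂ) := by
      push_cast
      rw [h2]
      norm_num
    exact_mod_cast this
  have h3 : ∑ ψ ∈ insert χ (pbFinset M G), Complex.normSq ((ψ : G → ℂ) w) ≤
      ∑ ψ : IrrCharacter G, Complex.normSq ((ψ : G → ℂ) w) :=
    Finset.sum_le_sum_of_subset_of_nonneg (Finset.subset_univ _)
      (fun ψ _ _ => Complex.normSq_nonneg _)
  rw [Finset.sum_insert hχ, h1', h2'] at h3
  have h4 : Complex.normSq ((χ : G → ℂ) w) = 0 :=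
    le_antisymm (by linarith) (Complex.normSq_nonneg _)
  exact Complex.normSq_eq_zero.1 h4

end Chr

end Cfsg.Agent.Helper16.SSC
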