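import Mathlib
import Cfsg.Prelude
import Cfsg.Agent.Lib.Helper4.Sharp2

set_option autoImplicit false

namespace Cfsg.Agent.Helper4

namespace Sharp2

variable {G α : Type*} [Group G] [MulAction G α] (h : Sharp2 G α) [Fintype α] [Finite G]
  (h2 : ∃ a b : α, a ≠ b) (o : α)

/-- The translation in `N` taking the origin `o` to `x`. -/
noncomputable def tr (x : α) : G := (h.N_exists_smul_eq h2 o x).choose

theorem tr_mem (x : α) : h.tr h2 o x ∈ h.N h2 := (h.N_exists_smul_eq h2 o x).choose_spec.1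

theorem tr_smul (x : α) : h.tr h2 o x • o = x := (h.N_exists_smul_eq h2 o x).choose_spec.2

theorem tr_unique {n : G} (hn : n ∈ h.N h2) {x : α} (hx : n • o = x) : n = h.tr h2 o x := by
  have h1 : ((h.tr h2 o x)⁻¹ * n) • o = o := by
    rw [mul_smul, hx, inv_smul_eq_iff, h.tr_smul]
  have h3 := h.N_free h2 ((h.N h2).mul_mem ((h.N h2).inv_mem (h.tr_mem h2 o x)) hn) h1
  exact (inv_mul_eq_one.1 h3).symm

theorem tr_zero : h.tr h2 o o = 1 := (h.tr_unique h2 o (h.N h2).one_mem (one_smul _ _)).symm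

theorem tr_add (x y : α) : h.tr h2 o (h.tr h2 o x • y) = h.tr h2 o x * h.tr h2 o y :=
  (h.tr_unique h2 o ((h.N h2).mul_mem (h.tr_mem h2 o x) (h.tr_mem h2 o y))
    (by rw [mul_smul, h.tr_smul h2 o y])).symm

theorem tr_comm (x y : α) : h.tr h2 o x • y = h.tr h2 o y • x := by
  calc h.tr h2 o x • y = (h.tr h2 o x * h.tr h2 o y) • o := by rw [mul_smul, h.tr_smul h2 o y]
    _ = (h.tr h2 o y * h.tr h2 o x) • o := by
      rw [h.N_comm h2 (h.tr_mem h2 o x) (h.tr_mem h2 o y)]
    _ = h.tr h2 o y • x := by rw [mul_smul, h.tr_smul h2 o x]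

theorem tr_neg (x : α) : h.tr h2 o ((h.tr h2 o x)⁻¹ • o) = (h.tr h2 o x)⁻¹ :=
  (h.tr_unique h2 o ((h.N h2).inv_mem (h.tr_mem h2 o x)) rfl).symm

variable (e : α) (hoe : o ≠ e)

/-- The element fixing `o` and taking `e` to `a`. -/
noncomputable def hm (a : α) (ha : a ≠ o) : G := (h.trans o e o a hoe ha.symm).choose

theorem hm_zero (a : α) (ha : a ≠ o) : h.hm o e hoe a ha • o = o :=
  (h.trans o e o a hoe ha.symm).choose_spec.1

theorem hm_one (a : α) (ha : a ≠ o) : h.hm o e hoe a ha • e = a :=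
  (h.trans o e o a hoe ha.symm).choose_spec.2

theorem hm_unique {g : G} (hg0 : g • o = o) {a : α} (ha : a ≠ o) (hg1 : g • e = a) :
    g = h.hm o e hoe a ha :=
  h.eq_of_smul_eq hoe (by rw [hg0, h.hm_zero]) (by rw [hg1, h.hm_one])

theorem hm_smul_ne (a : α) (ha : a ≠ o) {x : α} (hx : x ≠ o) : h.hm o e hoe a ha • x ≠ o := by
  intro hx'
  apply hx
  apply MulAction.injective (h.hm o e hoe a ha)
  show h.hm o e hoe a ha • x = h.hm o e hoe a ha • o
  rw [hx', h.hm_zero]

variable [DecidableEq α]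

/-- Multiplication of the near-field. -/
noncomputable def nmul (x a : α) : α := if ha : a = o then o else h.hm o e hoe a ha • x

theorem nmul_zero (x : α) : h.nmul o e hoe x o = o := by
  unfold nmul; rw [dif_pos rfl]

theorem nmul_of_ne (x : α) {a : α} (ha : a ≠ o) : h.nmul o e hoe x a = h.hm o e hoe a ha • x := by
  unfold nmul; rw [dif_neg ha]

theorem zero_nmul (a : α) : h.nmul o e hoe o a = o := by
  by_cases ha : a = o
  · rw [ha, h.nmul_zero]
  · rw [h.nmul_of_ne o e hoe o ha, h.hm_zero]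

theorem nmul_ne {x a : α} (hx : x ≠ o) (ha : a ≠ o) : h.nmul o e hoe x a ≠ o := by
  rw [h.nmul_of_ne o e hoe x ha]
  exact h.hm_smul_ne o e hoe a ha hx

theorem hm_nmul {a b : α} (ha : a ≠ o) (hb : b ≠ o) :
    h.hm o e hoe (h.nmul o e hoe a b) (h.nmul_ne o e hoe ha hb) =
      h.hm o e hoe b hb * h.hm o e hoe a ha := by
  symm
  apply h.hm_unique
  · rw [mul_smul, h.hm_zero, h.hm_zero]
  · rw [mul_smul, h.hm_one, h.nmul_of_ne o e hoe a hb]

theorem nmul_assoc (x a b : α) :
    h.nmul o e hoe (h.nmul o e hoe x a) b = h.nmul o e hoe x (h.nmul o e hoe a b) := by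
  by_cases hb : b = o
  · rw [hb, h.nmul_zero, h.nmul_zero, h.nmul_zero]
  by_cases ha : a = o
  · rw [ha, h.nmul_zero, h.zero_nmul, h.nmul_zero]
  rw [h.nmul_of_ne o e hoe x (h.nmul_ne o e hoe ha hb), h.hm_nmul o e hoe ha hb, mul_smul,
    h.nmul_of_ne o e hoe _ hb, h.nmul_of_ne o e hoe x ha]

theorem hm_e : h.hm o e hoe e (fun he => hoe he.symm) = 1 :=
  (h.hm_unique o e hoe (one_smul _ _) _ (one_smul _ _)).symm

theorem nmul_one (x : α) : h.nmul o e hoe x e = x := by
  rw [h.nmul_of_ne o e hoe x (fun he => hoe he.symm), h.hm_e, one_smul]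

theorem one_nmul (a : α) : h.nmul o e hoe e a = a := by
  by_cases ha : a = o
  · rw [ha, h.nmul_zero]
  · rw [h.nmul_of_ne o e hoe e ha, h.hm_one]

theorem nmul_distrib (x y c : α) :
    h.nmul o e hoe (h.tr h2 o x • y) c =
      h.tr h2 o (h.nmul o e hoe x c) • (h.nmul o e hoe y c) := by
  by_cases hc : c = o
  · rw [hc, h.nmul_zero, h.nmul_zero, h.nmul_zero, h.tr_zero, one_smul]
  rw [h.nmul_of_ne o e hoe _ hc, h.nmul_of_ne o e hoe x hc, h.nmul_of_ne o e hoe y hc]
  set g := h.hm o e hoe c hc with hg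
  have hg0 : g • o = o := h.hm_zero o e hoe c hc
  have hginv : g⁻¹ • o = o := by rw [inv_smul_eq_iff, hg0]
  have hconj : g * h.tr h2 o x * g⁻¹ = h.tr h2 o (g • x) := by
    apply h.tr_unique
    · exact (h.N_normal h2).conj_mem _ (h.tr_mem h2 o x) g
    · rw [mul_smul, mul_smul, hginv, h.tr_smul]
  rw [← hconj, mul_smul, mul_smul, inv_smul_smul]

theorem exists_inv' {a : α} (ha : a ≠ o) :
    ∃ b : α, h.nmul o e hoe a b = e ∧ h.nmul o e hoe b a = e := by
  set g := h.hm o e hoe a ha with hg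
  have hg0 : g • o = o := h.hm_zero o e hoe a ha
  have hg1 : g • e = a := h.hm_one o e hoe a ha
  have hginv : g⁻¹ • o = o := by rw [inv_smul_eq_iff, hg0]
  have hb : g⁻¹ • e ≠ o := by
    intro hb
    apply hoe
    apply MulAction.injective g⁻¹
    show g⁻¹ • o = g⁻¹ • e
    rw [hginv, hb]
  refine ⟨g⁻¹ • e, ?_, ?_⟩
  · rw [h.nmul_of_ne o e hoe a hb]
    have : h.hm o e hoe (g⁻¹ • e) hb = g⁻¹ := (h.hm_unique o e hoe hginv hb rfl).symm
    rw [this, ← hg1, inv_smul_smul]
  · rw [h.nmul_of_ne o e hoe _ ha, ← hg, smul_inv_smul]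

/-- The additive group of the near-field. -/
noncomputable def nfAddGroup : AddGroup α :=
  letI : Add α := ⟨fun x y => h.tr h2 o x • y⟩
  letI : Zero α := ⟨o⟩
  letI : Neg α := ⟨fun x => (h.tr h2 o x)⁻¹ • o⟩
  AddGroup.ofLeftAxioms
    (by
      intro x y z
      show h.tr h2 o (h.tr h2 o x • y) • z = h.tr h2 o x • (h.tr h2 o y • z)
      rw [h.tr_add, mul_smul])
    (by
      intro x
      show h.tr h2 o o • x = x
      rw [h.tr_zero, one_smul])
    (by
      intro x
      show h.tr h2 o ((h.tr h2 o x)⁻¹ • o) • x = o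
      rw [h.tr_neg, inv_smul_eq_iff, h.tr_smul])

/-- The multiplicative monoid of the near-field. -/
noncomputable def nfMonoid : Monoid α :=
  { mul := fun x a => h.nmul o e hoe x a
    one := e
    mul_assoc := by
      intro x a b
      exact h.nmul_assoc o e hoe x a b
    one_mul := by
      intro a
      exact h.one_nmul o e hoe a
    mul_one := by
      intro x
      exact h.nmul_one o e hoe x }

/-- The near-field structure on the permuted set. -/
noncomputable def nearField : Cfsg.NearField α :=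
  { toAddGroup := h.nfAddGroup h2 o
    toMonoid := h.nfMonoid o e hoe
    right_distrib := by
      intro x y c
      exact h.nmul_distrib h2 o e hoe x y c
    mul_zero := by
      intro x
      exact h.nmul_zero o e hoe x
    zero_ne_one := hoe
    exists_inv := by
      intro a ha
      exact h.exists_inv' o e hoe ha }

end Sharp2

end Cfsg.Agent.Helper4
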