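import Mathlib
import Cfsg.Agent.Lib.Helper13.SuBN2
import Cfsg.Agent.Lib.Helper25.SuSylow
import Cfsg.Agent.Lib.Helper18.SuBC
import Cfsg.Agent.Lib.Helper18.SuHRoot
import Cfsg.Agent.Lib.Helper14.SylAbDefs

/-!
# S4625, pieces SYLAB-SU / SYLAB-SP (helper4 for helper14): the common core in the Witt model `WSU n φ`.

In characteristic 2 the upper unitriangular subgroup `unip n φ` of `WSU n φ` is a Sylow 2-subgroup; the root
elements `Tm`, `Lm` are involutions and the square of `Mm φ a c u v` is a commutator of two elements of `unip`.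
Hence, once `unip` is generated by root elements, `Good (WSU n φ)`.
-/

set_option autoImplicit false
set_option linter.unusedSectionVars false
set_option linter.unusedVariables false

namespace Cfsg.Agent.Helper14.SylAb

open Matrix Cfsg.Agent.Helper13.SuBN Cfsg.Agent.Helper13.SuP
open scoped commutatorElement

variable {n : ℕ} {F : Type*} [Field F] {φ : F →+* F}

/-- `unip` has odd index -/
theorem sylabw_index [Finite F] [CharP F 2]
    (hroot : ∀ a b : Fin n, a.val + 1 = b.val → ∃ u ∈ unip n φ, mt u a b ≠ 0) :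
    ¬ 2 ∣ (unip n φ).index := by
  have : Fact (Nat.Prime 2) := ⟨Nat.prime_two⟩
  have : Finite (Matrix.SpecialLinearGroup (Fin n) F) := Subtype.finite
  have : Finite (WSU n φ) := Subtype.finite
  let U : Sylow 2 (WSU n φ) :=
    { toSubgroup := unip n φ
      isPGroup' := unip_isPGroup 2
      is_maximal' := fun {Q} hQ hle => unip_isMax 2 hroot hQ hle }
  exact U.not_dvd_index

/-! ### the root elements lie in `unip` -/

theorem sylabw_Tm_mem (a b : Fin n) (hab : a < b) (t : F) : Tm φ a b t ∈ unip n φ := by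
  by_cases h : (∀ x, φ (φ x) = x) ∧ a ≠ b ∧ a ≠ Fin.rev a ∧ b ≠ Fin.rev b
  · obtain ⟨hφφ, h1, h2, h3⟩ := h
    apply mem_unip_of_mt
    · intro p q hqp
      rw [Tm_coe hφφ h1 h2 h3, TmM_low hab t hqp.le, Matrix.one_apply_ne hqp.ne']
    · intro p
      rw [Tm_coe hφφ h1 h2 h3, TmM_low hab t le_rfl, Matrix.one_apply_eq]
  · have : Tm φ a b t = 1 := by
      unfold Tm
      rw [dif_neg h]
    rw [this]
    exact one_mem _

theorem sylabw_Lm_mem (a : Fin n) (ha : a < Fin.rev a) (t : F) : Lm φ a t ∈ unip n φ := by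
  by_cases h : a ≠ Fin.rev a ∧ t + φ t = 0
  · obtain ⟨h1, h2⟩ := h
    apply mem_unip_of_mt
    · intro p q hqp
      rw [Lm_coe h1 h2, LmM_low ha t hqp.le, Matrix.one_apply_ne hqp.ne']
    · intro p
      rw [Lm_coe h1 h2, LmM_low ha t le_rfl, Matrix.one_apply_eq]
  · have : Lm φ a t = 1 := by
      unfold Lm
      rw [dif_neg h]
    rw [this]
    exact one_mem _

theorem sylabw_Mm_mem (a c : Fin n) (hac : a < c) (u v : F) : Mm φ a c u v ∈ unip n φ := by
  by_cases h : (∀ x, φ (φ x) = x) ∧ a ≠ c ∧ a ≠ Fin.rev a ∧ c = Fin.rev c ∧ v + φ v + u * φ u = 0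
  · obtain ⟨hφφ, h1, h2, h3, h4⟩ := h
    have h5 : c < Fin.rev a := by
      rw [h3]
      exact Fin.rev_lt_rev.2 hac
    apply mem_unip_of_mt
    · intro p q hqp
      rw [Mm_coe hφφ h1 h2 h3 h4, MmM_low hac h5 u v hqp.le, Matrix.one_apply_ne hqp.ne']
    · intro p
      rw [Mm_coe hφφ h1 h2 h3 h4, MmM_low hac h5 u v le_rfl, Matrix.one_apply_eq]
  · have : Mm φ a c u v = 1 := by
      unfold Mm
      rw [dif_neg h]
    rw [this]
    exact one_mem _

/-! ### squares of the root elements -/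

theorem sylabw_Tm_sq [CharP F 2] (a b : Fin n) (t : F) : Tm φ a b t ^ 2 = 1 := by
  by_cases h : (∀ x, φ (φ x) = x) ∧ a ≠ b ∧ a ≠ Fin.rev a ∧ b ≠ Fin.rev b
  · obtain ⟨hφφ, h1, h2, h3⟩ := h
    rw [pow_two, Tm_add hφφ h1 h2 h3, CharTwo.add_self_eq_zero, Tm_zero hφφ h1 h2 h3]
  · have : Tm φ a b t = 1 := by
      unfold Tm
      rw [dif_neg h]
    rw [this, one_pow]

theorem sylabw_Lm_sq [CharP F 2] (a : Fin n) (t : F) : Lm φ a t ^ 2 = 1 := by
  by_cases h : a ≠ Fin.rev a ∧ t + φ t = 0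
  · obtain ⟨h1, h2⟩ := h
    rw [pow_two, Lm_add h1 h2 h2, CharTwo.add_self_eq_zero, Lm_zero h1]
  · have : Lm φ a t = 1 := by
      unfold Lm
      rw [dif_neg h]
    rw [this, one_pow]

/-- the square of `Mm φ a c u v` is a commutator of two elements of `unip` -/
theorem sylabw_Mm_sq [CharP F 2] (hl : (∃ c : Fin n, c = Fin.rev c) → ∃ l : F, l + φ l = 1)
    (a c : Fin n) (hac : a < c) (u v : F) : Mm φ a c u v ^ 2 ∈ ⁅unip n φ, unip n φ⁆ := by
  by_cases h : (∀ x, φ (φ x) = x) ∧ a ≠ c ∧ a ≠ Fin.rev a ∧ c = Fin.rev c ∧ v + φ v + u * φ u = 0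
  · obtain ⟨hφφ, h1, h2, h3, h4⟩ := h
    obtain ⟨l, hl⟩ := hl ⟨c, h3⟩
    -- the partner
    obtain ⟨r, hr⟩ : ∃ r : F, r = (l * φ l) * (u * φ u) := ⟨_, rfl⟩
    have hrφ : φ r = r := by
      rw [hr, map_mul, map_mul, map_mul, hφφ, hφφ]
      ring
    have h4' : l * r + φ (l * r) + (l * u) * φ (l * u) = 0 := by
      have e0 : φ (l * r) = φ l * r := by rw [map_mul, hrφ]
      have e1 : φ (l * u) = φ l * φ u := map_mul φ l u
      rw [e0, e1]
      have e : l * r + φ l * r + l * u * (φ l * φ u) = (l + φ l) * r + r := by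
        rw [hr]
        ring
      rw [e, hl, one_mul]
      exact CharTwo.add_self_eq_zero r
    obtain ⟨g, hg⟩ : ∃ g : WSU n φ, g = Mm φ a c u v := ⟨_, rfl⟩
    obtain ⟨k, hk⟩ : ∃ k : WSU n φ, k = Mm φ a c (l * u) (l * r) := ⟨_, rfl⟩
    have hgk := Mm_mul hφφ h1 h2 h3 h4 h4'
    have hgkg := Mm_mul hφφ h1 h2 h3 hgk.2 h4
    have key : g * k * g = k := by
      rw [hg, hk, hgk.1, hgkg.1]
      have e1 : u + l * u + u = l * u := by
        have := CharTwo.add_self_eq_zero u
        linear_combination this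
      have e2 : v + l * r - u * φ (l * u) + v - (u + l * u) * φ u = l * r := by
        have e3 : φ (l * u) = φ l * φ u := map_mul φ l u
        rw [e3]
        have a1 := CharTwo.add_self_eq_zero v
        have a2 := CharTwo.add_self_eq_zero (u * φ u)
        have e : u * (φ l * φ u) + l * u * φ u = u * φ u := by
          have : u * (φ l * φ u) + l * u * φ u = (l + φ l) * (u * φ u) := by ring
          rw [this, hl, one_mul]
        linear_combination a1 - a2 - e
      rw [e1, e2]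
    rw [← hg]
    have hsq : g ^ 2 = ⁅g, k⁆ := by
      rw [commutatorElement_def, pow_two, eq_mul_inv_iff_mul_eq, eq_mul_inv_iff_mul_eq]
      calc g * g * k * g = g * (g * k * g) := by group
        _ = g * k := by rw [key]
    rw [hsq]
    exact Subgroup.commutator_mem_commutator (hg ▸ sylabw_Mm_mem a c hac u v)
      (hk ▸ sylabw_Mm_mem a c hac (l * u) (l * r))
  · have : Mm φ a c u v = 1 := by
      unfold Mm
      rw [dif_neg h]
    rw [this, one_pow]
    exact one_mem _

/-- the core: if `unip` is generated by root elements then `WSU n φ` is `Good` -/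
theorem sylabw_good [Finite F] [CharP F 2]
    (hroot : ∀ a b : Fin n, a.val + 1 = b.val → ∃ u ∈ unip n φ, mt u a b ≠ 0)
    (hl : (∃ c : Fin n, c = Fin.rev c) → ∃ l : F, l + φ l = 1)
    (S : Set (WSU n φ))
    (hS : ∀ s ∈ S, (∃ a b t, a < b ∧ s = Tm φ a b t) ∨ (∃ a t, a < Fin.rev a ∧ s = Lm φ a t) ∨
      (∃ a c u v, a < c ∧ s = Mm φ a c u v))
    (hgen : unip n φ ≤ Subgroup.closure S) : Good (WSU n φ) := by
  have hS1 : ∀ s ∈ S, s ∈ unip n φ := by
    intro s hs
    rcases hS s hs with ⟨a, b, t, hab, rfl⟩ | ⟨a, t, ha, rfl⟩ | ⟨a, c, u, v, hac, rfl⟩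
    · exact sylabw_Tm_mem a b hab t
    · exact sylabw_Lm_mem a ha t
    · exact sylabw_Mm_mem a c hac u v
  have hU : Subgroup.closure S = unip n φ := le_antisymm ((Subgroup.closure_le _).2 hS1) hgen
  have hS2 : ∀ s ∈ S, s ^ 2 ∈ ⁅Subgroup.closure S, Subgroup.closure S⁆ := by
    intro s hs
    rw [hU]
    rcases hS s hs with ⟨a, b, t, hab, rfl⟩ | ⟨a, t, ha, rfl⟩ | ⟨a, c, u, v, hac, rfl⟩
    · rw [sylabw_Tm_sq]
      exact one_mem _
    · rw [sylabw_Lm_sq]
      exact one_mem _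
    · exact sylabw_Mm_sq hl a c hac u v
  refine ⟨unip n φ, unip_isPGroup 2, sylabw_index hroot, ?_⟩
  have := sq_mem_commutator_closure S hS2
  rw [hU] at this
  exact this

end Cfsg.Agent.Helper14.SylAb
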