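import Mathlib
import Cfsg.Agent.Lib.Helper4.SylAbW

/-!
# S4625, piece SYLAB-SP (helper4 for helper14): the bridge `Sp_{2m}(F) ≃* WSU (2m) id` in characteristic 2, and the
elements of `unip` with a non-zero entry just above the diagonal.
-/

set_option autoImplicit false
set_option linter.unusedSectionVars false
set_option linter.unusedVariables false

namespace Cfsg.Agent.Helper14.SylAb

open Matrix Cfsg.Agent.Helper13.SuBN Cfsg.Agent.Helper13.SuP

variable {F : Type*} [Field F]

/-- the index equivalence between the hyperbolic coordinates and the Witt coordinates: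
`e_i ↦ i`, `f_i ↦ 2m - 1 - i` -/
def sylabsp_e (m : ℕ) : Fin m ⊕ Fin m ≃ Fin (2 * m) where
  toFun
    | Sum.inl i => ⟨i.val, by have := i.2; omega⟩
    | Sum.inr i => ⟨2 * m - 1 - i.val, by have := i.2; omega⟩
  invFun a := if h : a.val < m then Sum.inl ⟨a.val, h⟩
    else Sum.inr ⟨2 * m - 1 - a.val, by have := a.2; omega⟩
  left_inv := by
    rintro (i | i)
    · have hi := i.2
      simp only [hi, dif_pos]
    · have hi := i.2
      have h2 : ¬ (2 * m - 1 - i.val < m) := by omega
      simp only [h2, dif_neg, not_false_eq_true]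
      congr 1
      apply Fin.ext
      show 2 * m - 1 - (2 * m - 1 - i.val) = i.val
      omega
  right_inv := by
    intro a
    have ha := a.2
    by_cases h : a.val < m
    · simp only [h, dif_pos]
    · simp only [h, dif_neg, not_false_eq_true]
      apply Fin.ext
      show 2 * m - 1 - (2 * m - 1 - a.val) = a.val
      omega

theorem sylabsp_e_inl (m : ℕ) (i : Fin m) : ((sylabsp_e m (Sum.inl i)) : Fin (2 * m)).val = i.val := rfl

theorem sylabsp_e_inr (m : ℕ) (i : Fin m) :
    ((sylabsp_e m (Sum.inr i)) : Fin (2 * m)).val = 2 * m - 1 - i.val := rfl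

/-- in characteristic 2 the matrix `J` is the antidiagonal matrix in Witt coordinates -/
theorem sylabsp_J [CharP F 2] (m : ℕ) (x y : Fin m ⊕ Fin m) :
    Matrix.J (Fin m) F x y = Kmat (2 * m) F (sylabsp_e m x) (sylabsp_e m y) := by
  have hneg : (-1 : F) = 1 := CharTwo.neg_eq 1
  rw [Kmat_apply]
  rcases x with i | i <;> rcases y with j | j
  · have hi := i.2
    have hj := j.2
    rw [if_neg]
    · simp [Matrix.J]
    · intro e
      have := congrArg Fin.val e
      rw [Fin.val_rev, sylabsp_e_inl, sylabsp_e_inl] at this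
      omega
  · have hi := i.2
    have hj := j.2
    by_cases hij : i = j
    · subst hij
      rw [if_pos]
      · simp [Matrix.J, hneg]
      · apply Fin.ext
        rw [Fin.val_rev, sylabsp_e_inl, sylabsp_e_inr]
        omega
    · rw [if_neg]
      · simp [Matrix.J, Matrix.one_apply_ne hij]
      · intro e
        have := congrArg Fin.val e
        rw [Fin.val_rev, sylabsp_e_inl, sylabsp_e_inr] at this
        apply hij
        apply Fin.ext
        omega
  · have hi := i.2
    have hj := j.2
    by_cases hij : i = j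
    · subst hij
      rw [if_pos]
      · simp [Matrix.J]
      · apply Fin.ext
        rw [Fin.val_rev, sylabsp_e_inl, sylabsp_e_inr]
        omega
    · rw [if_neg]
      · simp [Matrix.J, Matrix.one_apply_ne hij]
      · intro e
        have := congrArg Fin.val e
        rw [Fin.val_rev, sylabsp_e_inl, sylabsp_e_inr] at this
        apply hij
        apply Fin.ext
        omega
  · have hi := i.2
    have hj := j.2
    rw [if_neg]
    · simp [Matrix.J]
    · intro e
      have := congrArg Fin.val e
      rw [Fin.val_rev, sylabsp_e_inr, sylabsp_e_inr] at this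
      omega

theorem sylabsp_K [CharP F 2] (m : ℕ) :
    (Matrix.J (Fin m) F).submatrix (sylabsp_e m).symm (sylabsp_e m).symm = Kmat (2 * m) F := by
  ext a b
  rw [Matrix.submatrix_apply, sylabsp_J, Equiv.apply_symm_apply, Equiv.apply_symm_apply]

theorem sylabsp_K' [CharP F 2] (m : ℕ) :
    (Kmat (2 * m) F).submatrix (sylabsp_e m) (sylabsp_e m) = Matrix.J (Fin m) F := by
  ext a b
  rw [Matrix.submatrix_apply, sylabsp_J]

theorem sylabsp_map_id {n : ℕ} (M : Matrix (Fin n) (Fin n) F) : M.map (RingHom.id F) = M := by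
  ext a b
  rfl

/-- the bridge -/
noncomputable def sylabsp_equiv [CharP F 2] (m : ℕ) :
    Matrix.symplecticGroup (Fin m) F ≃* WSU (2 * m) (RingHom.id F) where
  toFun A := mkW (A.1.submatrix (sylabsp_e m).symm (sylabsp_e m).symm)
    (by rw [Matrix.det_submatrix_equiv_self]; exact SymplecticGroup.det_eq_one A.2)
    (by
      have h := SymplecticGroup.mem_iff'.1 A.2
      have h2 : (A.1.submatrix (sylabsp_e m).symm (sylabsp_e m).symm)ᵀ * Kmat (2 * m) F *
          A.1.submatrix (sylabsp_e m).symm (sylabsp_e m).symm = Kmat (2 * m) F := by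
        rw [← sylabsp_K, Matrix.transpose_submatrix, Matrix.submatrix_mul_equiv,
          Matrix.submatrix_mul_equiv, h]
      rw [dag_eq, sylabsp_map_id]
      calc Kmat (2 * m) F * (A.1.submatrix (sylabsp_e m).symm (sylabsp_e m).symm)ᵀ * Kmat (2 * m) F *
            A.1.submatrix (sylabsp_e m).symm (sylabsp_e m).symm
          = Kmat (2 * m) F * ((A.1.submatrix (sylabsp_e m).symm (sylabsp_e m).symm)ᵀ * Kmat (2 * m) F *
            A.1.submatrix (sylabsp_e m).symm (sylabsp_e m).symm) := by
            simp only [Matrix.mul_assoc]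
        _ = 1 := by rw [h2, Kmat_mul_self])
  invFun g := ⟨(mt g).submatrix (sylabsp_e m) (sylabsp_e m), by
    rw [SymplecticGroup.mem_iff]
    have h := g.2.2
    rw [sylabsp_map_id] at h
    rw [← sylabsp_K', Matrix.transpose_submatrix, Matrix.submatrix_mul_equiv,
      Matrix.submatrix_mul_equiv]
    exact congrArg (fun M => M.submatrix (sylabsp_e m) (sylabsp_e m)) h⟩
  left_inv A := by
    apply Subtype.ext
    show (A.1.submatrix (sylabsp_e m).symm (sylabsp_e m).symm).submatrix (sylabsp_e m) (sylabsp_e m) = A.1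
    rw [Matrix.submatrix_submatrix]
    simp
  right_inv g := by
    apply mt_injective
    rw [mt_mkW]
    show ((mt g).submatrix (sylabsp_e m) (sylabsp_e m)).submatrix (sylabsp_e m).symm (sylabsp_e m).symm = mt g
    rw [Matrix.submatrix_submatrix]
    simp
  map_mul' A B := by
    apply mt_injective
    rw [mt_mul, mt_mkW, mt_mkW, mt_mkW]
    show (A.1 * B.1).submatrix (sylabsp_e m).symm (sylabsp_e m).symm = _
    rw [Matrix.submatrix_mul_equiv]

/-- elements of `unip` with a non-zero entry just above the diagonal (`φ = id`, even dimension, char 2) -/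
theorem sylabsp_hroot [CharP F 2] (m : ℕ) : ∀ a b : Fin (2 * m), a.val + 1 = b.val →
    ∃ u ∈ unip (2 * m) (RingHom.id F), mt u a b ≠ 0 := by
  intro a b hab
  have hφφ : ∀ x : F, (RingHom.id F) ((RingHom.id F) x) = x := fun x => rfl
  have ha : a ≠ Fin.rev a := by
    intro e
    have := congrArg Fin.val e
    rw [Fin.val_rev] at this
    omega
  have hb : b ≠ Fin.rev b := by
    intro e
    have := congrArg Fin.val e
    rw [Fin.val_rev] at this
    omega
  have hlt : a < b := Fin.lt_def.2 (by omega)
  by_cases h : b = Fin.rev a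
  · refine ⟨Lm (RingHom.id F) a 1, sylabw_Lm_mem a (h ▸ hlt) 1, ?_⟩
    have h1 : (1 : F) + RingHom.id F 1 = 0 := CharTwo.add_self_eq_zero 1
    rw [Lm_coe ha h1, h, LmM_apply_a ha]
    exact one_ne_zero
  · refine ⟨Tm (RingHom.id F) a b 1, sylabw_Tm_mem a b hlt 1, ?_⟩
    have hab' : a ≠ Fin.rev b := by
      intro e
      apply h
      rw [e, Fin.rev_rev]
    rw [Tm_coe hφφ hlt.ne ha hb, TmM_apply_ab hlt.ne hab']
    exact one_ne_zero

/-- even dimension: `Fin.rev` has no fixed point -/
theorem sylabsp_no_mid (m : ℕ) : ¬ ∃ c : Fin (2 * m), c = Fin.rev c := by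
  rintro ⟨c, hc⟩
  have := congrArg Fin.val hc
  rw [Fin.val_rev] at this
  omega

end Cfsg.Agent.Helper14.SylAb
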