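import Mathlib
import Cfsg.Agent.Lib.Helper4.SylAbSPBridge
import Cfsg.Agent.Lib.Helper28.SqW

/-!
# S4625, piece SYLAB-SP (helper4 for helper14): `Good (Sp_{2m}(F))` in characteristic 2.
-/

set_option autoImplicit false
set_option linter.unusedSectionVars false
set_option linter.unusedVariables false

namespace Cfsg.Agent.Helper14.SylAb

open Cfsg
open Matrix Cfsg.Agent.Helper13.SuBN Cfsg.Agent.Helper13.SuP Cfsg.Agent.Helper28.SqW

/-- the elements of `rootSet` are root elements -/
theorem sylabsp_rootSet {n : ℕ} {F : Type*} [Field F] {φ : F →+* F} :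
    ∀ s ∈ rootSet n φ, (∃ a b t, a < b ∧ s = Tm φ a b t) ∨ (∃ a t, a < Fin.rev a ∧ s = Lm φ a t) ∨
      (∃ a c u v, a < c ∧ s = Mm φ a c u v) := by
  rintro s ((h | h) | h)
  · exact Or.inl h
  · exact Or.inr (Or.inl h)
  · exact Or.inr (Or.inr h)

/-- PIECE PSP -/
theorem good_Sp (F : Type*) [Field F] [Fintype F] [CharP F 2] (m : ℕ) (hm : 2 ≤ m) :
    Good (Matrix.symplecticGroup (Fin m) F) := by
  apply good_of_mulEquiv (sylabsp_equiv (F := F) m)
  refine sylabw_good (sylabsp_hroot m) (fun h => absurd h (sylabsp_no_mid m)) (rootSet (2 * m) (RingHom.id F))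
    sylabsp_rootSet (unip_le_closure (fun x => rfl) ?_)
  intro h
  omega

end Cfsg.Agent.Helper14.SylAb
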