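import Mathlib
import Cfsg.Agent.Lib.Helper4.SylAbSP
import Cfsg.Agent.Lib.Helper13.SuBN5
import Cfsg.Agent.Lib.Helper27.SuTransport

/-!
# S4625, piece SYLAB-SU (helper4 for helper14): `Good (SU n F q)` in characteristic 2.
-/

set_option autoImplicit false
set_option linter.unusedSectionVars false
set_option linter.unusedVariables false

namespace Cfsg.Agent.Helper14.SylAb

open Cfsg
open Matrix Cfsg.Agent.Helper13.SuBN Cfsg.Agent.Helper13.SuP Cfsg.Agent.Helper28.SqW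

/-- PIECE PSU -/
theorem good_SU (F : Type*) [Field F] [Fintype F] [CharP F 2] (n q : ℕ) (hF : Fintype.card F = q ^ 2)
    (hn : 3 ≤ n) : Good (SU n F q) := by
  obtain ⟨φ, hφ⟩ := Cfsg.Agent.Helper11.Herm.exists_frob hF
  have hφφ : ∀ x, φ (φ x) = x := frob_frob hF hφ
  have hφ1 := Cfsg.Agent.Helper11.Herm.frob_ne_id hF φ hφ
  obtain ⟨l0, hl0, hl0'⟩ := Cfsg.Agent.Helper11.Witt.exists_trace_zero φ hφ1 hφφ
  have htr : ∀ r : F, φ r = r → ∃ s : F, s + φ s = r :=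
    fun r hr => Cfsg.Agent.Helper11.Witt.exists_trace_eq φ hφ1 hφφ r hr
  have hroot : ∀ a b : Fin n, a.val + 1 = b.val → ∃ u ∈ unip n φ, mt u a b ≠ 0 :=
    exists_unip_apply_ne_zero hφφ ⟨l0, hl0, hl0'⟩ htr
  obtain ⟨l, hl⟩ := htr 1 (map_one φ)
  obtain ⟨P, e, _, _, _⟩ := exists_equiv_SU hF φ hφ n
  apply good_of_mulEquiv e.symm
  exact sylabw_good hroot (fun _ => ⟨l, hl⟩) (rootSet n φ) sylabsp_rootSet
    (unip_le_closure hφφ (fun _ => htr))

end Cfsg.Agent.Helper14.SylAb
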