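import Mathlib
import Cfsg.Agent.Lib.Helper22.TwoMaxDefs

/-!
# S4383, piece B2: a minimal normal subgroup inside `M₁` but not inside `M₂`.
-/

set_option autoImplicit false
set_option linter.unusedSectionVars false
open Pointwise

namespace Cfsg.Agent.Helper22.TwoMax

variable {G : Type*} [Group G] [Finite G]

/-- A normal subgroup inside a conjugate of `M` lies in `M`. -/
theorem b2_le_of_le_conj (N : Subgroup G) [N.Normal] (g : G) (M : Subgroup G)
    (hle : N ≤ MulAut.conj g • M) : N ≤ M := by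
  intro x hx
  have hx' : g * x * g⁻¹ ∈ N := Subgroup.Normal.conj_mem inferInstance x hx g
  have := hle hx'
  rw [mem_conj_smul] at this
  simpa [mul_assoc] using this

/-- A normal subgroup inside `M` lies in every conjugate of `M`. -/
theorem b2_le_conj_of_le (N : Subgroup G) [N.Normal] (g : G) (M : Subgroup G)
    (hle : N ≤ M) : N ≤ MulAut.conj g • M := by
  intro x hx
  rw [mem_conj_smul]
  have hx' : g⁻¹ * x * g⁻¹⁻¹ ∈ N := Subgroup.Normal.conj_mem inferInstance x hx g⁻¹
  rw [inv_inv] at hx'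
  exact hle hx'

theorem b2_inf_conj (N : Subgroup G) [N.Normal] (g : G) (M : Subgroup G) :
    N ⊓ MulAut.conj g • M = MulAut.conj g • (N ⊓ M) := by
  ext x
  rw [Subgroup.mem_inf, mem_conj_smul, mem_conj_smul, Subgroup.mem_inf]
  constructor
  · rintro ⟨h1, h2⟩
    refine ⟨?_, h2⟩
    have := Subgroup.Normal.conj_mem (inferInstance : N.Normal) x h1 g⁻¹
    rwa [inv_inv] at this
  · rintro ⟨h1, h2⟩
    refine ⟨?_, h2⟩
    have := Subgroup.Normal.conj_mem (inferInstance : N.Normal) _ h1 g
    simpa [mul_assoc] using this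

/-- Coatoms over `N` are conjugates of `M₁`; coatoms not over `N` are conjugates of `M₂`. -/
theorem b2_coatom_cases {M₁ M₂ : Subgroup G} (h : TwoCls M₁ M₂) (N : Subgroup G) [N.Normal]
    (hN1 : N ≤ M₁) (hN2 : ¬ N ≤ M₂) (L : Subgroup G) (hL : IsCoatom L) :
    (N ≤ L ∧ ∃ g : G, L = MulAut.conj g • M₁) ∨ (¬ N ≤ L ∧ ∃ g : G, L = MulAut.conj g • M₂) := by
  obtain ⟨g, rfl | rfl⟩ := h.hall L hL
  · exact Or.inl ⟨b2_le_conj_of_le N g M₁ hN1, g, rfl⟩
  · exact Or.inr ⟨fun hle => hN2 (b2_le_of_le_conj N g M₂ hle), g, rfl⟩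

/-- Step 2: the quotient by `N` is a `p`-group for every prime `p` dividing `[G : M₁]`. -/
theorem b2_quot_pgroup {M₁ M₂ : Subgroup G} (h : TwoCls M₁ M₂) (N : Subgroup G) [N.Normal]
    (hN1 : N ≤ M₁) (hN2 : ¬ N ≤ M₂) (p : ℕ) [Fact p.Prime] (hp : p ∣ M₁.index) :
    IsPGroup p (G ⧸ N) := by
  obtain ⟨P⟩ : Nonempty (Sylow p G) := inferInstance
  have htop : (P : Subgroup G) ⊔ N = ⊤ := by
    rcases eq_top_or_exists_le_coatom ((P : Subgroup G) ⊔ N) with h1 | ⟨L, hL, hle⟩
    · exact h1
    · exfalso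
      have hNL : N ≤ L := le_trans le_sup_right hle
      have hPL : (P : Subgroup G) ≤ L := le_trans le_sup_left hle
      rcases b2_coatom_cases h N hN1 hN2 L hL with ⟨_, g, rfl⟩ | ⟨hn, _⟩
      · have h1 : (MulAut.conj g • M₁).index ∣ (P : Subgroup G).index :=
          Subgroup.index_dvd_of_le hPL
        rw [index_conj_smul] at h1
        exact P.not_dvd_index (dvd_trans hp h1)
      · exact hn hNL
  intro q
  obtain ⟨g, rfl⟩ := QuotientGroup.mk_surjective q
  have hg : g ∈ ((P : Subgroup G) ⊔ N : Subgroup G) := by rw [htop]; trivial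
  rw [← SetLike.mem_coe, Subgroup.mul_normal] at hg
  obtain ⟨x, hx, n, hn, rfl⟩ := hg
  obtain ⟨k, hk⟩ := P.2 ⟨x, hx⟩
  refine ⟨k, ?_⟩
  have hx1 : x ^ p ^ k = 1 := by
    have := congrArg Subtype.val hk
    simpa using this
  have hmk : ((x * n : G) : G ⧸ N) = (x : G ⧸ N) := by
    rw [QuotientGroup.mk_mul, (QuotientGroup.eq_one_iff n).2 hn, mul_one]
  rw [hmk, ← QuotientGroup.mk_pow, hx1, QuotientGroup.mk_one]

/-- Step 3: `N` is an `r`-group for some prime `r`. -/
theorem b2_exists_prime {M₁ M₂ : Subgroup G} (h : TwoCls M₁ M₂) (N : Subgroup G) [N.Normal]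
    (hmin : ∀ K : Subgroup G, K.Normal → K ≤ N → K = ⊥ ∨ K = N)
    (hN1 : N ≤ M₁) (hN2 : ¬ N ≤ M₂) :
    ∃ r : ℕ, r.Prime ∧ ∃ k : ℕ, k ≠ 0 ∧ Nat.card N = r ^ k := by
  classical
  by_contra hcon
  push Not at hcon
  apply hN2
  -- every Sylow of `N` is non-normal in `G`, so its order divides `|N ⊓ M₂|`
  have hcardN : Nat.card N ≠ 0 := Nat.card_pos.ne'
  have hcardNM : Nat.card (N ⊓ M₂ : Subgroup G) ≠ 0 := Nat.card_pos.ne'
  have hdvd : Nat.card N ∣ Nat.card (N ⊓ M₂ : Subgroup G) := by
    rw [← Nat.factorization_le_iff_dvd hcardN hcardNM]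
    intro r
    by_cases hr : r.Prime
    · have : Fact r.Prime := ⟨hr⟩
      by_cases hrN : (Nat.card N).factorization r = 0
      · rw [hrN]; exact Nat.zero_le _
      · obtain ⟨R⟩ : Nonempty (Sylow r N) := inferInstance
        set R' : Subgroup G := (R : Subgroup N).map N.subtype with hR'
        have hR'N : R' ≤ N := by
          rw [hR']
          exact Subgroup.map_subtype_le _
        have hcardR : Nat.card R' = r ^ (Nat.card N).factorization r := by
          rw [hR', Subgroup.card_map_of_injective N.subtype_injective]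
          exact R.card_eq_multiplicity
        have hFr := Sylow.normalizer_sup_eq_top R
        rw [← hR'] at hFr
        have hnn : ¬ R'.Normal := by
          intro hnor
          rcases hmin R' hnor hR'N with h0 | h0
          · rw [h0, Subgroup.card_bot] at hcardR
            have : 1 < r ^ (Nat.card N).factorization r :=
              Nat.one_lt_pow hrN hr.one_lt
            omega
          · refine hcon r hr _ hrN ?_
            rw [← hcardR, h0]
        have hne : Subgroup.normalizer (R' : Set G) ≠ ⊤ := fun ht =>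
          hnn (Subgroup.normalizer_eq_top_iff.1 ht)
        rcases eq_top_or_exists_le_coatom (Subgroup.normalizer (R' : Set G)) with h1 | ⟨L, hL, hle⟩
        · exact absurd h1 hne
        · have hnotle : ¬ N ≤ L := by
            intro hNL
            apply hL.1
            rw [eq_top_iff, ← hFr]
            exact sup_le hle hNL
          rcases b2_coatom_cases h N hN1 hN2 L hL with ⟨hyes, _⟩ | ⟨_, g, rfl⟩
          · exact absurd hyes hnotle
          · have hR'L : R' ≤ N ⊓ MulAut.conj g • M₂ :=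
              le_inf hR'N (le_trans Subgroup.le_normalizer hle)
            have h2 := Subgroup.card_dvd_of_le hR'L
            rw [b2_inf_conj, card_conj_smul, hcardR] at h2
            exact (hr.pow_dvd_iff_le_factorization hcardNM).1 h2
    · rw [Nat.factorization_eq_zero_of_not_prime _ hr]
      exact Nat.zero_le _
  have hle : (N ⊓ M₂ : Subgroup G) ≤ N := inf_le_left
  have heq : (N ⊓ M₂ : Subgroup G) = N :=
    Subgroup.eq_of_le_of_card_ge hle (Nat.le_of_dvd Nat.card_pos hdvd)
  rw [← heq]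
  exact inf_le_right

/-! ### Case B2 -/
theorem caseB2 {M₁ M₂ : Subgroup G} (h : TwoCls M₁ M₂)
    (hpg : ∀ p : ℕ, p.Prime → ¬ IsPGroup p G) (N : Subgroup G) [N.Normal] (hN : N ≠ ⊥)
    (hmin : ∀ K : Subgroup G, K.Normal → K ≤ N → K = ⊥ ∨ K = N)
    (hN1 : N ≤ M₁) (hN2 : ¬ N ≤ M₂) :
    Group.IsSolvable G ∧ (Nat.card G).primeFactors.card = 2 := by
  classical
  -- a prime `p` dividing `[G : M₁]`
  have hidx : M₁.index ≠ 1 := fun h1 => h.h1.1 (Subgroup.index_eq_one.1 h1)
  obtain ⟨p, hp, hpd⟩ := Nat.exists_prime_and_dvd hidx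
  have : Fact p.Prime := ⟨hp⟩
  have hQ : IsPGroup p (G ⧸ N) := b2_quot_pgroup h N hN1 hN2 p hpd
  obtain ⟨b, hb⟩ := IsPGroup.iff_card.1 hQ
  obtain ⟨r, hr, k, hk, hNr⟩ := b2_exists_prime h N hmin hN1 hN2
  have : Fact r.Prime := ⟨hr⟩
  have hNp : IsPGroup r N := IsPGroup.of_card hNr
  have hcard : Nat.card G = p ^ b * r ^ k := by
    rw [Subgroup.card_eq_card_quotient_mul_card_subgroup N, hb, hNr]
  have hb0 : b ≠ 0 := by
    rintro rfl
    rw [pow_zero] at hb
    have : N.index = 1 := by rw [Subgroup.index_eq_card]; exact hb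
    have hNt : N = ⊤ := Subgroup.index_eq_one.1 this
    apply h.h1.1
    rw [eq_top_iff, ← hNt]
    exact hN1
  have hrp : r ≠ p := by
    rintro rfl
    apply hpg r hr
    apply IsPGroup.of_card (n := b + k)
    rw [hcard, pow_add]
  constructor
  · have : Group.IsSolvable N := by
      have := hNp.isNilpotent
      infer_instance
    have : Group.IsSolvable (G ⧸ N) := by
      have := hQ.isNilpotent
      infer_instance
    refine Group.isSolvable_of_ker_le_range N.subtype (QuotientGroup.mk' N) ?_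
    rw [QuotientGroup.ker_mk', Subgroup.range_subtype]
  · rw [hcard, Nat.primeFactors_mul (pow_ne_zero _ hp.ne_zero) (pow_ne_zero _ hr.ne_zero),
      Nat.primeFactors_prime_pow hb0 hp, Nat.primeFactors_prime_pow hk hr]
    rw [Finset.card_union_of_disjoint (by simpa using hrp.symm)]
    simp

end Cfsg.Agent.Helper22.TwoMax
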