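import Mathlib
import Cfsg.Agent.Lib.Lead.ChevFacts

/-!
S2314 farm-out, PIECE UNI-NPAR: a word in `J` gives an element of the parabolic subgroup `P_J`.
-/

set_option autoImplicit false
set_option linter.unusedSectionVars false
set_option linter.unusedVariables false

namespace Cfsg.Agent.Helper6.Uni

open Cfsg Cfsg.Lie Cfsg.Agent.Lead.Chev

variable {F : Type*} [Field F] {D : ChevalleyDatum} (hF : ChevFacts D F)

include hF

/-- PIECE UNI-NPAR: a word in `J` gives an element of `P_J`. -/
theorem nWordGL_mem_parabolic (J : Set ℕ) (w : List ℕ) (hw : ∀ i ∈ w, i ∈ J ∧ i < D.rank) :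
    nWordGL D hF.xadd w ∈ D.parabolicSubgroup F J := by
  induction w with
  | nil => rw [nWordGL_nil]; exact one_mem _
  | cons i w ih =>
    rw [nWordGL_cons]
    refine mul_mem ?_ (ih fun j hj => hw j (List.mem_cons_of_mem _ hj))
    obtain ⟨hiJ, hi⟩ := hw i List.mem_cons_self
    unfold ChevalleyDatum.parabolicSubgroup
    apply Subgroup.mem_sup_right
    exact Subgroup.subset_closure ⟨i, hiJ, hi, nGL_val D hF.xadd _⟩

end Cfsg.Agent.Helper6.Uni
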