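import Mathlib
import Cfsg.Agent.Lib.Helper6.UniDefs

/-!
S2314 farm-out, PIECE UNI-ONE: the value of the relative Steinberg function at `1`.
-/

set_option autoImplicit false
set_option linter.unusedSectionVars false
set_option linter.unusedVariables false

namespace Cfsg.Agent.Helper6.Uni

open Cfsg Cfsg.Agent.Helper2.WordLen Cfsg.Agent.Helper2.BN Cfsg.Agent.Helper17.BNCox

/-- the permutation character at `1` is the index -/
theorem uni_one_fixedPointCharacter_one {M : Type*} [Group M] (H : Subgroup M) :
    Cfsg.fixedPointCharacter H (1 : M) = (H.index : ℂ) := by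
  unfold Cfsg.fixedPointCharacter
  rw [MulAction.fixedBy_one_eq_univ, Nat.card_congr (Equiv.Set.univ _)]
  rfl

variable {G : Type*} [Group G] (P : Cfsg.BNPair G)

/-- PIECE UNI-ONE: the value at `1`. -/
theorem StA_one [Finite G] (A : Finset P.S) :
    StA P A 1 = ∑ K ∈ A.powerset, (-1 : ℂ) ^ K.card *
      ((par P (↑K : Set P.S)).relIndex (par P (↑A : Set P.S)) : ℂ) := by
  unfold StA
  refine Finset.sum_congr rfl (fun K _ => ?_)
  rw [uni_one_fixedPointCharacter_one]
  rfl

end Cfsg.Agent.Helper6.Uni
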