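import Mathlib
import Cfsg.Prelude.Def_PLocal
import Cfsg.Agent.S0622
import Cfsg.Agent.Lib.Helper14.Basic

/-!
# No quadratic action on the stable normal closure `W(S)` (helper4)
-/

set_option autoImplicit false
set_option linter.unusedSectionVars false
set_option linter.unusedVariables false

namespace Cfsg.Agent.Helper4.WS

open scoped commutatorElement
open Cfsg

universe u

/-- `W(S)^τ` is normal for every stable embedding `τ`. -/
theorem map_stableNormalClosure_normal {S : Type u} [Group S] [Finite S] {p : ℕ} [Fact p.Prime]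
    (hS : IsPGroup p S) {H : Type u} [Group H] (τ : S →* H) (hτ : IsStableEmbedding p τ) :
    ((stableNormalClosure p S).map τ).Normal := by
  have hle := (Cfsg.Agent.S0622.result hS).2.2.1
  have hZJ : ((omegaCenterThompson p S).map τ).Normal :=
    Cfsg.Agent.S0622.omegaCenterThompson_map_normal p τ hτ.1 hτ.2.2.2.2.1
  constructor
  rintro _ ⟨w, hw, rfl⟩ h
  obtain ⟨w₀, hw₀, hw₀e⟩ := hZJ.conj_mem _ ⟨w, hle hw, rfl⟩ h
  refine ⟨w₀, ?_, hw₀e⟩
  show w₀ ∈ stableNormalClosure p S
  unfold stableNormalClosure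
  rw [Subgroup.mem_sInf]
  rintro W' ⟨hW'1, hW'2⟩
  have hw' : w ∈ W' := by
    have : stableNormalClosure p S ≤ W' := sInf_le ⟨hW'1, hW'2⟩
    exact this hw
  obtain ⟨w₁, hw₁, hw₁e⟩ := (hW'2 H τ hτ).conj_mem _ ⟨w, hw', rfl⟩ h
  have : w₁ = w₀ := hτ.1 (hw₁e.trans hw₀e.symm)
  rwa [← this]

/-- no element acts quadratically and nontrivially on `U` -/
def NoQuad {S : Type*} [Group S] (U : Subgroup S) : Prop :=
  ∀ x : S, ⁅⁅U, Subgroup.zpowers x⁆, Subgroup.zpowers x⁆ = ⊥ → ⁅U, Subgroup.zpowers x⁆ = ⊥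

theorem commutator_zpowers_le {H : Type*} [Group H] (K C : Subgroup H) [C.Normal]
    (hC : C ≤ Subgroup.centralizer (K : Set H)) {y b : H}
    (h : (QuotientGroup.mk y : H ⧸ C) = QuotientGroup.mk b) :
    ⁅K, Subgroup.zpowers y⁆ ≤ ⁅K, Subgroup.zpowers b⁆ := by
  rw [Subgroup.commutator_le]
  rintro k hk _ ⟨i, rfl⟩
  have h1 : (QuotientGroup.mk (b ^ i) : H ⧸ C) = QuotientGroup.mk (y ^ i) := by
    rw [QuotientGroup.mk_zpow, QuotientGroup.mk_zpow, h]
  have hc : (b ^ i)⁻¹ * y ^ i ∈ C := QuotientGroup.eq.mp h1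
  have hck := Subgroup.mem_centralizer_iff.mp (hC hc) k⁻¹ (K.inv_mem hk)
  have e : ⁅k, y ^ i⁆ = ⁅k, b ^ i⁆ := by
    rw [commutatorElement_def, commutatorElement_def]
    calc k * y ^ i * k⁻¹ * (y ^ i)⁻¹
        = k * b ^ i * (((b ^ i)⁻¹ * y ^ i) * k⁻¹) * (y ^ i)⁻¹ := by group
      _ = k * b ^ i * (k⁻¹ * ((b ^ i)⁻¹ * y ^ i)) * (y ^ i)⁻¹ := by rw [hck]
      _ = k * b ^ i * k⁻¹ * (b ^ i)⁻¹ := by group
  rw [e]
  exact Subgroup.commutator_mem_commutator hk ⟨i, rfl⟩

theorem commute_of_commutator_zpowers_eq_bot {S : Type*} [Group S] {U : Subgroup S} {x : S}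
    (h : ⁅U, Subgroup.zpowers x⁆ = ⊥) {u : S} (hu : u ∈ U) : x * u = u * x := by
  have h1 : ⁅u, x⁆ ∈ ⁅U, Subgroup.zpowers x⁆ :=
    Subgroup.commutator_mem_commutator hu (Subgroup.mem_zpowers x)
  rw [h, Subgroup.mem_bot, commutatorElement_eq_one_iff_mul_comm] at h1
  exact h1.symm

theorem commutator_zpowers_eq_bot_of_commute {S : Type*} [Group S] {U : Subgroup S} {x : S}
    (h : ∀ u ∈ U, x * u = u * x) : ⁅U, Subgroup.zpowers x⁆ = ⊥ := by
  rw [Subgroup.commutator_eq_bot_iff_le_centralizer]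
  intro u hu
  rw [Subgroup.mem_centralizer_iff]
  rintro _ ⟨i, rfl⟩
  have : Commute x u := h u hu
  exact (this.zpow_left i).eq

/-- the chain step -/
theorem noQuad_step {S : Type u} [Group S] [Finite S] {p : ℕ} [Fact p.Prime] (hS : IsPGroup p S)
    {U : Subgroup S} (hU2 : U ≤ stableNormalClosure p S) (hP : NoQuad U)
    {H : Type u} [Group H] (τ : S →* H) (hτ : IsStableEmbedding p τ) :
    NoQuad ((Subgroup.normalClosure ((U.map τ : Subgroup H) : Set H)).comap τ) := by
  obtain ⟨hinj, hfin, ⟨P, hP'⟩, _, hJn, hstab⟩ := hτ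
  have := hfin
  set M := Subgroup.normalClosure ((U.map τ : Subgroup H) : Set H) with hM
  have hWn : ((stableNormalClosure p S).map τ).Normal :=
    map_stableNormalClosure_normal hS τ ⟨hinj, hfin, ⟨P, hP'⟩, ‹_›, hJn, hstab⟩
  have hMW : M ≤ (stableNormalClosure p S).map τ :=
    Subgroup.normalClosure_le_normal (Subgroup.map_mono hU2)
  have hMZ : M ≤ (omegaCenterThompson p S).map τ :=
    hMW.trans (Subgroup.map_mono (Cfsg.Agent.S0622.result hS).2.2.1)
  have hMr : M ≤ τ.range := hMW.trans (by rw [MonoidHom.range_eq_map]; exact Subgroup.map_mono le_top)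
  have hmap : (M.comap τ).map τ = M := Subgroup.map_comap_eq_self hMr
  have hUM : U.map τ ≤ M := Subgroup.le_normalClosure
  have hMn : M.Normal := Subgroup.normalClosure_normal
  have hst : IsPStableOn p M := hstab M hMZ
  have hCn : (Subgroup.centralizer (M : Set H)).Normal := inferInstance
  -- the core: quadratic elements of `H` centralize `U^τ`
  have core : ∀ b : H, ⁅⁅M, Subgroup.zpowers b⁆, Subgroup.zpowers b⁆ = ⊥ →
      ∀ u ∈ U, b * τ u = τ u * b := by
    intro b hb u hu
    have h1 := hst b hb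
    have h2 : pCore p (H ⧸ Subgroup.centralizer (M : Set H)) ≤
        (P : Subgroup H).map (QuotientGroup.mk' (Subgroup.centralizer (M : Set H))) := by
      have := Cfsg.Agent.Helper14.pCore_le_sylow
        (P.mapSurjective (QuotientGroup.mk'_surjective (Subgroup.centralizer (M : Set H))))
      rwa [Sylow.coe_mapSurjective] at this
    obtain ⟨y, hy, hyb⟩ := h2 h1
    rw [hP'] at hy
    obtain ⟨s, rfl⟩ := hy
    have hyb' : (QuotientGroup.mk (τ s) : H ⧸ Subgroup.centralizer (M : Set H)) =
        QuotientGroup.mk b := hyb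
    -- `s` is quadratic on `U`
    have hK : ⁅M, Subgroup.zpowers b⁆ ≤ M := Subgroup.commutator_le_left _ _
    have q1 : ⁅M, Subgroup.zpowers (τ s)⁆ ≤ ⁅M, Subgroup.zpowers b⁆ :=
      commutator_zpowers_le M _ le_rfl hyb'
    have q2 : ⁅⁅M, Subgroup.zpowers (τ s)⁆, Subgroup.zpowers (τ s)⁆ = ⊥ := by
      rw [eq_bot_iff, ← hb]
      calc ⁅⁅M, Subgroup.zpowers (τ s)⁆, Subgroup.zpowers (τ s)⁆
          ≤ ⁅⁅M, Subgroup.zpowers b⁆, Subgroup.zpowers (τ s)⁆ :=
            Subgroup.commutator_mono q1 le_rfl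
        _ ≤ ⁅⁅M, Subgroup.zpowers b⁆, Subgroup.zpowers b⁆ :=
            commutator_zpowers_le _ _ (Subgroup.centralizer_le (by exact_mod_cast hK)) hyb'
    have q3 : ⁅⁅U, Subgroup.zpowers s⁆, Subgroup.zpowers s⁆ = ⊥ := by
      have h3 : (⁅⁅U, Subgroup.zpowers s⁆, Subgroup.zpowers s⁆).map τ = ⊥ := by
        rw [eq_bot_iff, ← q2, Subgroup.map_commutator, Subgroup.map_commutator,
          MonoidHom.map_zpowers]
        exact Subgroup.commutator_mono (Subgroup.commutator_mono hUM le_rfl) le_rfl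
      exact (Subgroup.map_eq_bot_iff_of_injective _ hinj).mp h3
    have q4 := commute_of_commutator_zpowers_eq_bot (hP s q3) hu
    have hc : (τ s)⁻¹ * b ∈ Subgroup.centralizer (M : Set H) := QuotientGroup.eq.mp hyb'
    have hcu := Subgroup.mem_centralizer_iff.mp hc (τ u) (hUM ⟨u, hu, rfl⟩)
    have q5 : τ s * τ u = τ u * τ s := by rw [← map_mul, q4, map_mul]
    calc b * τ u = τ s * (((τ s)⁻¹ * b) * τ u) := by group
      _ = τ s * (τ u * ((τ s)⁻¹ * b)) := by rw [hcu]
      _ = (τ s * τ u) * ((τ s)⁻¹ * b) := by group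
      _ = (τ u * τ s) * ((τ s)⁻¹ * b) := by rw [q5]
      _ = τ u * b := by group
  intro x hq
  have hqa : ⁅⁅M, Subgroup.zpowers (τ x)⁆, Subgroup.zpowers (τ x)⁆ = ⊥ := by
    have := congrArg (Subgroup.map τ) hq
    rwa [Subgroup.map_commutator, Subgroup.map_commutator, hmap, MonoidHom.map_zpowers,
      Subgroup.map_bot] at this
  -- conjugates of `τ x` are quadratic too
  have hconj : ∀ h : H, ⁅⁅M, Subgroup.zpowers (h⁻¹ * τ x * h)⁆,
      Subgroup.zpowers (h⁻¹ * τ x * h)⁆ = ⊥ := by
    intro h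
    have h1 := congrArg (Subgroup.map (MulAut.conj h⁻¹).toMonoidHom) hqa
    have hMc : M.map (MulAut.conj h⁻¹).toMonoidHom = M := by
      have : h⁻¹ ∈ Subgroup.normalizer (M : Set H) := by
        rw [Subgroup.normalizer_eq_top]; exact Subgroup.mem_top _
      exact Subgroup.mem_normalizer_iff_map_conj_eq.mp this
    rw [Subgroup.map_commutator, Subgroup.map_commutator, hMc, MonoidHom.map_zpowers,
      Subgroup.map_bot] at h1
    simpa using h1
  have hcent : M ≤ Subgroup.centralizer ({τ x} : Set H) := by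
    show Subgroup.closure (Group.conjugatesOfSet ((U.map τ : Subgroup H) : Set H)) ≤ _
    rw [Subgroup.closure_le]
    intro g hg
    obtain ⟨y, hy, hyg⟩ := Group.mem_conjugatesOfSet_iff.mp hg
    obtain ⟨c, hc⟩ := isConj_iff.mp hyg
    obtain ⟨u, hu, rfl⟩ := hy
    have := core _ (hconj c) u hu
    show g ∈ Subgroup.centralizer ({τ x} : Set H)
    rw [Subgroup.mem_centralizer_iff]
    intro z hz
    rw [Set.mem_singleton_iff] at hz
    subst hz
    rw [← hc]
    calc τ x * (c * τ u * c⁻¹) = c * ((c⁻¹ * τ x * c) * τ u) * c⁻¹ := by group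
      _ = c * (τ u * (c⁻¹ * τ x * c)) * c⁻¹ := by rw [this]
      _ = c * τ u * c⁻¹ * τ x := by group
  apply commutator_zpowers_eq_bot_of_commute
  intro u hu
  apply hinj
  rw [map_mul, map_mul]
  exact Subgroup.mem_centralizer_iff.mp (hcent (show τ u ∈ M from hu)) (τ x) rfl


theorem noQuad_omegaOne_center {S : Type*} [Group S] (p : ℕ) :
    NoQuad (omegaOne p (Subgroup.center S)) := by
  intro x _
  apply commutator_zpowers_eq_bot_of_commute
  intro u hu
  have h1 : omegaOne p (Subgroup.center S) ≤ Subgroup.center S := by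
    unfold omegaOne
    rw [Subgroup.closure_le]
    intro y hy
    exact hy.1
  exact Subgroup.mem_center_iff.mp (h1 hu) x

/-- **K--S 9.4.3**: no element acts quadratically and nontrivially on `W(S)`. -/
theorem noQuad_stableNormalClosure {S : Type u} [Group S] [Finite S] {p : ℕ} [Fact p.Prime]
    (hS : IsPGroup p S) : NoQuad (stableNormalClosure p S) := by
  have key : ∀ n : ℕ, ∀ U : Subgroup S, Nat.card S - Nat.card ↥U = n →
      omegaOne p (Subgroup.center S) ≤ U → U ≤ stableNormalClosure p S → NoQuad U →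
      NoQuad (stableNormalClosure p S) := by
    intro n
    induction n using Nat.strong_induction_on with
    | _ n ih =>
    intro U hn h1 h2 hP
    by_cases hUW : U = stableNormalClosure p S
    · rw [← hUW]; exact hP
    by_contra hcon
    apply hUW
    apply le_antisymm h2
    apply sInf_le
    refine ⟨h1, ?_⟩
    intro H _ τ hτ
    by_contra hnn
    apply hcon
    have hWn : ((stableNormalClosure p S).map τ).Normal := map_stableNormalClosure_normal hS τ hτ
    have hU' := noQuad_step hS h2 hP τ hτ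
    have hUM : U.map τ ≤ Subgroup.normalClosure ((U.map τ : Subgroup H) : Set H) :=
      Subgroup.le_normalClosure
    have hUU' : U ≤ (Subgroup.normalClosure ((U.map τ : Subgroup H) : Set H)).comap τ :=
      Subgroup.map_le_iff_le_comap.mp hUM
    have hMW : Subgroup.normalClosure ((U.map τ : Subgroup H) : Set H) ≤
        (stableNormalClosure p S).map τ :=
      Subgroup.normalClosure_le_normal (Subgroup.map_mono h2)
    have hMr : Subgroup.normalClosure ((U.map τ : Subgroup H) : Set H) ≤ τ.range :=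
      hMW.trans (by rw [MonoidHom.range_eq_map]; exact Subgroup.map_mono le_top)
    have hne : U ≠ (Subgroup.normalClosure ((U.map τ : Subgroup H) : Set H)).comap τ := by
      intro heq
      apply hnn
      have h3 : U.map τ = Subgroup.normalClosure ((U.map τ : Subgroup H) : Set H) := by
        conv_lhs => rw [heq]
        exact Subgroup.map_comap_eq_self hMr
      rw [h3]
      exact Subgroup.normalClosure_normal
    have hU'W : (Subgroup.normalClosure ((U.map τ : Subgroup H) : Set H)).comap τ ≤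
        stableNormalClosure p S := by
      have := Subgroup.comap_mono (f := τ) hMW
      rwa [Subgroup.comap_map_eq_self_of_injective hτ.1] at this
    have hlt : Nat.card ↥U <
        Nat.card ↥((Subgroup.normalClosure ((U.map τ : Subgroup H) : Set H)).comap τ) := by
      rcases Nat.lt_or_ge (Nat.card ↥U)
        (Nat.card ↥((Subgroup.normalClosure ((U.map τ : Subgroup H) : Set H)).comap τ)) with h | h
      · exact h
      · exact absurd (Subgroup.eq_of_le_of_card_ge hUU' h) hne
    have hle : Nat.card ↥((Subgroup.normalClosure ((U.map τ : Subgroup H) : Set H)).comap τ) ≤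
        Nat.card S := Subgroup.card_le_card_group _
    exact ih (Nat.card S -
      Nat.card ↥((Subgroup.normalClosure ((U.map τ : Subgroup H) : Set H)).comap τ))
      (by omega) _ rfl (h1.trans hUU') hU'W hU'
  exact key _ (omegaOne p (Subgroup.center S)) rfl le_rfl
    (Cfsg.Agent.S0622.result hS).2.1 (noQuad_omegaOne_center p)

end Cfsg.Agent.Helper4.WS
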