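import Mathlib
import Cfsg.Prelude.Def_PLocal
import Cfsg.Agent.Lib.Helper4.WSQuad
import Cfsg.Agent.Lib.Helper4.ZJCore
import Cfsg.Agent.Lib.Helper4.SubnPair
import Cfsg.Agent.Lib.Helper3.Thompson
import Cfsg.Agent.Lib.Helper23.BurnsideFrattini
import Cfsg.Agent.S0607

/-!
# The analogue of the ZJ-theorem for `W(S)` (helper4)
-/

set_option autoImplicit false
set_option linter.unusedSectionVars false
set_option linter.unusedVariables false

namespace Cfsg.Agent.Helper4.WS

open scoped commutatorElement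
open Cfsg Cfsg.Agent.Helper4.OG Cfsg.Agent.Helper4.SNP

universe u

variable {G : Type u} [Group G] [Finite G] {p : ℕ} [Fact p.Prime]

/-- `W(S)` inside `G` -/
abbrev WW (p : ℕ) (P : Subgroup G) : Subgroup G := (stableNormalClosure p ↥P).map P.subtype

theorem le_normalizer_thompsonSubgroupOf (P : Subgroup G) :
    P ≤ Subgroup.normalizer (thompsonSubgroupOf p P : Set G) := by
  apply le_normalizer_of_forall_conj_mem
  rintro g hg _ ⟨j, hj, rfl⟩
  have hch : (thompsonSubgroup p ↥P).Characteristic :=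
    Cfsg.Agent.Helper3.thompsonSubgroup_characteristic p
  have hn : (thompsonSubgroup p ↥P).Normal := inferInstance
  exact ⟨⟨g, hg⟩ * j * ⟨g, hg⟩⁻¹, hn.conj_mem j hj ⟨g, hg⟩, rfl⟩

/-- the inclusion of a Sylow subgroup into `N_G(J(S))` is a stable embedding -/
theorem isStableEmbedding_inclusion (hst : IsActionPStable p G)
    (hc : Subgroup.centralizer (pCore p G : Set G) ≤ pCore p G) (S : Sylow p G) :
    IsStableEmbedding p (Subgroup.inclusion
      (le_normalizer_thompsonSubgroupOf (p := p) (S : Subgroup G))) := by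
  set P := (S : Subgroup G) with hP
  set N := Subgroup.normalizer (thompsonSubgroupOf p P : Set G) with hN
  have hPN : P ≤ N := le_normalizer_thompsonSubgroupOf P
  refine ⟨Subgroup.inclusion_injective hPN, inferInstance, ⟨S.subtype hPN, ?_⟩, ?_, ?_, ?_⟩
  · rw [Sylow.coe_subtype]
    ext x
    rw [Subgroup.mem_subgroupOf, MonoidHom.mem_range]
    constructor
    · intro hx
      exact ⟨⟨x, hx⟩, Subtype.ext rfl⟩
    · rintro ⟨y, rfl⟩
      exact y.2
  · -- C_N(O_p(N)) ≤ O_p(N)
    have hQP : pCore p G ≤ P := Cfsg.Agent.Helper14.pCore_le_sylow S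
    have hQN : (pCore p G).subgroupOf N ≤ pCore p ↥N := by
      apply Cfsg.Agent.Helper14.le_pCore
      · exact Subgroup.Normal.subgroupOf inferInstance N
      · exact (Cfsg.Agent.Helper14.pCore_isPGroup p G).comap_subtype
    intro n hn
    apply hQN
    rw [Subgroup.mem_subgroupOf]
    apply hc
    rw [Subgroup.mem_centralizer_iff]
    intro q hq
    have h1 : (⟨q, hPN (hQP hq)⟩ : ↥N) ∈ pCore p ↥N := hQN (Subgroup.mem_subgroupOf.mpr hq)
    have h2 := Subgroup.mem_centralizer_iff.mp hn _ h1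
    exact congrArg Subtype.val h2
  · -- J(S) is normal in N
    constructor
    rintro _ ⟨j, hj, rfl⟩ n
    have h1 : (n : G) ∈ Subgroup.normalizer (thompsonSubgroupOf p P : Set G) := n.2
    have h2 : (n : G) * (j : G) * (n : G)⁻¹ ∈ thompsonSubgroupOf p P :=
      conj_mem_of_mem_normalizer h1 ⟨j, hj, rfl⟩
    obtain ⟨j', hj', hjj'⟩ := h2
    refine ⟨j', hj', ?_⟩
    apply Subtype.ext
    exact hjj'
  · intro V _ hV
    apply hst.2.2 S V
    have h1 := Subgroup.map_mono (f := N.subtype) hV
    rw [Subgroup.map_map] at h1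
    exact h1

theorem normalizer_thompson_le_normalizer_WW (hst : IsActionPStable p G)
    (hc : Subgroup.centralizer (pCore p G : Set G) ≤ pCore p G) (S : Sylow p G) :
    Subgroup.normalizer (thompsonSubgroupOf p (S : Subgroup G) : Set G) ≤
      Subgroup.normalizer ((WW p (S : Subgroup G) : Subgroup G) : Set G) := by
  have hτ := isStableEmbedding_inclusion hst hc S
  have hn := map_stableNormalClosure_normal S.2 _ hτ
  apply le_normalizer_of_forall_conj_mem
  rintro n hn' _ ⟨w, hw, rfl⟩
  obtain ⟨w', hw', hww'⟩ := hn.conj_mem _ ⟨w, hw, rfl⟩ ⟨n, hn'⟩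
  refine ⟨w', hw', ?_⟩
  have := congrArg Subtype.val hww'
  exact this


/-- `W(S)` is abelian -/
theorem WW_comm (S : Sylow p G) :
    ∀ a ∈ WW p (S : Subgroup G), ∀ b ∈ WW p (S : Subgroup G), a * b = b * a := by
  rintro _ ⟨a, ha, rfl⟩ _ ⟨b, hb, rfl⟩
  have hle := (Cfsg.Agent.S0622.result S.2).2.2.1
  have h1 : ∀ x ∈ omegaCenterThompson p ↥(S : Subgroup G),
      x ∈ Subgroup.centralizer ((thompsonSubgroup p ↥(S : Subgroup G) : Subgroup _) : Set _) ∧
      x ∈ thompsonSubgroup p ↥(S : Subgroup G) := by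
    intro x hx
    have h2 : omegaCenterThompson p ↥(S : Subgroup G) ≤
        thompsonSubgroup p ↥(S : Subgroup G) ⊓
          Subgroup.centralizer ((thompsonSubgroup p ↥(S : Subgroup G) : Subgroup _) : Set _) := by
      unfold omegaCenterThompson omegaOne
      rw [Subgroup.closure_le]
      intro y hy
      exact hy.1
    exact ⟨(h2 hx).2, (h2 hx).1⟩
  have h3 := (h1 a (hle ha)).1
  have h4 := (h1 b (hle hb)).2
  have h5 := Subgroup.mem_centralizer_iff.mp h3 b h4
  have := congrArg Subtype.val h5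
  exact this.symm

theorem WW_pow (S : Sylow p G) : ∀ a ∈ WW p (S : Subgroup G), a ^ p = 1 := by
  rintro _ ⟨a, ha, rfl⟩
  have hle := (Cfsg.Agent.S0622.result S.2).2.2.1
  have h1 : ∀ x ∈ omegaCenterThompson p ↥(S : Subgroup G), x ^ p = 1 := by
    intro x hx
    unfold omegaCenterThompson omegaOne at hx
    have hcomm : ∀ y ∈ {x : ↥(S : Subgroup G) | x ∈ thompsonSubgroup p ↥(S : Subgroup G) ⊓
        Subgroup.centralizer ((thompsonSubgroup p ↥(S : Subgroup G) : Subgroup _) : Set _) ∧
        x ^ p = 1}, ∀ z ∈ {x : ↥(S : Subgroup G) | x ∈ thompsonSubgroup p ↥(S : Subgroup G) ⊓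
        Subgroup.centralizer ((thompsonSubgroup p ↥(S : Subgroup G) : Subgroup _) : Set _) ∧
        x ^ p = 1}, y * z = z * y := by
      intro y hy z hz
      exact (Subgroup.mem_centralizer_iff.mp hy.1.2 z hz.1.1).symm
    induction hx using Subgroup.closure_induction with
    | mem y hy => exact hy.2
    | one => exact one_pow p
    | mul y z hy hz ihy ihz =>
      have hyz : Commute y z := by
        have := Subgroup.isMulCommutative_closure hcomm
        have h := mul_comm' (⟨y, hy⟩ : Subgroup.closure _) ⟨z, hz⟩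
        exact congrArg Subtype.val h
      rw [hyz.mul_pow, ihy, ihz, one_mul]
    | inv y _ ih => rw [inv_pow, ih, inv_one]
  have := h1 a (hle ha)
  have h2 := congrArg Subtype.val this
  simpa using h2

theorem WW_le_sylow (S : Sylow p G) : WW p (S : Subgroup G) ≤ (S : Subgroup G) :=
  Subgroup.map_subtype_le _

/-- elements of `S` acting quadratically on `W(S)` centralize it -/
theorem commute_of_quadratic_WW (S : Sylow p G) {y : G} (hy : y ∈ (S : Subgroup G))
    (hq : ⁅⁅WW p (S : Subgroup G), Subgroup.zpowers y⁆, Subgroup.zpowers y⁆ = ⊥) :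
    ∀ w ∈ WW p (S : Subgroup G), y * w = w * y := by
  have hinj := Subgroup.subtype_injective (S : Subgroup G)
  have h1 : ⁅⁅stableNormalClosure p ↥(S : Subgroup G), Subgroup.zpowers (⟨y, hy⟩ : ↥(S : Subgroup G))⁆,
      Subgroup.zpowers (⟨y, hy⟩ : ↥(S : Subgroup G))⁆ = ⊥ := by
    apply (Subgroup.map_eq_bot_iff_of_injective _ hinj).mp
    rw [Subgroup.map_commutator, Subgroup.map_commutator, MonoidHom.map_zpowers]
    exact hq
  have h2 := noQuad_stableNormalClosure S.2 _ h1
  rintro _ ⟨w, hw, rfl⟩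
  have h3 := commute_of_commutator_zpowers_eq_bot h2 hw
  exact congrArg Subtype.val h3

/-- the kernel of the action on `O_p(G)/Φ(O_p(G))` is a `p`-group when `C_G(O_p(G)) ≤ O_p(G)` -/
theorem isPGroup_sectionKernel (hc : Subgroup.centralizer (pCore p G : Set G) ≤ pCore p G) :
    IsPGroup p ↥(sectionKernel (pCore p G) ((frattini ↥(pCore p G)).map (pCore p G).subtype)) := by
  set Q := pCore p G with hQ
  set Φ := (frattini ↥Q).map Q.subtype with hΦ
  have hQp : IsPGroup p ↥Q := Cfsg.Agent.Helper14.pCore_isPGroup p G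
  have hact : ∀ g ∈ sectionKernel Q Φ, ∀ r ∈ Q, g * r * g⁻¹ * r⁻¹ ∈ Φ := by
    intro g hg r hr
    unfold sectionKernel at hg
    rw [Subgroup.mem_comap, Subgroup.mem_centralizer_iff] at hg
    have h1 := hg _ (Subgroup.mem_map_of_mem (QuotientGroup.mk' Φ) hr)
    have h2 : (QuotientGroup.mk' Φ) (g * r * g⁻¹ * r⁻¹) = 1 := by
      rw [map_mul, map_mul, map_mul, map_inv, map_inv, ← h1]
      group
    exact (QuotientGroup.eq_one_iff _).mp h2
  apply Cfsg.Agent.Helper14.isPGroup_of_pprime_elements_trivial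
  rintro ⟨g, hg⟩ hcop
  have hcop' : (orderOf g).Coprime p := by
    rwa [← Subgroup.orderOf_coe] at hcop
  have h1 : Q ≤ Subgroup.centralizer ((Subgroup.zpowers g : Subgroup G) : Set G) := by
    apply Cfsg.Agent.Helper23.centralizes_of_frattini Q hQp (Subgroup.zpowers g)
    · rw [Nat.card_zpowers]; exact hcop'
    · infer_instance
    · intro a _
      rw [Subgroup.normalizer_eq_top]; exact Subgroup.mem_top _
    · intro a ha r hr
      exact hact a ((Subgroup.zpowers_le.mpr hg) ha) r hr
  have h2 : g ∈ Q := by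
    apply hc
    rw [Subgroup.mem_centralizer_iff]
    intro q hq
    exact (Subgroup.mem_centralizer_iff.mp (h1 hq) g (Subgroup.mem_zpowers g)).symm
  obtain ⟨k, hk⟩ := hQp ⟨g, h2⟩
  have hk' : g ^ p ^ k = 1 := by simpa using congrArg Subtype.val hk
  have h3 : orderOf g ∣ p ^ k := orderOf_dvd_of_pow_eq_one hk'
  have h4 : orderOf g = 1 := by
    have := Nat.Coprime.eq_one_of_dvd (hcop'.pow_right k) h3
    exact this
  apply Subtype.ext
  exact orderOf_eq_one_iff.mp h4

/-- `W(S) ≤ O_p(G)` -/
theorem WW_le_pCore (hst : IsActionPStable p G)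
    (hc : Subgroup.centralizer (pCore p G : Set G) ≤ pCore p G) (S : Sylow p G) :
    WW p (S : Subgroup G) ≤ pCore p G := by
  intro x hx
  set Q := pCore p G with hQ
  have hQS : Q ≤ (S : Subgroup G) := Cfsg.Agent.Helper14.pCore_le_sylow S
  have hQW : Q ≤ Subgroup.normalizer ((WW p (S : Subgroup G) : Subgroup G) : Set G) :=
    (hQS.trans (le_normalizer_thompsonSubgroupOf _)).trans
      (normalizer_thompson_le_normalizer_WW hst hc S)
  have hq : ⁅⁅Q, Subgroup.zpowers x⁆, Subgroup.zpowers x⁆ ≤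
      (frattini ↥Q).map Q.subtype := by
    have hz : Subgroup.zpowers x ≤ WW p (S : Subgroup G) := Subgroup.zpowers_le.mpr hx
    have h1 : ⁅Q, Subgroup.zpowers x⁆ ≤ WW p (S : Subgroup G) := by
      rw [Subgroup.commutator_comm]
      exact (Subgroup.commutator_mono hz le_rfl).trans (commutator_le_left_of_normalizer hQW)
    have h2 : ⁅WW p (S : Subgroup G), WW p (S : Subgroup G)⁆ = ⊥ := by
      rw [Subgroup.commutator_eq_bot_iff_le_centralizer]
      intro a ha
      rw [Subgroup.mem_centralizer_iff]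
      intro b hb
      exact WW_comm S b hb a ha
    calc ⁅⁅Q, Subgroup.zpowers x⁆, Subgroup.zpowers x⁆
        ≤ ⁅WW p (S : Subgroup G), WW p (S : Subgroup G)⁆ := Subgroup.commutator_mono h1 hz
      _ = ⊥ := h2
      _ ≤ _ := bot_le
  obtain ⟨D, hDn, hCD, ⟨k, hk⟩, hxD⟩ := hst.2.1 x hq
  have hCp := isPGroup_sectionKernel (p := p) hc
  have hDp : IsPGroup p ↥D := by
    obtain ⟨m, hm⟩ := IsPGroup.iff_card.mp hCp
    apply IsPGroup.of_card (n := m + k)
    have h1 := Subgroup.relIndex_mul_relIndex (H := ⊥) _ _ bot_le hCD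
    rw [Subgroup.relIndex_bot_left, Subgroup.relIndex_bot_left, hm, hk] at h1
    rw [← h1, pow_add]
  exact Cfsg.Agent.Helper14.le_pCore hDn hDp hxD


theorem isElementaryAbelian_closure {H : Type*} [Group H] {p : ℕ} {T : Set H}
    (hc : ∀ a ∈ T, ∀ b ∈ T, a * b = b * a) (hp : ∀ a ∈ T, a ^ p = 1) :
    IsElementaryAbelian p (Subgroup.closure T) := by
  have hcomm : IsMulCommutative ↥(Subgroup.closure T) := Subgroup.isMulCommutative_closure hc
  refine ⟨hcomm, ?_⟩
  intro g hg
  induction hg using Subgroup.closure_induction with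
  | mem x hx => exact hp x hx
  | one => exact one_pow p
  | mul x y hx hy ihx ihy =>
    have hxy : Commute x y := by
      have h := mul_comm' (⟨x, hx⟩ : Subgroup.closure T) ⟨y, hy⟩
      exact congrArg Subtype.val h
    rw [hxy.mul_pow, ihx, ihy, one_mul]
  | inv x _ ih => rw [inv_pow, ih, inv_one]

section closureW

variable (hst : IsActionPStable p G)
  (hc : Subgroup.centralizer (pCore p G : Set G) ≤ pCore p G) (S : Sylow p G)
include hst hc

/-- conjugates of `W(S)` commute with `W(S)` -/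
theorem conj_WW_commute (g : G) :
    ∀ y ∈ cj g (WW p (S : Subgroup G)), ∀ w ∈ WW p (S : Subgroup G), y * w = w * y := by
  intro y hy
  set W := WW p (S : Subgroup G) with hW
  set Q := pCore p G with hQ
  have hQS : Q ≤ (S : Subgroup G) := Cfsg.Agent.Helper14.pCore_le_sylow S
  have hWQ : W ≤ Q := WW_le_pCore hst hc S
  have hQW : Q ≤ Subgroup.normalizer (W : Set G) :=
    (hQS.trans (le_normalizer_thompsonSubgroupOf _)).trans
      (normalizer_thompson_le_normalizer_WW hst hc S)
  have hgQ : cj g Q = Q := by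
    apply cj_eq_self_of_mem_normalizer
    rw [Subgroup.normalizer_eq_top]; exact Subgroup.mem_top _
  have hQW' : Q ≤ Subgroup.normalizer ((cj g W : Subgroup G) : Set G) := by
    have := cj_le_normalizer (x := g) hQW
    rwa [hgQ] at this
  have hyQ : y ∈ Q := by
    have := cj_mono g hWQ hy
    rwa [hgQ] at this
  have hz : Subgroup.zpowers y ≤ cj g W := Subgroup.zpowers_le.mpr hy
  have h1 : ⁅W, Subgroup.zpowers y⁆ ≤ cj g W := by
    rw [Subgroup.commutator_comm]
    exact (Subgroup.commutator_mono hz le_rfl).trans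
      (commutator_le_left_of_normalizer (hWQ.trans hQW'))
  have h2 : ⁅cj g W, cj g W⁆ = ⊥ := by
    rw [← cj_commutator, cj_eq_bot_iff, Subgroup.commutator_eq_bot_iff_le_centralizer]
    intro a ha
    rw [Subgroup.mem_centralizer_iff]
    intro b hb
    exact WW_comm S b hb a ha
  have hq : ⁅⁅W, Subgroup.zpowers y⁆, Subgroup.zpowers y⁆ = ⊥ := by
    rw [eq_bot_iff, ← h2]
    exact Subgroup.commutator_mono h1 hz
  exact commute_of_quadratic_WW S (hQS hyQ) hq

/-- the normal closure of `W(S)` is elementary abelian -/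
theorem isElementaryAbelian_normalClosure_WW :
    IsElementaryAbelian p (Subgroup.normalClosure ((WW p (S : Subgroup G) : Subgroup G) : Set G)) := by
  show IsElementaryAbelian p (Subgroup.closure (Group.conjugatesOfSet _))
  apply isElementaryAbelian_closure
  · intro a ha b hb
    obtain ⟨w, hw, hwa⟩ := Group.mem_conjugatesOfSet_iff.mp ha
    obtain ⟨c, hc'⟩ := isConj_iff.mp hwa
    obtain ⟨w', hw', hwb⟩ := Group.mem_conjugatesOfSet_iff.mp hb
    obtain ⟨d, hd⟩ := isConj_iff.mp hwb
    have hy : (c⁻¹ * d) * w' * (c⁻¹ * d)⁻¹ ∈ cj (c⁻¹ * d) (WW p (S : Subgroup G)) :=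
      conj_mem_cj hw'
    have := conj_WW_commute hst hc S (c⁻¹ * d) _ hy w hw
    rw [← hc', ← hd]
    calc c * w * c⁻¹ * (d * w' * d⁻¹)
        = c * (w * ((c⁻¹ * d) * w' * (c⁻¹ * d)⁻¹)) * c⁻¹ := by group
      _ = c * (((c⁻¹ * d) * w' * (c⁻¹ * d)⁻¹) * w) * c⁻¹ := by rw [this]
      _ = d * w' * d⁻¹ * (c * w * c⁻¹) := by group
  · intro a ha
    obtain ⟨w, hw, hwa⟩ := Group.mem_conjugatesOfSet_iff.mp ha
    obtain ⟨c, hc'⟩ := isConj_iff.mp hwa
    rw [← hc', conj_pow, WW_pow S w hw]
    group

/-- elements acting quadratically on the normal closure of `W(S)` centralize it -/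
theorem centralizes_of_quadratic {b : G}
    (hb : ⁅⁅Subgroup.normalClosure ((WW p (S : Subgroup G) : Subgroup G) : Set G),
      Subgroup.zpowers b⁆, Subgroup.zpowers b⁆ = ⊥) :
    ∀ u ∈ Subgroup.normalClosure ((WW p (S : Subgroup G) : Subgroup G) : Set G),
      b * u = u * b := by
  set W := WW p (S : Subgroup G) with hW
  set U := Subgroup.normalClosure (W : Set G) with hU
  have hUn : U.Normal := Subgroup.normalClosure_normal
  have hUel : IsElementaryAbelian p U := isElementaryAbelian_normalClosure_WW hst hc S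
  have hWU : W ≤ U := Subgroup.le_normalClosure
  have hstU : IsPStableOn p U := hst.1 U hUel
  have core : ∀ b' : G, ⁅⁅U, Subgroup.zpowers b'⁆, Subgroup.zpowers b'⁆ = ⊥ →
      ∀ w ∈ W, b' * w = w * b' := by
    intro b' hb' w hw
    have h1 : b' ∈ Cfsg.Agent.Helper4.ZJ.KK p U := hstU b' hb'
    obtain ⟨x, hx, c, hc', hbx⟩ := Cfsg.Agent.Helper4.ZJ.exists_mul_of_mem_KK S U h1
    have hmk : (QuotientGroup.mk x : G ⧸ Subgroup.centralizer (U : Set G)) =
        QuotientGroup.mk b' := by
      rw [hbx]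
      apply QuotientGroup.eq.mpr
      have e : x⁻¹ * (x * c) = c := by group
      rw [e]; exact hc'
    have hK : ⁅U, Subgroup.zpowers b'⁆ ≤ U := Subgroup.commutator_le_left _ _
    have q1 : ⁅U, Subgroup.zpowers x⁆ ≤ ⁅U, Subgroup.zpowers b'⁆ :=
      commutator_zpowers_le U _ le_rfl hmk
    have q2 : ⁅⁅U, Subgroup.zpowers x⁆, Subgroup.zpowers x⁆ = ⊥ := by
      rw [eq_bot_iff, ← hb']
      calc ⁅⁅U, Subgroup.zpowers x⁆, Subgroup.zpowers x⁆
          ≤ ⁅⁅U, Subgroup.zpowers b'⁆, Subgroup.zpowers x⁆ :=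
            Subgroup.commutator_mono q1 le_rfl
        _ ≤ ⁅⁅U, Subgroup.zpowers b'⁆, Subgroup.zpowers b'⁆ :=
            commutator_zpowers_le _ _ (Subgroup.centralizer_le (by exact_mod_cast hK)) hmk
    have q3 : ⁅⁅W, Subgroup.zpowers x⁆, Subgroup.zpowers x⁆ = ⊥ := by
      rw [eq_bot_iff, ← q2]
      exact Subgroup.commutator_mono (Subgroup.commutator_mono hWU le_rfl) le_rfl
    have q4 := commute_of_quadratic_WW S hx.1 q3 w hw
    have hcw := Subgroup.mem_centralizer_iff.mp hc' w (hWU hw)
    rw [hbx]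
    calc x * c * w = x * (c * w) := by group
      _ = x * (w * c) := by rw [hcw]
      _ = (x * w) * c := by group
      _ = (w * x) * c := by rw [q4]
      _ = w * (x * c) := by group
  have hconj : ∀ h : G, ⁅⁅U, Subgroup.zpowers (h⁻¹ * b * h)⁆,
      Subgroup.zpowers (h⁻¹ * b * h)⁆ = ⊥ := by
    intro h
    have h1 := congrArg (Subgroup.map (MulAut.conj h⁻¹).toMonoidHom) hb
    have hMc : U.map (MulAut.conj h⁻¹).toMonoidHom = U := by
      have : h⁻¹ ∈ Subgroup.normalizer (U : Set G) := by
        rw [Subgroup.normalizer_eq_top]; exact Subgroup.mem_top _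
      exact Subgroup.mem_normalizer_iff_map_conj_eq.mp this
    rw [Subgroup.map_commutator, Subgroup.map_commutator, hMc, MonoidHom.map_zpowers,
      Subgroup.map_bot] at h1
    simpa using h1
  have hcent : U ≤ Subgroup.centralizer ({b} : Set G) := by
    show Subgroup.closure (Group.conjugatesOfSet (W : Set G)) ≤ _
    rw [Subgroup.closure_le]
    intro g hg
    obtain ⟨w, hw, hwg⟩ := Group.mem_conjugatesOfSet_iff.mp hg
    obtain ⟨c, hc'⟩ := isConj_iff.mp hwg
    have := core _ (hconj c) w hw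
    show g ∈ Subgroup.centralizer ({b} : Set G)
    rw [Subgroup.mem_centralizer_iff]
    intro z hz
    rw [Set.mem_singleton_iff] at hz
    subst hz
    rw [← hc']
    calc z * (c * w * c⁻¹) = c * ((c⁻¹ * z * c) * w) * c⁻¹ := by group
      _ = c * (w * (c⁻¹ * z * c)) * c⁻¹ := by rw [this]
      _ = c * w * c⁻¹ * z := by group
  intro u hu
  exact Subgroup.mem_centralizer_iff.mp (hcent hu) b rfl

/-- `J(G)` centralizes the normal closure of `W(S)` -/
theorem max_le_centralizer {A : Subgroup G} (hA : A ∈ maxElementaryAbelianSubgroups p G) :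
    A ≤ Subgroup.centralizer
      ((Subgroup.normalClosure ((WW p (S : Subgroup G) : Subgroup G) : Set G) : Subgroup G) : Set G) := by
  set W := WW p (S : Subgroup G) with hW
  set U := Subgroup.normalClosure (W : Set G) with hU
  have hUn : U.Normal := Subgroup.normalClosure_normal
  have hUel : IsElementaryAbelian p U := isElementaryAbelian_normalClosure_WW hst hc S
  by_contra hcon
  have hne : ⁅U, A⁆ ≠ ⊥ := by
    intro h
    apply hcon
    rw [Subgroup.commutator_comm, Subgroup.commutator_eq_bot_iff_le_centralizer] at h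
    exact h
  obtain ⟨_, hq, hne'⟩ := Cfsg.Agent.S0607.result U hUel A hA
  apply hne' hne
  rw [Subgroup.commutator_comm, Subgroup.commutator_eq_bot_iff_le_centralizer]
  intro a ha
  rw [Subgroup.mem_centralizer_iff]
  intro u hu
  have hz : Subgroup.zpowers a ≤ _ := Subgroup.zpowers_le.mpr ha
  have hqa : ⁅⁅U, Subgroup.zpowers a⁆, Subgroup.zpowers a⁆ = ⊥ := by
    rw [eq_bot_iff, ← hq]
    exact Subgroup.commutator_mono (Subgroup.commutator_mono le_rfl hz) hz
  exact (centralizes_of_quadratic hst hc S hqa u hu).symm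

end closureW


/-- if `J(S) ≤ T ≤ S` then `N_G(T) ≤ N_G(J(S))` -/
theorem normalizer_le_normalizer_thompson (S : Sylow p G) {T : Subgroup G}
    (hTS : T ≤ (S : Subgroup G)) (hJT : thompsonSubgroupOf p (S : Subgroup G) ≤ T) :
    Subgroup.normalizer (T : Set G) ≤
      Subgroup.normalizer (thompsonSubgroupOf p (S : Subgroup G) : Set G) := by
  obtain ⟨A₀, hA₀, hA₀S⟩ := Cfsg.Agent.Helper3.exists_max_le_sylow S
  apply le_normalizer_of_forall_conj_mem
  intro n hn
  have hnT : cj n T = T := cj_eq_self_of_mem_normalizer hn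
  have hle : cj n (thompsonSubgroupOf p (S : Subgroup G)) ≤ thompsonSubgroupOf p (S : Subgroup G) := by
    unfold thompsonSubgroupOf
    show ((thompsonSubgroup p ↥(S : Subgroup G)).map (S : Subgroup G).subtype).map
      (MulAut.conj n).toMonoidHom ≤ _
    rw [Subgroup.map_map, Subgroup.map_le_iff_le_comap]
    unfold thompsonSubgroup
    apply sSup_le
    intro B hB
    rw [← Subgroup.map_le_iff_le_comap, ← Subgroup.map_map]
    have hA : B.map (S : Subgroup G).subtype ∈ maxElementaryAbelianSubgroups p G :=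
      Cfsg.Agent.Helper3.map_subtype_mem_max hA₀ hA₀S hB
    have hA' : cj n (B.map (S : Subgroup G).subtype) ∈ maxElementaryAbelianSubgroups p G :=
      Cfsg.Agent.Helper3.map_mem_maxElementaryAbelianSubgroups (MulAut.conj n) hA
    have hAJ : B.map (S : Subgroup G).subtype ≤ thompsonSubgroupOf p (S : Subgroup G) :=
      Subgroup.map_mono (le_sSup hB)
    have hA'S : cj n (B.map (S : Subgroup G).subtype) ≤ (S : Subgroup G) := by
      have := cj_mono n (hAJ.trans hJT)
      rw [hnT] at this
      exact this.trans hTS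
    have h1 : (cj n (B.map (S : Subgroup G).subtype)).subgroupOf (S : Subgroup G) ≤
        thompsonSubgroup p ↥(S : Subgroup G) :=
      le_sSup (Cfsg.Agent.Helper3.subgroupOf_mem_max hA' hA'S)
    have h2 := Subgroup.map_mono (f := (S : Subgroup G).subtype) h1
    rwa [Subgroup.map_subgroupOf_eq_of_le hA'S] at h2
  intro a ha
  exact hle (conj_mem_cj ha)

/-- **K--S 9.4.4**: the analogue of the ZJ-theorem for `W(S)`. -/
theorem WW_normal (hst : IsActionPStable p G)
    (hc : Subgroup.centralizer (pCore p G : Set G) ≤ pCore p G) (S : Sylow p G) :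
    (WW p (S : Subgroup G)).Normal := by
  set W := WW p (S : Subgroup G) with hW
  set U := Subgroup.normalClosure (W : Set G) with hU
  have hUn : U.Normal := Subgroup.normalClosure_normal
  have hWU : W ≤ U := Subgroup.le_normalClosure
  -- `J(S)` centralizes `U`
  have hJC : thompsonSubgroupOf p (S : Subgroup G) ≤ Subgroup.centralizer (U : Set G) := by
    obtain ⟨A₀, hA₀, hA₀S⟩ := Cfsg.Agent.Helper3.exists_max_le_sylow S
    unfold thompsonSubgroupOf
    rw [Subgroup.map_le_iff_le_comap]
    unfold thompsonSubgroup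
    apply sSup_le
    intro B hB
    rw [← Subgroup.map_le_iff_le_comap]
    exact max_le_centralizer hst hc S (Cfsg.Agent.Helper3.map_subtype_mem_max hA₀ hA₀S hB)
  have hJS : thompsonSubgroupOf p (S : Subgroup G) ≤ (S : Subgroup G) := Subgroup.map_subtype_le _
  have hJK : thompsonSubgroupOf p (S : Subgroup G) ≤
      (S : Subgroup G) ⊓ Cfsg.Agent.Helper4.ZJ.KK p U :=
    le_inf hJS (hJC.trans (Cfsg.Agent.Helper4.ZJ.centralizer_le_KK U))
  rw [← Subgroup.normalizer_eq_top_iff, eq_top_iff]
  intro g _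
  obtain ⟨n, hn, c, hc', rfl⟩ := Cfsg.Agent.Helper4.ZJ.exists_mul_normalizer_centralizer S U g
  apply Subgroup.mul_mem
  · exact normalizer_thompson_le_normalizer_WW hst hc S
      (normalizer_le_normalizer_thompson S inf_le_left hJK hn)
  · apply Subgroup.centralizer_le_normalizer
    exact Subgroup.centralizer_le (by exact_mod_cast hWU) hc'

end Cfsg.Agent.Helper4.WS
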