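import Mathlib
import Cfsg.Agent.Lib.Helper4.GTAbstract2
import Cfsg.Agent.Lib.Helper4.WSNormal
import Cfsg.Agent.S0626

/-!
# `W(S)` as a characteristic functor for the Glauberman--Thompson argument (helper4)
-/

set_option autoImplicit false

namespace Cfsg.Agent.Helper4.WS

open Cfsg

universe u

theorem WW_map_of_injOn {X Y : Type u} [Group X] [Group Y] (p : ℕ) (f : X →* Y) (R : Subgroup X)
    (hf : Set.InjOn f R) : WW p (R.map f) = (WW p R).map f := by
  have hinj : Function.Injective (f.subgroupMap R) := by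
    intro x y hxy
    have h1 : f (x : X) = f (y : X) := congrArg Subtype.val hxy
    exact Subtype.ext (hf x.2 y.2 h1)
  let e : ↥R ≃* ↥(R.map f) :=
    MulEquiv.ofBijective (f.subgroupMap R) ⟨hinj, MonoidHom.subgroupMap_surjective f R⟩
  have h1 : (stableNormalClosure p ↥R).map e.toMonoidHom = stableNormalClosure p ↥(R.map f) :=
    Cfsg.Agent.Helper4.map_eq_of_le_of_symm_le e (Cfsg.Agent.S0622.stableNormalClosure_map_le p e)
      (Cfsg.Agent.S0622.stableNormalClosure_map_le p e.symm)
  show (stableNormalClosure p ↥(R.map f)).map (R.map f).subtype =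
    ((stableNormalClosure p ↥R).map R.subtype).map f
  rw [← h1, Subgroup.map_map, Subgroup.map_map]
  rfl

/-- The characteristic functor `W(·)`. -/
noncomputable def cfW {p : ℕ} [Fact p.Prime] (hp : p ≠ 2) :
    Cfsg.Agent.Helper4.GT2.CharFun2.{u} p where
  W := fun _ _ R => WW p R
  le_self := fun _ _ R => Subgroup.map_subtype_le _
  ne_bot := fun X _ _ R hR hR1 => by
    have : Nontrivial ↥R := (Subgroup.nontrivial_iff_ne_bot R).mpr hR1
    have h1 := (Cfsg.Agent.S0622.result hR).2.2.2.1 this
    intro h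
    exact h1 ((Subgroup.map_eq_bot_iff_of_injective _ (Subgroup.subtype_injective R)).mp h)
  map := fun _ _ _ _ _ _ f R hf => WW_map_of_injOn p f R hf
  zj := fun _ _ _ P h2 hc => WW_normal (Cfsg.Agent.S0626.result hp h2) hc P

end Cfsg.Agent.Helper4.WS
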