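import Mathlib
import Cfsg.Prelude.Def_PLocal
import Cfsg.Agent.Lib.Helper4.WSNormal
import Cfsg.Agent.Lib.Helper4.OffT
import Cfsg.Agent.Lib.Helper23.PSolvable
import Cfsg.Agent.Lib.Helper22.PPrimeCore
import Cfsg.Agent.S0625

/-!
# `W(S)` in `p`-separable groups, `p ≥ 5` (helper4)
-/

set_option autoImplicit false
set_option linter.unusedSectionVars false
set_option linter.unusedVariables false

namespace Cfsg.Agent.Helper4.WS

open scoped commutatorElement
open Cfsg Cfsg.Agent.Helper4.OG Cfsg.Agent.Helper4.SNP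

universe u

variable {G : Type u} [Group G] [Finite G] {p : ℕ} [Fact p.Prime]

theorem inf_eq_bot_of_isPGroup_of_coprime {P K : Subgroup G} (hP : IsPGroup p ↥P)
    (hK : (Nat.card ↥K).Coprime p) : P ⊓ K = ⊥ := by
  rw [eq_bot_iff]
  rintro y ⟨hyP, hyK⟩
  obtain ⟨k, hk⟩ := hP ⟨y, hyP⟩
  have hk' : y ^ p ^ k = 1 := by simpa using congrArg Subtype.val hk
  have h1 : orderOf y ∣ p ^ k := orderOf_dvd_of_pow_eq_one hk'
  have h2 : orderOf y ∣ Nat.card ↥K := by
    have := orderOf_dvd_natCard (⟨y, hyK⟩ : ↥K)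
    rwa [← Subgroup.orderOf_coe] at this
  have h3 : orderOf y = 1 := by
    have h4 := Nat.dvd_gcd h1 h2
    have h5 : Nat.gcd (p ^ k) (Nat.card ↥K) = 1 := (hK.pow_right k).symm
    rw [h5] at h4
    exact Nat.dvd_one.mp h4
  rw [Subgroup.mem_bot]
  exact orderOf_eq_one_iff.mp h3


/-- `W` of the image of a Sylow subgroup modulo a normal `p'`-subgroup -/
theorem WW_map_of_coprime (K : Subgroup G) [K.Normal] (hK : (Nat.card ↥K).Coprime p)
    (S : Sylow p G) :
    WW p ((S : Subgroup G).map (QuotientGroup.mk' K)) =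
      (WW p (S : Subgroup G)).map (QuotientGroup.mk' K) := by
  set P := (S : Subgroup G) with hP
  set π := QuotientGroup.mk' K with hπ
  have hinj : Function.Injective (π.subgroupMap P) := by
    rw [injective_iff_map_eq_one]
    intro x hx
    have h1 : π (x : G) = 1 := congrArg Subtype.val hx
    have h2 : (x : G) ∈ K := by
      rw [hπ] at h1
      exact (QuotientGroup.eq_one_iff _).mp h1
    have h3 : (x : G) ∈ P ⊓ K := ⟨x.2, h2⟩
    rw [inf_eq_bot_of_isPGroup_of_coprime S.2 hK, Subgroup.mem_bot] at h3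
    exact Subtype.ext h3
  let e : ↥P ≃* ↥(P.map π) :=
    MulEquiv.ofBijective (π.subgroupMap P) ⟨hinj, MonoidHom.subgroupMap_surjective π P⟩
  have h1 := (Cfsg.Agent.S0622.result S.2).2.2.2.2 ↥(P.map π) e
  show (stableNormalClosure p ↥(P.map π)).map (P.map π).subtype =
    ((stableNormalClosure p ↥P).map P.subtype).map π
  rw [← h1, Subgroup.map_map, Subgroup.map_map]
  rfl

/-- **K--S 9.4.6**-style: `G = O_{p'}(G) N_G(W(S))` for `p`-separable `G`, `p ≥ 5`. -/
theorem pPrimeCore_sup_normalizer_WW (hp : 5 ≤ p) (hsep : IsPSolvable p G) (S : Sylow p G) :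
    pPrimeCore p G ⊔ Subgroup.normalizer ((WW p (S : Subgroup G) : Subgroup G) : Set G) = ⊤ := by
  set K := pPrimeCore p G with hK
  set P := (S : Subgroup G) with hP
  set W := WW p P with hW
  set π := QuotientGroup.mk' K with hπ
  have hKc : (Nat.card ↥K).Coprime p := Cfsg.Agent.Helper22.card_pPrimeCore_coprime p
  have hsep' : IsPSolvable p (G ⧸ K) := Cfsg.Agent.Helper23.PSolv.isPSolvable_quotient K hsep
  have hO' : pPrimeCore p (G ⧸ K) = ⊥ := Cfsg.Agent.Helper23.PSolv.pPrimeCore_quotient_pPrimeCore p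
  have hc' := Cfsg.Agent.Helper23.PSolv.centralizer_pCore_le hsep' hO'
  have hst' : IsActionPStable p (G ⧸ K) := Cfsg.Agent.S0625.result hp hsep'
  have hn := WW_normal hst' hc' (S.mapSurjective (QuotientGroup.mk'_surjective K))
  rw [Sylow.coe_mapSurjective, WW_map_of_coprime K hKc S] at hn
  -- the normal subgroup `M = W K`
  have hMn : ((W.map π).comap π).Normal := hn.comap π
  have hM : (W.map π).comap π = K ⊔ W := by
    rw [Subgroup.comap_map_eq, hπ, QuotientGroup.ker_mk', sup_comm]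
  rw [hM] at hMn
  have hWM : W ≤ K ⊔ W := le_sup_right
  have hWp : IsPGroup p ↥W := (S.2.to_le (WW_le_sylow S))
  have hKW : K ⊓ W = ⊥ := by
    rw [inf_comm]; exact inf_eq_bot_of_isPGroup_of_coprime hWp hKc
  have hcard : Nat.card ↥(K ⊔ W) = Nat.card ↥K * Nat.card ↥W := by
    apply card_sup_eq_mul _ hKW
    rw [Subgroup.normalizer_eq_top]; exact le_top
  have hidx : ¬ p ∣ (W.subgroupOf (K ⊔ W)).index := by
    have h1 := Subgroup.card_mul_index (W.subgroupOf (K ⊔ W))
    rw [Cfsg.Agent.Helper3.card_subgroupOf_of_le hWM, hcard, mul_comm] at h1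
    have hWpos : 0 < Nat.card ↥W := Nat.card_pos
    have h2 : (W.subgroupOf (K ⊔ W)).index = Nat.card ↥K :=
      Nat.eq_of_mul_eq_mul_right hWpos h1
    rw [h2]
    intro hdvd
    have hpp : p.Prime := Fact.out
    have := Nat.Coprime.eq_one_of_dvd hKc.symm hdvd
    exact hpp.one_lt.ne' this
  have hWp' : IsPGroup p ↥(W.subgroupOf (K ⊔ W)) := hWp.comap_subtype
  have hfr := Sylow.normalizer_sup_eq_top (hWp'.toSylow hidx)
  have hcoe : ((hWp'.toSylow hidx : Sylow p ↥(K ⊔ W)) : Subgroup ↥(K ⊔ W)).map (K ⊔ W).subtype = W := by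
    show (W.subgroupOf (K ⊔ W)).map (K ⊔ W).subtype = W
    rw [Subgroup.subgroupOf_map_subtype]
    exact inf_eq_left.mpr hWM
  rw [hcoe] at hfr
  rw [eq_top_iff, ← hfr]
  apply sup_le
  · exact le_sup_right
  · exact sup_le le_sup_left (Subgroup.le_normalizer.trans le_sup_right)

end Cfsg.Agent.Helper4.WS
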