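import Mathlib
import Cfsg.Prelude.Def_LocalEven

/-!
# Wreath-like sections: basic definitions (helper4)

`WrLike p W`: the group `W` of order `p ^ (p + 1)` has a normal abelian subgroup `B` of exponent `p`
and order `p ^ p` and an element `t ∉ B` of order `p` with `|C_B(t)| = p`.
Transport along isomorphisms, passage to `Type 0`, and criteria for `Cfsg.Involves`.
-/

set_option autoImplicit false

namespace Cfsg.Agent.Helper4.WrSec

universe u v w

/-- the wreath-like structure -/
def WrLike (p : ℕ) (W : Type u) [Group W] : Prop :=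
  ∃ (B : Subgroup W) (t : W), B.Normal ∧ IsMulCommutative B ∧ (∀ b ∈ B, b ^ p = 1) ∧
    Nat.card B = p ^ p ∧ orderOf t = p ∧ t ∉ B ∧ Nat.card W = p ^ (p + 1) ∧
    Nat.card ↥(B ⊓ Subgroup.centralizer ({t} : Set W)) = p

theorem WrLike.of_mulEquiv {p : ℕ} {W₁ : Type u} {W₂ : Type v} [Group W₁] [Group W₂]
    (e : W₁ ≃* W₂) (h : WrLike p W₁) : WrLike p W₂ := by
  obtain ⟨B, t, hBn, hBc, hBe, hBcard, ht, htB, hW, hC⟩ := h
  have hinj : Function.Injective e.toMonoidHom := e.injective
  refine ⟨B.map e.toMonoidHom, e t, ?_, ?_, ?_, ?_, ?_, ?_, ?_, ?_⟩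
  · exact hBn.map e.toMonoidHom e.surjective
  · refine ⟨⟨?_⟩⟩
    rintro ⟨_, a, ha, rfl⟩ ⟨_, b, hb, rfl⟩
    apply Subtype.ext
    show e.toMonoidHom a * e.toMonoidHom b = e.toMonoidHom b * e.toMonoidHom a
    rw [← map_mul, ← map_mul]
    have := hBc.is_comm.comm (⟨a, ha⟩ : ↥B) ⟨b, hb⟩
    have h2 : a * b = b * a := congrArg Subtype.val this
    rw [h2]
  · rintro _ ⟨b, hb, rfl⟩
    rw [← map_pow, hBe b hb, map_one]
  · rw [Subgroup.card_map_of_injective hinj, hBcard]
  · rw [MulEquiv.orderOf_eq, ht]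
  · rintro ⟨b, hb, hbe⟩
    have : b = t := e.injective hbe
    exact htB (this ▸ hb)
  · rw [← Nat.card_congr e.toEquiv, hW]
  · have heq : B.map e.toMonoidHom ⊓ Subgroup.centralizer ({e t} : Set W₂) =
        (B ⊓ Subgroup.centralizer ({t} : Set W₁)).map e.toMonoidHom := by
      ext x
      rw [Subgroup.mem_inf, Subgroup.mem_centralizer_singleton_iff]
      constructor
      · rintro ⟨⟨b, hb, rfl⟩, hx⟩
        refine ⟨b, Subgroup.mem_inf.mpr ⟨hb, Subgroup.mem_centralizer_singleton_iff.mpr ?_⟩, rfl⟩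
        apply e.injective
        rw [map_mul, map_mul]
        exact hx
      · rintro ⟨b, hb, rfl⟩
        have hb' : b ∈ B ⊓ Subgroup.centralizer ({t} : Set W₁) := hb
        rw [Subgroup.mem_inf, Subgroup.mem_centralizer_singleton_iff] at hb'
        refine ⟨⟨b, hb'.1, rfl⟩, ?_⟩
        show e b * e t = e t * e b
        rw [← map_mul, ← map_mul, hb'.2]
    rw [heq, Subgroup.card_map_of_injective hinj, hC]

/-- a copy of `Fin n` without algebraic structure -/
structure Copy (n : ℕ) : Type where
  /-- the underlying index -/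
  val : Fin n

/-- the obvious bijection -/
def Copy.equivFin (n : ℕ) : Copy n ≃ Fin n := ⟨Copy.val, Copy.mk, fun _ => rfl, fun _ => rfl⟩

instance (n : ℕ) : Finite (Copy n) := Finite.of_equiv _ (Copy.equivFin n).symm

/-- every finite group has a copy in `Type 0` -/
theorem exists_type0 (W₁ : Type u) [Group W₁] [Finite W₁] :
    ∃ (W : Type) (_ : Group W) (_ : Finite W), Nonempty (W₁ ≃* W) := by
  classical
  let e : Copy (Nat.card W₁) ≃ W₁ := (Copy.equivFin _).trans (Finite.equivFin W₁).symm
  letI : Group (Copy (Nat.card W₁)) := e.group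
  exact ⟨Copy (Nat.card W₁), e.group, inferInstance, ⟨e.mulEquiv.symm⟩⟩

/-- a surjection from a subgroup gives an involved section -/
theorem involves_of_surjective {X : Type u} [Group X] {W : Type v} [Group W] (K : Subgroup X)
    (f : ↥K →* W) (hf : Function.Surjective f) : Cfsg.Involves W X := by
  have e : (f.ker.map K.subtype).subgroupOf K = f.ker := by
    ext x
    rw [Subgroup.mem_subgroupOf]
    constructor
    · rintro ⟨y, hy, hyx⟩
      have : y = x := Subtype.ext hyx
      rwa [← this]
    · intro hx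
      exact ⟨x, hx, rfl⟩
  have hn : ((f.ker.map K.subtype).subgroupOf K).Normal := by
    rw [e]
    infer_instance
  refine ⟨K, f.ker.map K.subtype, hn, ⟨?_⟩⟩
  exact (QuotientGroup.quotientMulEquivOfEq e).trans
    (QuotientGroup.quotientKerEquivOfSurjective f hf)

theorem involves_of_le {G : Type u} [Group G] (P K : Subgroup G) (hKP : K ≤ P)
    {W : Type v} [Group W] (f : ↥K →* W) (hf : Function.Surjective f) :
    Cfsg.Involves W ↥P :=
  involves_of_surjective (K.subgroupOf P)
    (f.comp (Subgroup.subgroupOfEquivOfLe hKP).toMonoidHom)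
    (hf.comp (Subgroup.subgroupOfEquivOfLe hKP).surjective)

theorem involves_of_surjective_hom {X : Type u} {Y : Type v} [Group X] [Group Y] (σ : X →* Y)
    (hσ : Function.Surjective σ) {W : Type w} [Group W] (h : Cfsg.Involves W Y) :
    Cfsg.Involves W X := by
  obtain ⟨K, R, hn, ⟨e⟩⟩ := h
  have := hn
  refine involves_of_surjective (K.comap σ)
    ((e.toMonoidHom.comp (QuotientGroup.mk' _)).comp (σ.subgroupComap K)) ?_
  exact (e.surjective.comp (QuotientGroup.mk'_surjective _)).comp
    (σ.subgroupComap_surjective_of_surjective K hσ)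

end Cfsg.Agent.Helper4.WrSec
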