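import Mathlib

/-!
# A functional detecting a full Jordan block (helper4)

If `S ^ d = 0` and `S ^ (d - 1) ≠ 0` there is a functional `φ` such that
`w ↦ (φ (S ^ j w))_{j < d}` is onto.
-/

set_option autoImplicit false

namespace Cfsg.Agent.Helper4.WrSec

open Module

theorem exists_functional {F : Type*} [Field F] {E : Type*} [AddCommGroup E] [Module F E]
    [FiniteDimensional F E] (S : Module.End F E) (d : ℕ) (hd : 1 ≤ d) (hS : S ^ d = 0)
    (hS' : S ^ (d - 1) ≠ 0) :
    ∃ φ : E →ₗ[F] F, Function.Surjective (fun (w : E) (j : Fin d) => φ ((S ^ (j : ℕ)) w)) := by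
  classical
  obtain ⟨w₀, hw₀⟩ : ∃ w₀, (S ^ (d - 1)) w₀ ≠ 0 := by
    by_contra hcon
    push Not at hcon
    exact hS' (LinearMap.ext hcon)
  obtain ⟨φ, hφ⟩ : ∃ φ : Module.Dual F E, φ ((S ^ (d - 1)) w₀) ≠ 0 := by
    by_contra hcon
    push Not at hcon
    exact hw₀ ((Module.forall_dual_apply_eq_zero_iff F _).mp hcon)
  refine ⟨φ, ?_⟩
  set P : E →ₗ[F] (Fin d → F) := LinearMap.pi (fun j : Fin d => φ ∘ₗ (S ^ (j : ℕ))) with hP
  set ι : (Fin d → F) →ₗ[F] E :=
    Fintype.linearCombination F (fun k : Fin d => (S ^ (k : ℕ)) w₀) with hι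
  have hbig : ∀ m : ℕ, d ≤ m → S ^ m = 0 := by
    intro m hm
    obtain ⟨r, rfl⟩ := Nat.exists_eq_add_of_le hm
    rw [pow_add, hS, zero_mul]
  have hinj : Function.Injective (P ∘ₗ ι) := by
    rw [← LinearMap.ker_eq_bot, LinearMap.ker_eq_bot']
    intro c hc
    by_contra hne
    have hex : ∃ k : ℕ, ∃ hk : k < d, c ⟨k, hk⟩ ≠ 0 := by
      by_contra hcon
      push Not at hcon
      apply hne
      funext k
      exact hcon k.1 k.2
    obtain ⟨hk₀, hck₀⟩ := Nat.find_spec hex
    have hmin : ∀ k (hk : k < d), k < Nat.find hex → c ⟨k, hk⟩ = 0 := by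
      intro k hk hlt
      by_contra h
      exact Nat.find_min hex hlt ⟨hk, h⟩
    set k₀ := Nat.find hex with hk₀def
    have hj : d - 1 - k₀ < d := by omega
    have h1 : (P (ι c)) ⟨d - 1 - k₀, hj⟩ = 0 := by
      have := congrFun hc ⟨d - 1 - k₀, hj⟩
      exact this
    have h2 : (P (ι c)) ⟨d - 1 - k₀, hj⟩ =
        ∑ k : Fin d, c k * φ ((S ^ (d - 1 - k₀ + (k : ℕ))) w₀) := by
      rw [hP, LinearMap.pi_apply, LinearMap.comp_apply, hι, Fintype.linearCombination_apply,
        map_sum, map_sum]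
      apply Finset.sum_congr rfl
      intro k _
      rw [map_smul, map_smul, smul_eq_mul, pow_add, Module.End.mul_apply]
    rw [h2, Finset.sum_eq_single (⟨k₀, hk₀⟩ : Fin d)] at h1
    · have h3 : d - 1 - k₀ + k₀ = d - 1 := by omega
      simp only [h3] at h1
      rcases mul_eq_zero.mp h1 with h | h
      · exact hck₀ h
      · exact hφ h
    · intro k _ hkne
      rcases lt_or_gt_of_ne (fun h : (k : ℕ) = k₀ => hkne (Fin.ext h)) with hlt | hgt
      · rw [hmin k.1 k.2 hlt, zero_mul]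
      · rw [hbig (d - 1 - k₀ + (k : ℕ)) (by omega), LinearMap.zero_apply, map_zero, mul_zero]
    · intro h
      exact absurd (Finset.mem_univ _) h
  have hsurj : Function.Surjective (P ∘ₗ ι) := LinearMap.injective_iff_surjective.mp hinj
  have hPs : Function.Surjective P := by
    intro y
    obtain ⟨c, hc⟩ := hsurj y
    exact ⟨ι c, hc⟩
  intro y
  obtain ⟨w, hw⟩ := hPs y
  refine ⟨w, ?_⟩
  rw [← hw]
  rfl

end Cfsg.Agent.Helper4.WrSec
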