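import Mathlib
import Cfsg.Agent.Lib.Helper4.WrSecA

/-!
# Recognising a wreath-like quotient (helper4)
-/

set_option autoImplicit false

namespace Cfsg.Agent.Helper4.WrSec

universe u

theorem card_comap_eq {A B : Type*} [Group A] [Group B] [Finite A] (Ψ : A →* B)
    (hΨ : Function.Surjective Ψ) (L : Subgroup B) :
    Nat.card (L.comap Ψ) = Nat.card L * Nat.card Ψ.ker := by
  haveI : Finite B := Finite.of_surjective Ψ hΨ
  have h1 : Nat.card (L.comap Ψ) * L.index = Nat.card A := by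
    rw [← Subgroup.index_comap_of_surjective L hΨ]
    exact Subgroup.card_mul_index _
  have h2 : Nat.card A = Nat.card B * Nat.card Ψ.ker := by
    rw [Subgroup.card_eq_card_quotient_mul_card_subgroup Ψ.ker,
      Nat.card_congr (QuotientGroup.quotientKerEquivOfSurjective Ψ hΨ).toEquiv]
  have h3 : Nat.card L * L.index = Nat.card B := Subgroup.card_mul_index _
  have h4 : L.index ≠ 0 := Subgroup.index_ne_zero_of_finite
  have h5 : Nat.card (L.comap Ψ) * L.index = (Nat.card L * Nat.card Ψ.ker) * L.index := by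
    rw [h1, h2, ← h3]
    ring
  exact Nat.eq_of_mul_eq_mul_right (Nat.pos_of_ne_zero h4) h5

theorem card_map_mk {K : Type*} [Group K] [Finite K] (N : Subgroup K) [N.Normal]
    (D : Subgroup K) (hND : N ≤ D) :
    Nat.card (D.map (QuotientGroup.mk' N)) * Nat.card N = Nat.card D := by
  have h1 := card_comap_eq (QuotientGroup.mk' N) (QuotientGroup.mk'_surjective N)
    (D.map (QuotientGroup.mk' N))
  rw [QuotientGroup.comap_map_mk', sup_eq_right.mpr hND, QuotientGroup.ker_mk'] at h1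
  exact h1.symm

/-- recognising the wreath-like structure on a quotient -/
theorem wrLike_quotient {K : Type u} [Group K] [Finite K] {p : ℕ} [hp : Fact p.Prime]
    (N V D : Subgroup K) [hN : N.Normal] [hV : V.Normal] (hNV : N ≤ V)
    (hcomm : ∀ u ∈ V, ∀ v ∈ V, u * v * u⁻¹ * v⁻¹ ∈ N) (hpow : ∀ v ∈ V, v ^ p ∈ N)
    (hcV : Nat.card V = p ^ p * Nat.card N) (τ : K) (hτp : τ ^ p ∈ N) (hτV : τ ∉ V)
    (hidx : V.index = p) (hND : N ≤ D) (hDV : D ≤ V)
    (hD : ∀ v ∈ V, v ∈ D ↔ τ * v * τ⁻¹ * v⁻¹ ∈ N) (hcD : Nat.card D = p * Nat.card N) :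
    WrLike p (K ⧸ N) := by
  have hNpos : 0 < Nat.card N := Nat.card_pos
  set π := QuotientGroup.mk' N with hπ
  have hπs : Function.Surjective π := QuotientGroup.mk'_surjective N
  have hker : ∀ x : K, π x = 1 ↔ x ∈ N := fun x => QuotientGroup.eq_one_iff x
  refine ⟨V.map π, π τ, hV.map π hπs, ?_, ?_, ?_, ?_, ?_, ?_, ?_⟩
  · refine ⟨⟨?_⟩⟩
    rintro ⟨_, a, ha, rfl⟩ ⟨_, b, hb, rfl⟩
    apply Subtype.ext
    show π a * π b = π b * π a
    have h1 := (hker _).mpr (hcomm a ha b hb)
    rw [map_mul, map_mul, map_mul, map_inv, map_inv] at h1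
    have h2 : π a * π b = (π a * π b * (π a)⁻¹ * (π b)⁻¹) * (π b * π a) := by group
    rw [h2, h1, one_mul]
  · rintro _ ⟨b, hb, rfl⟩
    rw [← map_pow]
    exact (hker _).mpr (hpow b hb)
  · have h1 := card_map_mk N V hNV
    rw [hcV] at h1
    exact Nat.eq_of_mul_eq_mul_right hNpos h1
  · apply orderOf_eq_prime
    · rw [← map_pow]
      exact (hker _).mpr hτp
    · intro h
      exact hτV (hNV ((hker _).mp h))
  · rintro ⟨v, hv, hvτ⟩
    have h1 : π (v⁻¹ * τ) = 1 := by rw [map_mul, map_inv, hvτ, inv_mul_cancel]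
    have h2 : v⁻¹ * τ ∈ V := hNV ((hker _).mp h1)
    have h3 : τ = v * (v⁻¹ * τ) := by group
    rw [h3] at hτV
    exact hτV (V.mul_mem hv h2)
  · have h1 : Nat.card (K ⧸ N) * Nat.card N = Nat.card K := by
      rw [mul_comm]
      have := Subgroup.card_mul_index N
      rwa [Subgroup.index_eq_card] at this
    have h2 : Nat.card V * V.index = Nat.card K := Subgroup.card_mul_index V
    rw [hcV, hidx] at h2
    have h3 : Nat.card (K ⧸ N) * Nat.card N = p ^ (p + 1) * Nat.card N := by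
      rw [h1, ← h2, pow_succ]
      ring
    exact Nat.eq_of_mul_eq_mul_right hNpos h3
  · have heq : V.map π ⊓ Subgroup.centralizer ({π τ} : Set (K ⧸ N)) = D.map π := by
      ext w
      rw [Subgroup.mem_inf, Subgroup.mem_centralizer_singleton_iff]
      constructor
      · rintro ⟨⟨v, hv, rfl⟩, hc⟩
        refine ⟨v, (hD v hv).mpr ((hker _).mp ?_), rfl⟩
        rw [map_mul, map_mul, map_mul, map_inv, map_inv, ← hc]
        group
      · rintro ⟨v, hv, rfl⟩
        have hvV : v ∈ V := hDV hv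
        refine ⟨⟨v, hvV, rfl⟩, ?_⟩
        have h1 := (hker _).mpr ((hD v hvV).mp hv)
        rw [map_mul, map_mul, map_mul, map_inv, map_inv] at h1
        have h2 : π τ * π v = (π τ * π v * (π τ)⁻¹ * (π v)⁻¹) * (π v * π τ) := by group
        rw [h2, h1, one_mul]
    rw [heq]
    have h1 := card_map_mk N D hND
    rw [hcD] at h1
    exact Nat.eq_of_mul_eq_mul_right hNpos h1

end Cfsg.Agent.Helper4.WrSec
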