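import Mathlib
import Cfsg.Agent.Lib.Helper4.WrSecB
import Cfsg.Agent.Lib.Helper4.WrSecC
import Cfsg.Agent.Lib.Helper4.PLenExpB
import Cfsg.Agent.Lib.Helper4.ThBPoly

/-!
# A wreath-like quotient from a full Jordan block (helper4)

`K = V⟨g⟩` with `V` normal, `V / M` elementary abelian, `g ^ p ∈ V`, and some norm product
`(g v g⁻¹)(g² v g⁻²)⋯(g^p v g^{-p})` outside `M`.  Then `K` has a wreath-like quotient.
-/

set_option autoImplicit false
set_option linter.unusedSectionVars false

namespace Cfsg.Agent.Helper4.WrSec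

open Cfsg.Agent.Helper8.SecRep Cfsg.Agent.Helper4.PLenExp Cfsg.Agent.Helper4.ThB

universe u

/-- the subgroup of functions supported at the index `0` -/
def suppZero (p : ℕ) : Subgroup (Multiplicative (Fin p → ZMod p)) where
  carrier := {f | ∀ j : Fin p, 1 ≤ (j : ℕ) → Multiplicative.toAdd f j = 0}
  one_mem' := by
    intro j _
    rfl
  mul_mem' := by
    intro a b ha hb j hj
    show Multiplicative.toAdd a j + Multiplicative.toAdd b j = 0
    rw [ha j hj, hb j hj, add_zero]
  inv_mem' := by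
    intro a ha j hj
    show - Multiplicative.toAdd a j = 0
    rw [ha j hj, neg_zero]

theorem mem_suppZero {p : ℕ} (f : Multiplicative (Fin p → ZMod p)) :
    f ∈ suppZero p ↔ ∀ j : Fin p, 1 ≤ (j : ℕ) → Multiplicative.toAdd f j = 0 := Iff.rfl

theorem card_suppZero (p : ℕ) [hp : Fact p.Prime] : Nat.card (suppZero p) = p := by
  have hpos : 0 < p := hp.out.pos
  have e : suppZero p ≃ ZMod p :=
    { toFun := fun f => Multiplicative.toAdd f.1 ⟨0, hpos⟩
      invFun := fun c => ⟨Multiplicative.ofAdd (fun j => if (j : ℕ) = 0 then c else 0), by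
        intro j hj
        show (if (j : ℕ) = 0 then c else 0) = 0
        rw [if_neg (by omega)]⟩
      left_inv := by
        rintro ⟨f, hf⟩
        apply Subtype.ext
        show Multiplicative.ofAdd (fun j : Fin p =>
          if (j : ℕ) = 0 then Multiplicative.toAdd f ⟨0, hpos⟩ else 0) = f
        apply Multiplicative.toAdd.injective
        funext j
        show (if (j : ℕ) = 0 then Multiplicative.toAdd f ⟨0, hpos⟩ else 0) = Multiplicative.toAdd f j
        by_cases hj : (j : ℕ) = 0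
        · rw [if_pos hj]
          have hj0 : (⟨0, hpos⟩ : Fin p) = j := by
            apply Fin.ext
            exact hj.symm
          rw [hj0]
        · rw [if_neg hj]
          exact (hf j (by omega)).symm
      right_inv := by
        intro c
        show (if ((⟨0, hpos⟩ : Fin p) : ℕ) = 0 then c else 0) = c
        rw [if_pos rfl] }
  rw [Nat.card_congr e, Nat.card_zmod]

theorem card_mult_fun (p : ℕ) :
    Nat.card (Multiplicative (Fin p → ZMod p)) = p ^ p := by
  rw [Nat.card_congr Multiplicative.toAdd, Nat.card_fun, Nat.card_zmod, Nat.card_fin]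

theorem exists_wrLike_quotient {K : Type u} [Group K] [Finite K] {p : ℕ} [hp : Fact p.Prime]
    (V M : Subgroup K) [hVn : V.Normal] [hMn : M.Normal] (hsec : IsSec V M p)
    (g : K) (htop : V ⊔ Subgroup.zpowers g = ⊤) (hgV : g ∉ V) (hgp : g ^ p ∈ V)
    (hstar : ∃ v ∈ V, cprod g v p ∉ M) :
    ∃ (N : Subgroup K) (_ : N.Normal), WrLike p (K ⧸ N) := by
  classical
  have hpp : p.Prime := hp.out
  have hpos : 0 < p := hpp.pos
  have hVtop : Subgroup.normalizer (V : Set K) = ⊤ := Subgroup.normalizer_eq_top_iff.mpr hVn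
  have hMtop : Subgroup.normalizer (M : Set K) = ⊤ := Subgroup.normalizer_eq_top_iff.mpr hMn
  have hΓ : (⊤ : Subgroup K) ≤ nn V M := by
    intro k _
    rw [mem_nn, hVtop, hMtop]
    exact ⟨Subgroup.mem_top k, Subgroup.mem_top k⟩
  obtain ⟨gT, hgT⟩ : ∃ gT : ↥(⊤ : Subgroup K), gT = ⟨g, Subgroup.mem_top g⟩ := ⟨_, rfl⟩
  obtain ⟨T, hT⟩ : ∃ T : Module.End (ZMod p) (SecW hsec), T = secLin₀ hsec ⊤ hΓ gT := ⟨_, rfl⟩
  have conjV : ∀ {x : K}, x ∈ V → g * x * g⁻¹ ∈ V := fun hx => hVn.conj_mem _ hx g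
  have T_mk : ∀ (x : K) (hx : x ∈ V),
      T (secMk hsec ⟨x, hx⟩) = secMk hsec ⟨g * x * g⁻¹, conjV hx⟩ := by
    intro x hx
    rw [hT, secLin₀_mk]
    congr 1
    apply Subtype.ext
    rw [hgT]
  have hTp : T ^ p = 1 := by
    rw [hT, ← map_pow, secLin₀_eq_one_iff]
    intro a ha
    have h1 : ((gT ^ p : ↥(⊤ : Subgroup K)) : K) = g ^ p := by
      rw [Subgroup.coe_pow, hgT]
    rw [h1]
    exact hsec.comm _ hgp _ ha
  obtain ⟨S, hS⟩ : ∃ S : Module.End (ZMod p) (SecW hsec), S = T - 1 := ⟨_, rfl⟩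
  have hTS : T = S + 1 := by rw [hS]; abel
  have hSp : S ^ p = 0 := by
    have h1 := sub_one_pow_char_pow (ZMod p) (p := p) T 1
    rw [pow_one] at h1
    rw [hS, h1, hTp, sub_self]
  have hgeom : ∑ i ∈ Finset.range p, T ^ i = S ^ (p - 1) := by
    have h1 := geom_sum_eq (ZMod p) (p := p) T 1
    rw [pow_one] at h1
    rw [hS]
    exact h1
  have hgeom' : ∑ i ∈ Finset.range p, T ^ (i + 1) = S ^ (p - 1) := by
    rw [← hgeom]
    have e1 := Finset.sum_range_succ (fun i => T ^ i) p
    have e2 := Finset.sum_range_succ' (fun i => T ^ i) p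
    rw [e1] at e2
    simp only [pow_zero] at e2
    rw [hTp] at e2
    exact (add_right_cancel e2).symm
  have hbig : ∀ m : ℕ, p ≤ m → S ^ m = 0 := by
    intro m hm
    obtain ⟨r, rfl⟩ := Nat.exists_eq_add_of_le hm
    rw [pow_add, hSp, zero_mul]
  -- norm products
  have hcp : ∀ (v : K) (hv : v ∈ V) (hc : cprod g v p ∈ V),
      secMk hsec ⟨cprod g v p, hc⟩ = (S ^ (p - 1)) (secMk hsec ⟨v, hv⟩) := by
    intro v hv hc
    have h1 := secMk_cprod hsec ⊤ hΓ g (Subgroup.mem_top g) v hv p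
    rw [← hgeom', LinearMap.sum_apply]
    rw [hT, hgT]
    exact h1
  have hcpV : ∀ (v : K), v ∈ V → cprod g v p ∈ V := by
    intro v hv
    exact cprod_mem V g v (by rw [hVtop]; exact Subgroup.mem_top g) hv p
  have hS' : S ^ (p - 1) ≠ 0 := by
    obtain ⟨v, hv, hvM⟩ := hstar
    intro h0
    apply hvM
    have h1 := hcp v hv (hcpV v hv)
    rw [h0, LinearMap.zero_apply, secMk_eq_zero] at h1
    exact h1
  haveI : Module.Finite (ZMod p) (SecW hsec) := Module.Finite.of_finite
  obtain ⟨φ, hφ⟩ := exists_functional S p hpp.one_le hSp hS'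
  -- coordinate functions on `K`
  obtain ⟨Q, Q_def, Q_out⟩ : ∃ Q : ℕ → K → ZMod p,
      (∀ j x (hx : x ∈ V), Q j x = φ ((S ^ j) (secMk hsec ⟨x, hx⟩))) ∧
      (∀ j x, x ∉ V → Q j x = 0) :=
    ⟨fun j x => if hx : x ∈ V then φ ((S ^ j) (secMk hsec ⟨x, hx⟩)) else 0,
      fun j x hx => dif_pos hx, fun j x hx => dif_neg hx⟩
  have Q_mul : ∀ j x y, x ∈ V → y ∈ V → Q j (x * y) = Q j x + Q j y := by
    intro j x y hx hy
    rw [Q_def j _ (V.mul_mem hx hy), Q_def j x hx, Q_def j y hy, ← map_add, ← map_add,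
      ← secMk_mul]
    rfl
  have Q_one : ∀ j, Q j 1 = 0 := by
    intro j
    have h1 := Q_mul j 1 1 V.one_mem V.one_mem
    rw [mul_one] at h1
    exact left_eq_add.mp h1
  have Q_inv : ∀ j x, x ∈ V → Q j x⁻¹ = - Q j x := by
    intro j x hx
    have h1 := Q_mul j x x⁻¹ hx (V.inv_mem hx)
    rw [mul_inv_cancel, Q_one] at h1
    exact eq_neg_of_add_eq_zero_right h1.symm
  have Q_big : ∀ j x, p ≤ j → Q j x = 0 := by
    intro j x hj
    by_cases hx : x ∈ V
    · rw [Q_def j x hx, hbig j hj, LinearMap.zero_apply, map_zero]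
    · exact Q_out j x hx
  have Q_M : ∀ j m, m ∈ M → Q j m = 0 := by
    intro j m hm
    rw [Q_def j m (hsec.le hm), (secMk_eq_zero hsec _).mpr hm, map_zero, map_zero]
  have Q_conj : ∀ j x, x ∈ V → Q j (g * x * g⁻¹) = Q j x + Q (j + 1) x := by
    intro j x hx
    rw [Q_def j _ (conjV hx), ← T_mk x hx, Q_def j x hx, Q_def (j + 1) x hx, hTS,
      LinearMap.add_apply, Module.End.one_apply, map_add, map_add, pow_succ,
      Module.End.mul_apply, add_comm]
  have Q_comm : ∀ j b x, b ∈ V → x ∈ V → Q j (b * x * b⁻¹) = Q j x := by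
    intro j b x hb hx
    rw [Q_mul j _ _ (V.mul_mem hb hx) (V.inv_mem hb), Q_mul j b x hb hx, Q_inv j b hb]
    ring
  -- the homomorphism to the coordinate space
  let Ψ : ↥V →* Multiplicative (Fin p → ZMod p) :=
    { toFun := fun v => Multiplicative.ofAdd (fun j : Fin p => Q (j : ℕ) (v : K))
      map_one' := by
        show Multiplicative.ofAdd (fun j : Fin p => Q (j : ℕ) (1 : K)) = 1
        rw [ofAdd_eq_one]
        funext j
        exact Q_one j
      map_mul' := by
        intro a b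
        show Multiplicative.ofAdd (fun j : Fin p => Q (j : ℕ) ((a : K) * (b : K))) =
          Multiplicative.ofAdd (fun j : Fin p => Q (j : ℕ) (a : K)) *
            Multiplicative.ofAdd (fun j : Fin p => Q (j : ℕ) (b : K))
        rw [← ofAdd_add]
        congr 1
        funext j
        exact Q_mul j a b a.2 b.2 }
  have Ψ_apply : ∀ (v : ↥V) (j : Fin p), Multiplicative.toAdd (Ψ v) j = Q (j : ℕ) (v : K) :=
    fun v j => rfl
  have hΨs : Function.Surjective Ψ := by
    intro y
    obtain ⟨w, hw⟩ := hφ (Multiplicative.toAdd y)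
    obtain ⟨v, rfl⟩ := secMk_surjective hsec w
    refine ⟨v, ?_⟩
    apply Multiplicative.toAdd.injective
    funext j
    rw [Ψ_apply, Q_def _ _ v.2, ← hw]
  have Ψ_one : ∀ v : ↥V, Ψ v = 1 ↔ ∀ j, Q j (v : K) = 0 := by
    intro v
    constructor
    · intro h j
      by_cases hj : j < p
      · have h1 := Ψ_apply v ⟨j, hj⟩
        rw [h] at h1
        exact h1.symm
      · exact Q_big j _ (by omega)
    · intro h
      apply Multiplicative.toAdd.injective
      funext j
      rw [Ψ_apply]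
      exact h j
  obtain ⟨N, hNdef⟩ : ∃ N : Subgroup K, N = Ψ.ker.map V.subtype := ⟨_, rfl⟩
  have mem_N : ∀ x, x ∈ N ↔ x ∈ V ∧ ∀ j, Q j x = 0 := by
    intro x
    rw [hNdef]
    constructor
    · rintro ⟨y, hy, rfl⟩
      exact ⟨y.2, (Ψ_one y).mp (MonoidHom.mem_ker.mp hy)⟩
    · rintro ⟨hx, hQ⟩
      exact ⟨⟨x, hx⟩, MonoidHom.mem_ker.mpr ((Ψ_one _).mpr hQ), rfl⟩
  obtain ⟨D, hDdef⟩ : ∃ D : Subgroup K, D = ((suppZero p).comap Ψ).map V.subtype := ⟨_, rfl⟩
  have mem_D : ∀ x, x ∈ D ↔ x ∈ V ∧ ∀ j, 1 ≤ j → Q j x = 0 := by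
    intro x
    rw [hDdef]
    constructor
    · rintro ⟨y, hy, rfl⟩
      refine ⟨y.2, ?_⟩
      intro j hj
      by_cases hjp : j < p
      · have h1 := (mem_suppZero _).mp (Subgroup.mem_comap.mp hy) ⟨j, hjp⟩ hj
        rw [Ψ_apply] at h1
        exact h1
      · exact Q_big j _ (by omega)
    · rintro ⟨hx, hQ⟩
      refine ⟨⟨x, hx⟩, ?_, rfl⟩
      show Ψ ⟨x, hx⟩ ∈ suppZero p
      rw [mem_suppZero]
      intro j hj
      rw [Ψ_apply]
      exact hQ j hj
  have hNV : N ≤ V := fun x hx => ((mem_N x).mp hx).1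
  have hMN : M ≤ N := fun m hm => (mem_N m).mpr ⟨hsec.le hm, fun j => Q_M j m hm⟩
  -- normality of `N`
  have hNn : N.Normal := by
    rw [← Subgroup.normalizer_eq_top_iff, eq_top_iff, ← htop, sup_le_iff, Subgroup.zpowers_le]
    constructor
    · intro u hu
      rw [Subgroup.mem_normalizer_iff]
      intro n
      have key : ∀ a : K, a ∈ V → ∀ n : K, n ∈ N → a * n * a⁻¹ ∈ N := by
        intro a ha n hn
        have hnV := hNV hn
        have h1 : a * n * a⁻¹ = (a * n * a⁻¹ * n⁻¹) * n := by group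
        rw [h1]
        exact N.mul_mem (hMN (hsec.comm a ha n hnV)) hn
      constructor
      · exact key u hu n
      · intro h
        have h1 := key u⁻¹ (V.inv_mem hu) _ h
        have h2 : u⁻¹ * (u * n * u⁻¹) * u⁻¹⁻¹ = n := by group
        rwa [h2] at h1
    · rw [Subgroup.mem_normalizer_iff]
      intro n
      constructor
      · intro hn
        obtain ⟨hnV, hQ⟩ := (mem_N n).mp hn
        refine (mem_N _).mpr ⟨conjV hnV, fun j => ?_⟩
        rw [Q_conj j n hnV, hQ j, hQ (j + 1), add_zero]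
      · intro hn
        obtain ⟨hcV, hQ⟩ := (mem_N _).mp hn
        have hnV : n ∈ V := by
          have h1 := hVn.conj_mem _ hcV g⁻¹
          have h2 : g⁻¹ * (g * n * g⁻¹) * g⁻¹⁻¹ = n := by group
          rwa [h2] at h1
        refine (mem_N _).mpr ⟨hnV, ?_⟩
        have hstep : ∀ j, Q (j + 1) n = 0 → Q j n = 0 := by
          intro j hj
          have h1 := hQ j
          rw [Q_conj j n hnV, hj, add_zero] at h1
          exact h1
        have hdown : ∀ k j, j + k = p → Q j n = 0 := by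
          intro k
          induction k with
          | zero =>
            intro j hj
            exact Q_big j n (by omega)
          | succ k ih =>
            intro j hj
            exact hstep j (ih (j + 1) (by omega))
        intro j
        by_cases hj : j ≤ p
        · exact hdown (p - j) j (by omega)
        · exact Q_big j n (by omega)
  -- the element `τ`
  have hc₀ : ∃ b : K, b ∈ V ∧ Q (p - 1) b = - Q 0 (g ^ p) := by
    obtain ⟨w, hw⟩ := hφ (fun j : Fin p => if (j : ℕ) = p - 1 then - Q 0 (g ^ p) else 0)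
    obtain ⟨v, rfl⟩ := secMk_surjective hsec w
    refine ⟨(v : K), v.2, ?_⟩
    have h1 := congrFun hw ⟨p - 1, by omega⟩
    simp only [↓reduceIte] at h1
    rw [Q_def _ _ v.2]
    exact h1
  obtain ⟨b, hbV, hbQ⟩ := hc₀
  have hSz : S (secMk hsec ⟨g ^ p, hgp⟩) = 0 := by
    rw [hS, LinearMap.sub_apply, Module.End.one_apply, T_mk _ hgp, sub_eq_zero]
    congr 1
    apply Subtype.ext
    show g * g ^ p * g⁻¹ = g ^ p
    rw [← pow_succ', pow_succ, mul_inv_cancel_right]
  have hQz : ∀ j, 1 ≤ j → Q j (g ^ p) = 0 := by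
    intro j hj
    obtain ⟨j', rfl⟩ := Nat.exists_eq_add_of_le' hj
    rw [Q_def _ _ hgp, pow_succ, Module.End.mul_apply, hSz, map_zero, map_zero]
  have hτp : (g * b) ^ p ∈ N := by
    rw [mul_pow_eq]
    have hc := hcpV b hbV
    refine (mem_N _).mpr ⟨V.mul_mem hc hgp, fun j => ?_⟩
    rw [Q_mul j _ _ hc hgp, Q_def j _ hc, hcp b hbV hc, ← Module.End.mul_apply, ← pow_add]
    rcases Nat.eq_zero_or_pos j with rfl | hj
    · rw [zero_add, ← Q_def _ _ hbV, hbQ, neg_add_cancel]
    · rw [hbig (j + (p - 1)) (by omega), LinearMap.zero_apply, map_zero, hQz j hj, add_zero]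
  have hτV : g * b ∉ V := by
    intro h
    apply hgV
    have h1 := V.mul_mem h (V.inv_mem hbV)
    rwa [mul_inv_cancel_right] at h1
  -- the centraliser condition
  have hD : ∀ v ∈ V, v ∈ D ↔ (g * b) * v * (g * b)⁻¹ * v⁻¹ ∈ N := by
    intro v hv
    have hbv : b * v * b⁻¹ ∈ V := V.mul_mem (V.mul_mem hbV hv) (V.inv_mem hbV)
    have h1 : (g * b) * v * (g * b)⁻¹ = g * (b * v * b⁻¹) * g⁻¹ := by group
    have hQ : ∀ j, Q j ((g * b) * v * (g * b)⁻¹ * v⁻¹) = Q (j + 1) v := by
      intro j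
      rw [h1, Q_mul j _ _ (conjV hbv) (V.inv_mem hv), Q_conj j _ hbv, Q_comm j b v hbV hv,
        Q_comm (j + 1) b v hbV hv, Q_inv j v hv]
      ring
    have hmem : (g * b) * v * (g * b)⁻¹ * v⁻¹ ∈ V := by
      rw [h1]
      exact V.mul_mem (conjV hbv) (V.inv_mem hv)
    rw [mem_D, mem_N]
    constructor
    · rintro ⟨_, h⟩
      exact ⟨hmem, fun j => by rw [hQ j]; exact h (j + 1) (by omega)⟩
    · rintro ⟨_, h⟩
      refine ⟨hv, fun j hj => ?_⟩
      obtain ⟨j', rfl⟩ := Nat.exists_eq_add_of_le' hj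
      rw [← hQ j']
      exact h j'
  -- cardinalities
  have hcN : Nat.card N = Nat.card Ψ.ker := by
    rw [hNdef]
    exact Subgroup.card_map_of_injective V.subtype_injective
  have hcV : Nat.card V = p ^ p * Nat.card N := by
    rw [hcN, Subgroup.card_eq_card_quotient_mul_card_subgroup Ψ.ker,
      Nat.card_congr (QuotientGroup.quotientKerEquivOfSurjective Ψ hΨs).toEquiv, card_mult_fun]
  have hcD : Nat.card D = p * Nat.card N := by
    rw [hcN, hDdef, Subgroup.card_map_of_injective V.subtype_injective,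
      card_comap_eq Ψ hΨs, card_suppZero]
  have hidx : V.index = p := by
    have h1 : Subgroup.zpowers (QuotientGroup.mk' V g) = ⊤ := by
      have h2 : (V ⊔ Subgroup.zpowers g).map (QuotientGroup.mk' V) = ⊤ := by
        rw [htop, ← MonoidHom.range_eq_map, MonoidHom.range_eq_top]
        exact QuotientGroup.mk'_surjective V
      rw [Subgroup.map_sup, QuotientGroup.map_mk'_self, bot_sup_eq, MonoidHom.map_zpowers] at h2
      exact h2
    have h3 : orderOf (QuotientGroup.mk' V g) = p := by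
      apply orderOf_eq_prime
      · rw [← map_pow]
        exact (QuotientGroup.eq_one_iff _).mpr hgp
      · intro h
        exact hgV ((QuotientGroup.eq_one_iff _).mp h)
    rw [Subgroup.index_eq_card, ← Subgroup.card_top (G := K ⧸ V), ← h1, Nat.card_zpowers, h3]
  have hND : N ≤ D := by
    intro x hx
    obtain ⟨hxV, hQ⟩ := (mem_N x).mp hx
    exact (mem_D x).mpr ⟨hxV, fun j _ => hQ j⟩
  have hDV : D ≤ V := fun x hx => ((mem_D x).mp hx).1
  haveI := hNn
  refine ⟨N, hNn, ?_⟩
  exact wrLike_quotient N V D hNV (fun u hu v hv => hMN (hsec.comm u hu v hv))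
    (fun v hv => hMN (hsec.pow v hv)) hcV (g * b) hτp hτV hidx hND hDV hD hcD

end Cfsg.Agent.Helper4.WrSec
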