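import Mathlib
import Cfsg.Agent.Lib.Helper4.PLenExpD
import Cfsg.Agent.Lib.Helper4.ThBField
import Cfsg.Agent.Lib.Helper4.ThBGrp
import Cfsg.Agent.Lib.Helper18.PSolvLin2
import Cfsg.Agent.Lib.Helper23.PSolvable

/-!
# Theorem B gives a full Jordan block on the Frattini quotient of `O_p(G)` (helper4)

For `p` odd and not a Fermat prime, `G` `p`-solvable with `O_{p'}(G) = 1` and `G / O_p(G)` not a
`p'`-group, some element `g` of the given Sylow `p`-subgroup of order `p` modulo `V = O_p(G)` has a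
norm product `(g v g⁻¹)⋯(g^p v g^{-p})` outside the Frattini subgroup of `V`.
-/

set_option autoImplicit false
set_option linter.unusedSectionVars false
set_option linter.style.haveILetI false

namespace Cfsg.Agent.Helper4.WrSec

open Cfsg Subgroup Cfsg.Agent.Helper8.FrobLin Cfsg.Agent.Helper8.HHLin Cfsg.Agent.Helper8.SecRep
  Cfsg.Agent.Helper4.PLenExp Cfsg.Agent.Helper4.ThB

universe u

section Norm

variable {X : Type*} [Group X] [Finite X] {L L₁ : Subgroup X} {ℓ : ℕ} [hℓ : Fact ℓ.Prime]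
  (h : IsSec L L₁ ℓ) (Γ : Subgroup X) (hΓ : Γ ≤ nn L L₁)

/-- the norm product in the section is `(T - 1) ^ (ℓ - 1)` -/
theorem secMk_cprod_prime (y : X) (hy : y ∈ Γ) (hyℓ : y ^ ℓ ∈ L) (v : X) (hv : v ∈ L)
    (hc : cprod y v ℓ ∈ L) :
    secMk h ⟨cprod y v ℓ, hc⟩ =
      ((secLin₀ h Γ hΓ ⟨y, hy⟩ - 1) ^ (ℓ - 1)) (secMk h ⟨v, hv⟩) := by
  obtain ⟨T, hT⟩ : ∃ T : Module.End (ZMod ℓ) (SecW h), T = secLin₀ h Γ hΓ ⟨y, hy⟩ := ⟨_, rfl⟩
  have hTp : T ^ ℓ = 1 := by
    rw [hT, ← map_pow, secLin₀_eq_one_iff]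
    intro a ha
    have h1 : (((⟨y, hy⟩ : ↥Γ) ^ ℓ : ↥Γ) : X) = y ^ ℓ := by
      rw [Subgroup.coe_pow]
    rw [h1]
    exact h.comm _ hyℓ _ ha
  have hgeom : ∑ i ∈ Finset.range ℓ, T ^ i = (T - 1) ^ (ℓ - 1) := by
    have h1 := geom_sum_eq (ZMod ℓ) (p := ℓ) T 1
    rw [pow_one] at h1
    exact h1
  have hgeom' : ∑ i ∈ Finset.range ℓ, T ^ (i + 1) = (T - 1) ^ (ℓ - 1) := by
    rw [← hgeom]
    have e1 := Finset.sum_range_succ (fun i => T ^ i) ℓ
    have e2 := Finset.sum_range_succ' (fun i => T ^ i) ℓ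
    rw [e1] at e2
    simp only [pow_zero] at e2
    rw [hTp] at e2
    exact (add_right_cancel e2).symm
  have h1 := secMk_cprod h Γ hΓ y hy v hv ℓ
  rw [← hT, ← hgeom', LinearMap.sum_apply, hT]
  exact h1

end Norm

theorem exists_norm_product {G : Type u} [Group G] [Finite G] {p : ℕ} [hp : Fact p.Prime]
    (hp2 : p ≠ 2) (hnf : ¬ ∃ k : ℕ, p = 2 ^ k + 1) (hsol : IsPSolvable p G)
    (hO : pPrimeCore p G = ⊥) [hVn : (pCore p G).Normal]
    (hnc : ¬ (Nat.card (G ⧸ pCore p G)).Coprime p) (P : Sylow p G) :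
    ∃ g ∈ (P : Subgroup G), g ∉ pCore p G ∧ g ^ p ∈ pCore p G ∧
      ∃ v ∈ pCore p G, cprod g v p ∉ (frattini ↥(pCore p G)).map (pCore p G).subtype := by
  classical
  have hpp : p.Prime := hp.out
  obtain ⟨V, hV⟩ : ∃ V : Subgroup G, V = pCore p G := ⟨_, rfl⟩
  have hVp : IsPGroup p ↥(pCore p G) := Helper10.pCore_isPGroup p
  have hc : centralizer (pCore p G : Set G) ≤ pCore p G :=
    Cfsg.Agent.Helper23.PSolv.centralizer_pCore_le hsol hO
  obtain ⟨π, hπ⟩ : ∃ π : G →* G ⧸ pCore p G, π = QuotientGroup.mk' (pCore p G) := ⟨_, rfl⟩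
  have hπs : Function.Surjective π := by rw [hπ]; exact QuotientGroup.mk'_surjective _
  have hπ1 : ∀ a : G, π a = 1 ↔ a ∈ pCore p G := by
    intro a
    rw [hπ]
    exact QuotientGroup.eq_one_iff a
  have hsolH : IsPSolvable p (G ⧸ pCore p G) :=
    Cfsg.Agent.Helper23.PSolv.isPSolvable_quotient (pCore p G) hsol
  have hOH : pCore p (G ⧸ pCore p G) = ⊥ :=
    Cfsg.Agent.Helper18.PSolvLin.pCore_quotient_pCore_bot p
  -- an element of order `p` in the image of `P`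
  have hdvd : p ∣ Nat.card (G ⧸ pCore p G) := by
    by_contra hnd
    exact hnc ((Nat.Prime.coprime_iff_not_dvd hpp).mpr hnd).symm
  obtain ⟨g, hgP, hx⟩ : ∃ g ∈ (P : Subgroup G), orderOf (π g) = p := by
    set P' : Sylow p (G ⧸ pCore p G) := P.mapSurjective hπs with hP'
    have h1 : p ∣ Nat.card ↥(P' : Subgroup (G ⧸ pCore p G)) := P'.dvd_card_of_dvd_card hdvd
    obtain ⟨y, hy⟩ := exists_prime_orderOf_dvd_card' p h1
    have h2 : (y : G ⧸ pCore p G) ∈ (P : Subgroup G).map π := y.2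
    obtain ⟨g, hgP, hgy⟩ := h2
    refine ⟨g, hgP, ?_⟩
    rw [hgy, Subgroup.orderOf_coe, hy]
  set x := π g with hxdef
  have hxp : x ^ p = 1 := by
    have h1 := pow_orderOf_eq_one x
    rwa [hx] at h1
  have hx1 : x ≠ 1 := by
    intro h
    rw [h, orderOf_one] at hx
    exact hpp.one_lt.ne hx
  have hgV : g ∉ pCore p G := fun h => hx1 ((hπ1 g).mpr h)
  have hgp : g ^ p ∈ pCore p G := by
    rw [← hπ1, map_pow]
    exact hxp
  refine ⟨g, hgP, hgV, hgp, ?_⟩
  -- the `q`-subgroup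
  obtain ⟨q, hqF, Q, hqp, hQq, hQx, g₀, hg₀Q, hg₀⟩ :=
    exists_invariant_qsubgroup hsolH hOH x 1 le_rfl (by rw [pow_one]; exact hx)
  haveI := hqF
  have hqq : q.Prime := hqF.out
  rw [Nat.sub_self, pow_zero, pow_one] at hg₀
  -- linearisation
  obtain ⟨Φ, hΦ⟩ : ∃ Φ : Subgroup G, Φ = (frattini ↥(pCore p G)).map (pCore p G).subtype :=
    ⟨_, rfl⟩
  rw [← hΦ]
  have hsec : IsSec (pCore p G) Φ p := by rw [hΦ]; exact isSec_frattini p (pCore p G) hVp
  have hΓ : (⊤ : Subgroup G) ≤ nn (pCore p G) Φ := by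
    have h1 := normalizer_le_nn_frattini (pCore p G)
    rw [normalizer_eq_top_iff.mpr hVn, ← hΦ] at h1
    exact h1
  obtain ⟨ρ₀, hρ₀⟩ : ∃ ρ₀ : Representation (ZMod p) ↥(⊤ : Subgroup G) (SecW hsec),
      ρ₀ = secLin₀ hsec ⊤ hΓ := ⟨_, rfl⟩
  let ρG : G →* (SecW hsec ≃ₗ[ZMod p] SecW hsec) :=
    (repEquiv ρ₀).comp (Subgroup.topEquiv (G := G)).symm.toMonoidHom
  have ρG_op : ∀ a : G, op (ρG a) = ρ₀ ⟨a, mem_top a⟩ := fun a => rfl
  have ρG_one : ∀ a : G, ρG a = 1 ↔ ∀ r ∈ pCore p G, a * r * a⁻¹ * r⁻¹ ∈ Φ := by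
    intro a
    have h1 := secLin₀_eq_one_iff hsec ⊤ hΓ ⟨a, mem_top a⟩
    rw [← hρ₀] at h1
    rw [← h1, ← ρG_op]
    constructor
    · intro h
      rw [h]
      rfl
    · intro h
      apply ThB.op_injective
      rw [h]
      rfl
  have hker : pCore p G ≤ ρG.ker := by
    intro v hv
    rw [MonoidHom.mem_ker, ρG_one]
    intro r hr
    exact hsec.comm v hv r hr
  let ρH : G ⧸ pCore p G →* (SecW hsec ≃ₗ[ZMod p] SecW hsec) :=
    QuotientGroup.lift (pCore p G) ρG hker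
  have ρH_mk : ∀ a : G, ρH (π a) = ρG a := by
    intro a
    rw [hπ]
    rfl
  -- faithfulness on `p'`-elements
  have hfaith : ∀ c : G ⧸ pCore p G, (orderOf c).Coprime p → ρH c = 1 → c = 1 := by
    intro c hcop hc1
    by_contra hne
    obtain ⟨c', rfl⟩ := hπs c
    set o := orderOf (π c') with ho
    have ho1 : 1 < o := by
      rcases Nat.lt_or_ge 1 o with h | h
      · exact h
      · exfalso
        have hpos : 0 < o := orderOf_pos _
        have : o = 1 := by omega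
        exact hne (orderOf_eq_one_iff.mp this)
    set m := Nat.card ↥(pCore p G) with hm
    have hcopm : o.Coprime m := by
      obtain ⟨k, hk⟩ := IsPGroup.iff_card.mp hVp
      rw [hm, hk]
      exact Nat.Coprime.pow_right k hcop
    obtain ⟨m', -, hm'⟩ := Nat.exists_mul_mod_eq_one_of_coprime hcopm.symm ho1
    set d := c' ^ (m * m') with hd
    have hπd : π d = π c' := by
      rw [hd, map_pow]
      have h1 : m * m' ≡ 1 [MOD o] := by
        show m * m' % o = 1 % o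
        rw [hm', Nat.mod_eq_of_lt ho1]
      have h2 := (pow_eq_pow_iff_modEq (x := π c')).mpr h1
      rw [pow_one] at h2
      exact h2
    have hdo : d ^ o = 1 := by
      have h1 : c' ^ o ∈ pCore p G := by
        rw [← hπ1, map_pow, ho]
        exact pow_orderOf_eq_one _
      have h2 : (c' ^ o) ^ m = 1 := by
        have h3 : (⟨c' ^ o, h1⟩ : ↥(pCore p G)) ^ m = 1 := by
          rw [hm]
          exact pow_card_eq_one'
        have := congrArg Subtype.val h3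
        simpa using this
      rw [hd, ← pow_mul, mul_comm (m * m') o, ← mul_assoc, pow_mul, pow_mul, h2, one_pow]
    set A := zpowers d with hA
    have hcardA : (Nat.card ↥A).Coprime p := by
      rw [hA, Nat.card_zpowers]
      exact Nat.Coprime.coprime_dvd_left (orderOf_dvd_of_pow_eq_one hdo) hcop
    have hAsolv : Group.IsSolvable ↥A := by
      rw [hA]
      apply Group.isSolvable_of_comm
      rintro ⟨a, ha⟩ ⟨b, hb⟩
      apply Subtype.ext
      obtain ⟨i, rfl⟩ := mem_zpowers_iff.mp ha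
      obtain ⟨j, rfl⟩ := mem_zpowers_iff.mp hb
      show d ^ i * d ^ j = d ^ j * d ^ i
      rw [← zpow_add, ← zpow_add, add_comm]
    have hAker : ∀ a ∈ A, ρG a = 1 := by
      intro a ha
      obtain ⟨k, rfl⟩ := mem_zpowers_iff.mp ha
      rw [map_zpow, ← ρH_mk d, hπd, hc1, one_zpow]
    have hAΦ : A ≤ normalizer (Φ : Set G) := by
      intro a _
      exact (mem_nn.mp (hΓ (mem_top a))).2
    have hact : ∀ a ∈ A, ∀ r ∈ pCore p G, a * r * a⁻¹ * r⁻¹ ∈ Φ := by
      intro a ha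
      exact (ρG_one a).mp (hAker a ha)
    rw [hΦ] at hAΦ hact
    have key := Cfsg.Agent.Helper23.centralizes_of_frattini (pCore p G) hVp A hcardA hAsolv
      hAΦ hact
    have hdc : d ∈ centralizer (pCore p G : Set G) := by
      rw [mem_centralizer_iff]
      intro v hv
      have := mem_centralizer_iff.mp (key hv) d (mem_zpowers d)
      exact this.symm
    apply hne
    rw [← hπd, hπ1]
    exact hc hdc
  -- hypotheses of Theorem B
  have hyp : Hyp p q (Q.map ρH) (ρH x) 1 := by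
    refine ⟨?_, hQq.map ρH, ?_, le_rfl, ?_, ?_⟩
    · exact Finite.of_surjective (fun k : Q => (⟨ρH k, ⟨k, k.2, rfl⟩⟩ : Q.map ρH))
        (by rintro ⟨_, k, hk, rfl⟩; exact ⟨⟨k, hk⟩, rfl⟩)
    · rintro _ ⟨k, hk, rfl⟩
      refine ⟨x * k * x⁻¹, hQx k hk, ?_⟩
      rw [map_mul, map_mul, map_inv]
    · rw [pow_one, ← map_pow, hxp, map_one]
    · refine ⟨ρH g₀, ⟨g₀, hg₀Q, rfl⟩, ?_⟩
      rw [Nat.sub_self, pow_zero, pow_one]
      intro heq
      apply hg₀
      set c := x * g₀ * x⁻¹ * g₀⁻¹ with hcdef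
      have hcQ : c ∈ Q := Q.mul_mem (hQx g₀ hg₀Q) (Q.inv_mem hg₀Q)
      have hc1 : ρH c = 1 := by
        rw [hcdef, map_mul, map_mul, map_mul, map_inv, map_inv, heq]
        group
      have hcop : (orderOf c).Coprime p := by
        obtain ⟨k, hk⟩ := (IsPGroup.iff_orderOf.mp hQq) ⟨c, hcQ⟩
        rw [Subgroup.orderOf_mk] at hk
        rw [hk]
        exact Nat.Coprime.pow_left k ((Nat.coprime_primes hqq hpp).mpr hqp)
      have h1 := hfaith c hcop hc1
      have h2 : x * g₀ = c * (g₀ * x) := by rw [hcdef]; group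
      rw [h2, h1, one_mul]
  -- Theorem B
  haveI : Module.Finite (ZMod p) (SecW hsec) := Module.Finite.of_finite
  have hB : (op (ρH x) - 1) ^ (p - 1) ≠ 0 := by
    intro h0
    have hcl := thmB_field (F := ZMod p) (Ne.symm hqp) (Q.map ρH) (ρH x) 1 hyp (p - 1) h0
    rcases hcl with h | ⟨n₀, m, h1, h2, h3, h4, -, -⟩
    · rw [pow_one] at h
      have := hpp.pos
      omega
    · have hn₀ : n₀ = 1 := le_antisymm h2 h1
      subst hn₀
      rw [pow_one] at h4
      have hodd : Odd p := hpp.odd_of_ne_two hp2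
      have h2dvd : 2 ∣ q ^ m := by
        rw [← h4]
        obtain ⟨k, hk⟩ := hodd
        omega
      have h2q : 2 ∣ q := Nat.Prime.dvd_of_dvd_pow Nat.prime_two h2dvd
      have hq2 : 2 = q := (Nat.prime_dvd_prime_iff_eq Nat.prime_two hqq).mp h2q
      apply hnf
      refine ⟨m, ?_⟩
      rw [hq2]
      have := hpp.pos
      omega
  -- extract the vector
  have hopx : op (ρH x) = secLin₀ hsec ⊤ hΓ ⟨g, mem_top g⟩ := by
    rw [hxdef, ρH_mk, ρG_op, hρ₀]
  rw [hopx] at hB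
  obtain ⟨w, hw⟩ : ∃ w, ((secLin₀ hsec ⊤ hΓ ⟨g, mem_top g⟩ - 1) ^ (p - 1)) w ≠ 0 := by
    by_contra hcon
    push Not at hcon
    exact hB (LinearMap.ext hcon)
  obtain ⟨⟨v, hv⟩, rfl⟩ := secMk_surjective hsec w
  refine ⟨v, hv, ?_⟩
  intro hmem
  apply hw
  have hcV : cprod g v p ∈ pCore p G :=
    cprod_mem (pCore p G) g v (by rw [normalizer_eq_top_iff.mpr hVn]; exact mem_top g) hv p
  rw [← secMk_cprod_prime hsec ⊤ hΓ g (mem_top g) hgp v hv hcV, secMk_eq_zero]
  exact hmem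

end Cfsg.Agent.Helper4.WrSec
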