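import Mathlib
import Cfsg.Agent.Lib.Helper4.WrSecD
import Cfsg.Agent.Lib.Helper4.WrSecE

/-!
# A wreath-like section of the Sylow subgroup (helper4)
-/

set_option autoImplicit false
set_option linter.unusedSectionVars false
set_option linter.style.haveILetI false

namespace Cfsg.Agent.Helper4.WrSec

open Cfsg Subgroup Cfsg.Agent.Helper8.FrobLin Cfsg.Agent.Helper8.HHLin Cfsg.Agent.Helper8.SecRep
  Cfsg.Agent.Helper4.PLenExp

universe u

theorem cprod_map {X Y : Type*} [Group X] [Group Y] (f : X →* Y) (y v : X) (m : ℕ) :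
    f (cprod y v m) = cprod (f y) (f v) m := by
  induction m with
  | zero => simp [cprod]
  | succ m ih =>
    show f (cprod y v m * (y ^ (m + 1) * v * (y ^ (m + 1))⁻¹)) =
      cprod (f y) (f v) m * ((f y) ^ (m + 1) * f v * ((f y) ^ (m + 1))⁻¹)
    rw [map_mul, ih, map_mul, map_mul, map_inv, map_pow]

theorem exists_involved {G : Type u} [Group G] [Finite G] {p : ℕ} [hp : Fact p.Prime]
    (V : Subgroup G) [hVn : V.Normal] (hVp : IsPGroup p ↥V) (P : Subgroup G) (hVP : V ≤ P)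
    (g : G) (hgP : g ∈ P) (hgV : g ∉ V) (hgp : g ^ p ∈ V)
    (hstar : ∃ v ∈ V, cprod g v p ∉ (frattini ↥V).map V.subtype) :
    ∃ (W : Type) (_ : Group W) (_ : Finite W), WrLike p W ∧ Cfsg.Involves W ↥P := by
  classical
  obtain ⟨Φ, hΦ⟩ : ∃ Φ : Subgroup G, Φ = (frattini ↥V).map V.subtype := ⟨_, rfl⟩
  rw [← hΦ] at hstar
  have hsec : IsSec V Φ p := by rw [hΦ]; exact isSec_frattini p V hVp
  have hΦn : Φ.Normal := by
    rw [← normalizer_eq_top_iff, eq_top_iff]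
    have h1 := normalizer_le_nn_frattini V
    rw [normalizer_eq_top_iff.mpr hVn, ← hΦ] at h1
    intro a ha
    exact (mem_nn.mp (h1 ha)).2
  obtain ⟨Ks, hKs⟩ : ∃ Ks : Subgroup G, Ks = V ⊔ zpowers g := ⟨_, rfl⟩
  have hVK : V ≤ Ks := by rw [hKs]; exact le_sup_left
  have hgK : g ∈ Ks := by rw [hKs]; exact le_sup_right (α := Subgroup G) (mem_zpowers g)
  have hKP : Ks ≤ P := by
    rw [hKs]
    exact sup_le hVP (zpowers_le.mpr hgP)
  haveI hV'n : (V.subgroupOf Ks).Normal := hVn.subgroupOf Ks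
  haveI hM'n : (Φ.subgroupOf Ks).Normal := hΦn.subgroupOf Ks
  have hsec' : IsSec (V.subgroupOf Ks) (Φ.subgroupOf Ks) p := by
    refine ⟨?_, ?_, ?_, ?_⟩
    · intro x hx
      rw [mem_subgroupOf] at hx ⊢
      exact hsec.le hx
    · intro x hx n hn
      rw [mem_subgroupOf] at hx hn ⊢
      exact hsec.normal _ hx _ hn
    · intro x hx y hy
      rw [mem_subgroupOf] at hx hy ⊢
      exact hsec.comm _ hx _ hy
    · intro x hx
      rw [mem_subgroupOf] at hx ⊢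
      rw [Subgroup.coe_pow]
      exact hsec.pow _ hx
  have htop : V.subgroupOf Ks ⊔ zpowers (⟨g, hgK⟩ : ↥Ks) = ⊤ := by
    rw [eq_top_iff]
    rintro ⟨k, hk⟩ -
    have h1 : k ∈ ((V ⊔ zpowers g : Subgroup G) : Set G) := by rw [← hKs]; exact hk
    rw [normal_mul] at h1
    obtain ⟨v, hv, z, hz, rfl⟩ := Set.mem_mul.mp h1
    obtain ⟨i, rfl⟩ := mem_zpowers_iff.mp hz
    have e : (⟨v * g ^ i, hk⟩ : ↥Ks) = ⟨v, hVK hv⟩ * (⟨g, hgK⟩ : ↥Ks) ^ i := by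
      apply Subtype.ext
      rw [Subgroup.coe_mul, Subgroup.coe_zpow]
    rw [e]
    refine (V.subgroupOf Ks ⊔ zpowers (⟨g, hgK⟩ : ↥Ks)).mul_mem ?_ ?_
    · apply le_sup_left (α := Subgroup ↥Ks)
      rw [mem_subgroupOf]
      exact hv
    · apply le_sup_right (α := Subgroup ↥Ks)
      exact zpow_mem (mem_zpowers _) i
  have hgV' : (⟨g, hgK⟩ : ↥Ks) ∉ V.subgroupOf Ks := by
    rw [mem_subgroupOf]
    exact hgV
  have hgp' : (⟨g, hgK⟩ : ↥Ks) ^ p ∈ V.subgroupOf Ks := by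
    rw [mem_subgroupOf, Subgroup.coe_pow]
    exact hgp
  have hstar' : ∃ v ∈ V.subgroupOf Ks, cprod (⟨g, hgK⟩ : ↥Ks) v p ∉ Φ.subgroupOf Ks := by
    obtain ⟨v, hv, hvΦ⟩ := hstar
    refine ⟨⟨v, hVK hv⟩, by rw [mem_subgroupOf]; exact hv, ?_⟩
    rw [mem_subgroupOf]
    have h1 := cprod_map Ks.subtype (⟨g, hgK⟩ : ↥Ks) ⟨v, hVK hv⟩ p
    have h2 : ((cprod (⟨g, hgK⟩ : ↥Ks) ⟨v, hVK hv⟩ p : ↥Ks) : G) = cprod g v p := h1
    rw [h2]
    exact hvΦ
  obtain ⟨N, hNn, hW⟩ := exists_wrLike_quotient (V.subgroupOf Ks) (Φ.subgroupOf Ks) hsec'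
    (⟨g, hgK⟩ : ↥Ks) htop hgV' hgp' hstar'
  haveI := hNn
  obtain ⟨W, iG, iF, ⟨e⟩⟩ := exists_type0 (↥Ks ⧸ N)
  refine ⟨W, iG, iF, hW.of_mulEquiv e, ?_⟩
  exact involves_of_le P Ks hKP (e.toMonoidHom.comp (QuotientGroup.mk' N))
    (e.surjective.comp (QuotientGroup.mk'_surjective N))

end Cfsg.Agent.Helper4.WrSec
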