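import Mathlib
import Cfsg.Agent.Lib.Helper8.XSDefs
import Cfsg.Agent.Lib.Helper4.XSDUAL

/-!
# S3299 PIECE XS-NONAB (helper4): for `|E| ≥ 32` the centralizer in `E` of a noncentral element is nonabelian.
-/

set_option autoImplicit false

namespace Cfsg.Agent.Helper8.XS

/-- aux: if `C_E(v)` is contained in the finite set `T` then `|E| ≤ 2 |T|` (`E = C_E(v) ∪ y₀ C_E(v)`). -/
theorem nonab_card_le {G : Type*} [Group G] [DecidableEq G] {E : Subgroup G} {z : G} (h : XSp E z)
    (v y₀ : G) (hv : v ∈ E) (hy₀ : y₀ ∈ E) (hn : v * y₀ ≠ y₀ * v)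
    (T : Finset G) (hT : ∀ e ∈ E, e * v = v * e → e ∈ T) : Nat.card E ≤ 2 * T.card := by
  have hsub : (E : Set G) ⊆ ↑(T ∪ T.image (fun t => y₀ * t)) := by
    intro e he
    have heE : e ∈ E := he
    rw [Finset.mem_coe, Finset.mem_union]
    by_cases hev : e * v = v * e
    · exact Or.inl (hT e heE hev)
    · right
      have hne : v * e ≠ e * v := fun t => hev t.symm
      have hg := dual_decomp h v y₀ e hv hy₀ heE hn hne
      have hgE : y₀⁻¹ * e ∈ E := E.mul_mem (E.inv_mem hy₀) heE
      rw [Finset.mem_image]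
      exact ⟨y₀⁻¹ * e, hT _ hgE hg, by group⟩
  have h1 : Nat.card E ≤ (T ∪ T.image (fun t => y₀ * t)).card := by
    have := Set.ncard_le_ncard hsub (Finset.finite_toSet _)
    rw [Set.ncard_coe_finset] at this
    calc Nat.card E = (E : Set G).ncard := (Nat.card_coe_set_eq (E : Set G))
      _ ≤ _ := this
  have h2 : (T ∪ T.image (fun t => y₀ * t)).card ≤ T.card + T.card :=
    (Finset.card_union_le _ _).trans (Nat.add_le_add_left Finset.card_image_le _)
  omega

theorem xs_nonab {G : Type*} [Group G] {E : Subgroup G} {z : G} (h : XSp E z) [Finite E]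
    (hcard : 32 ≤ Nat.card E) (v : G) (hv : v ∈ E) (hnc : ∃ y ∈ E, v * y ≠ y * v) :
    ∃ a ∈ E, ∃ b ∈ E, a * v = v * a ∧ b * v = v * b ∧ a * b ≠ b * a := by
  classical
  by_contra hcon
  have hab : ∀ a ∈ E, ∀ b ∈ E, a * v = v * a → b * v = v * b → a * b = b * a := by
    intro a ha b hb hav hbv
    by_contra hne
    exact hcon ⟨a, ha, b, hb, hav, hbv, hne⟩
  obtain ⟨y₀, hy₀, hn⟩ := hnc
  -- elements of `C_E(v)` commuting with `y₀` are central
  have hcentral : ∀ e ∈ E, e * v = v * e → e * y₀ = y₀ * e → e = 1 ∨ e = z := by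
    intro e he hev hey
    apply h.hcenter e he
    exact dual_central h v y₀ hv hy₀ hn e (fun f hf hfv => hab e he f hf hev hfv) hey
  have hle8 : Nat.card E ≤ 8 := by
    by_cases hex : ∃ a₁ ∈ E, a₁ * v = v * a₁ ∧ a₁ * y₀ ≠ y₀ * a₁
    · obtain ⟨a₁, ha₁, ha₁v, ha₁y⟩ := hex
      have hT : ∀ e ∈ E, e * v = v * e → e ∈ ({1, z, a₁⁻¹, a₁⁻¹ * z} : Finset G) := by
        intro e he hev
        simp only [Finset.mem_insert, Finset.mem_singleton]
        by_cases hey : e * y₀ = y₀ * e
        · rcases hcentral e he hev hey with e1 | e1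
          · exact Or.inl e1
          · exact Or.inr (Or.inl e1)
        · have hn1 : y₀ * a₁ ≠ a₁ * y₀ := fun t => ha₁y t.symm
          have hn2 : y₀ * e ≠ e * y₀ := fun t => hey t.symm
          have hc := xs_mul_comm h y₀ a₁ e hy₀ ha₁ he hn1 hn2
          have hpE : a₁ * e ∈ E := E.mul_mem ha₁ he
          have hpv : (a₁ * e) * v = v * (a₁ * e) := by
            calc (a₁ * e) * v = a₁ * (e * v) := by group
              _ = a₁ * (v * e) := by rw [hev]
              _ = (a₁ * v) * e := by group
              _ = (v * a₁) * e := by rw [ha₁v]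
              _ = v * (a₁ * e) := by group
          rcases hcentral (a₁ * e) hpE hpv hc.symm with e1 | e1
          · right; right; left
            exact eq_inv_of_mul_eq_one_right e1
          · right; right; right
            calc e = a₁⁻¹ * (a₁ * e) := by group
              _ = a₁⁻¹ * z := by rw [e1]
      have h1 := nonab_card_le h v y₀ hv hy₀ hn _ hT
      have h2 : ({1, z, a₁⁻¹, a₁⁻¹ * z} : Finset G).card ≤ 4 := Finset.card_le_four
      omega
    · have hT : ∀ e ∈ E, e * v = v * e → e ∈ ({1, z} : Finset G) := by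
        intro e he hev
        simp only [Finset.mem_insert, Finset.mem_singleton]
        have hey : e * y₀ = y₀ * e := by
          by_contra hne
          exact hex ⟨e, he, hev, hne⟩
        exact hcentral e he hev hey
      have h1 := nonab_card_le h v y₀ hv hy₀ hn _ hT
      have h2 : ({1, z} : Finset G).card ≤ 2 := Finset.card_le_two
      omega
  omega

end Cfsg.Agent.Helper8.XS
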