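import Mathlib
import Cfsg.Agent.Lib.Helper8.XSDefs
import Cfsg.Agent.Lib.Helper4.XSDUAL
import Cfsg.Agent.Lib.Helper4.XSNONAB

/-!
# S3299 PIECE XS-INV (helper4): for `|E| ≥ 32` every subgroup `E₀` of index 2 in `E` misses some involution
of `E`.
-/

set_option autoImplicit false

namespace Cfsg.Agent.Helper8.XS

/-- aux: membership in a subgroup of relative index 2 -/
theorem inv_mul_mem_iff {G : Type*} [Group G] {E E₀ : Subgroup G} (hidx : E₀.relIndex E = 2)
    {a b : G} (ha : a ∈ E) (hb : b ∈ E) : a * b ∈ E₀ ↔ (a ∈ E₀ ↔ b ∈ E₀) := by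
  have hidx' : (E₀.subgroupOf E).index = 2 := hidx
  have := Subgroup.mul_mem_iff_of_index_two hidx' (a := (⟨a, ha⟩ : E)) (b := (⟨b, hb⟩ : E))
  simpa [Subgroup.mem_subgroupOf] using this

theorem xs_invol {G : Type*} [Group G] {E : Subgroup G} {z : G} (h : XSp E z) [Finite E]
    (hcard : 32 ≤ Nat.card E) (E₀ : Subgroup G) (h0 : E₀ ≤ E) (hidx : E₀.relIndex E = 2) :
    ∃ u ∈ E, u ∉ E₀ ∧ u * u = 1 := by
  classical
  -- an element outside `E₀`
  obtain ⟨y, hy, hy0⟩ : ∃ y ∈ E, y ∉ E₀ := by
    by_contra hcon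
    have hle : E ≤ E₀ := by
      intro e he
      by_contra he0
      exact hcon ⟨e, he, he0⟩
    have := Subgroup.relIndex_eq_one.2 hle
    omega
  by_cases hyy : y * y = 1
  · exact ⟨y, hy, hy0, hyy⟩
  have hyz : y * y = z := (h.hsq y hy).resolve_left hyy
  have hz0 : z ∈ E₀ := by
    rw [← hyz]
    exact (inv_mul_mem_iff hidx hy hy).2 Iff.rfl
  -- `y` is not central
  have hnc : ∃ x ∈ E, y * x ≠ x * y := by
    by_contra hcon
    have hcen : ∀ x ∈ E, y * x = x * y := by
      intro x hx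
      by_contra hne
      exact hcon ⟨x, hx, hne⟩
    rcases h.hcenter y hy hcen with e | e
    · exact hy0 (e ▸ E₀.one_mem)
    · exact hy0 (e ▸ hz0)
  by_cases hc : ∃ c ∈ E₀, c * y = y * c ∧ c * c ≠ 1
  · obtain ⟨c, hc0, hcy, hcc⟩ := hc
    have hcE : c ∈ E := h0 hc0
    have hccz : c * c = z := (h.hsq c hcE).resolve_left hcc
    refine ⟨y * c, E.mul_mem hy hcE, ?_, ?_⟩
    · intro hmem
      have := (inv_mul_mem_iff hidx hy hcE).1 hmem
      exact hy0 (this.2 hc0)
    · calc y * c * (y * c) = y * (c * y) * c := by group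
        _ = y * (y * c) * c := by rw [hcy]
        _ = (y * y) * (c * c) := by group
        _ = z * z := by rw [hyz, hccz]
        _ = 1 := h.hzz
  · -- `A = C_{E₀}(y)` has exponent 2, so `C_E(y) = A ∪ y A` is abelian: contradiction
    exfalso
    have hexp : ∀ c ∈ E₀, c * y = y * c → c * c = 1 := by
      intro c hc0 hcy
      by_contra hne
      exact hc ⟨c, hc0, hcy, hne⟩
    have hA : ∀ c ∈ E₀, ∀ d ∈ E₀, c * y = y * c → d * y = y * d → Commute c d := by
      intro c hc0 d hd0 hcy hdy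
      have hcd0 : c * d ∈ E₀ := E₀.mul_mem hc0 hd0
      have hcdy : (c * d) * y = y * (c * d) := by
        calc (c * d) * y = c * (d * y) := by group
          _ = c * (y * d) := by rw [hdy]
          _ = (c * y) * d := by group
          _ = (y * c) * d := by rw [hcy]
          _ = y * (c * d) := by group
      have e1 := hexp c hc0 hcy
      have e2 := hexp d hd0 hdy
      have e3 := hexp (c * d) hcd0 hcdy
      have hci : c⁻¹ = c := inv_eq_of_mul_eq_one_left e1
      have hdi : d⁻¹ = d := inv_eq_of_mul_eq_one_left e2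
      show c * d = d * c
      calc c * d = (c * d)⁻¹ := (inv_eq_of_mul_eq_one_left e3).symm
        _ = d⁻¹ * c⁻¹ := by group
        _ = d * c := by rw [hci, hdi]
    have hyinv0 : y⁻¹ ∉ E₀ := fun hm => hy0 (by simpa using E₀.inv_mem hm)
    have key : ∀ f ∈ E, f * y = y * f → ∃ c ∈ E₀, c * y = y * c ∧ (f = c ∨ f = y * c) := by
      intro f hf hfy
      by_cases hf0 : f ∈ E₀
      · exact ⟨f, hf0, hfy, Or.inl rfl⟩
      · refine ⟨y⁻¹ * f, ?_, ?_, Or.inr (by group)⟩
        · refine (inv_mul_mem_iff hidx (E.inv_mem hy) hf).2 ⟨fun hm => absurd hm hyinv0, fun hm => absurd hm hf0⟩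
        · calc (y⁻¹ * f) * y = y⁻¹ * (f * y) := by group
            _ = y⁻¹ * (y * f) := by rw [hfy]
            _ = y * (y⁻¹ * f) := by group
    obtain ⟨a, ha, b, hb, hay, hby, hab⟩ := xs_nonab h hcard y hy hnc
    obtain ⟨ca, hca0, hcay, hca⟩ := key a ha hay
    obtain ⟨cb, hcb0, hcby, hcb⟩ := key b hb hby
    have k1 : Commute ca cb := hA ca hca0 cb hcb0 hcay hcby
    have k2 : Commute y ca := hcay.symm
    have k3 : Commute y cb := hcby.symm
    have hcomm : Commute a b := by
      rcases hca with rfl | rfl <;> rcases hcb with rfl | rfl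
      · exact k1
      · exact Commute.mul_right k2.symm k1
      · exact Commute.mul_left k3 k1
      · exact Commute.mul_left (Commute.mul_right (Commute.refl y) k3)
          (Commute.mul_right k2.symm k1)
    exact hab hcomm

end Cfsg.Agent.Helper8.XS
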