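import Mathlib
import Cfsg.Agent.Lib.Helper8.XSDefs
import Cfsg.Agent.Lib.Helper4.XSDUAL

/-!
# S3299 PIECE XS-KEY (helper4): an element normalizing `E` and centralizing `C_E(v)`
(`v` a noncentral involution of `E`) lies in `{1, v, z, vz}`.
-/

set_option autoImplicit false

namespace Cfsg.Agent.Helper8.XS

theorem xs_key {G : Type*} [Group G] {E : Subgroup G} {z : G} (h : XSp E z)
    (hcent : Subgroup.centralizer (E : Set G) ≤ E)
    (v : G) (hv : v ∈ E) (hvv : v * v = 1) (hnc : ∃ y ∈ E, v * y ≠ y * v)
    (x : G) (hxn : ∀ e ∈ E, x * e * x⁻¹ ∈ E) (hxc : ∀ f ∈ E, f * v = v * f → x * f = f * x) :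
    x = 1 ∨ x = v ∨ x = z ∨ x = v * z := by
  -- it suffices to show `x ∈ E`
  suffices hxE : x ∈ E from xs_dual h v hv hnc x hxE hxc
  obtain ⟨y, hy, hn⟩ := hnc
  have hvinv : v⁻¹ = v := inv_eq_of_mul_eq_one_left hvv
  have evy : v * y = z * (y * v) := (h.hcomm v hv y hy).resolve_left hn
  have hzv : z * v = v * z := (h.hcen v hv).symm
  have hxz : x * z = z * x := hxc z h.hzE hzv
  -- `y' = x y x⁻¹`, `c = y⁻¹ y'`
  have hy'E : x * y * x⁻¹ ∈ E := hxn y hy
  have hcE : y⁻¹ * (x * y * x⁻¹) ∈ E := E.mul_mem (E.inv_mem hy) hy'E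
  -- conjugation by `y` preserves `C_E(v)`
  have hconj : ∀ f ∈ E, f * v = v * f → (y * f * y⁻¹) * v = v * (y * f * y⁻¹) := by
    intro f hf hfv
    have hfz : f * z = z * f := h.hcen f hf
    -- `y⁻¹ v y = z v`
    have e1 : y⁻¹ * v * y = z * v := by
      have hyz : y * z = z * y := h.hcen y hy
      calc y⁻¹ * v * y = y⁻¹ * (v * y) := by group
        _ = y⁻¹ * (z * (y * v)) := by rw [evy]
        _ = y⁻¹ * (z * y) * v := by group
        _ = y⁻¹ * (y * z) * v := by rw [hyz]
        _ = z * v := by group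
    have e2 : f * (z * v) = (z * v) * f := by
      calc f * (z * v) = (f * z) * v := by group
        _ = (z * f) * v := by rw [hfz]
        _ = z * (f * v) := by group
        _ = z * (v * f) := by rw [hfv]
        _ = (z * v) * f := by group
    calc (y * f * y⁻¹) * v = y * (f * (y⁻¹ * v * y)) * y⁻¹ := by group
      _ = y * (f * (z * v)) * y⁻¹ := by rw [e1]
      _ = y * ((z * v) * f) * y⁻¹ := by rw [e2]
      _ = y * ((y⁻¹ * v * y) * f) * y⁻¹ := by rw [e1]
      _ = v * (y * f * y⁻¹) := by group
  -- `c` centralizes `C_E(v)`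
  have hcc : ∀ f ∈ E, f * v = v * f →
      (y⁻¹ * (x * y * x⁻¹)) * f = f * (y⁻¹ * (x * y * x⁻¹)) := by
    intro f hf hfv
    have h1 : x * f = f * x := hxc f hf hfv
    have h1' : x⁻¹ * f = f * x⁻¹ := by
      calc x⁻¹ * f = x⁻¹ * (f * x) * x⁻¹ := by group
        _ = x⁻¹ * (x * f) * x⁻¹ := by rw [h1]
        _ = f * x⁻¹ := by group
    have hgE : y * f * y⁻¹ ∈ E := E.mul_mem (E.mul_mem hy hf) (E.inv_mem hy)
    have h2 : x * (y * f * y⁻¹) = (y * f * y⁻¹) * x := hxc _ hgE (hconj f hf hfv)
    calc (y⁻¹ * (x * y * x⁻¹)) * f = y⁻¹ * x * y * (x⁻¹ * f) := by group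
      _ = y⁻¹ * x * y * (f * x⁻¹) := by rw [h1']
      _ = y⁻¹ * (x * (y * f * y⁻¹)) * y * x⁻¹ := by group
      _ = y⁻¹ * ((y * f * y⁻¹) * x) * y * x⁻¹ := by rw [h2]
      _ = f * (y⁻¹ * (x * y * x⁻¹)) := by group
  have hc4 := xs_dual h v hv ⟨y, hy, hn⟩ _ hcE hcc
  -- `y'^2 = y^2`
  have hsq : (x * y * x⁻¹) * (x * y * x⁻¹) = y * y := by
    have hyy : x * (y * y) = (y * y) * x := by
      rcases h.hsq y hy with e | e
      · rw [e]; simp
      · rw [e]; exact hxz
    calc (x * y * x⁻¹) * (x * y * x⁻¹) = (x * (y * y)) * x⁻¹ := by group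
      _ = ((y * y) * x) * x⁻¹ := by rw [hyy]
      _ = y * y := by group
  -- hence `c y c = y`
  have hcyc : ∀ c : G, y⁻¹ * (x * y * x⁻¹) = c → c * y * c = y := by
    intro c hc
    have hy' : x * y * x⁻¹ = y * c := by rw [← hc]; group
    rw [hy'] at hsq
    calc c * y * c = y⁻¹ * ((y * c) * (y * c)) := by group
      _ = y⁻¹ * (y * y) := by rw [hsq]
      _ = y := by group
  -- a general principle: an element commuting with `C_E(v)` and with `y` lies in `E`
  have hmemE : ∀ t : G, (∀ f ∈ E, f * v = v * f → t * f = f * t) → t * y = y * t → t ∈ E := by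
    intro t ht1 ht2
    apply hcent
    rw [Subgroup.mem_centralizer_iff]
    intro f hf
    exact (dual_central h v y hv hy hn t ht1 ht2 f hf).symm
  rcases hc4 with e | e | e | e
  · -- `c = 1`: `x` commutes with `y`
    have hxy : x * y = y * x := by
      have : x * y * x⁻¹ = y := by
        calc x * y * x⁻¹ = y * (y⁻¹ * (x * y * x⁻¹)) := by group
          _ = y := by rw [e, mul_one]
      calc x * y = (x * y * x⁻¹) * x := by group
        _ = y * x := by rw [this]
    exact hmemE x hxc hxy
  · -- `c = v`: impossible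
    exfalso
    have h1 := hcyc v e
    apply hn
    calc v * y = (v * y * v) * v⁻¹ := by group
      _ = y * v⁻¹ := by rw [h1]
      _ = y * v := by rw [hvinv]
  · -- `c = z`: `x v` commutes with `y`
    have hxyx : x * y * x⁻¹ = y * z := by
      calc x * y * x⁻¹ = y * (y⁻¹ * (x * y * x⁻¹)) := by group
        _ = y * z := by rw [e]
    have hyz : y * z = z * y := h.hcen y hy
    have hxvy : (x * v) * y = y * (x * v) := by
      have e1 : x * y = y * z * x := by
        calc x * y = (x * y * x⁻¹) * x := by group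
          _ = y * z * x := by rw [hxyx]
      calc (x * v) * y = x * (v * y) := by group
        _ = x * (z * (y * v)) := by rw [evy]
        _ = (x * z) * y * v := by group
        _ = (z * x) * y * v := by rw [hxz]
        _ = z * (x * y) * v := by group
        _ = z * (y * z * x) * v := by rw [e1]
        _ = (z * y) * z * x * v := by group
        _ = (y * z) * z * x * v := by rw [hyz]
        _ = y * (z * z) * (x * v) := by group
        _ = y * (x * v) := by rw [h.hzz, mul_one]
    have hxvc : ∀ f ∈ E, f * v = v * f → (x * v) * f = f * (x * v) := by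
      intro f hf hfv
      have h1 := hxc f hf hfv
      calc (x * v) * f = x * (v * f) := by group
        _ = x * (f * v) := by rw [hfv]
        _ = (x * f) * v := by group
        _ = (f * x) * v := by rw [h1]
        _ = f * (x * v) := by group
    have hxvE : x * v ∈ E := hmemE (x * v) hxvc hxvy
    have : x = (x * v) * v⁻¹ := by group
    rw [this]
    exact E.mul_mem hxvE (E.inv_mem hv)
  · -- `c = v z`: impossible
    exfalso
    have h1 := hcyc (v * z) e
    have hyz : y * z = z * y := h.hcen y hy
    -- `v z y v z = v y v` since `z` is central of order 2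
    have h2 : v * y * v = y := by
      calc v * y * v = v * y * v * (z * z) := by rw [h.hzz, mul_one]
        _ = v * (y * z) * (v * z) := by
            have : v * z = z * v := hzv.symm
            calc v * y * v * (z * z) = v * y * (v * z) * z := by group
              _ = v * y * (z * v) * z := by rw [this]
              _ = v * (y * z) * (v * z) := by group
        _ = v * (z * y) * (v * z) := by rw [hyz]
        _ = (v * z) * y * (v * z) := by group
        _ = y := h1
    apply hn
    calc v * y = (v * y * v) * v⁻¹ := by group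
      _ = y * v⁻¹ := by rw [h2]
      _ = y * v := by rw [hvinv]

end Cfsg.Agent.Helper8.XS
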