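import Mathlib
import Cfsg.Prelude.Def_JComponents
import Cfsg.Agent.Lib.Helper4.ZNDefs

/-!
# S0518, piece TSTRE: the structure of `T` through its two elementary abelian subgroups of order 8 (helper4)
-/

set_option autoImplicit false
open Cfsg

namespace Cfsg.Agent.Helper4.ZN

variable {G : Type*} [Group G]

/-- elements of exponent 2 commute -/
theorem tstre_comm_of_sq {E : Subgroup G} (hE : ∀ x ∈ E, x * x = 1) {a b : G} (ha : a ∈ E) (hb : b ∈ E) :
    a * b = b * a := by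
  have h1 := hE a ha
  have h2 := hE b hb
  have h3 := hE (a * b) (E.mul_mem ha hb)
  have h4 : a * b = (a * b)⁻¹ := eq_inv_of_mul_eq_one_left h3
  rw [h4, mul_inv_rev, ← eq_inv_of_mul_eq_one_left h1, ← eq_inv_of_mul_eq_one_left h2]

theorem tstre_card_mul_relIndex {T P : Subgroup G} (hTP : T ≤ P) :
    Nat.card ↥T * T.relIndex P = Nat.card ↥P := by
  have h := Subgroup.card_mul_index (T.subgroupOf P)
  rw [Nat.card_congr (Subgroup.subgroupOfEquivOfLe hTP).toEquiv] at h
  exact h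

/-- a Sylow 2-subgroup (in the `IsSylowTwoIn` sense) of a group of order 48 has order 16 -/
theorem tstre_card_sixteen [Finite G] {T P : Subgroup G} (h : IsSylowTwoIn T P) (hP : Nat.card ↥P = 48) :
    Nat.card ↥T = 16 := by
  obtain ⟨hTP, h2, hodd⟩ := h
  have h1 := tstre_card_mul_relIndex hTP
  rw [hP] at h1
  obtain ⟨k, hk⟩ := IsPGroup.exists_card_eq h2
  rw [hk] at h1 ⊢
  have hk5 : k < 6 := by
    by_contra hcon
    push Not at hcon
    have : 2 ^ 6 ≤ 2 ^ k := Nat.pow_le_pow_right (by norm_num) hcon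
    have hpos : 0 < T.relIndex P := by
      rcases Nat.eq_zero_or_pos (T.relIndex P) with h0 | h0
      · rw [h0] at h1; omega
      · exact h0
    nlinarith
  obtain ⟨r, hr⟩ := hodd
  interval_cases k <;> omega

/-- a normal 2-subgroup lies in every Sylow 2-subgroup -/
theorem tstre_le_sylow [Finite G] {T P E : Subgroup G} (h : IsSylowTwoIn T P) (hE : IsPGroup 2 ↥E)
    (hEP : E ≤ P) (hn : ∀ p ∈ P, ∀ x ∈ E, p * x * p⁻¹ ∈ E) : E ≤ T := by
  obtain ⟨hTP, h2, hodd⟩ := h
  have hTn : T ≤ Subgroup.normalizer (E : Set G) := by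
    intro s hs
    rw [Subgroup.mem_normalizer_iff]
    intro x
    constructor
    · intro hx
      exact hn s (hTP hs) x hx
    · intro hx
      have := hn s⁻¹ (P.inv_mem (hTP hs)) _ hx
      simpa [mul_assoc] using this
  have hX : IsPGroup 2 ↥(T ⊔ E) := IsPGroup.to_sup_of_normal_right' h2 hE hTn
  have hXP : T ⊔ E ≤ P := sup_le hTP hEP
  have hmul := Subgroup.relIndex_mul_relIndex T (T ⊔ E) P le_sup_left hXP
  have hdvd : T.relIndex (T ⊔ E) ∣ Nat.card ↥(T ⊔ E) := by
    have := Subgroup.index_dvd_card (T.subgroupOf (T ⊔ E))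
    exact this
  obtain ⟨m, hm⟩ := IsPGroup.exists_card_eq hX
  rw [hm] at hdvd
  obtain ⟨j, -, hj⟩ := (Nat.dvd_prime_pow Nat.prime_two).mp hdvd
  have hj0 : j = 0 := by
    by_contra hne
    have : Even (T.relIndex (T ⊔ E)) := by
      rw [hj]
      exact (Nat.even_pow' hne).mpr even_two
    have h3 : Even (T.relIndex P) := by
      rw [← hmul]
      exact this.mul_right _
    exact (Nat.not_even_iff_odd.mpr hodd) h3
  rw [hj0, pow_zero] at hj
  have := Subgroup.relIndex_eq_one.mp hj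
  exact le_sup_right.trans this

theorem tstre_isPGroup_of_card_eight {E : Subgroup G} (h : Nat.card ↥E = 8) : IsPGroup 2 ↥E :=
  IsPGroup.of_card (n := 3) (by rw [h]; norm_num)

theorem tstr_E [Finite G] {P₁ P₂ T : Subgroup G} {t₁ t₂ : G} {E₁ E₂ V₁ V₂ : Subgroup G}
    (c : Ctx P₁ P₂ T t₁ t₂ E₁ E₂ V₁ V₂) : TE T E₁ E₂ := by
  have hT16 : Nat.card ↥T = 16 := tstre_card_sixteen c.syl₁ c.b₁.card_P
  have hTP₁ : T ≤ P₁ := c.syl₁.1
  have hTP₂ : T ≤ P₂ := c.syl₂.1
  have hE₁T : E₁ ≤ T :=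
    tstre_le_sylow c.syl₁ (tstre_isPGroup_of_card_eight c.b₁.card_E) c.b₁.E_le c.b₁.E_norm
  have hE₂T : E₂ ≤ T :=
    tstre_le_sylow c.syl₂ (tstre_isPGroup_of_card_eight c.b₂.card_E) c.b₂.E_le c.b₂.E_norm
  have hEne : E₁ ≠ E₂ := by
    intro h
    apply c.ne
    rw [← c.nE₁, ← c.nE₂, h]
  -- E₁ is not inside E₂ and conversely
  have hnle₁ : ¬ E₁ ≤ E₂ := by
    intro h
    exact hEne (Subgroup.eq_of_le_of_card_ge h (by rw [c.b₁.card_E, c.b₂.card_E]))
  have hnle₂ : ¬ E₂ ≤ E₁ := by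
    intro h
    exact hEne (Subgroup.eq_of_le_of_card_ge h (by rw [c.b₁.card_E, c.b₂.card_E])).symm
  -- the join
  have hsup : E₁ ⊔ E₂ = T := by
    have hle : E₁ ⊔ E₂ ≤ T := sup_le hE₁T hE₂T
    have h1 : Nat.card ↥E₁ ∣ Nat.card ↥(E₁ ⊔ E₂) := Subgroup.card_dvd_of_le le_sup_left
    have h2 : Nat.card ↥(E₁ ⊔ E₂) ∣ Nat.card ↥T := Subgroup.card_dvd_of_le hle
    rw [c.b₁.card_E] at h1
    rw [hT16] at h2
    have h3 : Nat.card ↥(E₁ ⊔ E₂) ≠ 8 := by
      intro h8
      have : E₁ = E₁ ⊔ E₂ :=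
        Subgroup.eq_of_le_of_card_ge le_sup_left (by rw [h8, c.b₁.card_E])
      apply hnle₂
      rw [this]
      exact le_sup_right
    have h4 : Nat.card ↥(E₁ ⊔ E₂) = 16 := by
      have hle16 : Nat.card ↥(E₁ ⊔ E₂) ≤ 16 := Nat.le_of_dvd (by norm_num) h2
      obtain ⟨k, hk⟩ := h1
      have hpos : 0 < Nat.card ↥(E₁ ⊔ E₂) := Nat.card_pos
      have hk2 : k ≤ 2 := by omega
      interval_cases k <;> omega
    exact Subgroup.eq_of_le_of_card_ge hle (by rw [h4, hT16])
  -- order of the intersection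
  have hinf4 : Nat.card ↥(E₁ ⊓ E₂) = 4 := by
    have hr₁ : E₁.relIndex T = 2 := by
      have := tstre_card_mul_relIndex hE₁T
      rw [c.b₁.card_E, hT16] at this
      omega
    have hr₂ : E₂.relIndex T = 2 := by
      have := tstre_card_mul_relIndex hE₂T
      rw [c.b₂.card_E, hT16] at this
      omega
    have hle := Subgroup.relIndex_inf_le (H := E₁) (K := E₂) (L := T)
    rw [hr₁, hr₂] at hle
    have hmul := tstre_card_mul_relIndex (inf_le_left.trans hE₁T : E₁ ⊓ E₂ ≤ T)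
    rw [hT16] at hmul
    have hdvd : Nat.card ↥(E₁ ⊓ E₂) ∣ Nat.card ↥E₁ := Subgroup.card_dvd_of_le inf_le_left
    rw [c.b₁.card_E] at hdvd
    have hne8 : Nat.card ↥(E₁ ⊓ E₂) ≠ 8 := by
      intro h8
      have : E₁ ⊓ E₂ = E₁ := Subgroup.eq_of_le_of_card_ge inf_le_left (by rw [h8, c.b₁.card_E])
      exact hnle₁ (inf_eq_left.mp this)
    have hle8 : Nat.card ↥(E₁ ⊓ E₂) ≤ 8 := Nat.le_of_dvd (by norm_num) hdvd
    have hpos : 0 < Nat.card ↥(E₁ ⊓ E₂) := Nat.card_pos
    obtain ⟨k, hk⟩ := hdvd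
    interval_cases h : Nat.card ↥(E₁ ⊓ E₂) <;> first | omega | nlinarith
  -- the intersection is central
  have hcentral : ∀ x ∈ E₁ ⊓ E₂, ∀ y ∈ T, x * y = y * x := by
    intro x hx y hy
    have h1 : E₁ ≤ Subgroup.centralizer ({x} : Set G) := by
      intro e he
      rw [Subgroup.mem_centralizer_singleton_iff]
      exact tstre_comm_of_sq c.b₁.E_sq he hx.1
    have h2 : E₂ ≤ Subgroup.centralizer ({x} : Set G) := by
      intro e he
      rw [Subgroup.mem_centralizer_singleton_iff]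
      exact tstre_comm_of_sq c.b₂.E_sq he hx.2
    have h3 : y ∈ Subgroup.centralizer ({x} : Set G) := by
      have : T ≤ Subgroup.centralizer ({x} : Set G) := by
        rw [← hsup]
        exact sup_le h1 h2
      exact this hy
    rw [Subgroup.mem_centralizer_singleton_iff] at h3
    exact h3.symm
  have hcenter : ∀ x ∈ T, (∀ y ∈ T, x * y = y * x) → x ∈ E₁ ⊓ E₂ := by
    intro x hx hc
    exact ⟨c.b₁.E_cent x (hTP₁ hx) (fun e he => hc e (hE₁T he)),
      c.b₂.E_cent x (hTP₂ hx) (fun e he => hc e (hE₂T he))⟩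
  -- non-commuting
  have hnc : ∀ a ∈ E₁, ∀ b ∈ E₂, a ∉ E₂ → b ∉ E₁ → a * b ≠ b * a := by
    intro a ha b hb ha2 hb1 hab
    -- C := C_{E₁}(b) contains Z and a, so is E₁
    have hC : E₁ ≤ Subgroup.centralizer ({b} : Set G) := by
      set C : Subgroup G := E₁ ⊓ Subgroup.centralizer ({b} : Set G) with hCdef
      have hZC : E₁ ⊓ E₂ ≤ C := by
        intro x hx
        refine Subgroup.mem_inf.mpr ⟨hx.1, ?_⟩
        rw [Subgroup.mem_centralizer_singleton_iff]
        exact tstre_comm_of_sq c.b₂.E_sq hx.2 hb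
      have haC : a ∈ C := by
        refine Subgroup.mem_inf.mpr ⟨ha, ?_⟩
        rw [Subgroup.mem_centralizer_singleton_iff]
        exact hab
      have h1 : Nat.card ↥(E₁ ⊓ E₂) ∣ Nat.card ↥C := Subgroup.card_dvd_of_le hZC
      have h2 : Nat.card ↥C ∣ Nat.card ↥E₁ := Subgroup.card_dvd_of_le inf_le_left
      rw [hinf4] at h1
      rw [c.b₁.card_E] at h2
      have h3 : Nat.card ↥C ≠ 4 := by
        intro h4
        have : E₁ ⊓ E₂ = C := Subgroup.eq_of_le_of_card_ge hZC (by rw [h4, hinf4])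
        rw [← this] at haC
        exact ha2 haC.2
      have h4 : Nat.card ↥C = 8 := by
        have hle8 : Nat.card ↥C ≤ 8 := Nat.le_of_dvd (by norm_num) h2
        have hpos : 0 < Nat.card ↥C := Nat.card_pos
        obtain ⟨k, hk⟩ := h1
        have hk2 : k ≤ 2 := by omega
        interval_cases k <;> omega
      have : C = E₁ := Subgroup.eq_of_le_of_card_ge inf_le_left (by rw [h4, c.b₁.card_E])
      rw [← this]
      exact inf_le_right
    apply hb1
    apply c.b₁.E_cent b (hTP₁ (hE₂T hb))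
    intro e he
    have := hC he
    rw [Subgroup.mem_centralizer_singleton_iff] at this
    exact this.symm
  -- involutions are covered
  have hcover : ∀ x ∈ T, x * x = 1 → x ∈ E₁ ∨ x ∈ E₂ := by
    intro x hx hx2
    by_contra hcon
    push Not at hcon
    obtain ⟨hx1, hx2'⟩ := hcon
    -- pick b ∈ E₂ \ E₁
    obtain ⟨b, hb, hb1⟩ := SetLike.not_le_iff_exists.mp hnle₂
    have hidx : (E₁.subgroupOf T).index = 2 := by
      have := tstre_card_mul_relIndex hE₁T
      rw [c.b₁.card_E, hT16] at this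
      have h2 : E₁.relIndex T = 2 := by omega
      exact h2
    have hbT : b ∈ T := hE₂T hb
    have hmem : (⟨x, hx⟩ : ↥T) * ⟨b, hbT⟩ ∈ E₁.subgroupOf T := by
      rw [Subgroup.mul_mem_iff_of_index_two hidx]
      simp only [Subgroup.mem_subgroupOf]
      exact ⟨fun h => absurd h hx1, fun h => absurd h hb1⟩
    have ha : x * b ∈ E₁ := by
      simpa [Subgroup.mem_subgroupOf] using hmem
    have ha2 : x * b ∉ E₂ := by
      intro h
      apply hx2'
      have := E₂.mul_mem h (E₂.inv_mem hb)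
      simpa using this
    have hbb : b * b = 1 := c.b₂.E_sq b hb
    have hcomm : (x * b) * b = b * (x * b) := by
      -- (xb)b = x and b(xb): from x² = 1, (xb)² = 1
      have h1 := c.b₁.E_sq (x * b) ha
      -- x * b * (x * b) = 1 → b * x * b = x⁻¹ = x
      have hxinv : x⁻¹ = x := inv_eq_of_mul_eq_one_left hx2
      have h2 : b * (x * b) = x⁻¹ := by
        have : x * (b * (x * b)) = 1 := by simpa [mul_assoc] using h1
        exact eq_inv_of_mul_eq_one_right this
      rw [h2, hxinv, mul_assoc, hbb, mul_one]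
    exact hnc (x * b) ha b hb ha2 hb1 hcomm
  refine ⟨hT16, hE₁T, hE₂T, hEne, hsup, hinf4, hcentral, hcenter, hnc, hcover, ?_⟩
  intro A hAT hA8 hAsq
  have hsub : (A : Set G) ⊆ (E₁ : Set G) ∪ (E₂ : Set G) := by
    intro a ha
    exact hcover a (hAT ha) (hAsq a ha)
  rcases SubgroupClass.subset_union.mp hsub with h | h
  · left
    exact Subgroup.eq_of_le_of_card_ge h (by rw [hA8, c.b₁.card_E])
  · right
    exact Subgroup.eq_of_le_of_card_ge h (by rw [hA8, c.b₂.card_E])

end Cfsg.Agent.Helper4.ZN
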