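import Cfsg.Agent.Lib.Helper28.ZNCTX
import Cfsg.Agent.Lib.Helper15.ZNCASEA
import Cfsg.Agent.Lib.Helper2.ZNMAXB
import Cfsg.Agent.Lib.Helper24.ZNSYL
import Cfsg.Agent.Lib.Helper4.ZNTSTRE
import Cfsg.Agent.Lib.Helper4.ZNMAXL
import Cfsg.Agent.Lib.Helper13.ZNTSTRV
import Cfsg.Agent.Lib.Helper15.ZNMODELA
import Cfsg.Agent.Lib.Helper2.ZNNT
import Cfsg.Agent.Lib.Helper27.ZNFUS
import Cfsg.Agent.Lib.Helper3.ZNLEX
import Cfsg.Agent.Lib.Helper3.ZNLIFT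
import Cfsg.Agent.Lib.Helper6.ZNSIGMA
import Cfsg.Agent.S2947
import Cfsg.Agent.S2954
import Cfsg.Agent.Lib.Helper7.JC48A
import Cfsg.Agent.Lib.Helper15.GenThompsonTransfer

/-!
# S0518 (KS 12.3 main theorem): final assembly   (helper4)

`zn_main` = S2947 + S2954 + the endgame pieces (farmed out, see `plans/S0518_proof.md`):
CASEA (helper15), CTX (helper28), TSTRE/MAXL (helper4), TSTRV (helper13), SYL (helper24),
FUS (helper27), TRANSFER/GTT (helper15), SIGMA (helper6), MAXB (helper2), LIFT/LEX (helper3), NT (helper2),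
MODELA (helper15), MODELB (helper19).
-/

set_option autoImplicit false
open Cfsg

namespace Cfsg.Agent.Helper4.ZN

variable {G : Type*} [Group G]

section
variable {P₁ P₂ T : Subgroup G} {t₁ t₂ : G} {E₁ E₂ V₁ V₂ : Subgroup G}

theorem t₁_not_mem [Finite G] (c : Ctx P₁ P₂ T t₁ t₂ E₁ E₂ V₁ V₂) (e : TE T E₁ E₂) {z : G}
    (v : TV T t₁ t₂ z E₁ E₂ V₁ V₂) (S : Sylow 2 G) (hTS : T ≤ (S : Subgroup G))
    (hS : (S : Subgroup G) = T ∨ SB2 S P₁ P₂ T t₁ t₂ z E₁ E₂ V₁ V₂) :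
    t₁ ∉ Subgroup.closure {g : G | Odd (orderOf g)} := by
  have hfus := fusion c e v S hTS hS
  have hTP₁ : T ≤ P₁ := c.syl₁.1
  have hTP₂ : T ≤ P₂ := c.syl₂.1
  -- T normalizes D
  have hTD : ∀ s ∈ T, ∀ d ∈ V₁ ⊔ V₂, s * d * s⁻¹ ∈ V₁ ⊔ V₂ := by
    intro s hs d hd
    have h1 : V₁ ⊔ V₂ ≤ (V₁ ⊔ V₂).comap (MulAut.conj s).toMonoidHom := by
      apply sup_le
      · intro x hx
        exact Subgroup.mem_sup_left (c.b₁.V_norm s (hTP₁ hs) x hx)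
      · intro x hx
        exact Subgroup.mem_sup_right (c.b₂.V_norm s (hTP₂ hs) x hx)
    exact h1 hd
  have hDn : ∀ s ∈ (S : Subgroup G), ∀ d ∈ V₁ ⊔ V₂, s * d * s⁻¹ ∈ V₁ ⊔ V₂ := by
    intro s hs d hd
    by_cases hsT : s ∈ T
    · exact hTD s hsT d hd
    · rcases hS with hS | hS
      · exact absurd (hS ▸ hs) hsT
      · exact ((hS.swap s hs hsT).D d).mp hd
  -- S/D abelian
  have hab : ∀ a ∈ (S : Subgroup G), ∀ b ∈ (S : Subgroup G), a * b * a⁻¹ * b⁻¹ ∈ V₁ ⊔ V₂ := by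
    have hcardS : Nat.card ↥(S : Subgroup G) = 16 ∨ Nat.card ↥(S : Subgroup G) = 32 := by
      rcases hS with h | h
      · left; rw [h]; exact e.card_T
      · right; exact h.card_S
    have hDS : V₁ ⊔ V₂ ≤ (S : Subgroup G) := v.D_le.trans hTS
    haveI hN : ((V₁ ⊔ V₂).subgroupOf (S : Subgroup G)).Normal := by
      constructor
      intro n hn x
      rw [Subgroup.mem_subgroupOf] at hn ⊢
      exact hDn x.1 x.2 n.1 hn
    have hcardD : Nat.card ↥((V₁ ⊔ V₂).subgroupOf (S : Subgroup G)) = 8 := by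
      rw [Nat.card_congr (Subgroup.subgroupOfEquivOfLe hDS).toEquiv]
      exact v.card_D
    have hmul := Subgroup.card_eq_card_quotient_mul_card_subgroup ((V₁ ⊔ V₂).subgroupOf (S : Subgroup G))
    rw [hcardD] at hmul
    have hcomm : ∀ x y : ↥(S : Subgroup G) ⧸ (V₁ ⊔ V₂).subgroupOf (S : Subgroup G), x * y = y * x := by
      rcases hcardS with h | h
      · have h2 : Nat.card (↥(S : Subgroup G) ⧸ (V₁ ⊔ V₂).subgroupOf (S : Subgroup G)) = 2 := by omega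
        haveI : Fact (Nat.Prime 2) := ⟨Nat.prime_two⟩
        haveI := isCyclic_of_prime_card h2
        intro x y
        exact IsMulCommutative.is_comm.comm x y
      · have h4 : Nat.card (↥(S : Subgroup G) ⧸ (V₁ ⊔ V₂).subgroupOf (S : Subgroup G)) = 2 ^ 2 := by omega
        haveI : Fact (Nat.Prime 2) := ⟨Nat.prime_two⟩
        exact IsPGroup.commutative_of_card_eq_prime_sq h4
    intro a ha b hb
    have h1 : ((⟨a, ha⟩ * ⟨b, hb⟩ * ⟨a, ha⟩⁻¹ * ⟨b, hb⟩⁻¹ : ↥(S : Subgroup G)) :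
        ↥(S : Subgroup G) ⧸ (V₁ ⊔ V₂).subgroupOf (S : Subgroup G)) = 1 := by
      rw [QuotientGroup.mk_mul, QuotientGroup.mk_mul, QuotientGroup.mk_mul, QuotientGroup.mk_inv,
        QuotientGroup.mk_inv, hcomm (↑(⟨a, ha⟩ : ↥(S : Subgroup G))) (↑(⟨b, hb⟩ : ↥(S : Subgroup G)))]
      group
    rw [QuotientGroup.eq_one_iff, Subgroup.mem_subgroupOf] at h1
    simpa using h1
  exact Cfsg.Agent.Helper15.GTT.not_mem_closure_odd S (V₁ ⊔ V₂) hDn hab t₁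
    (hTS (e.E₁_le c.b₁.t_E)) c.b₁.t_sq v.t₁_D hfus

end

theorem caseB [Finite G]
    (hZ : ∀ S : Sylow 2 G,
      Subgroup.centralizer {z : G | z ∈ (S : Subgroup G) ∧ z ^ 2 = 1 ∧ ∀ s ∈ (S : Subgroup G), s * z = z * s} ≤
        Subgroup.normalizer ((S : Subgroup G) : Set G))
    {P₁ P₂ T : Subgroup G} (hne : P₁ ≠ P₂) (hm₁ : IsMaximalTwoLocal P₁)
    (hm₂ : IsMaximalTwoLocal P₂) (hT₁ : IsSylowTwoIn T P₁) (hT₂ : IsSylowTwoIn T P₂)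
    (h₁ : Nonempty (↥P₁ ≃* Equiv.Perm (Fin 4) × Multiplicative (ZMod 2)))
    (h₂ : Nonempty (↥P₂ ≃* Equiv.Perm (Fin 4) × Multiplicative (ZMod 2)))
    (H : Subgroup G) (hH : H = Subgroup.closure {g : G | Odd (orderOf g)}) :
    ∃ M₁ M₂ : Subgroup ↥H, M₁ ≠ M₂ ∧ IsMaximalTwoLocal M₁ ∧ IsMaximalTwoLocal M₂ ∧
      Nonempty (↥M₁ ≃* Equiv.Perm (Fin 4)) ∧ Nonempty (↥M₂ ≃* Equiv.Perm (Fin 4)) ∧
      Nat.card ↥(M₁ ⊓ M₂) = 8 := by
  obtain ⟨t₁, t₂, E₁, E₂, V₁, V₂, c⟩ := exists_ctx hne hm₁ hm₂ hT₁ hT₂ h₁ h₂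
  have e := tstr_E c
  obtain ⟨z, v⟩ := tstr_V c e
  obtain ⟨S, hTS⟩ := IsPGroup.exists_le_sylow hT₁.2.1
  have hS := sylow_cases hZ c e v S hTS
  have ht := t₁_not_mem c e v S hTS hS
  rw [← hH] at ht
  obtain ⟨hV₁, hV₂, hTH, ht₂, hi₁, hi₂, hne', hcard⟩ := sigma_facts c e v H hH ht
  obtain ⟨hmax₁, hmax₂⟩ := sigma_max c e v S hTS hS H hH ht
  have hp : ∀ V : Subgroup G, Nat.card ↥V = 4 → IsPGroup 2 ↥V ∧ V ≠ ⊥ := by
    intro V hV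
    constructor
    · exact IsPGroup.of_card (n := 2) (by rw [hV]; norm_num)
    · rintro rfl
      simp at hV
  refine lift_to_H H (P₁ ⊓ H) (P₂ ⊓ H) inf_le_right inf_le_right hne'
    ⟨V₁, (hp V₁ c.b₁.card_V).1, (hp V₁ c.b₁.card_V).2, hV₁, by rw [c.nV₁]⟩
    ⟨V₂, (hp V₂ c.b₂.card_V).1, (hp V₂ c.b₂.card_V).2, hV₂, by rw [c.nV₂]⟩ hmax₁ hmax₂
    (c.b₁.sigma_iso _ inf_le_left (fun h => ht h.2) hi₁)
    (c.b₂.sigma_iso _ inf_le_left (fun h => ht₂ h.2) hi₂) hcard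

theorem zn_main [Finite G]
    (hL : Cfsg.IsCharacteristicTwoType G) (hO : Cfsg.pCore 2 G = ⊥)
    (hN : ∀ N : Subgroup G, Cfsg.IsTwoLocal N → Group.IsSolvable N)
    (hZ : ∀ S : Sylow 2 G,
      Subgroup.centralizer {z : G | z ∈ (S : Subgroup G) ∧ z ^ 2 = 1 ∧ ∀ s ∈ (S : Subgroup G), s * z = z * s} ≤
        Subgroup.normalizer ((S : Subgroup G) : Set G))
    (H : Subgroup G) (hH : H = Subgroup.closure {g : G | Odd (orderOf g)}) :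
    (∃ K : Subgroup G, Cfsg.IsStronglyEmbedded K) ∨
      ∃ M₁ M₂ : Subgroup H, M₁ ≠ M₂ ∧ Cfsg.IsMaximalTwoLocal M₁ ∧ Cfsg.IsMaximalTwoLocal M₂ ∧
        Nonempty (M₁ ≃* Equiv.Perm (Fin 4)) ∧ Nonempty (M₂ ≃* Equiv.Perm (Fin 4)) ∧ Nat.card ↥(M₁ ⊓ M₂) = 8 := by
  have hZ' := hZ_convert hZ
  obtain ⟨S⟩ : Nonempty (Sylow 2 G) := inferInstance
  have hS2 : IsPGroup 2 ↥(S : Subgroup G) := S.isPGroup'
  have hS1 : (S : Subgroup G) ≠ ⊥ := by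
    haveI : Fact (Nat.Prime 2) := ⟨Nat.prime_two⟩
    exact S.ne_bot_of_dvd_card hL.1.two_dvd
  set M : Subgroup G := Subgroup.normalizer (thompsonSubgroupOf 2 (S : Subgroup G) : Set G) with hMdef
  have hM : IsTwoLocal M :=
    ⟨_, Cfsg.Agent.Helper7.JC48.isPGroup_J hS2, Cfsg.Agent.Helper7.JC48.J_ne_bot hS2 hS1, rfl⟩
  by_cases hst : straddlingTwoSubgroups M = ∅
  · left
    exact ⟨M, (Cfsg.Agent.S2947.result hL hN hZ' hO S M hM le_rfl).mpr hst⟩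
  · right
    obtain ⟨T, hT⟩ := exists_maxStraddling M (Set.nonempty_iff_ne_empty.mpr hst)
    obtain ⟨P₁, P₂, hne, hm₁, hm₂, hT₁, hT₂, hiso⟩ :=
      Cfsg.Agent.S2954.result hL hN hZ' hO S M hM le_rfl T hT
    rcases hiso with ⟨h₁, h₂⟩ | ⟨h₁, h₂⟩
    · exact caseA hne hm₁ hm₂ hT₁ hT₂ h₁ h₂ H hH
    · exact caseB hZ hne hm₁ hm₂ hT₁ hT₂ h₁ h₂ H hH

end Cfsg.Agent.Helper4.ZN
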