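import Mathlib
import Cfsg.Agent.Lib.Helper1.ZasDefs
import Cfsg.Agent.Lib.Helper11.DicksonMax1

/-!
Glue for Zassenhaus' theorem: the trichotomy `Tri z M` of helper1's `ZasDefs` gives the orders
form `g ^ 4 = 1 ∨ g ^ 6 = 1 ∨ g ^ 10 = 1` for every element of `M`.
-/

set_option autoImplicit false

namespace Cfsg.Agent.Helper4.Zass

open Cfsg.Agent.Helper1.Zas

theorem pow_of_tri {H : Type*} [Group H] {z : H} (hz : z * z = 1) {M : Subgroup H}
    (hM : Tri z M) {g : H} (hg : g ∈ M) : g ^ 4 = 1 ∨ g ^ 6 = 1 ∨ g ^ 10 = 1 := by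
  have key : ∀ (k : ℕ), (g ^ k = 1 ∨ g ^ k = z) → g ^ (2 * k) = 1 := by
    intro k hk
    rw [mul_comm, pow_mul, pow_two]
    rcases hk with h | h
    · rw [h, mul_one]
    · rw [h, hz]
  rcases hM with h3 | ⟨-, f, -, hker⟩ | ⟨-, f, -, hker⟩
  · right; left
    have h1 : (⟨g, hg⟩ : M) ^ Nat.card M = 1 := pow_card_eq_one'
    obtain ⟨c, hc⟩ := h3
    have h2 : (⟨g, hg⟩ : M) ^ 3 = 1 := by rw [hc, pow_mul, h1, one_pow]
    have h3' : g ^ 3 = 1 := by
      have := congrArg Subtype.val h2
      simpa using this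
    have : g ^ 6 = (g ^ 3) ^ 2 := by rw [← pow_mul]
    rw [this, h3', one_pow]
  · have hf := Cfsg.Agent.Helper11.Dickson.alt_four_pow (f ⟨g, hg⟩)
    rcases hf with h | h
    · left
      rw [← map_pow] at h
      have := (hker _).mp h
      exact key 2 (by simpa using this)
    · right; left
      rw [← map_pow] at h
      have := (hker _).mp h
      exact key 3 (by simpa using this)
  · have hf := Cfsg.Agent.Helper11.Dickson.alt_five_pow (f ⟨g, hg⟩)
    rcases hf with h | h | h
    · left
      rw [← map_pow] at h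
      have := (hker _).mp h
      exact key 2 (by simpa using this)
    · right; left
      rw [← map_pow] at h
      have := (hker _).mp h
      exact key 3 (by simpa using this)
    · right; right
      rw [← map_pow] at h
      have := (hker _).mp h
      exact key 5 (by simpa using this)

/-- the orders form of (N1) from the trichotomy for pairs -/
theorem n1_of_tri {H : Type*} [Group H] {z : H} (hz : z * z = 1)
    (htri : ∀ x y : H, orderOf x = 3 → orderOf y = 3 → Tri z (Subgroup.closure {x, y}))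
    (x y : H) (hx : x ^ 3 = 1) (hy : y ^ 3 = 1) :
    (x * y) ^ 4 = 1 ∨ (x * y) ^ 6 = 1 ∨ (x * y) ^ 10 = 1 := by
  have : Fact (Nat.Prime 3) := ⟨Nat.prime_three⟩
  by_cases hx1 : x = 1
  · subst hx1
    right; left
    rw [one_mul]
    have : y ^ 6 = (y ^ 3) ^ 2 := by rw [← pow_mul]
    rw [this, hy, one_pow]
  by_cases hy1 : y = 1
  · subst hy1
    right; left
    rw [mul_one]
    have : x ^ 6 = (x ^ 3) ^ 2 := by rw [← pow_mul]
    rw [this, hx, one_pow]
  have hox : orderOf x = 3 := orderOf_eq_prime hx hx1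
  have hoy : orderOf y = 3 := orderOf_eq_prime hy hy1
  apply pow_of_tri hz (htri x y hox hoy)
  exact Subgroup.mul_mem _ (Subgroup.subset_closure (by simp)) (Subgroup.subset_closure (by simp))

end Cfsg.Agent.Helper4.Zass
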