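import Mathlib
import Cfsg.Agent.S0040
import Cfsg.Agent.S0068

/-!
# Zassenhaus: from a perfect fixed-point-free group of automorphisms to a ring (helper4)

`G ≤ MulAut K` fixed-point-free, perfect, nontrivial, `K` finite.  Then `K` is commutative
(`S0040`: odd order would give a Z-group; `S0068`: an involution inverts `K`), and
`R := AddMonoid.End (Additive K)` receives `G` with `ι g - 1` a unit for `g ≠ 1`.
-/

set_option autoImplicit false

namespace Cfsg.Agent.Helper4.Zass

universe u

open SemidirectProduct in
/-- A perfect nontrivial fixed-point-free group of automorphisms of a finite group `K` forces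
`K` to be commutative. -/
theorem commutative_of_fpf {K : Type u} [Group K] [Finite K] (G : Subgroup (MulAut K))
    (hfpf : ∀ φ ∈ G, φ ≠ 1 → ∀ k, φ k = k → k = 1) (hperf : commutator G = ⊤) (hne : G ≠ ⊥) :
    ∀ a b : K, a * b = b * a := by
  classical
  have : Nontrivial G := (Subgroup.nontrivial_iff_ne_bot G).mpr hne
  obtain ⟨φ, hφ⟩ := exists_ne (1 : G)
  have hK1 : ∃ k : K, k ≠ 1 := by
    by_contra hcon
    push Not at hcon
    apply hφ
    apply Subtype.ext
    apply MulEquiv.ext
    intro k
    exact (hcon _).trans (hcon _).symm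
  let S := K ⋊[G.subtype] G
  have : Finite S := Finite.of_equiv _ (equivProd (φ := G.subtype)).symm
  set K' : Subgroup S := (inl : K →* S).range with hK'
  set H' : Subgroup S := (inr : G →* S).range with hH'
  have : K'.Normal := by rw [hK', range_inl_eq_ker_rightHom]; infer_instance
  have hdisj : Disjoint K' H' := by
    rw [Subgroup.disjoint_def]
    rintro x ⟨k, rfl⟩ ⟨g, hg⟩
    have h1 := congrArg SemidirectProduct.right hg
    have h2 := congrArg SemidirectProduct.left hg
    simp only [right_inr, right_inl, left_inr, left_inl] at h1 h2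
    rw [← h2]; simp
  have hc : Subgroup.IsComplement' K' H' := by
    apply Subgroup.isComplement'_of_disjoint_and_mul_eq_univ hdisj
    rw [Set.eq_univ_iff_forall]
    intro x
    exact Set.mem_mul.mpr ⟨inl x.left, ⟨x.left, rfl⟩, inr x.right, ⟨x.right, rfl⟩,
      inl_left_mul_inr_right x⟩
  have hK'ne : K' ≠ ⊥ := by
    obtain ⟨k, hk⟩ := hK1
    intro hbot
    have : (inl k : S) ∈ K' := ⟨k, rfl⟩
    rw [hbot, Subgroup.mem_bot] at this
    exact hk (inl_injective (this.trans (map_one _).symm))
  have hfpf' : ∀ h ∈ H', h ≠ 1 → K' ⊓ Subgroup.centralizer {h} = ⊥ := by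
    rintro _ ⟨g, rfl⟩ hg1
    rw [eq_bot_iff]
    rintro _ ⟨⟨k, rfl⟩, hcen⟩
    rw [Subgroup.mem_bot]
    have hg : (g : MulAut K) ≠ 1 := by
      intro h
      apply hg1
      have : g = 1 := Subtype.ext h
      rw [this, map_one]
    have hcen' : (inl k : S) ∈ Subgroup.centralizer {(inr g : S)} := hcen
    rw [Subgroup.mem_centralizer_iff] at hcen'
    have h1 : (inr g : S) * inl k = inl k * inr g := hcen' _ rfl
    have h2 : (inl ((G.subtype g) k) : S) = inl k := by
      rw [inl_aut, h1, mul_assoc, ← map_mul, mul_inv_cancel, map_one, mul_one]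
    have h3 : (g : MulAut K) k = k := inl_injective h2
    rw [hfpf g g.2 hg k h3, map_one]
  -- `G` has even order
  have heven : 2 ∣ Nat.card H' := by
    by_contra hodd
    have hZ : IsZGroup H' := by
      constructor
      intro p hp P
      have : Fact p.Prime := ⟨hp⟩
      rcases Cfsg.Agent.S0040.result K' H' hc hK'ne hfpf' p P with h | ⟨n, ⟨e⟩⟩
      · exact h
      · exfalso
        apply hodd
        have : NeZero (2 ^ n) := ⟨pow_ne_zero _ two_ne_zero⟩
        have h1 : Nat.card P = 4 * 2 ^ n := by
          rw [Nat.card_congr e.toEquiv, Nat.card_eq_fintype_card, QuaternionGroup.card]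
        have h2 : Nat.card P ∣ Nat.card H' := Subgroup.card_subgroup_dvd_card _
        rw [h1] at h2
        exact Dvd.dvd.trans ⟨2 * 2 ^ n, by ring⟩ h2
    have hsol : Group.IsSolvable H' := inferInstance
    have : Group.IsSolvable G :=
      Group.isSolvable_of_isSolvable_injective (f := (inr : G →* S).rangeRestrict)
        (by
          intro a b hab
          have := congrArg Subtype.val hab
          exact inr_injective this)
    have := Group.IsSolvable.commutator_lt_top_of_nontrivial G
    rw [hperf] at this
    exact lt_irrefl _ this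
  have hcomm := (Cfsg.Agent.S0068.result K' H' hc hK'ne hfpf' heven).2
  intro a b
  have h1 := hcomm.is_comm.comm (⟨inl a, ⟨a, rfl⟩⟩ : K') ⟨inl b, ⟨b, rfl⟩⟩
  have h2 := congrArg Subtype.val h1
  simp only [Subgroup.coe_mul, ← map_mul] at h2
  exact inl_injective h2

/-- automorphisms of a commutative group as additive endomorphisms -/
def autToEnd (K : Type u) [CommGroup K] : MulAut K →* AddMonoid.End (Additive K) where
  toFun φ := MonoidHom.toAdditive φ.toMonoidHom
  map_one' := rfl
  map_mul' _ _ := rfl

theorem autToEnd_apply {K : Type u} [CommGroup K] (φ : MulAut K) (a : Additive K) :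
    autToEnd K φ a = Additive.ofMul (φ a.toMul) := rfl

/-- the ring for a fixed-point-free group of automorphisms of a finite commutative group -/
theorem exists_ring_of_fpf_comm {K : Type u} [CommGroup K] [Finite K] [Nontrivial K]
    (G : Subgroup (MulAut K)) (hfpf : ∀ φ ∈ G, φ ≠ 1 → ∀ k, φ k = k → k = 1) :
    ∃ (R : Type u) (_ : Ring R) (_ : Nontrivial R) (ι : G →* Rˣ),
      ∀ g : G, g ≠ 1 → IsUnit (((ι g : Rˣ) : R) - 1) := by
  refine ⟨AddMonoid.End (Additive K), inferInstance, ?_,
    ((autToEnd K).comp G.subtype).toHomUnits, ?_⟩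
  · obtain ⟨a, ha⟩ := exists_ne (0 : Additive K)
    refine ⟨⟨0, 1, fun h => ha ?_⟩⟩
    have := DFunLike.congr_fun h a
    simpa using this.symm
  · intro g hg
    have hg' : (g : MulAut K) ≠ 1 := fun h => hg (Subtype.ext h)
    rw [MonoidHom.coe_toHomUnits]
    set e : AddMonoid.End (Additive K) := ((autToEnd K).comp G.subtype) g - 1 with he
    have hinj : Function.Injective e := by
      rw [injective_iff_map_eq_zero]
      intro a ha
      have h1 : autToEnd K (g : MulAut K) a - a = 0 := ha
      rw [sub_eq_zero, autToEnd_apply] at h1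
      have h2 : (g : MulAut K) a.toMul = a.toMul := congrArg Additive.toMul h1
      have h3 := hfpf g g.2 hg' _ h2
      exact congrArg Additive.ofMul h3
    have hbij : Function.Bijective e := Finite.injective_iff_bijective.mp hinj
    let E : Additive K ≃+ Additive K := AddEquiv.ofBijective e hbij
    rw [isUnit_iff_exists]
    refine ⟨E.symm.toAddMonoidHom, ?_, ?_⟩
    · ext a
      exact congrArg Additive.toMul (E.apply_symm_apply a)
    · ext a
      exact congrArg Additive.toMul (E.symm_apply_apply a)

/-- **Part (A) of Zassenhaus' theorem**: a perfect nontrivial fixed-point-free group of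
automorphisms of a finite group maps into the units of a ring with `ι g - 1` a unit. -/
theorem exists_ring_of_fpf {K : Type u} [Group K] [Finite K] (G : Subgroup (MulAut K))
    (hfpf : ∀ φ ∈ G, φ ≠ 1 → ∀ k, φ k = k → k = 1) (hperf : commutator G = ⊤) (hne : G ≠ ⊥) :
    ∃ (R : Type u) (_ : Ring R) (_ : Nontrivial R) (ι : G →* Rˣ),
      ∀ g : G, g ≠ 1 → IsUnit (((ι g : Rˣ) : R) - 1) := by
  have hcomm := commutative_of_fpf G hfpf hperf hne
  have : Nontrivial G := (Subgroup.nontrivial_iff_ne_bot G).mpr hne
  obtain ⟨φ, hφ⟩ := exists_ne (1 : G)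
  have hK1 : Nontrivial K := by
    by_contra hcon
    rw [not_nontrivial_iff_subsingleton] at hcon
    apply hφ
    apply Subtype.ext
    apply MulEquiv.ext
    intro k
    exact Subsingleton.elim _ _
  letI : CommGroup K := { (inferInstance : Group K) with mul_comm := hcomm }
  exact exists_ring_of_fpf_comm G hfpf

end Cfsg.Agent.Helper4.Zass
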